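import Mathlib

/-!
# Koszul complexes via iterated mapping cones: homotopies
-/

set_option autoImplicit false

namespace Groth.Agent.H21.Kos

open CategoryTheory CategoryTheory.Limits CochainComplex HomComplex

universe v u w

variable {C : Type u} [Category.{v} C] [Preadditive C] [HasBinaryBiproducts C]
  {R : Type w} [CommRing R] [Linear R C]

/-- Multiplication by `f` on the cone of multiplication by `f` is null-homotopic. -/
noncomputable def homotopySelf (K : CochainComplex C ℤ) (f : R) :
    Homotopy (f • 𝟙 (mappingCone (f • 𝟙 K))) 0 :=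
  mappingCone.descHomotopy (f • 𝟙 K) _ _ 0 (mappingCone.inl (f • 𝟙 K))
    (by
      ext p q hpq
      simp [Cochain.comp_v _ _ (add_zero (-1)) p q q hpq (add_zero q),
        Cochain.comp_v _ _ (zero_add (-1)) p p q (add_zero p) hpq])
    (by
      ext p
      simp)

/-- If `a • 𝟙 K` is null-homotopic, so is `a • 𝟙` on the cone of multiplication by `f` on `K`. -/
noncomputable def homotopyCone (K : CochainComplex C ℤ) (f a : R)
    (h : Homotopy (a • 𝟙 K) 0) :
    Homotopy (a • 𝟙 (mappingCone (f • 𝟙 K))) 0 :=
  mappingCone.descHomotopy (f • 𝟙 K) _ _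
    (-((Cochain.ofHomotopy h).comp (mappingCone.inl (f • 𝟙 K))
      (by norm_num : (-1 : ℤ) + (-1) = -2)))
    ((Cochain.ofHomotopy h).comp (Cochain.ofHom (mappingCone.inr (f • 𝟙 K))) (add_zero (-1)))
    (by
      rw [δ_neg, δ_comp (Cochain.ofHomotopy h) (mappingCone.inl (f • 𝟙 K))
        (by norm_num : (-1 : ℤ) + (-1) = -2) 0 0 (-1) (by norm_num) (by norm_num) (by norm_num),
        δ_ofHomotopy, mappingCone.δ_inl]
      ext p q hpq
      simp [Cochain.comp_v _ _ (add_zero (-1)) p q q hpq (add_zero q),
        Cochain.comp_v _ _ (zero_add (-1)) p p q (add_zero p) hpq,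
        Cochain.comp_v _ _ (by norm_num : (-1 : ℤ) + 0 = -1) p q q hpq (add_zero q)])
    (by
      rw [δ_comp_ofHom, δ_ofHomotopy]
      ext p
      simp)

end Groth.Agent.H21.Kos
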