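import Mathlib
import Groth.Prelude.Def_ega3
import Groth.Agent.Lib.helper21.Kos1

/-!
# Koszul complexes (prelude `CohIII.koszulCx`): elements of the ideal act null-homotopically
-/

set_option autoImplicit false

namespace Groth.Agent.H21.Kos

open CategoryTheory CategoryTheory.Limits CochainComplex HomComplex

universe u

variable {A : Type u} [CommRing A]

lemma koszulCx_cons (M : ModuleCat.{u} A) (f : A) (fs : List A) :
    CohIII.koszulCx M (f :: fs) = mappingCone (f • 𝟙 (CohIII.koszulCx M fs)) := rfl

lemma koszulCx_nil (M : ModuleCat.{u} A) :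
    CohIII.koszulCx M [] =
      (HomologicalComplex.single (ModuleCat.{u} A) (ComplexShape.up ℤ) 0).obj M := rfl

/-- Elements of the ideal generated by `xs` act null-homotopically on the Koszul complex. -/
theorem nullHomotopic_of_mem_span (M : ModuleCat.{u} A) (xs : List A) (a : A)
    (ha : a ∈ Ideal.span {x | x ∈ xs}) :
    Nonempty (Homotopy (a • 𝟙 (CohIII.koszulCx M xs)) 0) := by
  induction xs generalizing a with
  | nil =>
    have h0 : a = 0 := by simpa using ha
    subst h0
    exact ⟨Homotopy.ofEq (by simp)⟩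
  | cons f fs ih =>
    have hset : {x | x ∈ f :: fs} = insert f {x | x ∈ fs} := by
      ext x; simp
    rw [hset, Ideal.mem_span_insert] at ha
    obtain ⟨c, b, hb, rfl⟩ := ha
    obtain ⟨hb'⟩ := ih b hb
    have h1 : Homotopy (f • 𝟙 (CohIII.koszulCx M (f :: fs))) 0 :=
      homotopySelf (CohIII.koszulCx M fs) f
    have h2 : Homotopy (b • 𝟙 (CohIII.koszulCx M (f :: fs))) 0 :=
      homotopyCone (CohIII.koszulCx M fs) f b hb'
    refine ⟨((h1.smul c).add h2).trans (Homotopy.ofEq (by simp)) |>.symm.symm |> fun H =>
      (Homotopy.ofEq ?_).trans H⟩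
    rw [add_smul, mul_smul]

end Groth.Agent.H21.Kos
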