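import Mathlib
import Groth.Prelude.Def_ega3
import Groth.Agent.Lib.helper21.Kos2

/-!
# Koszul complexes (prelude `CohIII.koszulCx`): cone long exact sequence, functoriality in the module,
short exactness, concentration in degrees `[-r, 0]`.
-/

set_option autoImplicit false

namespace Groth.Agent.H21.Kos

open CategoryTheory CategoryTheory.Limits CochainComplex HomComplex HomologicalComplex

universe v u

section coneLES

variable {C : Type u} [Category.{v} C] [Abelian C]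

lemma transport_exact {X₁ X₂ X₃ Y₁ Y₂ Y₃ : C} (f : X₁ ⟶ X₂) (g : X₂ ⟶ X₃) (w : f ≫ g = 0)
    (hex : (ShortComplex.mk f g w).Exact) (e₁ : X₁ ≅ Y₁) (e₂ : X₂ ≅ Y₂) (e₃ : X₃ ≅ Y₃)
    (f' : Y₁ ⟶ Y₂) (g' : Y₂ ⟶ Y₃) (c₁ : f ≫ e₂.hom = e₁.hom ≫ f')
    (c₂ : g ≫ e₃.hom = e₂.hom ≫ g') :
    ∃ w' : f' ≫ g' = 0, (ShortComplex.mk f' g' w').Exact := by
  have w' : f' ≫ g' = 0 := by
    rw [← cancel_epi e₁.hom, ← reassoc_of% c₁, ← c₂, reassoc_of% w]
    simp
  refine ⟨w', ShortComplex.exact_of_iso ?_ hex⟩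
  exact ShortComplex.isoMk e₁ e₂ e₃ c₁.symm c₂.symm

/-- The long exact cohomology sequence of a mapping cone (existential connecting map). -/
theorem cone_les {F G : CochainComplex C ℤ} (φ : F ⟶ G) (n₀ n₁ : ℤ) (h : n₀ + 1 = n₁) :
    ∃ δ : (mappingCone φ).homology n₀ ⟶ F.homology n₁,
      ∃ (w₁ : homologyMap φ n₀ ≫ homologyMap (mappingCone.inr φ) n₀ = 0)
        (w₂ : homologyMap (mappingCone.inr φ) n₀ ≫ δ = 0)
        (w₃ : δ ≫ homologyMap φ n₁ = 0),
        (ShortComplex.mk _ _ w₁).Exact ∧ (ShortComplex.mk _ _ w₂).Exact ∧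
          (ShortComplex.mk _ _ w₃).Exact := by
  let H := HomotopyCategory.homologyFunctor C (ComplexShape.up ℤ) 0
  let T := mappingCone.triangleh φ
  have hT : T ∈ distTriang _ := HomotopyCategory.mappingCone_triangleh_distinguished φ
  let e := HomotopyCategory.homologyFunctorFactors C (ComplexShape.up ℤ)
  have e2 := H.homologySequence_exact₂ T hT n₀
  have e3 := H.homologySequence_exact₃ T hT n₀ n₁ h
  have e1 := H.homologySequence_exact₁ T hT n₀ n₁ h
  have nat₁ : ∀ n, (H.shift n).map T.mor₁ ≫ (e n).hom.app G = (e n).hom.app F ≫ homologyMap φ n :=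
    fun n => (e n).hom.naturality φ
  have nat₂ : ∀ n, (H.shift n).map T.mor₂ ≫ (e n).hom.app (mappingCone φ) =
      (e n).hom.app G ≫ homologyMap (mappingCone.inr φ) n :=
    fun n => (e n).hom.naturality (mappingCone.inr φ)
  let δ : (mappingCone φ).homology n₀ ⟶ F.homology n₁ :=
    (e n₀).inv.app _ ≫ H.homologySequenceδ T n₀ n₁ h ≫ (e n₁).hom.app _
  have hδ : H.homologySequenceδ T n₀ n₁ h ≫ (e n₁).hom.app F =
      (e n₀).hom.app (mappingCone φ) ≫ δ := by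
    simp only [δ]
    exact ((e n₀).hom_inv_id_app_assoc (mappingCone φ) _).symm
  obtain ⟨w₁, h₁⟩ := transport_exact _ _ _ e2 ((e n₀).app F) ((e n₀).app G)
    ((e n₀).app (mappingCone φ)) (homologyMap φ n₀) (homologyMap (mappingCone.inr φ) n₀)
    (nat₁ n₀) (nat₂ n₀)
  obtain ⟨w₂, h₂⟩ := transport_exact _ _ _ e3 ((e n₀).app G)
    ((e n₀).app (mappingCone φ)) ((e n₁).app F) (homologyMap (mappingCone.inr φ) n₀) δ
    (nat₂ n₀) hδ
  obtain ⟨w₃, h₃⟩ := transport_exact _ _ _ e1 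
    ((e n₀).app (mappingCone φ)) ((e n₁).app F) ((e n₁).app G) δ (homologyMap φ n₁)
    hδ (nat₁ n₁)
  exact ⟨δ, w₁, w₂, w₃, h₁, h₂, h₃⟩

end coneLES

section general

variable {C : Type*} [Category C] [Preadditive C] [HasBinaryBiproducts C]
  {K₁ L₁ K₂ L₂ : CochainComplex C ℤ} (φ₁ : K₁ ⟶ L₁) (φ₂ : K₂ ⟶ L₂)
  (a : K₁ ⟶ K₂) (b : L₁ ⟶ L₂) (comm : φ₁ ≫ b = a ≫ φ₂)

@[reassoc]
lemma map_f_fst (i j : ℤ) (hij : i + 1 = j) :
    (mappingCone.map φ₁ φ₂ a b comm).f i ≫ (mappingCone.fst φ₂).1.v i j hij =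
      (mappingCone.fst φ₁).1.v i j hij ≫ a.f j := by
  subst hij
  simp [mappingCone.ext_from_iff _ (i + 1) i rfl, mappingCone.map]

@[reassoc]
lemma map_f_snd (i : ℤ) :
    (mappingCone.map φ₁ φ₂ a b comm).f i ≫ (mappingCone.snd φ₂).v i i (add_zero i) =
      (mappingCone.snd φ₁).v i i (add_zero i) ≫ b.f i := by
  simp [mappingCone.ext_from_iff _ (i + 1) i rfl, mappingCone.map]

@[reassoc]
lemma inl_map_f (i j : ℤ) (hij : j + (-1) = i) :
    (mappingCone.inl φ₁).v j i hij ≫ (mappingCone.map φ₁ φ₂ a b comm).f i =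
      a.f j ≫ (mappingCone.inl φ₂).v j i hij := by
  simp [mappingCone.map]

@[reassoc]
lemma inr_map_f (i : ℤ) :
    (mappingCone.inr φ₁).f i ≫ (mappingCone.map φ₁ φ₂ a b comm).f i =
      b.f i ≫ (mappingCone.inr φ₂).f i := by
  simp [mappingCone.map]

end general

section modulecat

variable {A : Type u} [CommRing A]

lemma conj_injective {M₁ M₂ X₁ X₂ : ModuleCat.{u} A} (g₁ : M₁ ⟶ M₂) (e₁ : X₁ ≅ M₁) (e₂ : X₂ ≅ M₂)
    (hinj : Function.Injective g₁) : Function.Injective (e₁.hom ≫ g₁ ≫ e₂.inv) := by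
  rw [← ModuleCat.mono_iff_injective] at hinj ⊢
  infer_instance

lemma conj_surjective {M₁ M₂ X₁ X₂ : ModuleCat.{u} A} (g₁ : M₁ ⟶ M₂) (e₁ : X₁ ≅ M₁) (e₂ : X₂ ≅ M₂)
    (hsurj : Function.Surjective g₁) : Function.Surjective (e₁.hom ≫ g₁ ≫ e₂.inv) := by
  rw [← ModuleCat.epi_iff_surjective] at hsurj ⊢
  infer_instance

lemma conj_exact {M₁ M₂ M₃ X₁ X₂ X₃ : ModuleCat.{u} A} (g₁ : M₁ ⟶ M₂) (g₂ : M₂ ⟶ M₃)
    (e₁ : X₁ ≅ M₁) (e₂ : X₂ ≅ M₂) (e₃ : X₃ ≅ M₃)
    (hex : Function.Exact g₁ g₂) :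
    Function.Exact (e₁.hom ≫ g₁ ≫ e₂.inv) (e₂.hom ≫ g₂ ≫ e₃.inv) := by
  intro y
  constructor
  · intro hy
    have h1 : g₂ (e₂.hom y) = 0 := by
      have := congr(e₃.hom $hy)
      simpa using this
    obtain ⟨x, hx⟩ := (hex _).1 h1
    refine ⟨e₁.inv x, ?_⟩
    simp [hx]
  · rintro ⟨x, rfl⟩
    simp [hex.apply_apply_eq_zero]


/-- A degreewise short exact sequence of cochain complexes of modules. -/
structure DegSES {K₁ K₂ K₃ : CochainComplex (ModuleCat.{u} A) ℤ} (a : K₁ ⟶ K₂) (b : K₂ ⟶ K₃) :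
    Prop where
  inj : ∀ i, Function.Injective (a.f i)
  exact : ∀ i, Function.Exact (a.f i) (b.f i)
  surj : ∀ i, Function.Surjective (b.f i)

variable {K₁ K₂ K₃ : CochainComplex (ModuleCat.{u} A) ℤ} {a : K₁ ⟶ K₂} {b : K₂ ⟶ K₃}

lemma DegSES.comp_eq_zero (h : DegSES a b) : a ≫ b = 0 := by
  ext i x
  exact (h.exact i).apply_apply_eq_zero x

lemma DegSES.shortExact (h : DegSES a b) : (ShortComplex.mk a b h.comp_eq_zero).ShortExact := by
  refine HomologicalComplex.shortExact_of_degreewise_shortExact _ (fun i => ?_)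
  refine ModuleCat.shortComplex_shortExact _ ?_ ?_ ?_
  · exact h.exact i
  · exact h.inj i
  · exact h.surj i

lemma cone_decomp {F G : CochainComplex (ModuleCat.{u} A) ℤ} (φ : F ⟶ G) (i : ℤ)
    (x : (mappingCone φ).X i) :
    x = (mappingCone.inl φ).v (i + 1) i (by omega) ((mappingCone.fst φ).1.v i (i + 1) rfl x) +
      (mappingCone.inr φ).f i ((mappingCone.snd φ).v i i (add_zero i) x) := by
  have := congr($(mappingCone.id_X φ i (i + 1) rfl) x)
  simpa using this.symm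

lemma DegSES.cone (h : DegSES a b) (φ₁ : K₁ ⟶ K₁) (φ₂ : K₂ ⟶ K₂) (φ₃ : K₃ ⟶ K₃)
    (c₁ : φ₁ ≫ a = a ≫ φ₂) (c₂ : φ₂ ≫ b = b ≫ φ₃) :
    DegSES (mappingCone.map φ₁ φ₂ a a c₁) (mappingCone.map φ₂ φ₃ b b c₂) := by
  have F1 : ∀ i x, (mappingCone.fst φ₂).1.v i (i + 1) rfl ((mappingCone.map φ₁ φ₂ a a c₁).f i x) =
      a.f (i + 1) ((mappingCone.fst φ₁).1.v i (i + 1) rfl x) := fun i x => by
    simpa using congr($(map_f_fst φ₁ φ₂ a a c₁ i (i + 1) rfl) x)
  have S1 : ∀ i x, (mappingCone.snd φ₂).v i i (add_zero i) ((mappingCone.map φ₁ φ₂ a a c₁).f i x) =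
      a.f i ((mappingCone.snd φ₁).v i i (add_zero i) x) := fun i x => by
    simpa using congr($(map_f_snd φ₁ φ₂ a a c₁ i) x)
  have F2 : ∀ i x, (mappingCone.fst φ₃).1.v i (i + 1) rfl ((mappingCone.map φ₂ φ₃ b b c₂).f i x) =
      b.f (i + 1) ((mappingCone.fst φ₂).1.v i (i + 1) rfl x) := fun i x => by
    simpa using congr($(map_f_fst φ₂ φ₃ b b c₂ i (i + 1) rfl) x)
  have S2 : ∀ i x, (mappingCone.snd φ₃).v i i (add_zero i) ((mappingCone.map φ₂ φ₃ b b c₂).f i x) =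
      b.f i ((mappingCone.snd φ₂).v i i (add_zero i) x) := fun i x => by
    simpa using congr($(map_f_snd φ₂ φ₃ b b c₂ i) x)
  have L1 : ∀ i x, (mappingCone.map φ₁ φ₂ a a c₁).f i
      ((mappingCone.inl φ₁).v (i + 1) i (by omega) x) =
      (mappingCone.inl φ₂).v (i + 1) i (by omega) (a.f (i + 1) x) := fun i x => by
    simpa using congr($(inl_map_f φ₁ φ₂ a a c₁ i (i + 1) (by omega)) x)
  have R1 : ∀ i x, (mappingCone.map φ₁ φ₂ a a c₁).f i ((mappingCone.inr φ₁).f i x) =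
      (mappingCone.inr φ₂).f i (a.f i x) := fun i x => by
    simpa using congr($(inr_map_f φ₁ φ₂ a a c₁ i) x)
  have L2 : ∀ i x, (mappingCone.map φ₂ φ₃ b b c₂).f i
      ((mappingCone.inl φ₂).v (i + 1) i (by omega) x) =
      (mappingCone.inl φ₃).v (i + 1) i (by omega) (b.f (i + 1) x) := fun i x => by
    simpa using congr($(inl_map_f φ₂ φ₃ b b c₂ i (i + 1) (by omega)) x)
  have R2 : ∀ i x, (mappingCone.map φ₂ φ₃ b b c₂).f i ((mappingCone.inr φ₂).f i x) =
      (mappingCone.inr φ₃).f i (b.f i x) := fun i x => by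
    simpa using congr($(inr_map_f φ₂ φ₃ b b c₂ i) x)
  refine ⟨fun i => ?_, fun i => ?_, fun i => ?_⟩
  · rw [injective_iff_map_eq_zero]
    intro x hx
    have h1 : (mappingCone.fst φ₁).1.v i (i + 1) rfl x = 0 := by
      apply h.inj (i + 1)
      rw [← F1, hx, map_zero, map_zero]
    have h2 : (mappingCone.snd φ₁).v i i (add_zero i) x = 0 := by
      apply h.inj i
      rw [← S1, hx, map_zero, map_zero]
    rw [cone_decomp φ₁ i x, h1, h2, map_zero, map_zero, add_zero]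
  · intro y
    constructor
    · intro hy
      have h1 : b.f (i + 1) ((mappingCone.fst φ₂).1.v i (i + 1) rfl y) = 0 := by
        rw [← F2, hy, map_zero]
      have h2 : b.f i ((mappingCone.snd φ₂).v i i (add_zero i) y) = 0 := by
        rw [← S2, hy, map_zero]
      obtain ⟨u, hu⟩ := (h.exact (i + 1) _).1 h1
      obtain ⟨v, hv⟩ := (h.exact i _).1 h2
      refine ⟨(mappingCone.inl φ₁).v (i + 1) i (by omega) u + (mappingCone.inr φ₁).f i v, ?_⟩
      rw [map_add, L1, R1, hu, hv, ← cone_decomp φ₂ i y]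
    · rintro ⟨x, rfl⟩
      rw [cone_decomp φ₃ i ((mappingCone.map φ₂ φ₃ b b c₂).f i ((mappingCone.map φ₁ φ₂ a a c₁).f i x)),
        F2, S2, F1, S1, (h.exact (i + 1)).apply_apply_eq_zero, (h.exact i).apply_apply_eq_zero,
        map_zero, map_zero, add_zero]
  · intro z
    obtain ⟨u, hu⟩ := h.surj (i + 1) ((mappingCone.fst φ₃).1.v i (i + 1) rfl z)
    obtain ⟨v, hv⟩ := h.surj i ((mappingCone.snd φ₃).v i i (add_zero i) z)
    refine ⟨(mappingCone.inl φ₂).v (i + 1) i (by omega) u + (mappingCone.inr φ₂).f i v, ?_⟩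
    rw [map_add, L2, R2, hu, hv, ← cone_decomp φ₃ i z]

lemma degSES_single {M₁ M₂ M₃ : ModuleCat.{u} A} (g₁ : M₁ ⟶ M₂) (g₂ : M₂ ⟶ M₃)
    (hinj : Function.Injective g₁) (hex : Function.Exact g₁ g₂) (hsurj : Function.Surjective g₂) :
    DegSES ((HomologicalComplex.single (ModuleCat.{u} A) (ComplexShape.up ℤ) 0).map g₁)
      ((HomologicalComplex.single (ModuleCat.{u} A) (ComplexShape.up ℤ) 0).map g₂) := by
  have hz : ∀ (M : ModuleCat.{u} A) (i : ℤ), i ≠ 0 →
      Subsingleton (((HomologicalComplex.single (ModuleCat.{u} A) (ComplexShape.up ℤ) 0).obj M).X i) :=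
    fun M i hi => ModuleCat.subsingleton_of_isZero (isZero_single_obj_X _ _ _ _ hi)
  refine ⟨fun i => ?_, fun i => ?_, fun i => ?_⟩
  · by_cases hi : i = 0
    · subst hi
      rw [single_map_f_self]
      exact conj_injective g₁ _ _ hinj
    · have := hz M₁ i hi
      exact Function.injective_of_subsingleton _
  · by_cases hi : i = 0
    · subst hi
      rw [single_map_f_self, single_map_f_self]
      exact conj_exact g₁ g₂ _ _ _ hex
    · have := hz M₃ i hi
      have := hz M₂ i hi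
      intro y
      constructor
      · intro _
        exact ⟨0, Subsingleton.elim _ _⟩
      · intro _
        exact Subsingleton.elim _ _
  · by_cases hi : i = 0
    · subst hi
      rw [single_map_f_self]
      exact conj_surjective g₂ _ _ hsurj
    · have := hz M₃ i hi
      intro z
      exact ⟨0, Subsingleton.elim _ _⟩

end modulecat

variable {A : Type u} [CommRing A]

section gen
variable {C : Type*} [Category C] [Preadditive C] [HasBinaryBiproducts C] [Linear A C]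
  {K L : CochainComplex C ℤ} (φ : K ⟶ L)

lemma map_smul_id (c : A) (comm : φ ≫ (c • 𝟙 L) = (c • 𝟙 K) ≫ φ) :
    mappingCone.map φ φ (c • 𝟙 K) (c • 𝟙 L) comm = c • 𝟙 (mappingCone φ) := by
  ext n
  simp [mappingCone.ext_from_iff _ (n + 1) n rfl, mappingCone.map]

lemma map_congr {K₁ L₁ K₂ L₂ : CochainComplex C ℤ} (φ₁ : K₁ ⟶ L₁) (φ₂ : K₂ ⟶ L₂)
    {a a' : K₁ ⟶ K₂} {b b' : L₁ ⟶ L₂} (ha : a = a') (hb : b = b')
    (comm : φ₁ ≫ b = a ≫ φ₂) :
    mappingCone.map φ₁ φ₂ a b comm = mappingCone.map φ₁ φ₂ a' b' (by rw [← ha, ← hb, comm]) := by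
  subst ha hb; rfl

end gen

/-- Functoriality of the Koszul complex in the module. -/
noncomputable def kmap {M N : ModuleCat.{u} A} (g : M ⟶ N) :
    ∀ fs : List A, CohIII.koszulCx M fs ⟶ CohIII.koszulCx N fs
  | [] => (HomologicalComplex.single (ModuleCat.{u} A) (ComplexShape.up ℤ) 0).map g
  | f :: fs => mappingCone.map (f • 𝟙 (CohIII.koszulCx M fs)) (f • 𝟙 (CohIII.koszulCx N fs))
      (kmap g fs) (kmap g fs) (by simp [Linear.smul_comp, Linear.comp_smul])

lemma kmap_smul_id (M : ModuleCat.{u} A) (c : A) (fs : List A) :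
    kmap (c • 𝟙 M) fs = c • 𝟙 (CohIII.koszulCx M fs) := by
  induction fs with
  | nil =>
    show (HomologicalComplex.single (ModuleCat.{u} A) (ComplexShape.up ℤ) 0).map (c • 𝟙 M) = _
    apply HomologicalComplex.from_single_hom_ext
    rw [HomologicalComplex.single_map_f_self]
    simp [Linear.smul_comp, Linear.comp_smul]
    rfl
  | cons f fs ih =>
    show mappingCone.map _ _ (kmap (c • 𝟙 M) fs) (kmap (c • 𝟙 M) fs) _ = _
    rw [map_congr _ _ ih ih, map_smul_id]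
    rfl


end Groth.Agent.H21.Kos
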