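import Mathlib
import Groth.Prelude.Def_ega3
import Groth.Agent.Lib.helper21.Kos3

/-!
# Koszul complexes: exactness in the module, concentration, cone computations, top cohomology
-/

set_option autoImplicit false

namespace Groth.Agent.H21.Kos

open CategoryTheory CategoryTheory.Limits CochainComplex HomComplex HomologicalComplex

universe v u

section
variable {A : Type u} [CommRing A]

lemma degSES_kmap {M₁ M₂ M₃ : ModuleCat.{u} A} (g₁ : M₁ ⟶ M₂) (g₂ : M₂ ⟶ M₃)
    (hinj : Function.Injective g₁) (hex : Function.Exact g₁ g₂) (hsurj : Function.Surjective g₂)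
    (fs : List A) : DegSES (kmap g₁ fs) (kmap g₂ fs) := by
  induction fs with
  | nil => exact degSES_single g₁ g₂ hinj hex hsurj
  | cons f fs ih => exact ih.cone _ _ _ _ _

/-- The Koszul complex vanishes in positive degrees. -/
lemma isZero_X_of_pos (M : ModuleCat.{u} A) (fs : List A) (i : ℤ) (hi : 0 < i) :
    IsZero ((CohIII.koszulCx M fs).X i) := by
  induction fs generalizing i with
  | nil => exact isZero_single_obj_X _ _ _ _ (by omega)
  | cons f fs ih =>
    rw [koszulCx_cons, mappingCone.isZero_X_iff]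
    exact ⟨ih _ (by omega), ih _ hi⟩

/-- The Koszul complex vanishes in degrees `< -r`. -/
lemma isZero_X_of_lt (M : ModuleCat.{u} A) (fs : List A) (i : ℤ) (hi : i < -(fs.length : ℤ)) :
    IsZero ((CohIII.koszulCx M fs).X i) := by
  induction fs generalizing i with
  | nil => exact isZero_single_obj_X _ _ _ _ (by simp at hi; omega)
  | cons f fs ih =>
    rw [koszulCx_cons, mappingCone.isZero_X_iff]
    simp only [List.length_cons, Nat.cast_add, Nat.cast_one] at hi
    exact ⟨ih _ (by omega), ih _ (by omega)⟩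

lemma isZero_homology_of_pos (M : ModuleCat.{u} A) (fs : List A) (i : ℤ) (hi : 0 < i) :
    IsZero ((CohIII.koszulCx M fs).homology i) :=
  ((CohIII.koszulCx M fs).exactAt_iff_isZero_homology i).1
    (ShortComplex.exact_of_isZero_X₂ _ (isZero_X_of_pos M fs i hi))

lemma isZero_homology_of_lt (M : ModuleCat.{u} A) (fs : List A) (i : ℤ)
    (hi : i < -(fs.length : ℤ)) :
    IsZero ((CohIII.koszulCx M fs).homology i) :=
  ((CohIII.koszulCx M fs).exactAt_iff_isZero_homology i).1
    (ShortComplex.exact_of_isZero_X₂ _ (isZero_X_of_lt M fs i hi))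

end

section
variable {A : Type*} [Semiring A] {C : Type*} [Category C] [Abelian C] [Linear A C]
  {ι : Type*} {c : ComplexShape ι}

lemma homologyMap_smul' {K L : HomologicalComplex C c} (φ : K ⟶ L) (a : A) (i : ι) :
    homologyMap (a • φ) i = a • homologyMap φ i := by
  have : (shortComplexFunctor C c i).map (a • φ) = a • (shortComplexFunctor C c i).map φ := by
    ext <;> rfl
  dsimp only [homologyMap]
  rw [this, ShortComplex.homologyMap_smul]
  rfl

lemma homologyMap_smul_id (K : HomologicalComplex C c) (a : A) (i : ι) :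
    homologyMap (a • 𝟙 K) i = a • 𝟙 (K.homology i) := by
  rw [homologyMap_smul', homologyMap_id]

end

variable {A : Type u} [CommRing A]

open scoped Pointwise

lemma range_smul_id (M : ModuleCat.{u} A) (f : A) :
    LinearMap.range (f • 𝟙 M : M ⟶ M).hom = f • (⊤ : Submodule A M) := by
  ext x
  simp [Submodule.mem_smul_pointwise_iff_exists]

lemma ker_smul_id (M : ModuleCat.{u} A) (f : A) :
    LinearMap.ker (f • 𝟙 M : M ⟶ M).hom = Submodule.torsionBy A M f := by
  ext x
  rw [LinearMap.mem_ker, Submodule.mem_torsionBy_iff]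
  rfl

theorem cone_homology_of_isZero_succ (K : CochainComplex (ModuleCat.{u} A) ℤ) (f : A) (n₀ n₁ : ℤ)
    (h : n₀ + 1 = n₁) (hz : IsZero (K.homology n₁)) :
    Nonempty ((mappingCone (f • 𝟙 K)).homology n₀ ≃ₗ[A] QuotSMulTop f (K.homology n₀)) := by
  obtain ⟨δ, w₁, w₂, w₃, e₁, e₂, e₃⟩ := cone_les (f • 𝟙 K) n₀ n₁ h
  have hδ : δ = 0 := hz.eq_of_tgt _ _
  have r₁ := e₁.moduleCat_range_eq_ker
  have r₂ := e₂.moduleCat_range_eq_ker
  dsimp at r₁ r₂
  have hk : LinearMap.ker δ.hom = ⊤ := by
    rw [hδ]; simp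
  have hsurj : Function.Surjective (homologyMap (mappingCone.inr (f • 𝟙 K)) n₀).hom := by
    rw [← LinearMap.range_eq_top, ← hk]
    exact r₂
  have hker : LinearMap.ker (homologyMap (mappingCone.inr (f • 𝟙 K)) n₀).hom =
      f • (⊤ : Submodule A (K.homology n₀)) := by
    rw [← range_smul_id, ← homologyMap_smul_id]
    exact r₁.symm
  exact ⟨(LinearMap.quotKerEquivOfSurjective _ hsurj).symm ≪≫ₗ Submodule.quotEquivOfEq _ _ hker⟩

theorem cone_homology_of_isZero (K : CochainComplex (ModuleCat.{u} A) ℤ) (f : A) (n₀ n₁ : ℤ)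
    (h : n₀ + 1 = n₁) (hz : IsZero (K.homology n₀)) :
    Nonempty ((mappingCone (f • 𝟙 K)).homology n₀ ≃ₗ[A]
      Submodule.torsionBy A (K.homology n₁) f) := by
  obtain ⟨δ, w₁, w₂, w₃, e₁, e₂, e₃⟩ := cone_les (f • 𝟙 K) n₀ n₁ h
  have hinr : homologyMap (mappingCone.inr (f • 𝟙 K)) n₀ = 0 := hz.eq_of_src _ _
  have r₂ := e₂.moduleCat_range_eq_ker
  have r₃ := e₃.moduleCat_range_eq_ker
  dsimp at r₂ r₃
  have hr : LinearMap.range (homologyMap (mappingCone.inr (f • 𝟙 K)) n₀).hom = ⊥ := by
    rw [hinr]; simp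
  have hinj : Function.Injective δ.hom := by
    rw [← LinearMap.ker_eq_bot, ← hr]
    exact r₂.symm
  have hrange : LinearMap.range δ.hom = Submodule.torsionBy A (K.homology n₁) f := by
    rw [← ker_smul_id, ← homologyMap_smul_id]
    exact r₃
  exact ⟨LinearEquiv.ofInjective δ.hom hinj ≪≫ₗ LinearEquiv.ofEq _ _ hrange⟩


/-- Top Koszul cohomology: `H^0(K(xs; M)) ≃ M / (xs) M`. -/
theorem h0_equiv (M : Type u) [AddCommGroup M] [Module A M] (xs : List A) :
    Nonempty ((CohIII.koszulCx (ModuleCat.of A M) xs).homology 0 ≃ₗ[A]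
      M ⧸ (Ideal.ofList xs • (⊤ : Submodule A M))) := by
  induction xs with
  | nil =>
    refine ⟨(HomologicalComplex.singleObjHomologySelfIso (ComplexShape.up ℤ) 0
      (ModuleCat.of A M)).toLinearEquiv ≪≫ₗ ?_⟩
    exact (Submodule.quotEquivOfEqBot _ (by simp)).symm
  | cons f fs ih =>
    obtain ⟨e⟩ := ih
    obtain ⟨e'⟩ := cone_homology_of_isZero_succ (CohIII.koszulCx (ModuleCat.of A M) fs) f 0 1 rfl
      (isZero_homology_of_pos _ _ 1 one_pos)
    exact ⟨e' ≪≫ₗ QuotSMulTop.congr f e ≪≫ₗ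
      (Submodule.quotOfListConsSMulTopEquivQuotSMulTopOuter M f fs).symm⟩

end Groth.Agent.H21.Kos
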