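import Mathlib
import Groth.Prelude.Def_ega3
import Groth.Agent.Lib.helper21.Kos4

set_option autoImplicit false

namespace Groth.Agent.H21.Kos

open CategoryTheory CategoryTheory.Limits CochainComplex HomComplex HomologicalComplex

universe v u

variable {A : Type u} [CommRing A]

open scoped Pointwise

lemma degSES_regular (M : Type u) [AddCommGroup M] [Module A M] (f : A) (fs : List A)
    (hf : IsSMulRegular M f) :
    DegSES (f • 𝟙 (CohIII.koszulCx (ModuleCat.of A M) fs))
      (kmap (ModuleCat.ofHom (Submodule.mkQ (f • (⊤ : Submodule A M)))) fs) := by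
  rw [← kmap_smul_id]
  refine degSES_kmap _ _ ?_ ?_ ?_ fs
  · exact hf
  · rw [LinearMap.exact_iff]
    show LinearMap.ker (Submodule.mkQ (f • (⊤ : Submodule A M))) = _
    rw [Submodule.ker_mkQ]
    exact (range_smul_id (ModuleCat.of A M) f).symm
  · exact Submodule.mkQ_surjective _

/-- If `f` is `M`-regular then `K(f :: fs; M)` and `K(fs; M/fM)` have the same cohomology. -/
theorem homology_cons_iso_of_regular (M : Type u) [AddCommGroup M] [Module A M] (f : A)
    (fs : List A) (hf : IsSMulRegular M f) (n : ℤ) :
    Nonempty ((CohIII.koszulCx (ModuleCat.of A M) (f :: fs)).homology n ≅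
      (CohIII.koszulCx (ModuleCat.of A (QuotSMulTop f M)) fs).homology n) := by
  have h := degSES_regular M f fs hf
  have hS := h.shortExact
  have hq := mappingCone.quasiIso_descShortComplex hS
  have : IsIso (homologyMap (mappingCone.descShortComplex
    (ShortComplex.mk _ _ h.comp_eq_zero)) n) := by
    have := hq.quasiIsoAt n
    rwa [quasiIsoAt_iff_isIso_homologyMap] at this
  exact ⟨@asIso _ _ _ _ _ this⟩

theorem isZero_homology_of_weaklyRegular : ∀ (fs : List A) (M : Type u) [AddCommGroup M]
    [Module A M], RingTheory.Sequence.IsWeaklyRegular M fs → ∀ n : ℤ, n ≠ 0 →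
    IsZero ((CohIII.koszulCx (ModuleCat.of A M) fs).homology n) := by
  intro fs
  induction fs with
  | nil =>
    intro M _ _ _ n hn
    exact ((CohIII.koszulCx (ModuleCat.of A M) []).exactAt_iff_isZero_homology n).1
      (ShortComplex.exact_of_isZero_X₂ _ (isZero_single_obj_X (ComplexShape.up ℤ) _ _ _ hn))
  | cons f fs ih =>
    intro M _ _ h n hn
    rw [RingTheory.Sequence.isWeaklyRegular_cons_iff] at h
    obtain ⟨e⟩ := homology_cons_iso_of_regular M f fs h.1 n
    exact IsZero.of_iso (ih (QuotSMulTop f M) h.2 n hn) e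

end Groth.Agent.H21.Kos
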