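import Mathlib
import Groth.Agent.Lib.helper21.SyzRes

/-!
# Horseshoe lemma for `ModuleCat`

For a short exact sequence `S` of `R`-modules we construct projective resolutions
`P₁, P₂, P₃` of `S.X₁, S.X₂, S.X₃` and chain maps `P₁ ⟶ P₂ ⟶ P₃` lifting `S.f`, `S.g`
which are degreewise split short exact.
-/

set_option autoImplicit false
set_option linter.unusedVariables false

namespace Groth.Agent.H21.HS

open CategoryTheory CategoryTheory.Limits

universe u

variable {R : Type u} [Ring R]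

/-- The canonical free cover of a module. -/
noncomputable def p (X : ModuleCat.{u} R) : (X →₀ R) →ₗ[R] X := Finsupp.linearCombination R id

lemma p_single (X : ModuleCat.{u} R) (x : X) : p X (Finsupp.single x 1) = x := by
  simp [p]

lemma p_surjective (X : ModuleCat.{u} R) : Function.Surjective (p X) :=
  fun x => ⟨Finsupp.single x 1, p_single X x⟩

section step

variable (S : ShortComplex (ModuleCat.{u} R))

/-- A lift of the free cover of `S.X₃` to `S.X₂`. -/
noncomputable def q : (S.X₃ →₀ R) →ₗ[R] S.X₂ :=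
  Finsupp.linearCombination R (Function.invFun S.g.hom)

variable {S}

lemma g_q (hS : S.ShortExact) (c : S.X₃ →₀ R) : S.g.hom (q S c) = p S.X₃ c := by
  have hg : Function.Surjective S.g.hom := hS.moduleCat_surjective_g
  have : S.g.hom ∘ₗ q S = p S.X₃ := by
    apply Finsupp.lhom_ext'
    intro x
    ext
    simp only [q, p, LinearMap.coe_comp, Function.comp_apply, Finsupp.lsingle_apply,
      Finsupp.linearCombination_single, one_smul, id_eq]
    exact Function.invFun_eq (hg x)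
  exact LinearMap.congr_fun this c

lemma g_f (x : S.X₁) : S.g.hom (S.f.hom x) = 0 := S.moduleCat_zero_apply x

variable (S)

/-- The cover of the middle term. -/
noncomputable def p₂ : ((S.X₁ →₀ R) × (S.X₃ →₀ R)) →ₗ[R] S.X₂ :=
  (S.f.hom ∘ₗ p S.X₁).coprod (q S)

lemma p₂_apply (x : (S.X₁ →₀ R) × (S.X₃ →₀ R)) :
    p₂ S x = S.f.hom (p S.X₁ x.1) + q S x.2 := by
  simp [p₂, LinearMap.coprod_apply]

variable {S}

lemma p₂_surjective (hS : S.ShortExact) : Function.Surjective (p₂ S) := by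
  intro b
  obtain ⟨c, hc⟩ := p_surjective S.X₃ (S.g.hom b)
  have h1 : S.g.hom (b - q S c) = 0 := by
    rw [map_sub, g_q hS, hc, sub_self]
  obtain ⟨a, ha⟩ := ((ShortComplex.ShortExact.moduleCat_exact_iff_function_exact S).mp
    hS.exact _).mp h1
  obtain ⟨a', rfl⟩ := p_surjective S.X₁ a
  refine ⟨(a', c), ?_⟩
  rw [p₂_apply]
  change S.f.hom (p S.X₁ a') + q S c = b
  have : S.f.hom (p S.X₁ a') = b - q S c := ha
  rw [this]; abel

/-- Map on kernels `ker p₁ → ker p₂`. -/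
noncomputable def kf (S : ShortComplex (ModuleCat.{u} R)) :
    LinearMap.ker (p S.X₁) →ₗ[R] LinearMap.ker (p₂ S) :=
  (LinearMap.inl R (S.X₁ →₀ R) (S.X₃ →₀ R) ∘ₗ (LinearMap.ker (p S.X₁)).subtype).codRestrict _
    (fun x => by
      rw [LinearMap.mem_ker, p₂_apply]
      have := x.2
      rw [LinearMap.mem_ker] at this
      simp [this])

/-- Map on kernels `ker p₂ → ker p₃`. -/
noncomputable def kg (hS : S.ShortExact) :
    LinearMap.ker (p₂ S) →ₗ[R] LinearMap.ker (p S.X₃) :=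
  (LinearMap.snd R (S.X₁ →₀ R) (S.X₃ →₀ R) ∘ₗ (LinearMap.ker (p₂ S)).subtype).codRestrict _
    (fun x => by
      rw [LinearMap.mem_ker]
      have := x.2
      rw [LinearMap.mem_ker, p₂_apply] at this
      have h2 := congrArg S.g.hom this
      rw [map_add, g_f, zero_add, g_q hS, map_zero] at h2
      exact h2)

lemma kf_coe (x : LinearMap.ker (p S.X₁)) :
    ((kf S x : LinearMap.ker (p₂ S)) : (S.X₁ →₀ R) × (S.X₃ →₀ R)) = (x.1, 0) := rfl

lemma kg_coe (hS : S.ShortExact) (x : LinearMap.ker (p₂ S)) :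
    ((kg hS x : LinearMap.ker (p S.X₃)) : S.X₃ →₀ R) = x.1.2 := rfl

lemma kg_kf (hS : S.ShortExact) (x : LinearMap.ker (p S.X₁)) : kg hS (kf S x) = 0 := by
  apply Subtype.ext
  rw [kg_coe, kf_coe]
  rfl

lemma kf_injective : Function.Injective (kf S) := by
  intro x y hxy
  apply Subtype.ext
  have := congrArg (fun z : LinearMap.ker (p₂ S) => z.1.1) hxy
  exact this

lemma kg_surjective (hS : S.ShortExact) : Function.Surjective (kg hS) := by
  intro z
  have hz := z.2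
  rw [LinearMap.mem_ker] at hz
  have h1 : S.g.hom (q S z.1) = 0 := by rw [g_q hS, hz]
  obtain ⟨a, ha⟩ := ((ShortComplex.ShortExact.moduleCat_exact_iff_function_exact S).mp
    hS.exact _).mp h1
  obtain ⟨a', rfl⟩ := p_surjective S.X₁ a
  refine ⟨⟨(-a', z.1), ?_⟩, ?_⟩
  · rw [LinearMap.mem_ker, p₂_apply]
    change S.f.hom (p S.X₁ (-a')) + q S z.1 = 0
    rw [map_neg, map_neg]
    have : S.f.hom (p S.X₁ a') = q S z.1 := ha
    rw [this]; abel
  · apply Subtype.ext
    rfl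

lemma kf_kg_exact (hS : S.ShortExact) : Function.Exact (kf S) (kg hS) := by
  intro x
  constructor
  · intro hx
    have h0 : x.1.2 = 0 := by
      have := congrArg Subtype.val hx
      rwa [kg_coe] at this
    have hx2 := x.2
    rw [LinearMap.mem_ker, p₂_apply, h0, map_zero, add_zero] at hx2
    have hinj : Function.Injective S.f.hom := hS.moduleCat_injective_f
    have h1 : p S.X₁ x.1.1 = 0 := hinj (by rw [hx2, map_zero])
    refine ⟨⟨x.1.1, h1⟩, ?_⟩
    apply Subtype.ext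
    rw [kf_coe]
    change (x.1.1, (0 : S.X₃ →₀ R)) = x.1
    rw [← h0]
  · rintro ⟨y, rfl⟩
    exact kg_kf hS y

lemma kg_comp_kf (hS : S.ShortExact) : kg hS ∘ₗ kf S = 0 :=
  LinearMap.ext fun x => kg_kf hS x

/-- The syzygy short complex. -/
noncomputable def syz (hS : S.ShortExact) : ShortComplex (ModuleCat.{u} R) where
  X₁ := ModuleCat.of R (LinearMap.ker (p S.X₁))
  X₂ := ModuleCat.of R (LinearMap.ker (p₂ S))
  X₃ := ModuleCat.of R (LinearMap.ker (p S.X₃))
  f := ModuleCat.ofHom (kf S)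
  g := ModuleCat.ofHom (kg hS)
  zero := by
    rw [← ModuleCat.ofHom_comp, kg_comp_kf hS]
    rfl

lemma syz_shortExact (hS : S.ShortExact) : (syz hS).ShortExact := by
  refine ModuleCat.shortComplex_shortExact _ ?_ ?_ ?_
  · exact kf_kg_exact hS
  · exact kf_injective
  · exact kg_surjective hS

end step

/-- Iterated syzygy sequences. -/
noncomputable def T (S : ShortComplex (ModuleCat.{u} R)) (hS : S.ShortExact) :
    ℕ → {S' : ShortComplex (ModuleCat.{u} R) // S'.ShortExact}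
  | 0 => ⟨S, hS⟩
  | n + 1 => ⟨syz (T S hS n).2, syz_shortExact (T S hS n).2⟩


section data

/-- Free cover objects. -/
noncomputable abbrev F₁ (S : ShortComplex (ModuleCat.{u} R)) : ModuleCat.{u} R := ModuleCat.of R (S.X₁ →₀ R)
noncomputable abbrev F₂ (S : ShortComplex (ModuleCat.{u} R)) : ModuleCat.{u} R :=
  ModuleCat.of R ((S.X₁ →₀ R) × (S.X₃ →₀ R))
noncomputable abbrev F₃ (S : ShortComplex (ModuleCat.{u} R)) : ModuleCat.{u} R := ModuleCat.of R (S.X₃ →₀ R)

noncomputable def π₁ (S : ShortComplex (ModuleCat.{u} R)) : F₁ S ⟶ S.X₁ := ModuleCat.ofHom (p S.X₁)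
noncomputable def π₂ (S : ShortComplex (ModuleCat.{u} R)) : F₂ S ⟶ S.X₂ := ModuleCat.ofHom (p₂ S)
noncomputable def π₃ (S : ShortComplex (ModuleCat.{u} R)) : F₃ S ⟶ S.X₃ := ModuleCat.ofHom (p S.X₃)

variable {S : ShortComplex (ModuleCat.{u} R)} (hS : S.ShortExact)

noncomputable def ι₁ : (syz hS).X₁ ⟶ F₁ S := ModuleCat.ofHom (LinearMap.ker (p S.X₁)).subtype
noncomputable def ι₂ : (syz hS).X₂ ⟶ F₂ S := ModuleCat.ofHom (LinearMap.ker (p₂ S)).subtype
noncomputable def ι₃ : (syz hS).X₃ ⟶ F₃ S := ModuleCat.ofHom (LinearMap.ker (p S.X₃)).subtype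

lemma ι₁_π₁ : ι₁ hS ≫ π₁ S = 0 := (LinearMap.shortComplexKer (p S.X₁)).zero
lemma ι₂_π₂ : ι₂ hS ≫ π₂ S = 0 := (LinearMap.shortComplexKer (p₂ S)).zero
lemma ι₃_π₃ : ι₃ hS ≫ π₃ S = 0 := (LinearMap.shortComplexKer (p S.X₃)).zero

lemma exact₁ : (ShortComplex.mk (ι₁ hS) (π₁ S) (ι₁_π₁ hS)).Exact :=
  (LinearMap.shortExact_shortComplexKer (p_surjective S.X₁)).exact
lemma exact₂ : (ShortComplex.mk (ι₂ hS) (π₂ S) (ι₂_π₂ hS)).Exact :=
  (LinearMap.shortExact_shortComplexKer (p₂_surjective hS)).exact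
lemma exact₃ : (ShortComplex.mk (ι₃ hS) (π₃ S) (ι₃_π₃ hS)).Exact :=
  (LinearMap.shortExact_shortComplexKer (p_surjective S.X₃)).exact

instance : Epi (π₁ S) := (ModuleCat.epi_iff_surjective _).2 (p_surjective S.X₁)
include hS in
lemma epi_π₂ : Epi (π₂ S) := (ModuleCat.epi_iff_surjective _).2 (p₂_surjective hS)
instance : Epi (π₃ S) := (ModuleCat.epi_iff_surjective _).2 (p_surjective S.X₃)
lemma mono_ι₁ : Mono (ι₁ hS) := (ModuleCat.mono_iff_injective _).2 (Submodule.injective_subtype _)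
lemma mono_ι₂ : Mono (ι₂ hS) := (ModuleCat.mono_iff_injective _).2 (Submodule.injective_subtype _)
lemma mono_ι₃ : Mono (ι₃ hS) := (ModuleCat.mono_iff_injective _).2 (Submodule.injective_subtype _)

instance : Projective (F₁ S) := inferInstance
instance : Projective (F₂ S) := inferInstance
instance : Projective (F₃ S) := inferInstance

/-- The inclusion `F₁ ⟶ F₂`. -/
noncomputable def inl (S : ShortComplex (ModuleCat.{u} R)) : F₁ S ⟶ F₂ S :=
  ModuleCat.ofHom (LinearMap.inl R (S.X₁ →₀ R) (S.X₃ →₀ R))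
/-- The projection `F₂ ⟶ F₃`. -/
noncomputable def snd (S : ShortComplex (ModuleCat.{u} R)) : F₂ S ⟶ F₃ S :=
  ModuleCat.ofHom (LinearMap.snd R (S.X₁ →₀ R) (S.X₃ →₀ R))
/-- The retraction `F₂ ⟶ F₁`. -/
noncomputable def fst (S : ShortComplex (ModuleCat.{u} R)) : F₂ S ⟶ F₁ S :=
  ModuleCat.ofHom (LinearMap.fst R (S.X₁ →₀ R) (S.X₃ →₀ R))
/-- The section `F₃ ⟶ F₂`. -/
noncomputable def inr (S : ShortComplex (ModuleCat.{u} R)) : F₃ S ⟶ F₂ S :=
  ModuleCat.ofHom (LinearMap.inr R (S.X₁ →₀ R) (S.X₃ →₀ R))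

lemma inl_snd (S : ShortComplex (ModuleCat.{u} R)) : inl S ≫ snd S = 0 := by
  apply ModuleCat.hom_ext
  apply LinearMap.ext
  intro x
  rfl

lemma inl_fst (S : ShortComplex (ModuleCat.{u} R)) : inl S ≫ fst S = 𝟙 _ := by
  apply ModuleCat.hom_ext
  apply LinearMap.ext
  intro x
  rfl

lemma inr_snd (S : ShortComplex (ModuleCat.{u} R)) : inr S ≫ snd S = 𝟙 _ := by
  apply ModuleCat.hom_ext
  apply LinearMap.ext
  intro x
  rfl

lemma fst_inl_add (S : ShortComplex (ModuleCat.{u} R)) :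
    fst S ≫ inl S + snd S ≫ inr S = 𝟙 _ := by
  apply ModuleCat.hom_ext
  apply LinearMap.ext
  intro x
  change ((x.1, 0) + (0, x.2) : (S.X₁ →₀ R) × (S.X₃ →₀ R)) = x
  simp

/-- The splitting of `F₁ ⟶ F₂ ⟶ F₃`. -/
noncomputable def splitting (S : ShortComplex (ModuleCat.{u} R)) :
    (ShortComplex.mk (inl S) (snd S) (inl_snd S)).Splitting where
  r := fst S
  s := inr S
  f_r := inl_fst S
  s_g := inr_snd S
  id := fst_inl_add S

lemma inl_π₂ (S : ShortComplex (ModuleCat.{u} R)) : inl S ≫ π₂ S = π₁ S ≫ S.f := by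
  apply ModuleCat.hom_ext
  apply LinearMap.ext
  intro x
  change p₂ S (x, 0) = S.f.hom (p S.X₁ x)
  rw [p₂_apply]
  simp

include hS in
lemma π₂_g : π₂ S ≫ S.g = snd S ≫ π₃ S := by
  apply ModuleCat.hom_ext
  apply LinearMap.ext
  intro x
  change S.g.hom (p₂ S x) = p S.X₃ x.2
  rw [p₂_apply, map_add, g_f, zero_add, g_q hS]

lemma syz_f_ι₂ : (syz hS).f ≫ ι₂ hS = ι₁ hS ≫ inl S := by
  apply ModuleCat.hom_ext
  apply LinearMap.ext
  intro x
  rfl

lemma syz_g_ι₃ : (syz hS).g ≫ ι₃ hS = ι₂ hS ≫ snd S := by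
  apply ModuleCat.hom_ext
  apply LinearMap.ext
  intro x
  rfl

lemma step_a : inl (syz hS) ≫ (π₂ (syz hS) ≫ ι₂ hS) = (π₁ (syz hS) ≫ ι₁ hS) ≫ inl S := by
  rw [← Category.assoc, inl_π₂, Category.assoc, Category.assoc, syz_f_ι₂]

lemma step_b : snd (syz hS) ≫ (π₃ (syz hS) ≫ ι₃ hS) = (π₂ (syz hS) ≫ ι₂ hS) ≫ snd S := by
  rw [← Category.assoc, ← π₂_g (syz_shortExact hS), Category.assoc, Category.assoc, syz_g_ι₃]

end data

section res

variable (S : ShortComplex (ModuleCat.{u} R)) (hS : S.ShortExact)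

/-- Syzygy data for `S.X₁`. -/
noncomputable def D₁ : SyzData (ModuleCat.{u} R) where
  X n := (T S hS n).1.X₁
  F n := F₁ (T S hS n).1
  π n := π₁ (T S hS n).1
  ι n := ι₁ (T S hS n).2
  w n := ι₁_π₁ _
  exact n := exact₁ _
  epi n := inferInstance
  mono n := mono_ι₁ _
  proj n := inferInstance

/-- Syzygy data for `S.X₂`. -/
noncomputable def D₂ : SyzData (ModuleCat.{u} R) where
  X n := (T S hS n).1.X₂
  F n := F₂ (T S hS n).1
  π n := π₂ (T S hS n).1
  ι n := ι₂ (T S hS n).2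
  w n := ι₂_π₂ _
  exact n := exact₂ _
  epi n := epi_π₂ (T S hS n).2
  mono n := mono_ι₂ _
  proj n := inferInstance

/-- Syzygy data for `S.X₃`. -/
noncomputable def D₃ : SyzData (ModuleCat.{u} R) where
  X n := (T S hS n).1.X₃
  F n := F₃ (T S hS n).1
  π n := π₃ (T S hS n).1
  ι n := ι₃ (T S hS n).2
  w n := ι₃_π₃ _
  exact n := exact₃ _
  epi n := inferInstance
  mono n := mono_ι₃ _
  proj n := inferInstance

lemma T_succ (n : ℕ) : (T S hS (n + 1)).1 = syz (T S hS n).2 := rfl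

/-- The chain map `P₁ ⟶ P₂`. -/
noncomputable def a : (D₁ S hS).complex ⟶ (D₂ S hS).complex :=
  ChainComplex.ofHom (fun n => inl (T S hS n).1) (fun n => by
    rw [SyzData.complex_d, SyzData.complex_d]
    change inl (T S hS (n + 1)).1 ≫ (π₂ (T S hS (n + 1)).1 ≫ ι₂ (T S hS n).2) =
      (π₁ (T S hS (n + 1)).1 ≫ ι₁ (T S hS n).2) ≫ inl (T S hS n).1
    exact step_a (T S hS n).2)

/-- The chain map `P₂ ⟶ P₃`. -/
noncomputable def b : (D₂ S hS).complex ⟶ (D₃ S hS).complex :=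
  ChainComplex.ofHom (fun n => snd (T S hS n).1) (fun n => by
    rw [SyzData.complex_d, SyzData.complex_d]
    change snd (T S hS (n + 1)).1 ≫ (π₃ (T S hS (n + 1)).1 ≫ ι₃ (T S hS n).2) =
      (π₂ (T S hS (n + 1)).1 ≫ ι₂ (T S hS n).2) ≫ snd (T S hS n).1
    exact step_b (T S hS n).2)

@[simp] lemma a_f (n : ℕ) : (a S hS).f n = inl (T S hS n).1 := rfl
@[simp] lemma b_f (n : ℕ) : (b S hS).f n = snd (T S hS n).1 := rfl

lemma a_b : a S hS ≫ b S hS = 0 := by
  apply HomologicalComplex.hom_ext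
  intro n
  rw [HomologicalComplex.comp_f, a_f, b_f, HomologicalComplex.zero_f]
  exact inl_snd _

/-- Degreewise splitting. -/
noncomputable def split (n : ℕ) :
    (ShortComplex.mk ((a S hS).f n) ((b S hS).f n)
      (by rw [← HomologicalComplex.comp_f, a_b]; rfl)).Splitting :=
  splitting (T S hS n).1

/-- The resolutions. -/
noncomputable def P₁ : ProjectiveResolution S.X₁ := (D₁ S hS).resolution
noncomputable def P₂ : ProjectiveResolution S.X₂ := (D₂ S hS).resolution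
noncomputable def P₃ : ProjectiveResolution S.X₃ := (D₃ S hS).resolution

lemma a_comm : a S hS ≫ (P₂ S hS).π = (P₁ S hS).π ≫ (ChainComplex.single₀ _).map S.f := by
  apply (ChainComplex.toSingle₀Equiv _ _).injective
  apply Subtype.ext
  change (a S hS ≫ (D₂ S hS).aug).f 0 = ((D₁ S hS).aug ≫ (ChainComplex.single₀ _).map S.f).f 0
  rw [HomologicalComplex.comp_f, HomologicalComplex.comp_f, SyzData.aug_f_zero,
    SyzData.aug_f_zero]
  exact inl_π₂ S

lemma b_comm : b S hS ≫ (P₃ S hS).π = (P₂ S hS).π ≫ (ChainComplex.single₀ _).map S.g := by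
  apply (ChainComplex.toSingle₀Equiv _ _).injective
  apply Subtype.ext
  change (b S hS ≫ (D₃ S hS).aug).f 0 = ((D₂ S hS).aug ≫ (ChainComplex.single₀ _).map S.g).f 0
  rw [HomologicalComplex.comp_f, HomologicalComplex.comp_f, SyzData.aug_f_zero,
    SyzData.aug_f_zero]
  exact (π₂_g hS).symm

end res

end Groth.Agent.H21.HS
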