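import Mathlib
import Groth.Agent.Lib.helper21.Horseshoe

/-!
# Long exact sequence for left derived functors on `ModuleCat`
-/

set_option autoImplicit false

namespace Groth.Agent.H21.LES

open CategoryTheory CategoryTheory.Limits HS

universe u v' u'

variable {R : Type u} [Ring R] {D : Type u'} [Category.{v'} D] [Abelian D]
variable (F : ModuleCat.{u} R ⥤ D) [F.Additive]
variable (S : ShortComplex (ModuleCat.{u} R)) (hS : S.ShortExact)

/-- The short complex of complexes `F(P₁) ⟶ F(P₂) ⟶ F(P₃)`. -/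
noncomputable def SC : ShortComplex (ChainComplex D ℕ) :=
  ShortComplex.mk ((F.mapHomologicalComplex _).map (a S hS))
    ((F.mapHomologicalComplex _).map (b S hS))
    (by rw [← Functor.map_comp, a_b, Functor.map_zero])

lemma SC_shortExact : (SC F S hS).ShortExact :=
  HomologicalComplex.shortExact_of_degreewise_shortExact _
    (fun n => ((split S hS n).map F).shortExact)

/-- iso to homology -/
noncomputable def i₁ (n : ℕ) : (F.leftDerived n).obj S.X₁ ≅ (SC F S hS).X₁.homology n :=
  (P₁ S hS).isoLeftDerivedObj F n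
noncomputable def i₂ (n : ℕ) : (F.leftDerived n).obj S.X₂ ≅ (SC F S hS).X₂.homology n :=
  (P₂ S hS).isoLeftDerivedObj F n
noncomputable def i₃ (n : ℕ) : (F.leftDerived n).obj S.X₃ ≅ (SC F S hS).X₃.homology n :=
  (P₃ S hS).isoLeftDerivedObj F n

lemma i₁_nat (n : ℕ) : (F.leftDerived n).map S.f ≫ (i₂ F S hS n).hom =
    (i₁ F S hS n).hom ≫ HomologicalComplex.homologyMap (SC F S hS).f n :=
  ProjectiveResolution.isoLeftDerivedObj_hom_naturality S.f (P₁ S hS) (P₂ S hS) (a S hS)
    (by
      change inl S ≫ (D₂ S hS).aug.f 0 = (D₁ S hS).aug.f 0 ≫ S.f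
      rw [SyzData.aug_f_zero, SyzData.aug_f_zero]
      exact inl_π₂ S) F n

lemma i₂_nat (n : ℕ) : (F.leftDerived n).map S.g ≫ (i₃ F S hS n).hom =
    (i₂ F S hS n).hom ≫ HomologicalComplex.homologyMap (SC F S hS).g n :=
  ProjectiveResolution.isoLeftDerivedObj_hom_naturality S.g (P₂ S hS) (P₃ S hS) (b S hS)
    (by
      change snd S ≫ (D₃ S hS).aug.f 0 = (D₂ S hS).aug.f 0 ≫ S.g
      rw [SyzData.aug_f_zero, SyzData.aug_f_zero]
      exact (π₂_g hS).symm) F n

/-- The connecting morphism. -/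
noncomputable def δ (n : ℕ) : (F.leftDerived (n + 1)).obj S.X₃ ⟶ (F.leftDerived n).obj S.X₁ :=
  (i₃ F S hS (n + 1)).hom ≫ (SC_shortExact F S hS).δ (n + 1) n rfl ≫ (i₁ F S hS n).inv

include hS in
lemma map_f_g (n : ℕ) : (F.leftDerived n).map S.f ≫ (F.leftDerived n).map S.g = 0 := by
  rw [← cancel_mono (i₃ F S hS n).hom, Category.assoc, i₂_nat, ← Category.assoc, i₁_nat,
    Category.assoc, ← HomologicalComplex.homologyMap_comp, (SC F S hS).zero,
    HomologicalComplex.homologyMap_zero, comp_zero, zero_comp]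

lemma exact₂ (n : ℕ) :
    (ShortComplex.mk ((F.leftDerived n).map S.f) ((F.leftDerived n).map S.g)
      (map_f_g F S hS n)).Exact := by
  refine ShortComplex.exact_of_iso ?_ ((SC_shortExact F S hS).homology_exact₂ n)
  exact (ShortComplex.isoMk (i₁ F S hS n) (i₂ F S hS n) (i₃ F S hS n)
    (i₁_nat F S hS n).symm (i₂_nat F S hS n).symm).symm

lemma map_g_δ (n : ℕ) : (F.leftDerived (n + 1)).map S.g ≫ δ F S hS n = 0 := by
  have := (SC_shortExact F S hS).comp_δ (n + 1) n rfl
  rw [δ, ← Category.assoc, i₂_nat, Category.assoc, reassoc_of% this]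
  simp

lemma δ_map_f (n : ℕ) : δ F S hS n ≫ (F.leftDerived n).map S.f = 0 := by
  have := (SC_shortExact F S hS).δ_comp (n + 1) n rfl
  have h2 : (i₁ F S hS n).inv ≫ (F.leftDerived n).map S.f =
      HomologicalComplex.homologyMap (SC F S hS).f n ≫ (i₂ F S hS n).inv := by
    rw [Iso.inv_comp_eq, ← Category.assoc, ← i₁_nat, Category.assoc, Iso.hom_inv_id,
      Category.comp_id]
  rw [δ, Category.assoc, Category.assoc, h2, reassoc_of% this]
  simp

lemma exact₃ (n : ℕ) :
    (ShortComplex.mk ((F.leftDerived (n + 1)).map S.g) (δ F S hS n) (map_g_δ F S hS n)).Exact := by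
  refine ShortComplex.exact_of_iso ?_ ((SC_shortExact F S hS).homology_exact₃ (n + 1) n rfl)
  refine (ShortComplex.isoMk (i₂ F S hS (n + 1)) (i₃ F S hS (n + 1)) (i₁ F S hS n)
    (i₂_nat F S hS (n + 1)).symm ?_).symm
  simp [δ]

lemma exact₁ (n : ℕ) :
    (ShortComplex.mk (δ F S hS n) ((F.leftDerived n).map S.f) (δ_map_f F S hS n)).Exact := by
  refine ShortComplex.exact_of_iso ?_ ((SC_shortExact F S hS).homology_exact₁ (n + 1) n rfl)
  refine (ShortComplex.isoMk (i₃ F S hS (n + 1)) (i₁ F S hS n) (i₂ F S hS n)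
    ?_ (i₁_nat F S hS n).symm).symm
  simp [δ]

include hS in
lemma epi_map_g_zero : Epi ((F.leftDerived 0).map S.g) := by
  have hepi : Epi ((SC F S hS).g.f 0) := by
    have := (SC_shortExact F S hS).epi_g
    infer_instance
  have h1 : Epi (HomologicalComplex.opcyclesMap (SC F S hS).g 0) := inferInstance
  have h2 : Epi (HomologicalComplex.homologyMap (SC F S hS).g 0) := by
    have e := ChainComplex.isoHomologyι₀_inv_naturality (φ := (SC F S hS).g)
    have : HomologicalComplex.homologyMap (SC F S hS).g 0 =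
        (SC F S hS).X₂.isoHomologyι₀.hom ≫ HomologicalComplex.opcyclesMap (SC F S hS).g 0 ≫
          (SC F S hS).X₃.isoHomologyι₀.inv := by
      rw [← e, Iso.hom_inv_id_assoc]
    rw [this]
    infer_instance
  have h3 : (F.leftDerived 0).map S.g =
      (i₂ F S hS 0).hom ≫ HomologicalComplex.homologyMap (SC F S hS).g 0 ≫
        (i₃ F S hS 0).inv := by
    rw [← Category.assoc, ← i₂_nat, Category.assoc, Iso.hom_inv_id, Category.comp_id]
  rw [h3]
  infer_instance

include hS in
/-- **Long exact sequence** for the left derived functors of an additive functor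
on `ModuleCat R`. -/
theorem leftDerived_les (n : ℕ) :
    (∃ w₀ : (F.leftDerived n).map S.f ≫ (F.leftDerived n).map S.g = 0,
        (ShortComplex.mk _ _ w₀).Exact) ∧
      Epi ((F.leftDerived 0).map S.g) ∧
      ∃ (δ : (F.leftDerived (n + 1)).obj S.X₃ ⟶ (F.leftDerived n).obj S.X₁)
        (w₁ : (F.leftDerived (n + 1)).map S.g ≫ δ = 0)
        (w₂ : δ ≫ (F.leftDerived n).map S.f = 0),
        (ShortComplex.mk _ _ w₁).Exact ∧ (ShortComplex.mk _ _ w₂).Exact :=
  ⟨⟨map_f_g F S hS n, exact₂ F S hS n⟩, epi_map_g_zero F S hS,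
    ⟨δ F S hS n, map_g_δ F S hS n, δ_map_f F S hS n, exact₃ F S hS n, exact₁ F S hS n⟩⟩

end Groth.Agent.H21.LES
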