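import Mathlib

/-!
# Long exact sequence of left derived functors for a short exact sequence of functors
(exact on projective objects)
-/

set_option autoImplicit false
set_option linter.unusedSectionVars false

namespace Groth.Agent.H21.LES2

open CategoryTheory CategoryTheory.Limits

universe v u v' u'

variable {C : Type u} [Category.{v} C] [Abelian C] [HasProjectiveResolutions C]
  {D : Type u'} [Category.{v'} D] [Abelian D]
variable {F₁ F₂ F₃ : C ⥤ D} [F₁.Additive] [F₂.Additive] [F₃.Additive]
  (α : F₁ ⟶ F₂) (β : F₂ ⟶ F₃) (w : α ≫ β = 0)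
  (hex : ∀ (P : C) [Projective P],
    (ShortComplex.mk (α.app P) (β.app P) (by rw [← NatTrans.comp_app, w]; rfl)).ShortExact)
  {X : C}

/-- The short complex of complexes. -/
noncomputable def SC (P : ProjectiveResolution X) : ShortComplex (ChainComplex D ℕ) :=
  ShortComplex.mk ((NatTrans.mapHomologicalComplex α _).app P.complex)
    ((NatTrans.mapHomologicalComplex β _).app P.complex)
    (by
      apply HomologicalComplex.hom_ext
      intro n
      have h := congrArg (fun γ => γ.app (P.complex.X n)) w
      exact h)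

include hex in
lemma SC_shortExact (P : ProjectiveResolution X) : (SC α β w P).ShortExact :=
  HomologicalComplex.shortExact_of_degreewise_shortExact _ (fun n => hex (P.complex.X n))

variable (P : ProjectiveResolution X)

/-- iso to homology -/
noncomputable def j₁ (n : ℕ) : (F₁.leftDerived n).obj X ≅ (SC α β w P).X₁.homology n :=
  P.isoLeftDerivedObj F₁ n
noncomputable def j₂ (n : ℕ) : (F₂.leftDerived n).obj X ≅ (SC α β w P).X₂.homology n :=
  P.isoLeftDerivedObj F₂ n
noncomputable def j₃ (n : ℕ) : (F₃.leftDerived n).obj X ≅ (SC α β w P).X₃.homology n :=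
  P.isoLeftDerivedObj F₃ n

lemma nat₁ (n : ℕ) : (NatTrans.leftDerived α n).app X ≫ (j₂ α β w P n).hom =
    (j₁ α β w P n).hom ≫ HomologicalComplex.homologyMap (SC α β w P).f n := by
  rw [ProjectiveResolution.leftDerived_app_eq α P n, Category.assoc, Category.assoc]
  erw [Iso.inv_hom_id, Category.comp_id]
  rfl

lemma nat₂ (n : ℕ) : (NatTrans.leftDerived β n).app X ≫ (j₃ α β w P n).hom =
    (j₂ α β w P n).hom ≫ HomologicalComplex.homologyMap (SC α β w P).g n := by
  rw [ProjectiveResolution.leftDerived_app_eq β P n, Category.assoc, Category.assoc]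
  erw [Iso.inv_hom_id, Category.comp_id]
  rfl

/-- The connecting morphism. -/
noncomputable def δ (n : ℕ) : (F₃.leftDerived (n + 1)).obj X ⟶ (F₁.leftDerived n).obj X :=
  (j₃ α β w P (n + 1)).hom ≫ (SC_shortExact α β w hex P).δ (n + 1) n rfl ≫
    (j₁ α β w P n).inv

include w P in
lemma comp_zero' (n : ℕ) :
    (NatTrans.leftDerived α n).app X ≫ (NatTrans.leftDerived β n).app X = 0 := by
  rw [← cancel_mono (j₃ α β w P n).hom, Category.assoc, nat₂ α β w P,
    ← Category.assoc, nat₁ α β w P, Category.assoc,
    ← HomologicalComplex.homologyMap_comp, (SC α β w P).zero,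
    HomologicalComplex.homologyMap_zero, comp_zero, zero_comp]

include hex in
lemma exact₂ (n : ℕ) :
    (ShortComplex.mk ((NatTrans.leftDerived α n).app X) ((NatTrans.leftDerived β n).app X)
      (comp_zero' α β w P n)).Exact := by
  refine ShortComplex.exact_of_iso ?_ ((SC_shortExact α β w hex P).homology_exact₂ n)
  exact (ShortComplex.isoMk (j₁ α β w P n) (j₂ α β w P n)
    (j₃ α β w P n) (nat₁ α β w P n).symm (nat₂ α β w P n).symm).symm

lemma map_g_δ (n : ℕ) : (NatTrans.leftDerived β (n + 1)).app X ≫ δ α β w hex P n = 0 := by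
  have := (SC_shortExact α β w hex P).comp_δ (n + 1) n rfl
  rw [δ, ← Category.assoc, nat₂ α β w P, Category.assoc, reassoc_of% this]
  simp

lemma δ_map_f (n : ℕ) : δ α β w hex P n ≫ (NatTrans.leftDerived α n).app X = 0 := by
  have := (SC_shortExact α β w hex P).δ_comp (n + 1) n rfl
  have h2 : (j₁ α β w P n).inv ≫ (NatTrans.leftDerived α n).app X =
      HomologicalComplex.homologyMap (SC α β w P).f n ≫ (j₂ α β w P n).inv := by
    rw [Iso.inv_comp_eq, ← Category.assoc, ← nat₁ α β w P, Category.assoc, Iso.hom_inv_id,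
      Category.comp_id]
  rw [δ, Category.assoc, Category.assoc, h2, reassoc_of% this]
  simp

lemma exact₃ (n : ℕ) :
    (ShortComplex.mk ((NatTrans.leftDerived β (n + 1)).app X) (δ α β w hex P n)
      (map_g_δ α β w hex P n)).Exact := by
  refine ShortComplex.exact_of_iso ?_
    ((SC_shortExact α β w hex P).homology_exact₃ (n + 1) n rfl)
  refine (ShortComplex.isoMk (j₂ α β w P (n + 1)) (j₃ α β w P (n + 1))
    (j₁ α β w P n) (nat₂ α β w P (n + 1)).symm ?_).symm
  simp [δ]

lemma exact₁ (n : ℕ) :
    (ShortComplex.mk (δ α β w hex P n) ((NatTrans.leftDerived α n).app X)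
      (δ_map_f α β w hex P n)).Exact := by
  refine ShortComplex.exact_of_iso ?_
    ((SC_shortExact α β w hex P).homology_exact₁ (n + 1) n rfl)
  refine (ShortComplex.isoMk (j₃ α β w P (n + 1)) (j₁ α β w P n)
    (j₂ α β w P n) ?_ (nat₁ α β w P n).symm).symm
  simp [δ]

include hex in
/-- **Long exact sequence** for a short exact sequence of functors (exact on projectives). -/
theorem leftDerived_les (X : C) (n : ℕ) :
    (∃ w₀ : (NatTrans.leftDerived α n).app X ≫ (NatTrans.leftDerived β n).app X = 0,
        (ShortComplex.mk _ _ w₀).Exact) ∧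
      ∃ (δ : (F₃.leftDerived (n + 1)).obj X ⟶ (F₁.leftDerived n).obj X)
        (w₁ : (NatTrans.leftDerived β (n + 1)).app X ≫ δ = 0)
        (w₂ : δ ≫ (NatTrans.leftDerived α n).app X = 0),
        (ShortComplex.mk _ _ w₁).Exact ∧ (ShortComplex.mk _ _ w₂).Exact :=
  let P := (HasProjectiveResolution.out (Z := X)).some
  ⟨⟨comp_zero' α β w P n, exact₂ α β w hex P n⟩,
    ⟨δ α β w hex P n, map_g_δ α β w hex P n, δ_map_f α β w hex P n,
      exact₃ α β w hex P n, exact₁ α β w hex P n⟩⟩

end Groth.Agent.H21.LES2
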