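import Mathlib
import Groth.Agent.Lib.helper21.LeftDerivedLES
import Groth.Agent.Lib.helper21.LeftDerivedLES2

/-!
# Tor for modules: long exact sequences in both variables, vanishing, balancing
-/

set_option autoImplicit false
set_option linter.unusedSectionVars false

namespace Groth.Agent.H21.TorLib

open CategoryTheory CategoryTheory.Limits MonoidalCategory

universe u

variable {R : Type u} [CommRing R]

/-- `Tor_n(M, N)` (Mathlib's `Tor`, derived in the second variable). -/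
noncomputable abbrev T (n : ℕ) (M N : ModuleCat.{u} R) : ModuleCat.{u} R :=
  ((Tor (ModuleCat.{u} R) n).obj M).obj N

/-- Map in the second variable. -/
noncomputable abbrev T₂ (n : ℕ) (M : ModuleCat.{u} R) {N N' : ModuleCat.{u} R} (f : N ⟶ N') :
    T n M N ⟶ T n M N' :=
  ((Tor (ModuleCat.{u} R) n).obj M).map f

/-- Map in the first variable. -/
noncomputable abbrev T₁ (n : ℕ) {M M' : ModuleCat.{u} R} (f : M ⟶ M') (N : ModuleCat.{u} R) :
    T n M N ⟶ T n M' N :=
  ((Tor (ModuleCat.{u} R) n).map f).app N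

/-- **LES in the second variable.** -/
theorem les₂ (M : ModuleCat.{u} R) (S : ShortComplex (ModuleCat.{u} R)) (hS : S.ShortExact)
    (n : ℕ) :
    (∃ w₀ : T₂ n M S.f ≫ T₂ n M S.g = 0, (ShortComplex.mk _ _ w₀).Exact) ∧
      Epi (T₂ 0 M S.g) ∧
      ∃ (δ : T (n + 1) M S.X₃ ⟶ T n M S.X₁)
        (w₁ : T₂ (n + 1) M S.g ≫ δ = 0) (w₂ : δ ≫ T₂ n M S.f = 0),
        (ShortComplex.mk _ _ w₁).Exact ∧ (ShortComplex.mk _ _ w₂).Exact :=
  LES.leftDerived_les ((tensoringLeft (ModuleCat.{u} R)).obj M) S hS n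

lemma flat_of_projective (P : ModuleCat.{u} R) [Projective P] : Module.Flat R P := by
  have : Module.Projective R P := (IsProjective.iff_projective (R := R) (P := P)).2 ‹_›
  infer_instance

/-- **LES in the first variable.** -/
theorem les₁ (E : ShortComplex (ModuleCat.{u} R)) (hE : E.ShortExact) (N : ModuleCat.{u} R)
    (n : ℕ) :
    (∃ w₀ : T₁ n E.f N ≫ T₁ n E.g N = 0, (ShortComplex.mk _ _ w₀).Exact) ∧
      ∃ (δ : T (n + 1) E.X₃ N ⟶ T n E.X₁ N)
        (w₁ : T₁ (n + 1) E.g N ≫ δ = 0) (w₂ : δ ≫ T₁ n E.f N = 0),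
        (ShortComplex.mk _ _ w₁).Exact ∧ (ShortComplex.mk _ _ w₂).Exact := by
  have w : (tensoringLeft (ModuleCat.{u} R)).map E.f ≫ (tensoringLeft (ModuleCat.{u} R)).map E.g
      = 0 := by
    rw [← Functor.map_comp, E.zero]
    ext P : 2
    simp
  refine LES2.leftDerived_les ((tensoringLeft (ModuleCat.{u} R)).map E.f)
    ((tensoringLeft (ModuleCat.{u} R)).map E.g) w ?_ N n
  intro P _
  have := flat_of_projective P
  exact hE.map_of_exact (tensorRight P)

/-- Higher Tor vanishes if the second variable is projective. -/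
lemma isZero_of_projective_right (M P : ModuleCat.{u} R) [Projective P] (n : ℕ) :
    IsZero (T (n + 1) M P) :=
  isZero_Tor_succ_of_projective _ M P n

/-- Higher Tor vanishes if the first variable is flat. -/
lemma isZero_of_flat_left (M N : ModuleCat.{u} R) [Module.Flat R M] (n : ℕ) :
    IsZero (T (n + 1) M N) := by
  let P := ProjectiveResolution.of N
  let F : ModuleCat.{u} R ⥤ ModuleCat.{u} R := tensorLeft M
  refine IsZero.of_iso ?_ (P.isoLeftDerivedObj F (n + 1))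
  show IsZero (((F.mapHomologicalComplex _).obj P.complex).homology (n + 1))
  rw [← HomologicalComplex.exactAt_iff_isZero_homology, HomologicalComplex.exactAt_iff]
  have h1 : (P.complex.sc (n + 1)).Exact := (HomologicalComplex.exactAt_iff _ _).1
    (P.complex_exactAt_succ n)
  exact Module.Flat.lTensor_shortComplex_exact M _ h1

/-- `Tor_0(M, N) ≅ M ⊗ N`. -/
noncomputable def tor0Iso (M N : ModuleCat.{u} R) : T 0 M N ≅ M ⊗ N :=
  (Functor.leftDerivedZeroIsoSelf (tensorLeft M)).app N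

lemma tor0Iso_naturality₂ (M : ModuleCat.{u} R) {N N' : ModuleCat.{u} R} (f : N ⟶ N') :
    T₂ 0 M f ≫ (tor0Iso M N').hom = (tor0Iso M N).hom ≫ M ◁ f :=
  (Functor.leftDerivedZeroIsoSelf (tensorLeft M)).hom.naturality f

/-- Naturality of `fromLeftDerivedZero` in the functor. -/
lemma fromLeftDerivedZero_naturality {C D : Type*} [Category C] [Category D] [Abelian C]
    [Abelian D] [HasProjectiveResolutions C] {F G : C ⥤ D} [F.Additive] [G.Additive]
    (α : F ⟶ G) (X : C) :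
    (NatTrans.leftDerived α 0).app X ≫ G.fromLeftDerivedZero.app X =
      F.fromLeftDerivedZero.app X ≫ α.app X := by
  let P := projectiveResolution X
  rw [P.fromLeftDerivedZero_eq F, P.fromLeftDerivedZero_eq G,
    ProjectiveResolution.leftDerived_app_eq α P 0]
  simp only [Category.assoc, Iso.inv_hom_id_assoc]
  have h1 : HomologicalComplex.homologyMap
      ((NatTrans.mapHomologicalComplex α (ComplexShape.down ℕ)).app P.complex) 0 ≫
      (ChainComplex.isoHomologyι₀ ((G.mapHomologicalComplex _).obj P.complex)).hom =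
      (ChainComplex.isoHomologyι₀ ((F.mapHomologicalComplex _).obj P.complex)).hom ≫
        HomologicalComplex.opcyclesMap
          ((NatTrans.mapHomologicalComplex α (ComplexShape.down ℕ)).app P.complex) 0 :=
    HomologicalComplex.homologyι_naturality _ 0
  have h2 : HomologicalComplex.opcyclesMap
      ((NatTrans.mapHomologicalComplex α (ComplexShape.down ℕ)).app P.complex) 0 ≫
      P.fromLeftDerivedZero' G = P.fromLeftDerivedZero' F ≫ α.app X := by
    rw [← cancel_epi (HomologicalComplex.pOpcycles _ 0),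
      HomologicalComplex.p_opcyclesMap_assoc,
      ProjectiveResolution.pOpcycles_comp_fromLeftDerivedZero',
      ProjectiveResolution.pOpcycles_comp_fromLeftDerivedZero'_assoc]
    exact (α.naturality _).symm
  have h3 : HomologicalComplex.homologyMap
      ((NatTrans.mapHomologicalComplex α (ComplexShape.down ℕ)).app P.complex) 0 ≫
      (ChainComplex.isoHomologyι₀ ((G.mapHomologicalComplex _).obj P.complex)).hom ≫
      P.fromLeftDerivedZero' G =
      (ChainComplex.isoHomologyι₀ ((F.mapHomologicalComplex _).obj P.complex)).hom ≫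
        P.fromLeftDerivedZero' F ≫ α.app X := by
    rw [← Category.assoc, h1, Category.assoc, h2]
  exact congrArg (fun t => (P.isoLeftDerivedObj F 0).hom ≫ t) h3

lemma tor0Iso_naturality₁ {M M' : ModuleCat.{u} R} (f : M ⟶ M') (N : ModuleCat.{u} R) :
    T₁ 0 f N ≫ (tor0Iso M' N).hom = (tor0Iso M N).hom ≫ f ▷ N :=
  fromLeftDerivedZero_naturality ((tensoringLeft (ModuleCat.{u} R)).map f) N

section generic

variable {C : Type*} [Category C] [Abelian C]

lemma isIso_of_exact {X Y Z W : C} (x : X ⟶ Y) (δ : Y ⟶ Z) (y : Z ⟶ W) (w₁ : x ≫ δ = 0)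
    (w₂ : δ ≫ y = 0) (h₁ : (ShortComplex.mk x δ w₁).Exact) (h₂ : (ShortComplex.mk δ y w₂).Exact)
    (hX : IsZero X) (hW : IsZero W) : IsIso δ := by
  have : Mono δ := h₁.mono_g (hX.eq_of_src _ _)
  have : Epi δ := h₂.epi_f (hW.eq_of_tgt _ _)
  exact isIso_of_mono_of_epi δ

lemma mono_of_exact {X Y Z : C} (x : X ⟶ Y) (δ : Y ⟶ Z) (w₁ : x ≫ δ = 0)
    (h₁ : (ShortComplex.mk x δ w₁).Exact) (hX : IsZero X) : Mono δ :=
  h₁.mono_g (hX.eq_of_src _ _)

lemma epi_of_exact {Y Z W : C} (δ : Y ⟶ Z) (y : Z ⟶ W)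
    (w₂ : δ ≫ y = 0) (h₂ : (ShortComplex.mk δ y w₂).Exact) (hW : IsZero W) : Epi δ :=
  h₂.epi_f (hW.eq_of_tgt _ _)

lemma nonempty_iso_of_exact {K A B K' A' B' : C} (i : K ⟶ A) (a : A ⟶ B) (i' : K' ⟶ A')
    (a' : A' ⟶ B') (w : i ≫ a = 0) (w' : i' ≫ a' = 0) [Mono i] [Mono i']
    (ex : (ShortComplex.mk i a w).Exact) (ex' : (ShortComplex.mk i' a' w').Exact)
    (eA : A ≅ A') (eB : B ≅ B') (comm : a ≫ eB.hom = eA.hom ≫ a') : Nonempty (K ≅ K') := by
  have comm' : a' ≫ eB.inv = eA.inv ≫ a := by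
    rw [Iso.eq_inv_comp, ← Category.assoc, ← comm, Category.assoc, Iso.hom_inv_id,
      Category.comp_id]
  have : Mono (ShortComplex.mk i a w).f := ‹Mono i›
  have : Mono (ShortComplex.mk i' a' w').f := ‹Mono i'›
  have h1 : (i ≫ eA.hom) ≫ (ShortComplex.mk i' a' w').g = 0 := by
    change (i ≫ eA.hom) ≫ a' = 0
    rw [Category.assoc, ← comm, reassoc_of% w, zero_comp]
  have h2 : (i' ≫ eA.inv) ≫ (ShortComplex.mk i a w).g = 0 := by
    change (i' ≫ eA.inv) ≫ a = 0
    rw [Category.assoc, ← comm', reassoc_of% w', zero_comp]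
  refine ⟨⟨ex'.lift (i ≫ eA.hom) h1, ex.lift (i' ≫ eA.inv) h2, ?_, ?_⟩⟩
  · rw [← cancel_mono i, Category.assoc]
    have e1 : ex.lift (i' ≫ eA.inv) h2 ≫ i = i' ≫ eA.inv := ex.lift_f _ _
    have e2 : ex'.lift (i ≫ eA.hom) h1 ≫ i' = i ≫ eA.hom := ex'.lift_f _ _
    rw [e1, reassoc_of% e2]
    simp
  · rw [← cancel_mono i', Category.assoc]
    have e1 : ex.lift (i' ≫ eA.inv) h2 ≫ i = i' ≫ eA.inv := ex.lift_f _ _
    have e2 : ex'.lift (i ≫ eA.hom) h1 ≫ i' = i ≫ eA.hom := ex'.lift_f _ _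
    rw [e2, reassoc_of% e1]
    simp

end generic

/-- Every module has a presentation `0 → K → P → N → 0` with `P` projective. -/
lemma exists_presentation (N : ModuleCat.{u} R) :
    ∃ (K P : ModuleCat.{u} R) (f : K ⟶ P) (g : P ⟶ N) (w : f ≫ g = 0),
      (ShortComplex.mk f g w).ShortExact ∧ Projective P ∧ Module.Free R P := by
  refine ⟨_, _, _, _, (LinearMap.shortComplexKer (HS.p N)).zero,
    LinearMap.shortExact_shortComplexKer (HS.p_surjective N), ?_, ?_⟩
  · infer_instance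
  · change Module.Free R (N →₀ R)
    infer_instance

/-- Dimension shifting in the second variable. -/
lemma nonempty_iso_shift₂ (M : ModuleCat.{u} R) (S : ShortComplex (ModuleCat.{u} R))
    (hS : S.ShortExact) (n : ℕ) (h1 : IsZero (T (n + 1) M S.X₂)) (h2 : IsZero (T (n + 2) M S.X₂)) :
    Nonempty (T (n + 2) M S.X₃ ≅ T (n + 1) M S.X₁) := by
  obtain ⟨-, -, δ, w₁, w₂, e₁, e₂⟩ := les₂ M S hS (n + 1)
  have := isIso_of_exact _ δ _ w₁ w₂ e₁ e₂ h2 h1
  exact ⟨asIso δ⟩

/-- Dimension shifting in the first variable. -/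
lemma nonempty_iso_shift₁ (E : ShortComplex (ModuleCat.{u} R)) (hE : E.ShortExact)
    (N : ModuleCat.{u} R) (n : ℕ) (h1 : IsZero (T (n + 1) E.X₂ N))
    (h2 : IsZero (T (n + 2) E.X₂ N)) :
    Nonempty (T (n + 2) E.X₃ N ≅ T (n + 1) E.X₁ N) := by
  obtain ⟨-, δ, w₁, w₂, e₁, e₂⟩ := les₁ E hE N (n + 1)
  have := isIso_of_exact _ δ _ w₁ w₂ e₁ e₂ h2 h1
  exact ⟨asIso δ⟩

/-- The comparison iso `Tor_0(M,N) ≅ Tor_0(N,M)`. -/
noncomputable def tor0Flip (M N : ModuleCat.{u} R) : T 0 M N ≅ T 0 N M :=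
  tor0Iso M N ≪≫ β_ M N ≪≫ (tor0Iso N M).symm

lemma tor0Flip_naturality (M : ModuleCat.{u} R) {K P : ModuleCat.{u} R} (f : K ⟶ P) :
    T₂ 0 M f ≫ (tor0Flip M P).hom = (tor0Flip M K).hom ≫ T₁ 0 f M := by
  have h1 := tor0Iso_naturality₂ M f
  have h2 := tor0Iso_naturality₁ f M
  have h3 : f ▷ M ≫ (tor0Iso P M).inv = (tor0Iso K M).inv ≫ T₁ 0 f M := by
    rw [Iso.eq_inv_comp, ← Category.assoc, ← h2, Category.assoc, Iso.hom_inv_id,
      Category.comp_id]
  have h4 : M ◁ f ≫ (β_ M P).hom = (β_ M K).hom ≫ f ▷ M :=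
    BraidedCategory.braiding_naturality_right M f
  simp only [tor0Flip, Iso.trans_hom, Iso.symm_hom, Category.assoc]
  rw [reassoc_of% h1, reassoc_of% h4, h3]

theorem nonempty_iso_flip_one (M N : ModuleCat.{u} R) : Nonempty (T 1 M N ≅ T 1 N M) := by
  obtain ⟨K, P, f, g, w, hS, hP, hfree⟩ := exists_presentation N
  have hflat : Module.Flat R P := inferInstance
  obtain ⟨-, -, δ₂, w₁, w₂, e₁, e₂⟩ := les₂ M _ hS 0
  obtain ⟨-, δ₁, v₁, v₂, d₁, d₂⟩ := les₁ _ hS M 0
  have m₂ : Mono δ₂ := mono_of_exact _ δ₂ w₁ e₁ (isZero_of_projective_right M P 0)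
  have m₁ : Mono δ₁ := mono_of_exact _ δ₁ v₁ d₁ (isZero_of_flat_left P M 0)
  exact nonempty_iso_of_exact δ₂ _ δ₁ _ w₂ v₂ e₂ d₂ (tor0Flip M K) (tor0Flip M P)
    (tor0Flip_naturality M f)

theorem nonempty_iso_flip_succ (n : ℕ) :
    ∀ M N : ModuleCat.{u} R, Nonempty (T (n + 1) M N ≅ T (n + 1) N M) := by
  induction n with
  | zero => exact nonempty_iso_flip_one
  | succ n ih =>
    intro M N
    obtain ⟨K, P, f, g, w, hS, hP, hfree⟩ := exists_presentation N
    have hflat : Module.Flat R P := inferInstance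
    obtain ⟨e₂⟩ := nonempty_iso_shift₂ M _ hS n (isZero_of_projective_right M P n)
      (isZero_of_projective_right M P (n + 1))
    obtain ⟨e₁⟩ := nonempty_iso_shift₁ _ hS M n (isZero_of_flat_left P M n)
      (isZero_of_flat_left P M (n + 1))
    obtain ⟨e⟩ := ih M K
    exact ⟨e₂ ≪≫ e ≪≫ e₁.symm⟩

/-- **Balancing of Tor** (objectwise). -/
theorem nonempty_iso_flip (n : ℕ) (M N : ModuleCat.{u} R) : Nonempty (T n M N ≅ T n N M) := by
  cases n with
  | zero => exact ⟨tor0Flip M N⟩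
  | succ n => exact nonempty_iso_flip_succ n M N

/-- Higher Tor vanishes if the second variable is flat. -/
lemma isZero_of_flat_right (M N : ModuleCat.{u} R) [Module.Flat R N] (n : ℕ) :
    IsZero (T (n + 1) M N) := by
  obtain ⟨e⟩ := nonempty_iso_flip (n + 1) M N
  exact IsZero.of_iso (isZero_of_flat_left N M n) e

/-- `Tor` respects isomorphisms. -/
noncomputable def isoOfIso (n : ℕ) {M M' N N' : ModuleCat.{u} R} (e : M ≅ M') (e' : N ≅ N') :
    T n M N ≅ T n M' N' :=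
  ((Tor (ModuleCat.{u} R) n).mapIso e).app N ≪≫ ((Tor (ModuleCat.{u} R) n).obj M').mapIso e'

lemma isZero_congr (n : ℕ) {M M' N N' : ModuleCat.{u} R} (e : M ≅ M') (e' : N ≅ N') :
    IsZero (T n M N) ↔ IsZero (T n M' N') :=
  ⟨fun h => h.of_iso (isoOfIso n e e').symm, fun h => h.of_iso (isoOfIso n e e')⟩

lemma mono_whiskerLeft_iff (M : ModuleCat.{u} R) {K P : ModuleCat.{u} R} (f : K ⟶ P) :
    Mono (M ◁ f) ↔ Mono (T₂ 0 M f) := by
  have h := tor0Iso_naturality₂ M f
  constructor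
  · intro hm
    have : T₂ 0 M f = (tor0Iso M K).hom ≫ M ◁ f ≫ (tor0Iso M P).inv := by
      rw [← Category.assoc, ← h, Category.assoc, Iso.hom_inv_id, Category.comp_id]
    rw [this]
    infer_instance
  · intro hm
    have : M ◁ f = (tor0Iso M K).inv ≫ T₂ 0 M f ≫ (tor0Iso M P).hom := by
      rw [h, Iso.inv_hom_id_assoc]
    rw [this]
    infer_instance

lemma mono_whiskerRight_iff {K P : ModuleCat.{u} R} (f : K ⟶ P) (N : ModuleCat.{u} R) :
    Mono (f ▷ N) ↔ Mono (T₁ 0 f N) := by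
  have h := tor0Iso_naturality₁ f N
  constructor
  · intro hm
    have : T₁ 0 f N = (tor0Iso K N).hom ≫ f ▷ N ≫ (tor0Iso P N).inv := by
      rw [← Category.assoc, ← h, Category.assoc, Iso.hom_inv_id, Category.comp_id]
    rw [this]
    infer_instance
  · intro hm
    have : f ▷ N = (tor0Iso K N).inv ≫ T₁ 0 f N ≫ (tor0Iso P N).hom := by
      rw [h, Iso.inv_hom_id_assoc]
    rw [this]
    infer_instance

lemma injective_lTensor_iff_mono (M : ModuleCat.{u} R) {K P : ModuleCat.{u} R} (f : K ⟶ P) :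
    Function.Injective (f.hom.lTensor M) ↔ Mono (M ◁ f) := by
  rw [ModuleCat.mono_iff_injective]
  rfl

lemma injective_rTensor_iff_mono {K P : ModuleCat.{u} R} (f : K ⟶ P) (N : ModuleCat.{u} R) :
    Function.Injective (f.hom.rTensor N) ↔ Mono (f ▷ N) := by
  rw [ModuleCat.mono_iff_injective]
  rfl

/-- If `Tor_1(M, S.X₃) = 0` then `M ⊗ S.X₁ → M ⊗ S.X₂` is injective. -/
lemma injective_lTensor_of_isZero (M : ModuleCat.{u} R) (S : ShortComplex (ModuleCat.{u} R))
    (hS : S.ShortExact) (h : IsZero (T 1 M S.X₃)) : Function.Injective (S.f.hom.lTensor M) := by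
  obtain ⟨-, -, δ, w₁, w₂, e₁, e₂⟩ := les₂ M S hS 0
  rw [injective_lTensor_iff_mono, mono_whiskerLeft_iff]
  exact e₂.mono_g (h.eq_of_src _ _)

/-- If `Tor_1(M, S.X₂) = 0`, then `Tor_1(M, S.X₃) = 0` iff `M ⊗ S.X₁ → M ⊗ S.X₂` is injective. -/
lemma isZero_iff_injective_lTensor (M : ModuleCat.{u} R) (S : ShortComplex (ModuleCat.{u} R))
    (hS : S.ShortExact) (h2 : IsZero (T 1 M S.X₂)) :
    IsZero (T 1 M S.X₃) ↔ Function.Injective (S.f.hom.lTensor M) := by
  refine ⟨injective_lTensor_of_isZero M S hS, fun hinj => ?_⟩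
  obtain ⟨-, -, δ, w₁, w₂, e₁, e₂⟩ := les₂ M S hS 0
  rw [injective_lTensor_iff_mono, mono_whiskerLeft_iff] at hinj
  have hm : Mono δ := mono_of_exact _ δ w₁ e₁ h2
  have h0 : δ = 0 := by
    rw [← cancel_mono (T₂ 0 M S.f), w₂, zero_comp]
  exact IsZero.of_mono_eq_zero δ h0

/-- If `Tor_1(E.X₃, N) = 0` then `E.X₁ ⊗ N → E.X₂ ⊗ N` is injective. -/
lemma injective_rTensor_of_isZero (E : ShortComplex (ModuleCat.{u} R)) (hE : E.ShortExact)
    (N : ModuleCat.{u} R) (h : IsZero (T 1 E.X₃ N)) : Function.Injective (E.f.hom.rTensor N) := by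
  obtain ⟨-, δ, w₁, w₂, e₁, e₂⟩ := les₁ E hE N 0
  rw [injective_rTensor_iff_mono, mono_whiskerRight_iff]
  exact e₂.mono_g (h.eq_of_src _ _)

/-- If `Tor_1(E.X₂, N) = 0`, then `Tor_1(E.X₃, N) = 0` iff `E.X₁ ⊗ N → E.X₂ ⊗ N` is injective. -/
lemma isZero_iff_injective_rTensor (E : ShortComplex (ModuleCat.{u} R)) (hE : E.ShortExact)
    (N : ModuleCat.{u} R) (h2 : IsZero (T 1 E.X₂ N)) :
    IsZero (T 1 E.X₃ N) ↔ Function.Injective (E.f.hom.rTensor N) := by
  refine ⟨injective_rTensor_of_isZero E hE N, fun hinj => ?_⟩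
  obtain ⟨-, δ, w₁, w₂, e₁, e₂⟩ := les₁ E hE N 0
  rw [injective_rTensor_iff_mono, mono_whiskerRight_iff] at hinj
  have hm : Mono δ := mono_of_exact _ δ w₁ e₁ h2
  have h0 : δ = 0 := by
    rw [← cancel_mono (T₁ 0 E.f N), w₂, zero_comp]
  exact IsZero.of_mono_eq_zero δ h0

/-- Middle vanishing in the second variable. -/
lemma isZero_mid₂ (M : ModuleCat.{u} R) (S : ShortComplex (ModuleCat.{u} R)) (hS : S.ShortExact)
    (n : ℕ) (h1 : IsZero (T n M S.X₁)) (h3 : IsZero (T n M S.X₃)) : IsZero (T n M S.X₂) := by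
  obtain ⟨⟨w₀, e₀⟩, -⟩ := les₂ M S hS n
  exact e₀.isZero_of_both_zeros (h1.eq_of_src _ _) (h3.eq_of_tgt _ _)

/-- Middle vanishing in the first variable. -/
lemma isZero_mid₁ (E : ShortComplex (ModuleCat.{u} R)) (hE : E.ShortExact) (N : ModuleCat.{u} R)
    (n : ℕ) (h1 : IsZero (T n E.X₁ N)) (h3 : IsZero (T n E.X₃ N)) : IsZero (T n E.X₂ N) := by
  obtain ⟨⟨w₀, e₀⟩, -⟩ := les₁ E hE N n
  exact e₀.isZero_of_both_zeros (h1.eq_of_src _ _) (h3.eq_of_tgt _ _)

/-- Right vanishing in the second variable: `Tor_{n+1}(M,X₂) = 0 = Tor_n(M,X₁)` gives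
`Tor_{n+1}(M,X₃) = 0`. -/
lemma isZero_right₂ (M : ModuleCat.{u} R) (S : ShortComplex (ModuleCat.{u} R)) (hS : S.ShortExact)
    (n : ℕ) (h2 : IsZero (T (n + 1) M S.X₂)) (h1 : IsZero (T n M S.X₁)) :
    IsZero (T (n + 1) M S.X₃) := by
  obtain ⟨-, -, δ, w₁, w₂, e₁, e₂⟩ := les₂ M S hS n
  exact e₁.isZero_of_both_zeros (h2.eq_of_src _ _) (h1.eq_of_tgt _ _)

lemma isZero_right₁ (E : ShortComplex (ModuleCat.{u} R)) (hE : E.ShortExact) (N : ModuleCat.{u} R)
    (n : ℕ) (h2 : IsZero (T (n + 1) E.X₂ N)) (h1 : IsZero (T n E.X₁ N)) :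
    IsZero (T (n + 1) E.X₃ N) := by
  obtain ⟨-, δ, w₁, w₂, e₁, e₂⟩ := les₁ E hE N n
  exact e₁.isZero_of_both_zeros (h2.eq_of_src _ _) (h1.eq_of_tgt _ _)

/-- Left vanishing: `Tor_{n+1}(M,X₃) = 0 = Tor_n(M,X₂)` gives `Tor_n(M,X₁) = 0`. -/
lemma isZero_left₂ (M : ModuleCat.{u} R) (S : ShortComplex (ModuleCat.{u} R)) (hS : S.ShortExact)
    (n : ℕ) (h3 : IsZero (T (n + 1) M S.X₃)) (h2 : IsZero (T n M S.X₂)) :
    IsZero (T n M S.X₁) := by
  obtain ⟨-, -, δ, w₁, w₂, e₁, e₂⟩ := les₂ M S hS n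
  exact e₂.isZero_of_both_zeros (h3.eq_of_src _ _) (h2.eq_of_tgt _ _)

lemma isZero_left₁ (E : ShortComplex (ModuleCat.{u} R)) (hE : E.ShortExact) (N : ModuleCat.{u} R)
    (n : ℕ) (h3 : IsZero (T (n + 1) E.X₃ N)) (h2 : IsZero (T n E.X₂ N)) :
    IsZero (T n E.X₁ N) := by
  obtain ⟨-, δ, w₁, w₂, e₁, e₂⟩ := les₁ E hE N n
  exact e₂.isZero_of_both_zeros (h3.eq_of_src _ _) (h2.eq_of_tgt _ _)

section ses

variable {X : Type u} [AddCommGroup X] [Module R X]

/-- The short complex `0 → N → X → X/N → 0`. -/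
noncomputable def quotSES (N : Submodule R X) : ShortComplex (ModuleCat.{u} R) where
  X₁ := ModuleCat.of R N
  X₂ := ModuleCat.of R X
  X₃ := ModuleCat.of R (X ⧸ N)
  f := ModuleCat.ofHom N.subtype
  g := ModuleCat.ofHom N.mkQ
  zero := by
    rw [← ModuleCat.ofHom_comp]
    have : N.mkQ ∘ₗ N.subtype = 0 := LinearMap.ext fun x => by simp
    rw [this]; rfl

lemma quotSES_shortExact (N : Submodule R X) : (quotSES N).ShortExact := by
  refine ModuleCat.shortComplex_shortExact _ ?_ ?_ ?_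
  · exact LinearMap.exact_subtype_mkQ N
  · exact N.injective_subtype
  · exact N.mkQ_surjective

variable {Y Z : Type u} [AddCommGroup Y] [Module R Y] [AddCommGroup Z] [Module R Z]

/-- The short complex attached to an exact pair of linear maps. -/
noncomputable def linSES (f : X →ₗ[R] Y) (g : Y →ₗ[R] Z) (h : g ∘ₗ f = 0) :
    ShortComplex (ModuleCat.{u} R) where
  X₁ := ModuleCat.of R X
  X₂ := ModuleCat.of R Y
  X₃ := ModuleCat.of R Z
  f := ModuleCat.ofHom f
  g := ModuleCat.ofHom g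
  zero := by rw [← ModuleCat.ofHom_comp, h]; rfl

lemma linSES_shortExact (f : X →ₗ[R] Y) (g : Y →ₗ[R] Z) (hf : Function.Injective f)
    (hfg : Function.Exact f g) (hg : Function.Surjective g) :
    (linSES f g hfg.linearMap_comp_eq_zero).ShortExact := by
  refine ModuleCat.shortComplex_shortExact _ ?_ ?_ ?_
  · exact hfg
  · exact hf
  · exact hg

end ses

/-- Prime filtration argument in the second variable. -/
theorem isZero_of_forall_prime₂ [IsNoetherianRing R] (n : ℕ) (M : ModuleCat.{u} R)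
    (h : ∀ p : Ideal R, p.IsPrime → IsZero (T (n + 1) M (ModuleCat.of R (R ⧸ p))))
    (N : Type u) [AddCommGroup N] [Module R N] [hN : Module.Finite R N] :
    IsZero (T (n + 1) M (ModuleCat.of R N)) := by
  induction hN using IsNoetherianRing.induction_on_isQuotientEquivQuotientPrime R with
  | subsingleton N =>
    have : Module.Projective R N := inferInstance
    exact isZero_of_projective_right M (ModuleCat.of R N) n
  | quotient N p e =>
    exact (isZero_congr (n + 1) (Iso.refl M) e.toModuleIso).2 (h p.1 p.2)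
  | exact N₁ N₂ N₃ f g hf hg hfg h1 h3 =>
    exact isZero_mid₂ M _ (linSES_shortExact f g hf hfg hg) (n + 1) h1 h3

/-- Prime filtration argument in the first variable. -/
theorem isZero_of_forall_prime₁ [IsNoetherianRing R] (n : ℕ) (M : ModuleCat.{u} R)
    (h : ∀ p : Ideal R, p.IsPrime → IsZero (T (n + 1) (ModuleCat.of R (R ⧸ p)) M))
    (N : Type u) [AddCommGroup N] [Module R N] [hN : Module.Finite R N] :
    IsZero (T (n + 1) (ModuleCat.of R N) M) := by
  induction hN using IsNoetherianRing.induction_on_isQuotientEquivQuotientPrime R with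
  | subsingleton N =>
    have : Module.Flat R (ModuleCat.of R N) := inferInstanceAs (Module.Flat R N)
    exact isZero_of_flat_left (ModuleCat.of R N) M n
  | quotient N p e =>
    exact (isZero_congr (n + 1) e.toModuleIso (Iso.refl M)).2 (h p.1 p.2)
  | exact N₁ N₂ N₃ f g hf hg hfg h1 h3 =>
    exact isZero_mid₁ _ (linSES_shortExact f g hf hfg hg) M (n + 1) h1 h3

end Groth.Agent.H21.TorLib
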