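import Mathlib

/-!
# Flatness criteria "modulo powers of an ideal" (helper21)

* `Groth.Agent.H21.flat_of_flat_quot_pow_smul`: `B` Noetherian, `I ≤ rad B`, `M` a finite `B`-module,
  `A → B` a ring map. If `M / I^(n+1) M` is `A`-flat for all `n` then `M` is `A`-flat.
* `Groth.Agent.H21.rTensor_inj_of_flat_quot`: if `(B/K) ⊗[B] M` is flat over `B/K` then for an ideal
  `Q` of `B/K` the map `Q ⊗[B] M → (B/K) ⊗[B] M` is injective.
* `Groth.Agent.H21.flat_of_flat_baseChange_quot_pow`: `R → S` Noetherian, `I S ≤ rad S`, `M` finite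
  over `S`, `(R/I^n) ⊗[R] M` flat over `R/I^n` for all `n > 0`. Then `M` is flat over `R`.
-/

set_option autoImplicit false
universe u

namespace Groth.Agent.H21

open TensorProduct

/-- In a short exact sequence `0 → M' → M → M'' → 0` with `M'` and `M''` flat, `M` is flat. -/
theorem flat_of_exact_mid {R : Type u} [CommRing R] {M' M M'' : Type u} [AddCommGroup M']
    [AddCommGroup M] [AddCommGroup M''] [Module R M'] [Module R M] [Module R M'']
    [Module.Flat R M'] [Module.Flat R M'']
    (g : M' →ₗ[R] M) (f : M →ₗ[R] M'') (hg : Function.Injective g) (hf : Function.Surjective f)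
    (H : Function.Exact g f) : Module.Flat R M := by
  rw [Module.Flat.iff_lTensor_preserves_injective_linearMap]
  intro N' N _ _ _ _ u hu
  rw [injective_iff_map_eq_zero]
  intro z hz
  have e1 : Function.Exact (g.rTensor N') (f.rTensor N') := rTensor_exact N' H hf
  have h1 : (u.lTensor M'') (f.rTensor N' z) = 0 := by
    rw [← LinearMap.comp_apply, LinearMap.lTensor_comp_rTensor, ← LinearMap.rTensor_comp_lTensor,
      LinearMap.comp_apply, hz, map_zero]
  have h2 : f.rTensor N' z = 0 :=
    (Module.Flat.lTensor_preserves_injective_linearMap u hu) (by rw [h1, map_zero])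
  obtain ⟨z', rfl⟩ := (e1 z).mp h2
  have h3 : (g.rTensor N) (u.lTensor M' z') = 0 := by
    rw [← LinearMap.comp_apply, LinearMap.rTensor_comp_lTensor, ← LinearMap.lTensor_comp_rTensor,
      LinearMap.comp_apply, hz]
  have h4 : Function.Injective (g.rTensor N) :=
    (LinearMap.lTensor_inj_iff_rTensor_inj _ _).mp
      (LinearMap.lTensor_injective_of_exact_of_flat f hf g hg H N)
  have h5 : u.lTensor M' z' = 0 := h4 (by rw [h3, map_zero])
  have h6 : z' = 0 :=
    (Module.Flat.lTensor_preserves_injective_linearMap u hu) (by rw [h5, map_zero])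
  rw [h6, map_zero]

theorem flat_of_flat_quot_pow_smul {A B : Type u} [CommRing A] [CommRing B]
    [IsNoetherianRing B] [Algebra A B] (J : Ideal B) (hJ : J ≤ Ideal.jacobson ⊥)
    (M : Type u) [AddCommGroup M] [Module B M] [Module A M]
    [IsScalarTower A B M] [Module.Finite B M]
    (hflat : ∀ n : ℕ, Module.Flat A (M ⧸ (J ^ (n + 1) • (⊤ : Submodule B M)))) :
    Module.Flat A M := by
  rw [Module.Flat.iff_lTensor_injective]
  intro I hI
  rw [injective_iff_map_eq_zero]
  intro x hx
  have : Module.Finite A I := Module.Finite.iff_fg.mpr hI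
  have : Module.Finite B (M ⊗[A] I) :=
    Module.Finite.equiv (AlgebraTensorModule.cancelBaseChange A B B M I)
  have key : ∀ n : ℕ, x ∈ (J ^ (n + 1) • ⊤ : Submodule B (M ⊗[A] I)) := by
    intro n
    set P : Submodule B M := J ^ (n + 1) • (⊤ : Submodule B M) with hP
    have := hflat n
    have hinj : Function.Injective (LinearMap.lTensor (M ⧸ P) I.subtype) :=
      Module.Flat.lTensor_preserves_injective_linearMap _ Subtype.val_injective
    have hsq : LinearMap.lTensor (M ⧸ P) I.subtype
        (LinearMap.rTensor I (P.mkQ.restrictScalars A) x) = 0 := by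
      have : LinearMap.lTensor (M ⧸ P) I.subtype ∘ₗ LinearMap.rTensor I (P.mkQ.restrictScalars A)
          = LinearMap.rTensor A (P.mkQ.restrictScalars A) ∘ₗ LinearMap.lTensor M I.subtype := by
        ext m i
        simp
      have h2 := congrArg (fun g => g x) this
      simp only [LinearMap.comp_apply] at h2
      rw [h2, hx, map_zero]
    have hker : LinearMap.rTensor I (P.mkQ.restrictScalars A) x = 0 := by
      apply hinj
      rw [hsq, map_zero]
    have hexact : Function.Exact (P.subtype.restrictScalars A) (P.mkQ.restrictScalars A) := by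
      intro m
      simp only [LinearMap.coe_restrictScalars, Submodule.mkQ_apply, Submodule.Quotient.mk_eq_zero,
        Set.mem_range, Submodule.subtype_apply]
      constructor
      · intro h; exact ⟨⟨m, h⟩, rfl⟩
      · rintro ⟨y, rfl⟩; exact y.2
    have hex2 := rTensor_exact I hexact (Submodule.mkQ_surjective P)
    obtain ⟨y, rfl⟩ := (hex2 x).mp hker
    clear hker hsq hx
    induction y using TensorProduct.induction_on with
    | zero => simp
    | add y z hy hz =>
      rw [map_add]
      exact Submodule.add_mem _ hy hz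
    | tmul p i =>
      obtain ⟨p, hp⟩ := p
      simp only [LinearMap.rTensor_tmul, LinearMap.coe_restrictScalars, Submodule.subtype_apply]
      refine Submodule.smul_induction_on
        (p := fun z : M => z ⊗ₜ[A] i ∈ (J ^ (n + 1) • ⊤ : Submodule B (M ⊗[A] I))) hp ?_ ?_
      · intro j hj m _
        show (j • m) ⊗ₜ[A] i ∈ _
        rw [← TensorProduct.smul_tmul']
        exact Submodule.smul_mem_smul hj Submodule.mem_top
      · intro y z hy hz
        show (y + z) ⊗ₜ[A] i ∈ _
        rw [TensorProduct.add_tmul]
        exact Submodule.add_mem _ hy hz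
  have hbot := Ideal.iInf_pow_smul_eq_bot_of_le_jacobson (M := M ⊗[A] I) J hJ
  have hx' : x ∈ (⨅ i : ℕ, J ^ i • ⊤ : Submodule B (M ⊗[A] I)) := by
    rw [Submodule.mem_iInf]
    intro i
    rcases i with _ | n
    · simp
    · exact key n
  rw [hbot] at hx'
  exact hx'

/-- If `(B/K) ⊗ M` is flat over `B/K`, then tensoring (over `B`) the inclusion of an ideal of `B/K`
with `M` is injective. -/
theorem rTensor_inj_of_flat_quot {B M : Type u} [CommRing B] [AddCommGroup M] [Module B M]
    (K : Ideal B) [Module.Flat (B ⧸ K) ((B ⧸ K) ⊗[B] M)] (Q : Ideal (B ⧸ K)) :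
    Function.Injective (LinearMap.rTensor M ((Q.subtype).restrictScalars B)) := by
  let e₁ := AlgebraTensorModule.cancelBaseChange B (B ⧸ K) (B ⧸ K) Q M
  let e₂ := AlgebraTensorModule.cancelBaseChange B (B ⧸ K) (B ⧸ K) (B ⧸ K) M
  have nat : ∀ z, e₂ (LinearMap.rTensor ((B ⧸ K) ⊗[B] M) Q.subtype z) =
      LinearMap.rTensor M ((Q.subtype).restrictScalars B) (e₁ z) := by
    intro z
    induction z using TensorProduct.induction_on with
    | zero => simp
    | add x y hx hy => simp only [map_add, hx, hy]
    | tmul q w =>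
      induction w using TensorProduct.induction_on with
      | zero => simp
      | add x y hx hy => simp only [tmul_add, map_add, hx, hy]
      | tmul b a => simp [e₁, e₂]
  have hflat : Function.Injective (LinearMap.rTensor ((B ⧸ K) ⊗[B] M) Q.subtype) :=
    Module.Flat.rTensor_preserves_injective_linearMap _ Subtype.val_injective
  intro x y hxy
  obtain ⟨x', rfl⟩ := e₁.surjective x
  obtain ⟨y', rfl⟩ := e₁.surjective y
  rw [← nat, ← nat] at hxy
  rw [hflat (e₂.injective hxy)]

/-- Same with `M` on the left. -/
theorem lTensor_inj_of_flat_quot {B M : Type u} [CommRing B] [AddCommGroup M] [Module B M]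
    (K : Ideal B) [Module.Flat (B ⧸ K) ((B ⧸ K) ⊗[B] M)] (Q : Ideal (B ⧸ K)) :
    Function.Injective (LinearMap.lTensor M ((Q.subtype).restrictScalars B)) :=
  (LinearMap.lTensor_inj_iff_rTensor_inj _ _).mpr (rTensor_inj_of_flat_quot K Q)

/-- Injectivity of `M ⊗ φ` passes to localizations of `M`. -/
theorem lTensor_inj_localized {R S : Type u} [CommRing R] [CommRing S] [Algebra R S]
    (M : Type u) [AddCommGroup M] [Module R M] [Module S M] [IsScalarTower R S M]
    (p : Submonoid S) {N P : Type u} [AddCommGroup N] [AddCommGroup P] [Module R N] [Module R P]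
    (φ : N →ₗ[R] P) (h : Function.Injective (LinearMap.lTensor M φ)) :
    Function.Injective (LinearMap.lTensor (LocalizedModule p M) φ) := by
  have h1 := IsLocalizedModule.map_lTensor (R := R) S p φ (LocalizedModule.mkLinearMap p M)
  have h2 : Function.Injective (AlgebraTensorModule.lTensor S M φ) := h
  have h3 := IsLocalizedModule.map_injective p
    (AlgebraTensorModule.rTensor R N (LocalizedModule.mkLinearMap p M))
    (AlgebraTensorModule.rTensor R P (LocalizedModule.mkLinearMap p M)) _ h2
  rw [h1] at h3
  exact h3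

/-- General form: `B → A` Noetherian, `J A ≤ rad A`, `M` finite over `A`; if for all `m > 0` and all
ideals `Q` of `B/J^m` the map `M ⊗[B] Q → M ⊗[B] (B/J^m)` is injective, then `M` is flat over `B`. -/
theorem flat_of_lTensor_inj_quot_pow {B A : Type u} [CommRing B] [CommRing A]
    [IsNoetherianRing B] [IsNoetherianRing A] [Algebra B A] (J : Ideal B)
    (hJ : J.map (algebraMap B A) ≤ Ideal.jacobson ⊥)
    (M : Type u) [AddCommGroup M] [Module B M] [Module A M] [IsScalarTower B A M]
    [Module.Finite A M]
    (H : ∀ m : ℕ, 0 < m → ∀ Q : Ideal (B ⧸ J ^ m),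
      Function.Injective (LinearMap.lTensor M ((Q.subtype).restrictScalars B))) :
    Module.Flat B M := by
  rw [Module.Flat.iff_rTensor_injective]
  intro I hI
  rw [injective_iff_map_eq_zero]
  intro x hx
  have hfinI : Module.Finite B I := Module.Finite.iff_fg.mpr hI
  have : Module.Finite A (M ⊗[B] I) :=
    Module.Finite.equiv (AlgebraTensorModule.cancelBaseChange B A A M I)
  have key : ∀ n : ℕ, TensorProduct.comm B I M x ∈
      ((J.map (algebraMap B A)) ^ n • ⊤ : Submodule A (M ⊗[B] I)) := by
    intro n
    obtain ⟨k, hk⟩ := Ideal.exists_pow_inf_eq_pow_smul J (M := B) (I : Submodule B B)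
    have hAR : (J ^ (n + k + 1) • ⊤ ⊓ I : Submodule B B) ≤ J ^ n • (I : Submodule B B) := by
      rw [hk (n + k + 1) (by omega)]
      exact Submodule.smul_mono (Ideal.pow_le_pow_right (by omega)) inf_le_right
    have := H (n + k + 1) (by omega)
    generalize n + k + 1 = m at hAR this
    let Q : Ideal (B ⧸ J ^ m) := I.map (Ideal.Quotient.mk (J ^ m))
    let q₁ : I →ₗ[B] Q :=
      { toFun := fun i => ⟨Ideal.Quotient.mk (J ^ m) i, Ideal.mem_map_of_mem _ i.2⟩
        map_add' := fun a b => by ext; simp
        map_smul' := fun b a => by ext; simp [Algebra.smul_def] }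
    have hcomp : ((Q.subtype).restrictScalars B) ∘ₗ q₁ =
        (Ideal.Quotient.mkₐ B (J ^ m)).toLinearMap ∘ₗ I.subtype := by
      ext i; rfl
    have h1 : LinearMap.rTensor M ((Q.subtype).restrictScalars B) (LinearMap.rTensor M q₁ x) = 0 := by
      rw [← LinearMap.comp_apply, ← LinearMap.rTensor_comp, hcomp, LinearMap.rTensor_comp,
        LinearMap.comp_apply, hx, map_zero]
    have h2 : LinearMap.rTensor M q₁ x = 0 := by
      apply (LinearMap.lTensor_inj_iff_rTensor_inj _ _).mp (this Q)
      rw [h1, map_zero]
    have hsurj : Function.Surjective q₁ := by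
      rintro ⟨y, hy⟩
      obtain ⟨i, hi, rfl⟩ := (Ideal.mem_map_iff_of_surjective _ Ideal.Quotient.mk_surjective).mp hy
      exact ⟨⟨i, hi⟩, rfl⟩
    have hex := rTensor_exact M (LinearMap.exact_subtype_ker_map q₁) hsurj
    obtain ⟨y, rfl⟩ := (hex x).mp h2
    clear h2 h1 hx
    induction y using TensorProduct.induction_on with
    | zero => simp
    | add y z hy hz =>
      rw [map_add, map_add]
      exact Submodule.add_mem _ hy hz
    | tmul i a =>
      obtain ⟨⟨i, hiI⟩, hi⟩ := i
      have hiJ : i ∈ J ^ m := by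
        have : q₁ ⟨i, hiI⟩ = 0 := hi
        have h3 := congrArg Subtype.val this
        simpa [q₁, Ideal.Quotient.eq_zero_iff_mem] using h3
      have hmem : i ∈ (J ^ n • (I : Submodule B B) : Submodule B B) := by
        apply hAR
        refine ⟨?_, hiI⟩
        simpa using hiJ
      have hmem' : (⟨i, hiI⟩ : I) ∈ (J ^ n • (⊤ : Submodule B I)) := by
        have : (J ^ n • (I : Submodule B B) : Submodule B B) =
            Submodule.map I.subtype (J ^ n • (⊤ : Submodule B I)) := by
          rw [Submodule.map_smul'', Submodule.map_subtype_top]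
        rw [this] at hmem
        obtain ⟨z, hz, hzi⟩ := hmem
        have : z = ⟨i, hiI⟩ := Subtype.ext hzi
        rwa [← this]
      simp only [LinearMap.rTensor_tmul, Submodule.subtype_apply, TensorProduct.comm_tmul]
      refine Submodule.smul_induction_on
        (p := fun z : I => a ⊗ₜ[B] z ∈
          ((J.map (algebraMap B A)) ^ n • ⊤ : Submodule A (M ⊗[B] I))) hmem' ?_ ?_
      · intro j hj i' _
        have : a ⊗ₜ[B] (j • i') = (algebraMap B A j) • (a ⊗ₜ[B] i') := by
          rw [TensorProduct.smul_tmul', algebraMap_smul, TensorProduct.smul_tmul]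
        show a ⊗ₜ[B] (j • i') ∈ _
        rw [this]
        refine Submodule.smul_mem_smul ?_ Submodule.mem_top
        rw [← Ideal.map_pow]
        exact Ideal.mem_map_of_mem _ hj
      · intro y z hy hz
        show a ⊗ₜ[B] (y + z) ∈ _
        rw [TensorProduct.tmul_add]
        exact Submodule.add_mem _ hy hz
  have hbot := Ideal.iInf_pow_smul_eq_bot_of_le_jacobson (M := M ⊗[B] I)
    (J.map (algebraMap B A)) hJ
  have hx' : TensorProduct.comm B I M x ∈
      (⨅ i : ℕ, (J.map (algebraMap B A)) ^ i • ⊤ : Submodule A (M ⊗[B] I)) := by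
    rw [Submodule.mem_iInf]
    exact key
  rw [hbot, Submodule.mem_bot] at hx'
  exact (TensorProduct.comm B I M).injective (by rw [hx', map_zero])

theorem flat_of_flat_baseChange_quot_pow {B A : Type u} [CommRing B] [CommRing A]
    [IsNoetherianRing B] [IsNoetherianRing A] [Algebra B A] (J : Ideal B)
    (hJ : J.map (algebraMap B A) ≤ Ideal.jacobson ⊥)
    (M : Type u) [AddCommGroup M] [Module B M] [Module A M] [IsScalarTower B A M]
    [Module.Finite A M]
    (H : ∀ n : ℕ, 0 < n → Module.Flat (B ⧸ J ^ n) ((B ⧸ J ^ n) ⊗[B] M)) :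
    Module.Flat B M :=
  flat_of_lTensor_inj_quot_pow J hJ M (fun m hm Q => by
    have := H m hm
    exact lTensor_inj_of_flat_quot (J ^ m) Q)

end Groth.Agent.H21
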