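import Mathlib

/-!
# Local criterion of flatness: Tor-free building blocks (helper21)

`R` a local ring with maximal ideal `m`, `P` an `R`-module such that `P ⊗ m → P ⊗ R` is injective
("`Tor₁(k, P) = 0`").

* `inj_step`: if `L₁ ≤ L` with `L = L₁ + R x`, `m x ⊆ L₁`, `x ∉ L₁` then `P ⊗ L₁ → P ⊗ L` is injective.
* `inj_of_finiteLength`: if `L` is Noetherian and Artinian then `P ⊗ L₁ → P ⊗ L` is injective for
  every submodule `L₁`.
-/

set_option autoImplicit false
universe u v w

namespace Groth.Agent.H21

open TensorProduct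

theorem inj_step {R : Type u} [CommRing R] [IsLocalRing R] (P : Type v) [AddCommGroup P]
    [Module R P]
    (hP : Function.Injective (LinearMap.lTensor P (IsLocalRing.maximalIdeal R).subtype))
    {L : Type w} [AddCommGroup L] [Module R L] (L₁ : Submodule R L) (x : L)
    (hx : ∀ a ∈ IsLocalRing.maximalIdeal R, a • x ∈ L₁)
    (hspan : ∀ y : L, ∃ l ∈ L₁, ∃ b : R, y = l + b • x) (hxn : x ∉ L₁) :
    Function.Injective (LinearMap.lTensor P L₁.subtype) := by
  set m := IsLocalRing.maximalIdeal R with hm
  let α : m →ₗ[R] L₁ × R :=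
    { toFun := fun a => (⟨(a : R) • x, hx a a.2⟩, -(a : R))
      map_add' := fun a b => by
        ext
        · simp [add_smul]
        · simp [add_comm]
      map_smul' := fun c a => by
        ext
        · simp [mul_smul]
        · simp }
  let β : L₁ × R →ₗ[R] L := LinearMap.coprod L₁.subtype (LinearMap.toSpanSingleton R L x)
  have hα : ∀ a : m, α a = (⟨(a : R) • x, hx a a.2⟩, -(a : R)) := fun a => rfl
  have hβ : ∀ (l : L₁) (a : R), β (l, a) = (l : L) + a • x := fun l a => by simp [β]
  have hex : Function.Exact α β := by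
    rintro ⟨l, a⟩
    constructor
    · intro h
      have h' : (l : L) + a • x = 0 := by rw [← hβ]; exact h
      have ha : a ∈ m := by
        by_contra hna
        have hu : IsUnit a := by
          by_contra hnu
          exact hna ((IsLocalRing.mem_maximalIdeal a).mpr hnu)
        obtain ⟨u, rfl⟩ := hu
        apply hxn
        have : x = (↑u⁻¹ : R) • (-(l : L)) := by
          have h'' : -(l : L) = (u : R) • x := by
            rw [neg_eq_iff_add_eq_zero]; exact h'
          rw [h'', smul_smul]
          simp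
        rw [this]
        exact L₁.smul_mem _ (L₁.neg_mem l.2)
      refine ⟨⟨-a, m.neg_mem ha⟩, ?_⟩
      rw [hα]
      refine Prod.ext (Subtype.ext ?_) (by simp)
      show (-a) • x = (l : L)
      rw [neg_smul, neg_eq_iff_add_eq_zero, add_comm]
      exact h'
    · rintro ⟨a, ha⟩
      rw [← ha, hα, hβ]
      simp
  have hsurj : Function.Surjective β := by
    intro y
    obtain ⟨l, hl, b, rfl⟩ := hspan y
    exact ⟨(⟨l, hl⟩, b), by simp [β]⟩
  have hex2 := lTensor_exact P hex hsurj
  rw [injective_iff_map_eq_zero]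
  intro z hz
  have h1 : LinearMap.lTensor P β (LinearMap.lTensor P (LinearMap.inl R L₁ R) z) = 0 := by
    rw [← LinearMap.comp_apply, ← LinearMap.lTensor_comp]
    have : β ∘ₗ LinearMap.inl R L₁ R = L₁.subtype := by
      ext l; simp [β]
    rw [this, hz]
  obtain ⟨w, hw⟩ := (hex2 _).mp h1
  have h2 : LinearMap.lTensor P (LinearMap.snd R L₁ R) (LinearMap.lTensor P α w) = 0 := by
    rw [hw, ← LinearMap.comp_apply, ← LinearMap.lTensor_comp]
    have : LinearMap.snd R L₁ R ∘ₗ LinearMap.inl R L₁ R = 0 := by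
      ext l; simp
    rw [this, LinearMap.lTensor_zero, LinearMap.zero_apply]
  have h3 : LinearMap.lTensor P m.subtype w = 0 := by
    rw [← LinearMap.comp_apply, ← LinearMap.lTensor_comp] at h2
    have : LinearMap.snd R L₁ R ∘ₗ α = -m.subtype := by
      ext a; simp [α]
    rw [this, LinearMap.lTensor_neg, LinearMap.neg_apply, neg_eq_zero] at h2
    exact h2
  have hw0 : w = 0 := hP (by rw [h3, map_zero])
  rw [hw0, map_zero] at hw
  have h4 : LinearMap.lTensor P (LinearMap.fst R L₁ R) (LinearMap.lTensor P (LinearMap.inl R L₁ R) z)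
      = z := by
    rw [← LinearMap.comp_apply, ← LinearMap.lTensor_comp]
    have : LinearMap.fst R L₁ R ∘ₗ LinearMap.inl R L₁ R = LinearMap.id := by
      ext l; simp
    rw [this, LinearMap.lTensor_id, LinearMap.id_apply]
  rw [← h4, ← hw, map_zero]

theorem inj_of_finiteLength {R : Type u} [CommRing R] [IsLocalRing R] (P : Type v) [AddCommGroup P]
    [Module R P]
    (hP : Function.Injective (LinearMap.lTensor P (IsLocalRing.maximalIdeal R).subtype))
    {L : Type w} [AddCommGroup L] [Module R L] [IsNoetherian R L] [IsArtinian R L]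
    (L₁ : Submodule R L) : Function.Injective (LinearMap.lTensor P L₁.subtype) := by
  refine IsNoetherian.induction
    (P := fun L₁ : Submodule R L => Function.Injective (LinearMap.lTensor P L₁.subtype)) ?_ L₁
  intro L₁ ih
  by_cases htop : L₁ = ⊤
  · subst htop
    have : (⊤ : Submodule R L).subtype =
        (Submodule.topEquiv : (⊤ : Submodule R L) ≃ₗ[R] L).toLinearMap := by
      ext; rfl
    rw [this]
    exact (LinearEquiv.lTensor P (Submodule.topEquiv : (⊤ : Submodule R L) ≃ₗ[R] L)).injective
  · have hlt : L₁ < ⊤ := lt_top_iff_ne_top.mpr htop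
    obtain ⟨L₁', hL₁', hmin⟩ :=
      (wellFounded_lt (α := Submodule R L)).has_min {L' | L₁ < L'} ⟨⊤, hlt⟩
    have hL₁'' : L₁ < L₁' := hL₁'
    obtain ⟨x, hxL', hxn⟩ := SetLike.exists_of_lt hL₁''
    have hcover : ∀ K : Submodule R L, L₁ < K → K ≤ L₁' → K = L₁' := fun K h1 h2 => by
      by_contra hne
      exact hmin K h1 (lt_of_le_of_ne h2 hne)
    have hlt_sup : ∀ y : L, y ∉ L₁ → L₁ < L₁ ⊔ Submodule.span R {y} := fun y hy => by
      refine lt_of_le_of_ne le_sup_left ?_
      intro h
      apply hy
      rw [h]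
      exact Submodule.mem_sup_right (Submodule.mem_span_singleton_self y)
    have hsup : L₁ ⊔ Submodule.span R {x} = L₁' :=
      hcover _ (hlt_sup x hxn)
        (sup_le hL₁''.le ((Submodule.span_singleton_le_iff_mem _ _).mpr hxL'))
    have hmx : ∀ a ∈ IsLocalRing.maximalIdeal R, a • x ∈ L₁ := by
      intro a ha
      by_contra hn
      have h1 : L₁ ⊔ Submodule.span R {a • x} = L₁' :=
        hcover _ (hlt_sup _ hn)
          (sup_le hL₁''.le ((Submodule.span_singleton_le_iff_mem _ _).mpr (L₁'.smul_mem a hxL')))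
      have hx' : x ∈ L₁ ⊔ Submodule.span R {a • x} := h1 ▸ hxL'
      obtain ⟨l, hl, y, hy, hxy⟩ := Submodule.mem_sup.mp hx'
      obtain ⟨b, hb⟩ := Submodule.mem_span_singleton.mp hy
      have hu : IsUnit (1 - b * a) :=
        IsLocalRing.isUnit_one_sub_self_of_mem_nonunits _
          ((IsLocalRing.mem_maximalIdeal _).mp (Ideal.mul_mem_left _ b ha))
      obtain ⟨u, hu⟩ := hu
      have h2 : (u : R) • x = l := by
        rw [hu, sub_smul, one_smul, mul_smul, hb, ← hxy]
        abel
      apply hxn
      have : x = (↑u⁻¹ : R) • l := by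
        rw [← h2, smul_smul]; simp
      rw [this]
      exact L₁.smul_mem _ hl
    have hstep := inj_step P hP (L := L₁') (Submodule.comap L₁'.subtype L₁) ⟨x, hxL'⟩
      (fun a ha => by
        rw [Submodule.mem_comap]
        exact hmx a ha)
      (fun y => by
        have hy : (y : L) ∈ L₁ ⊔ Submodule.span R {x} := hsup ▸ y.2
        obtain ⟨l, hl, z, hz, hyz⟩ := Submodule.mem_sup.mp hy
        obtain ⟨b, hb⟩ := Submodule.mem_span_singleton.mp hz
        refine ⟨⟨l, hL₁''.le hl⟩, by rw [Submodule.mem_comap]; exact hl, b, Subtype.ext ?_⟩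
        simp [← hyz, hb])
      (fun h => hxn (by rw [Submodule.mem_comap] at h; exact h))
    have hcomp : L₁.subtype = L₁'.subtype ∘ₗ (Submodule.comap L₁'.subtype L₁).subtype ∘ₗ
        ((Submodule.comapSubtypeEquivOfLe hL₁''.le).symm :
          L₁ ≃ₗ[R] Submodule.comap L₁'.subtype L₁).toLinearMap := by
      ext y
      rfl
    rw [hcomp, LinearMap.lTensor_comp, LinearMap.lTensor_comp]
    refine (ih L₁' hL₁'').comp (hstep.comp ?_)
    exact (LinearEquiv.lTensor P ((Submodule.comapSubtypeEquivOfLe hL₁''.le).symm :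
          L₁ ≃ₗ[R] Submodule.comap L₁'.subtype L₁)).injective

theorem isArtinian_quot_maximalIdeal_pow {R : Type u} [CommRing R] [IsNoetherianRing R]
    [IsLocalRing R] (n : ℕ) :
    IsArtinian R (R ⧸ (IsLocalRing.maximalIdeal R) ^ n) := by
  have h0 : Ring.KrullDimLE 0 (R ⧸ (IsLocalRing.maximalIdeal R) ^ n) := by
    rw [Ideal.krullDimLE_zero_quotient_iff_forall_minimalPrimes_isMaximal]
    intro J hJ
    have hJp : J.IsPrime := hJ.1.1
    have hle : IsLocalRing.maximalIdeal R ≤ J := hJp.le_of_pow_le hJ.1.2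
    have : J = IsLocalRing.maximalIdeal R :=
      le_antisymm (IsLocalRing.le_maximalIdeal hJp.ne_top) hle
    rw [this]
    infer_instance
  have h1 : IsArtinianRing (R ⧸ (IsLocalRing.maximalIdeal R) ^ n) :=
    isArtinianRing_iff_krullDimLE_zero.mpr h0
  exact isArtinian_of_surjective_algebraMap (R := R ⧸ (IsLocalRing.maximalIdeal R) ^ n)
    (S := R) Ideal.Quotient.mk_surjective

/-- Snake-type lemma: `0 → M → N → P → 0` exact with `N` flat, `q : A → K` surjective with kernel `I`.
If `K ⊗ M → K ⊗ N` is injective, then `P ⊗ I → P ⊗ A` is injective. -/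
theorem lTensor_inj_of_exact {A : Type u} [CommRing A] {M N P : Type v} [AddCommGroup M]
    [AddCommGroup N] [AddCommGroup P] [Module A M] [Module A N] [Module A P] [Module.Flat A N]
    (f : M →ₗ[A] N) (g : N →ₗ[A] P) (hg : Function.Surjective g) (hfg : Function.Exact f g)
    {K : Type w} [AddCommGroup K] [Module A K] (q : A →ₗ[A] K) (hq : Function.Surjective q)
    (I : Ideal A) (hI : LinearMap.ker q = I)
    (h : Function.Injective (f.lTensor K)) :
    Function.Injective (LinearMap.lTensor P I.subtype) := by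
  have hIq : Function.Exact I.subtype q := by
    intro a
    rw [← LinearMap.mem_ker, hI]
    constructor
    · intro ha; exact ⟨⟨a, ha⟩, rfl⟩
    · rintro ⟨b, rfl⟩; exact b.2
  have h' : Function.Injective (f.rTensor K) := (LinearMap.lTensor_inj_iff_rTensor_inj _ _).mp h
  rw [injective_iff_map_eq_zero]
  intro z hz
  obtain ⟨y, rfl⟩ := LinearMap.rTensor_surjective I hg z
  -- step 2
  have e2 : g.rTensor A (LinearMap.lTensor N I.subtype y) = 0 := by
    rw [← LinearMap.comp_apply, LinearMap.rTensor_comp_lTensor, ← LinearMap.lTensor_comp_rTensor,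
      LinearMap.comp_apply, hz]
  obtain ⟨m', hm'⟩ := (rTensor_exact A hfg hg _).mp e2
  -- step 3
  have e3 : f.rTensor K (LinearMap.lTensor M q m') = 0 := by
    rw [← LinearMap.comp_apply, LinearMap.rTensor_comp_lTensor, ← LinearMap.lTensor_comp_rTensor,
      LinearMap.comp_apply, hm', ← LinearMap.comp_apply, ← LinearMap.lTensor_comp]
    have : q ∘ₗ I.subtype = 0 := by
      ext a
      exact (hIq _).mpr ⟨a, rfl⟩
    rw [this, LinearMap.lTensor_zero, LinearMap.zero_apply]
  have e3' : LinearMap.lTensor M q m' = 0 := h' (by rw [e3, map_zero])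
  obtain ⟨x, hx⟩ := (lTensor_exact M hIq hq _).mp e3'
  -- step 5
  have e5 : LinearMap.lTensor N I.subtype (f.rTensor I x) = LinearMap.lTensor N I.subtype y := by
    rw [← LinearMap.comp_apply, LinearMap.lTensor_comp_rTensor, ← LinearMap.rTensor_comp_lTensor,
      LinearMap.comp_apply, hx, hm']
  have e6 : f.rTensor I x = y :=
    Module.Flat.lTensor_preserves_injective_linearMap _ Subtype.val_injective e5
  rw [← e6, ← LinearMap.comp_apply, ← LinearMap.rTensor_comp]
  have : g ∘ₗ f = 0 := by
    ext a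
    exact (hfg _).mpr ⟨a, rfl⟩
  rw [this, LinearMap.rTensor_zero, LinearMap.zero_apply]

/-- Over an Artinian local ring, `Tor₁(k, P) = 0` (in the form `P ⊗ m → P ⊗ A` injective) implies
`P` flat. -/
theorem flat_of_lTensor_maximalIdeal_inj {A : Type u} [CommRing A] [IsLocalRing A]
    [IsArtinianRing A] (P : Type v) [AddCommGroup P] [Module A P]
    (hP : Function.Injective (LinearMap.lTensor P (IsLocalRing.maximalIdeal A).subtype)) :
    Module.Flat A P := by
  rw [Module.Flat.iff_lTensor_injective']
  intro I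
  exact inj_of_finiteLength P hP (L := A) I

/-- In a short exact sequence `0 → M → N → P → 0` with `N` and `P` flat, `M` is flat. -/
theorem flat_of_exact_left {R : Type u} [CommRing R] {M N P : Type v} [AddCommGroup M]
    [AddCommGroup N] [AddCommGroup P] [Module R M] [Module R N] [Module R P] [Module.Flat R N]
    [Module.Flat R P] (g : M →ₗ[R] N) (f : N →ₗ[R] P) (hg : Function.Injective g)
    (hf : Function.Surjective f) (H : Function.Exact g f) : Module.Flat R M := by
  rw [Module.Flat.iff_rTensor_preserves_injective_linearMap]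
  intro A' A _ _ _ _ u hu
  have h1 : Function.Injective (g.lTensor A') :=
    LinearMap.lTensor_injective_of_exact_of_flat f hf g hg H A'
  have h2 : Function.Injective (u.rTensor N) :=
    Module.Flat.rTensor_preserves_injective_linearMap u hu
  have h3 : (u.rTensor N).comp (g.lTensor A') = (g.lTensor A).comp (u.rTensor M) := by
    rw [LinearMap.rTensor_comp_lTensor, LinearMap.lTensor_comp_rTensor]
  have h4 : Function.Injective ((g.lTensor A).comp (u.rTensor M)) := by
    rw [← h3]
    exact h2.comp h1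
  rw [LinearMap.coe_comp] at h4
  exact Function.Injective.of_comp h4

section nak
variable {R : Type u} [CommRing R] (I : Ideal R) {M : Type v} [AddCommGroup M] [Module R M]

lemma one_tmul_eq_zero_iff (x : M) : (1 : R ⧸ I) ⊗ₜ[R] x = 0 ↔ x ∈ I • (⊤ : Submodule R M) := by
  rw [← (TensorProduct.quotTensorEquivQuotSMul M I).map_eq_zero_iff,
    TensorProduct.quotTensorEquivQuotSMul_mk_one_tmul, Submodule.Quotient.mk_eq_zero]

lemma exists_one_tmul (t : (R ⧸ I) ⊗[R] M) : ∃ x : M, (1 : R ⧸ I) ⊗ₜ[R] x = t := by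
  obtain ⟨x, hx⟩ := Submodule.Quotient.mk_surjective _ (TensorProduct.quotTensorEquivQuotSMul M I t)
  refine ⟨x, ?_⟩
  rw [← TensorProduct.quotTensorEquivQuotSMul_symm_mk, hx, LinearEquiv.symm_apply_apply]

lemma nak (N : Submodule R M) (h : ⊤ ≤ N ⊔ I • (⊤ : Submodule R M)) (k : ℕ) :
    ⊤ ≤ N ⊔ I ^ k • (⊤ : Submodule R M) := by
  induction k with
  | zero =>
    rw [pow_zero, Ideal.one_eq_top, Submodule.top_smul]
    exact le_sup_right
  | succ k ih =>
    calc (⊤ : Submodule R M) ≤ N ⊔ I • (⊤ : Submodule R M) := h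
      _ ≤ N ⊔ I • (N ⊔ I ^ k • (⊤ : Submodule R M)) :=
        sup_le_sup_left (Submodule.smul_mono le_rfl ih) _
      _ = N ⊔ (I • N ⊔ I • (I ^ k • (⊤ : Submodule R M))) := by rw [Submodule.smul_sup]
      _ ≤ N ⊔ I ^ (k + 1) • (⊤ : Submodule R M) := by
        rw [← Submodule.mul_smul, ← pow_succ']
        exact sup_le le_sup_left (sup_le (Submodule.smul_le_right.trans le_sup_left) le_sup_right)

/-- Nakayama for a nilpotent ideal. -/
lemma top_le_of_isNilpotent (hI : IsNilpotent I) (N : Submodule R M)
    (h : ⊤ ≤ N ⊔ I • (⊤ : Submodule R M)) : ⊤ ≤ N := by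
  obtain ⟨k, hk⟩ := hI
  have := nak I N h k
  rwa [hk, Ideal.zero_eq_bot, Submodule.bot_smul, sup_bot_eq] at this

end nak

lemma isNilpotent_maximalIdeal (A : Type u) [CommRing A] [IsLocalRing A] [IsArtinianRing A] :
    IsNilpotent (IsLocalRing.maximalIdeal A) := by
  have := IsArtinianRing.isNilpotent_jacobson_bot (R := A)
  rwa [IsLocalRing.jacobson_eq_maximalIdeal ⊥ bot_ne_top] at this

end Groth.Agent.H21
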