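import Mathlib
import Groth.Agent.Lib.helper21.LocalCrit

/-!
# Matsumura 22.5 / Stacks 00ME (helper21)

`R → S` local homomorphism of local rings, `S` Noetherian, `N` a finite `S`-module, `M` a flat
`R`-module, `u : N →ₗ[R] M` with `k ⊗ u` injective. Then `u` is injective and `M / u(N)` is flat.
-/

set_option autoImplicit false
universe u

namespace Groth.Agent.H21

open TensorProduct

section
variable {R : Type u} [CommRing R] {M N : Type u} [AddCommGroup M] [Module R M] [Module.Flat R M]
  [AddCommGroup N] [Module R N] (u : N →ₗ[R] M)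

/-- extension step -/
theorem phi_ext {L' L L'' : Type u} [AddCommGroup L'] [AddCommGroup L] [AddCommGroup L'']
    [Module R L'] [Module R L] [Module R L''] (f : L' →ₗ[R] L) (g : L →ₗ[R] L'')
    (hf : Function.Injective f) (hg : Function.Surjective g) (hfg : Function.Exact f g)
    (h' : Function.Injective (u.lTensor L')) (h'' : Function.Injective (u.lTensor L'')) :
    Function.Injective (u.lTensor L) := by
  rw [injective_iff_map_eq_zero]
  intro z hz
  have e1 : u.lTensor L'' (g.rTensor N z) = 0 := by
    rw [← LinearMap.comp_apply, LinearMap.lTensor_comp_rTensor, ← LinearMap.rTensor_comp_lTensor,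
      LinearMap.comp_apply, hz, map_zero]
  have e2 : g.rTensor N z = 0 := h'' (by rw [e1, map_zero])
  obtain ⟨z', rfl⟩ := (rTensor_exact N hfg hg z).mp e2
  have e3 : f.rTensor M (u.lTensor L' z') = 0 := by
    rw [← LinearMap.comp_apply, LinearMap.rTensor_comp_lTensor, ← LinearMap.lTensor_comp_rTensor,
      LinearMap.comp_apply, hz]
  have e4 : u.lTensor L' z' = 0 :=
    Module.Flat.rTensor_preserves_injective_linearMap f hf (by rw [e3, map_zero])
  have : z' = 0 := h' (by rw [e4, map_zero])
  rw [this, map_zero]

end

section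
variable {R : Type u} [CommRing R] [IsLocalRing R] {M N : Type u} [AddCommGroup M] [Module R M]
  [AddCommGroup N] [Module R N] (u : N →ₗ[R] M)

/-- `Φ(L)` for `L` a vector space over the residue field. -/
theorem phi_of_residue_module
    (h : Function.Injective (u.lTensor (R ⧸ IsLocalRing.maximalIdeal R)))
    (L : Type u) [AddCommGroup L] [Module R L] [Module (R ⧸ IsLocalRing.maximalIdeal R) L]
    [IsScalarTower R (R ⧸ IsLocalRing.maximalIdeal R) L] :
    Function.Injective (u.lTensor L) := by
  let k := R ⧸ IsLocalRing.maximalIdeal R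
  letI : Field k := Ideal.Quotient.field (IsLocalRing.maximalIdeal R)
  let eN := AlgebraTensorModule.cancelBaseChange R k k L N
  let eM := AlgebraTensorModule.cancelBaseChange R k k L M
  have hb : Function.Injective (u.baseChange k) := h
  have hflat : Function.Injective ((u.baseChange k).lTensor L) :=
    Module.Flat.lTensor_preserves_injective_linearMap _ hb
  have nat : ∀ z, eM ((u.baseChange k).lTensor L z) = u.lTensor L (eN z) := by
    intro z
    induction z using TensorProduct.induction_on with
    | zero => simp
    | add x y hx hy => simp only [map_add, hx, hy]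
    | tmul l w =>
      induction w using TensorProduct.induction_on with
      | zero => simp
      | add x y hx hy => simp only [tmul_add, map_add, hx, hy]
      | tmul c n => simp [eN, eM]
  intro x y hxy
  obtain ⟨x', rfl⟩ := eN.surjective x
  obtain ⟨y', rfl⟩ := eN.surjective y
  rw [← nat, ← nat] at hxy
  rw [hflat (eM.injective hxy)]

variable [Module.Flat R M]

/-- `Φ(L)` for `L` killed by a power of the maximal ideal. -/
theorem phi_of_pow_smul_eq_bot
    (h : Function.Injective (u.lTensor (R ⧸ IsLocalRing.maximalIdeal R))) (n : ℕ) :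
    ∀ (L : Type u) [AddCommGroup L] [Module R L],
      (IsLocalRing.maximalIdeal R) ^ n • (⊤ : Submodule R L) = ⊥ →
      Function.Injective (u.lTensor L) := by
  induction n with
  | zero =>
    intro L _ _ hL
    rw [pow_zero, Ideal.one_eq_top, Submodule.top_smul] at hL
    have : Subsingleton L := by
      refine ⟨fun a b => ?_⟩
      have ha : a ∈ (⊥ : Submodule R L) := hL ▸ Submodule.mem_top
      have hb : b ∈ (⊥ : Submodule R L) := hL ▸ Submodule.mem_top
      rw [Submodule.mem_bot] at ha hb
      rw [ha, hb]
    intro x y _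
    exact Subsingleton.elim _ _
  | succ n ih =>
    intro L _ _ hL
    set m := IsLocalRing.maximalIdeal R with hm
    set L' : Submodule R L := m • ⊤ with hL'
    have h1 : m ^ n • (⊤ : Submodule R L') = ⊥ := by
      apply Submodule.map_injective_of_injective (f := L'.subtype) Subtype.val_injective
      rw [Submodule.map_smul'', Submodule.map_subtype_top, Submodule.map_bot, hL',
        ← Submodule.mul_smul, ← pow_succ, hL]
    have h' := ih L' h1
    have h'' : Function.Injective (u.lTensor (L ⧸ L')) :=
      phi_of_residue_module u h (L ⧸ L')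
    have hex : Function.Exact L'.subtype L'.mkQ := by
      intro y
      rw [Submodule.mkQ_apply, Submodule.Quotient.mk_eq_zero]
      constructor
      · intro hy; exact ⟨⟨y, hy⟩, rfl⟩
      · rintro ⟨z, rfl⟩; exact z.2
    exact phi_ext u L'.subtype L'.mkQ Subtype.val_injective (Submodule.mkQ_surjective _) hex h' h''

end

section
variable {R S : Type u} [CommRing R] [CommRing S] [Algebra R S] {N : Type u} [AddCommGroup N]
  [Module R N] [Module S N] [IsScalarTower R S N]

theorem mem_map_smul_of_mem_smul (J : Ideal R) {x : N} (hx : x ∈ J • (⊤ : Submodule R N)) :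
    x ∈ (J.map (algebraMap R S)) • (⊤ : Submodule S N) := by
  refine Submodule.smul_induction_on
    (p := fun x : N => x ∈ (J.map (algebraMap R S)) • (⊤ : Submodule S N)) hx ?_ ?_
  · intro j hj n _
    show j • n ∈ _
    rw [← algebraMap_smul S j n]
    exact Submodule.smul_mem_smul (Ideal.mem_map_of_mem _ hj) Submodule.mem_top
  · intro y z hy hz
    exact Submodule.add_mem _ hy hz

theorem mem_smul_of_mem_map_smul (J : Ideal R) {x : N}
    (hx : x ∈ (J.map (algebraMap R S)) • (⊤ : Submodule S N)) :
    x ∈ J • (⊤ : Submodule R N) := by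
  refine Submodule.smul_induction_on
    (p := fun x : N => x ∈ J • (⊤ : Submodule R N)) hx ?_ ?_
  · intro s hs n _
    show s • n ∈ _
    have key : ∀ s ∈ J.map (algebraMap R S), ∀ n : N, s • n ∈ J • (⊤ : Submodule R N) := by
      intro s hs
      refine Submodule.span_induction
        (p := fun s _ => ∀ n : N, s • n ∈ J • (⊤ : Submodule R N)) ?_ ?_ ?_ ?_ hs
      · rintro _ ⟨j, hj, rfl⟩ n
        rw [algebraMap_smul]
        exact Submodule.smul_mem_smul hj Submodule.mem_top
      · intro n; rw [zero_smul]; exact Submodule.zero_mem _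
      · intro a b _ _ ha hb n
        rw [add_smul]; exact Submodule.add_mem _ (ha n) (hb n)
      · intro t a _ ha n
        rw [smul_eq_mul, mul_comm, mul_smul]
        exact ha (t • n)
    exact key s hs n
  · intro y z hy hz
    exact Submodule.add_mem _ hy hz

end

section
variable {R S M N : Type u} [CommRing R] [CommRing S] [IsLocalRing R] [IsLocalRing S]
  [IsNoetherianRing S] [Algebra R S] [IsLocalHom (algebraMap R S)]
  [AddCommGroup M] [Module R M] [Module.Flat R M]
  [AddCommGroup N] [Module R N] [Module S N] [IsScalarTower R S N] [Module.Finite S N]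
  (u : N →ₗ[R] M)

include S in
/-- The key statement: `u⁻¹(I M) = I N` for every ideal `I`. -/
theorem mat225_key (h : Function.Injective (u.lTensor (R ⧸ IsLocalRing.maximalIdeal R)))
    (I : Ideal R) (x : N) (hx : u x ∈ I • (⊤ : Submodule R M)) :
    x ∈ I • (⊤ : Submodule R N) := by
  set m := IsLocalRing.maximalIdeal R with hm
  -- Step D
  have hD : ∀ n : ℕ, x ∈ (I ⊔ m ^ n) • (⊤ : Submodule R N) := by
    intro n
    have hJ : m ^ n • (⊤ : Submodule R (R ⧸ (I ⊔ m ^ n))) = ⊥ := by
      rw [eq_bot_iff]
      refine Submodule.smul_le.mpr (fun a ha y _ => ?_)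
      obtain ⟨b, rfl⟩ := Ideal.Quotient.mk_surjective y
      rw [Submodule.mem_bot, Algebra.smul_def, Ideal.Quotient.algebraMap_eq, ← map_mul,
        Ideal.Quotient.eq_zero_iff_mem]
      exact Ideal.mul_mem_right _ _ (le_sup_right (a := I) ha)
    have hΦ := phi_of_pow_smul_eq_bot u h n (R ⧸ (I ⊔ m ^ n)) hJ
    have h1 : (1 : R ⧸ (I ⊔ m ^ n)) ⊗ₜ[R] u x = 0 := by
      rw [one_tmul_eq_zero_iff]
      exact Submodule.smul_mono le_sup_left le_rfl hx
    have h2 : u.lTensor (R ⧸ (I ⊔ m ^ n)) ((1 : R ⧸ (I ⊔ m ^ n)) ⊗ₜ[R] x) = 0 := by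
      rw [LinearMap.lTensor_tmul]; exact h1
    have h3 : (1 : R ⧸ (I ⊔ m ^ n)) ⊗ₜ[R] x = 0 := hΦ (by rw [h2, map_zero])
    exact (one_tmul_eq_zero_iff _ _).mp h3
  -- Step E
  set IS := I.map (algebraMap R S) with hIS
  set Q : Submodule S N := IS • (⊤ : Submodule S N) with hQ
  have hbot := Ideal.iInf_pow_smul_eq_bot_of_isLocalRing (M := N ⧸ Q)
    (IsLocalRing.maximalIdeal S) (Ideal.IsPrime.ne_top inferInstance)
  have hmem : (Submodule.Quotient.mk x : N ⧸ Q) ∈
      (⨅ i : ℕ, (IsLocalRing.maximalIdeal S) ^ i • ⊤ : Submodule S (N ⧸ Q)) := by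
    rw [Submodule.mem_iInf]
    intro n
    have hxn := hD n
    rw [Submodule.sup_smul] at hxn
    obtain ⟨a, ha, b, hb, rfl⟩ := Submodule.mem_sup.mp hxn
    have ha' : (Submodule.Quotient.mk a : N ⧸ Q) = 0 := by
      rw [Submodule.Quotient.mk_eq_zero]
      exact mem_map_smul_of_mem_smul (S := S) I ha
    rw [Submodule.Quotient.mk_add, ha', zero_add]
    have hb' : b ∈ (IsLocalRing.maximalIdeal S) ^ n • (⊤ : Submodule S N) := by
      have := mem_map_smul_of_mem_smul (S := S) (m ^ n) hb
      refine Submodule.smul_mono ?_ le_rfl this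
      rw [Ideal.map_pow]
      exact Ideal.pow_right_mono (IsLocalRing.map_maximalIdeal_le (algebraMap R S)) n
    have : (Submodule.Quotient.mk b : N ⧸ Q) ∈ Submodule.map Q.mkQ
        ((IsLocalRing.maximalIdeal S) ^ n • (⊤ : Submodule S N)) := ⟨b, hb', rfl⟩
    rw [Submodule.map_smul''] at this
    exact Submodule.smul_mono le_rfl le_top this
  rw [hbot, Submodule.mem_bot, Submodule.Quotient.mk_eq_zero] at hmem
  exact mem_smul_of_mem_map_smul (S := S) I hmem

include S in
theorem mat225_injective (h : Function.Injective (u.lTensor (R ⧸ IsLocalRing.maximalIdeal R))) :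
    Function.Injective u := by
  rw [injective_iff_map_eq_zero]
  intro x hx
  have := mat225_key (S := S) u h ⊥ x (by rw [hx]; exact Submodule.zero_mem _)
  rwa [Submodule.bot_smul, Submodule.mem_bot] at this

include S in
theorem mat225_flat (h : Function.Injective (u.lTensor (R ⧸ IsLocalRing.maximalIdeal R))) :
    Module.Flat R (M ⧸ LinearMap.range u) := by
  have hinj := mat225_injective (S := S) u h
  rw [Module.Flat.iff_lTensor_injective']
  intro I
  have hex : Function.Exact u (LinearMap.range u).mkQ := by
    intro y
    rw [Submodule.mkQ_apply, Submodule.Quotient.mk_eq_zero]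
    rfl
  have hΦ : Function.Injective (u.lTensor (R ⧸ I)) := by
    rw [injective_iff_map_eq_zero]
    intro z hz
    obtain ⟨x, rfl⟩ := exists_one_tmul I z
    rw [LinearMap.lTensor_tmul, one_tmul_eq_zero_iff] at hz
    rw [one_tmul_eq_zero_iff]
    exact mat225_key (S := S) u h I x hz
  refine lTensor_inj_of_exact u (LinearMap.range u).mkQ (Submodule.mkQ_surjective _) hex
    (I.mkQ) (Submodule.mkQ_surjective _) I ?_ hΦ
  exact Submodule.ker_mkQ I

end

/-- If `M` is flat over `R` and faithfully flat over the `R`-algebra `S`, then `S` is flat over `R`. -/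
theorem flat_of_faithfullyFlat_module {R S M : Type u} [CommRing R] [CommRing S] [Algebra R S]
    [AddCommGroup M] [Module R M] [Module S M] [IsScalarTower R S M] [Module.Flat R M]
    [Module.FaithfullyFlat S M] : Module.Flat R S := by
  rw [Module.Flat.iff_lTensor_preserves_injective_linearMap]
  intro N' N _ _ _ _ f hf
  let e' := AlgebraTensorModule.cancelBaseChange R S S M N'
  let e := AlgebraTensorModule.cancelBaseChange R S S M N
  have nat : ∀ z, e ((f.baseChange S).lTensor M z) = f.lTensor M (e' z) := by
    intro z
    induction z using TensorProduct.induction_on with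
    | zero => simp
    | add x y hx hy => simp only [map_add, hx, hy]
    | tmul l w =>
      induction w using TensorProduct.induction_on with
      | zero => simp
      | add x y hx hy => simp only [tmul_add, map_add, hx, hy]
      | tmul c n => simp [e, e']
  have hflat : Function.Injective (f.lTensor M) :=
    Module.Flat.lTensor_preserves_injective_linearMap f hf
  have key : Function.Injective ((f.baseChange S).lTensor M) := by
    intro x y hxy
    apply e'.injective
    apply hflat
    rw [← nat, ← nat, hxy]
  exact (Module.FaithfullyFlat.lTensor_injective_iff_injective S M (f.baseChange S)).mp key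

end Groth.Agent.H21
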