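import Mathlib
import Groth.Prelude.Def_Wider

universe u
open CategoryTheory Opposite Limits

namespace Groth.Agent.H21.LC

section general
variable {ι : Type*} {V : Type*} [Category V] {c : ComplexShape ι} [HasZeroMorphisms V]

/-- `unop` of a morphism of complexes in the opposite category. -/
def unopMap {K L : HomologicalComplex Vᵒᵖ c} (ψ : K ⟶ L) : L.unop ⟶ K.unop :=
  (HomologicalComplex.unopFunctor V c).map ψ.op

lemma homologyUnop_hom_naturality {K L : HomologicalComplex Vᵒᵖ c} (ψ : K ⟶ L) (i : ι)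
    [K.HasHomology i] [L.HasHomology i] :
    HomologicalComplex.homologyMap (unopMap ψ) i ≫ (K.homologyUnop i).hom =
      (L.homologyUnop i).hom ≫ (HomologicalComplex.homologyMap ψ i).unop := by
  have := HomologicalComplex.homologyOp_hom_naturality
    ((HomologicalComplex.unopFunctor V c).map ψ.op) i
  exact congrArg Quiver.Hom.unop this.symm

lemma homologyUnop_inv_naturality {K L : HomologicalComplex Vᵒᵖ c} (ψ : K ⟶ L) (i : ι)
    [K.HasHomology i] [L.HasHomology i] :
    (HomologicalComplex.homologyMap ψ i).unop ≫ (K.homologyUnop i).inv =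
      (L.homologyUnop i).inv ≫ HomologicalComplex.homologyMap (unopMap ψ) i := by
  rw [← cancel_mono (K.homologyUnop i).hom, Category.assoc, Category.assoc, Iso.inv_hom_id,
    Category.comp_id, homologyUnop_hom_naturality, Iso.inv_hom_id_assoc]

end general

variable {R : Type u} [CommRing R]

/-- `Hom(-,Y)` as a functor to the opposite category. -/
noncomputable abbrev GY (Y : ModuleCat.{u} R) : ModuleCat.{u} R ⥤ (ModuleCat.{u} R)ᵒᵖ :=
  ((linearYoneda R (ModuleCat.{u} R)).obj Y).rightOp

noncomputable abbrev GYmap {Y Y' : ModuleCat.{u} R} (g : Y ⟶ Y') : GY Y' ⟶ GY Y :=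
  NatTrans.rightOp ((linearYoneda R (ModuleCat.{u} R)).map g)

/-- map of Hom-complexes induced by `g : Y ⟶ Y'`. -/
noncomputable def yMap {X : ModuleCat.{u} R} (P : ProjectiveResolution X) {Y Y' : ModuleCat.{u} R}
    (g : Y ⟶ Y') : P.complex.linearYonedaObj R Y ⟶ P.complex.linearYonedaObj R Y' :=
  unopMap ((NatTrans.mapHomologicalComplex (GYmap g) _).app P.complex)

/-- map of Hom-complexes induced by a chain map. -/
noncomputable def xMap {X X' : ModuleCat.{u} R} {P : ProjectiveResolution X}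
    {P' : ProjectiveResolution X'} (φ : P'.complex ⟶ P.complex) (Y : ModuleCat.{u} R) :
    P.complex.linearYonedaObj R Y ⟶ P'.complex.linearYonedaObj R Y :=
  unopMap (((GY Y).mapHomologicalComplex _).map φ)

lemma yMap_f_apply {X : ModuleCat.{u} R} (P : ProjectiveResolution X) {Y Y' : ModuleCat.{u} R}
    (g : Y ⟶ Y') (n : ℕ) (a : P.complex.X n ⟶ Y) :
    ((yMap P g).f n).hom a = a ≫ g := rfl

lemma xMap_f_apply {X X' : ModuleCat.{u} R} {P : ProjectiveResolution X}
    {P' : ProjectiveResolution X'} (φ : P'.complex ⟶ P.complex) (Y : ModuleCat.{u} R)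
    (n : ℕ) (a : P.complex.X n ⟶ Y) :
    ((xMap φ Y).f n).hom a = φ.f n ≫ a := rfl

lemma isoExt_hom_eq {X : ModuleCat.{u} R} (P : ProjectiveResolution X) (n : ℕ)
    (Y : ModuleCat.{u} R) :
    (P.isoExt n Y).hom = (P.isoLeftDerivedObj (GY Y) n).inv.unop ≫
      (HomologicalComplex.homologyUnop (((GY Y).mapHomologicalComplex _).obj P.complex) n).inv :=
  rfl

lemma comp_square {D : Type*} [Category D] {A B B' C' C'' E : D} (a : A ⟶ B) (b : B ⟶ C')
    (c : C' ⟶ E) (b' : A ⟶ B') (m : B' ⟶ C') (c' : B' ⟶ C'') (d : C'' ⟶ E)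
    (e1 : a ≫ b = b' ≫ m) (e2 : m ≫ c = c' ≫ d) : a ≫ (b ≫ c) = (b' ≫ c') ≫ d := by
  rw [← Category.assoc, e1, Category.assoc, e2, Category.assoc]

lemma isoExt_naturality_right {X : ModuleCat.{u} R} (P : ProjectiveResolution X)
    {Y Y' : ModuleCat.{u} R} (g : Y ⟶ Y') (n : ℕ) :
    ((Ext R (ModuleCat.{u} R) n).obj (op X)).map g ≫ (P.isoExt n Y').hom =
      (P.isoExt n Y).hom ≫ HomologicalComplex.homologyMap (yMap P g) n := by
  have h2 := ProjectiveResolution.leftDerived_app_eq (GYmap g) P n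
  have h2' : (P.isoLeftDerivedObj (GY Y') n).inv ≫ (NatTrans.leftDerived (GYmap g) n).app X =
      (HomologicalComplex.homologyFunctor _ _ n).map
        ((NatTrans.mapHomologicalComplex (GYmap g) _).app P.complex) ≫
        (P.isoLeftDerivedObj (GY Y) n).inv := by
    rw [h2, Iso.inv_hom_id_assoc]
  have e1 := congrArg Quiver.Hom.unop h2'
  have h3 := homologyUnop_inv_naturality
    ((NatTrans.mapHomologicalComplex (GYmap g) _).app P.complex) n
  exact comp_square _ _ _ _ _ _ _ e1 h3

lemma isoExt_naturality_left {X X' : ModuleCat.{u} R} (f : X' ⟶ X) (P : ProjectiveResolution X)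
    (P' : ProjectiveResolution X') (φ : P'.complex ⟶ P.complex)
    (comm : φ.f 0 ≫ P.π.f 0 = P'.π.f 0 ≫ f)
    (Y : ModuleCat.{u} R) (n : ℕ) :
    ((Ext R (ModuleCat.{u} R) n).map f.op).app Y ≫ (P'.isoExt n Y).hom =
      (P.isoExt n Y).hom ≫ HomologicalComplex.homologyMap (xMap φ Y) n := by
  have h2 := ProjectiveResolution.isoLeftDerivedObj_inv_naturality f P' P φ comm (GY Y) n
  have e1 := congrArg Quiver.Hom.unop h2
  have h3 := homologyUnop_inv_naturality (((GY Y).mapHomologicalComplex _).map φ) n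
  exact comp_square _ _ _ _ _ _ _ e1 h3

end Groth.Agent.H21.LC
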