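import Mathlib
import Groth.Agent.Lib.helper21.LC1

universe u
open CategoryTheory Opposite Limits Abelian CochainComplex HomComplex

namespace Groth.Agent.H21.LC

variable {R : Type u} [CommRing R]

lemma extMk_smul {X Y : ModuleCat.{u} R} (P : ProjectiveResolution X) {n : ℕ} (r : R)
    (f : P.complex.X n ⟶ Y) (m : ℕ) (hm : n + 1 = m) (hf : P.complex.d m n ≫ f = 0) :
    P.extMk (r • f) m hm (by rw [Linear.comp_smul, hf, smul_zero]) = r • P.extMk f m hm hf := by
  have h1 : r • f = f ≫ (r • 𝟙 Y) := by rw [Linear.comp_smul, Category.comp_id]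
  have h2 := P.extMk_comp_mk₀ f m hm hf (r • 𝟙 Y)
  simp only [← h1] at h2
  rw [← h2, Ext.mk₀_smul, Ext.comp_smul, Ext.comp_mk₀_id]

/-- linear version of `extMk` along a linear map into cocycles. -/
noncomputable def extMkLin {X : ModuleCat.{u} R} (P : ProjectiveResolution X) (Y : ModuleCat.{u} R)
    (n : ℕ) {Z : Type*} [AddCommGroup Z] [Module R Z] (i : Z →ₗ[R] (P.complex.X n ⟶ Y))
    (hi : ∀ z, P.complex.d (n + 1) n ≫ i z = 0) : Z →ₗ[R] Ext X Y n where
  toFun z := P.extMk (i z) (n + 1) rfl (hi z)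
  map_add' z w := by
    rw [P.add_extMk]
    congr 1
    exact map_add i z w
  map_smul' r z := by
    rw [RingHom.id_apply, ← extMk_smul]
    congr 1
    exact map_smul i r z

@[simp] lemma extMkLin_apply {X : ModuleCat.{u} R} (P : ProjectiveResolution X) (Y : ModuleCat.{u} R)
    (n : ℕ) {Z : Type*} [AddCommGroup Z] [Module R Z] (i : Z →ₗ[R] (P.complex.X n ⟶ Y))
    (hi : ∀ z, P.complex.d (n + 1) n ≫ i z = 0) (z : Z) :
    extMkLin P Y n i hi z = P.extMk (i z) (n + 1) rfl (hi z) := rfl

/-- the cocycle-to-Ext map on the cycles of the Hom complex. -/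
noncomputable def θcyc {X : ModuleCat.{u} R} (P : ProjectiveResolution X) (Y : ModuleCat.{u} R)
    (n : ℕ) : (P.complex.linearYonedaObj R Y).cycles n ⟶ ModuleCat.of R (Ext X Y n) :=
  ModuleCat.ofHom (extMkLin P Y n ((P.complex.linearYonedaObj R Y).iCycles n).hom (fun z => by
    have := (P.complex.linearYonedaObj R Y).iCycles_d n (n + 1)
    exact congrArg (fun φ => φ.hom z) this))

lemma θcyc_apply {X : ModuleCat.{u} R} (P : ProjectiveResolution X) (Y : ModuleCat.{u} R)
    (n : ℕ) (z : (P.complex.linearYonedaObj R Y).cycles n) :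
    (θcyc P Y n).hom z = P.extMk (((P.complex.linearYonedaObj R Y).iCycles n).hom z) (n + 1) rfl
      (by
        have := (P.complex.linearYonedaObj R Y).iCycles_d n (n + 1)
        exact congrArg (fun φ => φ.hom z) this) := rfl

lemma extMk_congr {X Y : ModuleCat.{u} R} (P : ProjectiveResolution X) {n : ℕ}
    {f f' : P.complex.X n ⟶ Y} (h : f = f') (m : ℕ) (hm : n + 1 = m)
    (hf : P.complex.d m n ≫ f = 0) :
    P.extMk f m hm hf = P.extMk f' m hm (h ▸ hf) := by
  subst h; rfl

lemma extMk_d {X : ModuleCat.{u} R} (P : ProjectiveResolution X) (Y : ModuleCat.{u} R)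
    (j n : ℕ) (hj : j + 1 = n) (b : (P.complex.linearYonedaObj R Y).X j)
    (h : P.complex.d (n + 1) n ≫ (((P.complex.linearYonedaObj R Y).d j n).hom b) = 0) :
    P.extMk (((P.complex.linearYonedaObj R Y).d j n).hom b) (n + 1) rfl h = 0 :=
  (P.extMk_eq_zero_iff _ (n + 1) rfl h j hj).2 ⟨b, rfl⟩

lemma extMk_of_boundary {X : ModuleCat.{u} R} (P : ProjectiveResolution X) (Y : ModuleCat.{u} R)
    (n : ℕ) (b : (P.complex.linearYonedaObj R Y).X ((ComplexShape.up ℕ).prev n))
    (h : P.complex.d (n + 1) n ≫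
      (((P.complex.linearYonedaObj R Y).d ((ComplexShape.up ℕ).prev n) n).hom b) = 0) :
    P.extMk (((P.complex.linearYonedaObj R Y).d ((ComplexShape.up ℕ).prev n) n).hom b)
      (n + 1) rfl h = 0 := by
  rcases n with _ | m
  · have hd : (P.complex.linearYonedaObj R Y).d ((ComplexShape.up ℕ).prev 0) 0 = 0 :=
      (P.complex.linearYonedaObj R Y).shape _ _ (by simp)
    have h0 : ((P.complex.linearYonedaObj R Y).d ((ComplexShape.up ℕ).prev 0) 0).hom b = 0 := by
      rw [hd]; rfl
    rw [extMk_congr P h0]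
    exact P.extMk_zero _ _
  · generalize hp : (ComplexShape.up ℕ).prev (m + 1) = p at b h ⊢
    have hpm : p = m := by simpa using hp.symm
    subst hpm
    exact extMk_d P Y p (p + 1) rfl b h

lemma toCycles_θcyc {X : ModuleCat.{u} R} (P : ProjectiveResolution X) (Y : ModuleCat.{u} R)
    (n : ℕ) : ((P.complex.linearYonedaObj R Y).sc n).toCycles ≫ θcyc P Y n = 0 := by
  refine ModuleCat.hom_ext (LinearMap.ext fun b => ?_)
  have hb : ((P.complex.linearYonedaObj R Y).iCycles n).hom
      ((((P.complex.linearYonedaObj R Y).sc n).toCycles).hom b) =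
      ((P.complex.linearYonedaObj R Y).d ((ComplexShape.up ℕ).prev n) n).hom b :=
    congrArg (fun φ => φ.hom b)
      ((P.complex.linearYonedaObj R Y).toCycles_i ((ComplexShape.up ℕ).prev n) n)
  have hz : P.complex.d (n + 1) n ≫ ((P.complex.linearYonedaObj R Y).iCycles n).hom
      ((((P.complex.linearYonedaObj R Y).sc n).toCycles).hom b) = 0 :=
    congrArg (fun φ => φ.hom ((((P.complex.linearYonedaObj R Y).sc n).toCycles).hom b))
      ((P.complex.linearYonedaObj R Y).iCycles_d n (n + 1))
  exact (extMk_congr P hb (n + 1) rfl hz).trans (extMk_of_boundary P Y n b (hb ▸ hz))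

/-- the comparison from the homology of the Hom complex to `Ext`. -/
noncomputable def θ {X : ModuleCat.{u} R} (P : ProjectiveResolution X) (Y : ModuleCat.{u} R)
    (n : ℕ) : (P.complex.linearYonedaObj R Y).homology n ⟶ ModuleCat.of R (Ext X Y n) :=
  ((P.complex.linearYonedaObj R Y).sc n).descHomology (θcyc P Y n) (toCycles_θcyc P Y n)

lemma π_θ {X : ModuleCat.{u} R} (P : ProjectiveResolution X) (Y : ModuleCat.{u} R) (n : ℕ) :
    (P.complex.linearYonedaObj R Y).homologyπ n ≫ θ P Y n = θcyc P Y n :=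
  ShortComplex.π_descHomology _ _ _

lemma θ_π_apply {X : ModuleCat.{u} R} (P : ProjectiveResolution X) (Y : ModuleCat.{u} R) (n : ℕ)
    (z : (P.complex.linearYonedaObj R Y).cycles n) :
    (θ P Y n).hom (((P.complex.linearYonedaObj R Y).homologyπ n).hom z) = (θcyc P Y n).hom z :=
  congrArg (fun φ => φ.hom z) (π_θ P Y n)

lemma eq_zero_of_extMk_zero {X Y : ModuleCat.{u} R} (P : ProjectiveResolution X)
    (f : P.complex.X 0 ⟶ Y) (hf : P.complex.d 1 0 ≫ f = 0) (h : P.extMk f 1 rfl hf = 0) :
    f = 0 := by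
  simp only [← P.extEquivCohomologyClass.apply_eq_iff_eq,
    ProjectiveResolution.extEquivCohomologyClass_extMk,
    ProjectiveResolution.extEquivCohomologyClass_zero,
    CohomologyClass.mk_eq_zero_iff] at h
  rw [Cocycle.toSingleMk_mem_coboundaries_iff _ _ _ _ _ 1 (by simp)] at h
  obtain ⟨g, hg⟩ := h
  have hz : IsZero (P.cochainComplex.X 1) := by
    exact CochainComplex.isZero_of_isStrictlyLE P.cochainComplex 0 1 (by simp)
  have hg0 : g = 0 := hz.eq_of_src _ _
  rw [hg0, Limits.comp_zero] at hg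
  rw [← cancel_epi (P.cochainComplexXIso (-(0 : ℕ)) 0 rfl).hom, Limits.comp_zero]
  exact hg.symm


lemma θ_injective {X : ModuleCat.{u} R} (P : ProjectiveResolution X) (Y : ModuleCat.{u} R)
    (n : ℕ) : Function.Injective (θ P Y n).hom := by
  rw [← LinearMap.ker_eq_bot, LinearMap.ker_eq_bot']
  intro x hx
  obtain ⟨z, rfl⟩ := (ModuleCat.epi_iff_surjective _).1
    (inferInstance : Epi ((P.complex.linearYonedaObj R Y).homologyπ n)) x
  rw [θ_π_apply, θcyc_apply] at hx
  have hinj : Function.Injective ((P.complex.linearYonedaObj R Y).iCycles n).hom :=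
    (ModuleCat.mono_iff_injective _).1 inferInstance
  rcases n with _ | m
  · have h0 := eq_zero_of_extMk_zero P _ _ hx
    have hz : z = 0 := hinj (h0.trans (map_zero _).symm)
    rw [hz, map_zero]
  · obtain ⟨g, hg⟩ := (P.extMk_eq_zero_iff _ (m + 1 + 1) rfl _ m rfl).1 hx
    have h1 : ((P.complex.linearYonedaObj R Y).iCycles (m + 1)).hom
        (((P.complex.linearYonedaObj R Y).toCycles m (m + 1)).hom g) =
        ((P.complex.linearYonedaObj R Y).d m (m + 1)).hom g :=
      congrArg (fun φ => φ.hom g) ((P.complex.linearYonedaObj R Y).toCycles_i m (m + 1))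
    have hz : z = ((P.complex.linearYonedaObj R Y).toCycles m (m + 1)).hom g :=
      hinj (h1.trans hg).symm
    rw [hz]
    exact congrArg (fun φ => φ.hom g)
      ((P.complex.linearYonedaObj R Y).toCycles_comp_homologyπ m (m + 1))

lemma θ_surjective {X : ModuleCat.{u} R} (P : ProjectiveResolution X) (Y : ModuleCat.{u} R)
    (n : ℕ) : Function.Surjective (θ P Y n).hom := by
  intro α
  obtain ⟨f, hf, rfl⟩ := P.extMk_surjective α (n + 1) rfl
  let k : ModuleCat.of R R ⟶ (P.complex.linearYonedaObj R Y).X n :=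
    ModuleCat.ofHom (LinearMap.toSpanSingleton R (P.complex.X n ⟶ Y) f)
  have hk : k ≫ (P.complex.linearYonedaObj R Y).d n (n + 1) = 0 := by
    refine ModuleCat.hom_ext (LinearMap.ext_ring ?_)
    show P.complex.d (n + 1) n ≫ ((1 : R) • f) = 0
    rw [one_smul, hf]
  let z := ((P.complex.linearYonedaObj R Y).liftCycles k (n + 1) (by simp) hk).hom (1 : R)
  have hz : ((P.complex.linearYonedaObj R Y).iCycles n).hom z = f := by
    have := congrArg (fun φ => φ.hom (1 : R))
      ((P.complex.linearYonedaObj R Y).liftCycles_i k (n + 1) (by simp) hk)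
    refine this.trans ?_
    show (1 : R) • f = f
    rw [one_smul]
  refine ⟨((P.complex.linearYonedaObj R Y).homologyπ n).hom z, ?_⟩
  rw [θ_π_apply, θcyc_apply]
  exact (extMk_congr P hz (n + 1) rfl _)

lemma θ_yMap {X : ModuleCat.{u} R} (P : ProjectiveResolution X) {Y Y' : ModuleCat.{u} R}
    (g : Y ⟶ Y') (n : ℕ) (w : (P.complex.linearYonedaObj R Y).homology n) :
    (θ P Y' n).hom ((HomologicalComplex.homologyMap (yMap P g) n).hom w) =
      ((θ P Y n).hom w).comp (Ext.mk₀ g) (add_zero n) := by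
  obtain ⟨z, rfl⟩ := (ModuleCat.epi_iff_surjective _).1
    (inferInstance : Epi ((P.complex.linearYonedaObj R Y).homologyπ n)) w
  have h1 : (HomologicalComplex.homologyMap (yMap P g) n).hom
      (((P.complex.linearYonedaObj R Y).homologyπ n).hom z) =
      ((P.complex.linearYonedaObj R Y').homologyπ n).hom
        ((HomologicalComplex.cyclesMap (yMap P g) n).hom z) :=
    congrArg (fun φ => φ.hom z) (HomologicalComplex.homologyπ_naturality (yMap P g) n)
  have h2 : ((P.complex.linearYonedaObj R Y').iCycles n).hom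
      ((HomologicalComplex.cyclesMap (yMap P g) n).hom z) =
      ((P.complex.linearYonedaObj R Y).iCycles n).hom z ≫ g :=
    congrArg (fun φ => φ.hom z) (HomologicalComplex.cyclesMap_i (yMap P g) n)
  rw [h1, θ_π_apply, θ_π_apply, θcyc_apply, θcyc_apply, P.extMk_comp_mk₀]
  exact extMk_congr P h2 (n + 1) rfl _

lemma θ_xMap {X X' : ModuleCat.{u} R} {f : X' ⟶ X} {P : ProjectiveResolution X}
    {P' : ProjectiveResolution X'} (φ : ProjectiveResolution.Hom P' P f) (Y : ModuleCat.{u} R)
    (n : ℕ) (w : (P.complex.linearYonedaObj R Y).homology n) :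
    (θ P' Y n).hom ((HomologicalComplex.homologyMap (xMap φ.hom Y) n).hom w) =
      (Ext.mk₀ f).comp ((θ P Y n).hom w) (zero_add n) := by
  obtain ⟨z, rfl⟩ := (ModuleCat.epi_iff_surjective _).1
    (inferInstance : Epi ((P.complex.linearYonedaObj R Y).homologyπ n)) w
  have h1 : (HomologicalComplex.homologyMap (xMap φ.hom Y) n).hom
      (((P.complex.linearYonedaObj R Y).homologyπ n).hom z) =
      ((P'.complex.linearYonedaObj R Y).homologyπ n).hom
        ((HomologicalComplex.cyclesMap (xMap φ.hom Y) n).hom z) :=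
    congrArg (fun ψ => ψ.hom z) (HomologicalComplex.homologyπ_naturality (xMap φ.hom Y) n)
  have h2 : ((P'.complex.linearYonedaObj R Y).iCycles n).hom
      ((HomologicalComplex.cyclesMap (xMap φ.hom Y) n).hom z) =
      φ.hom.f n ≫ ((P.complex.linearYonedaObj R Y).iCycles n).hom z :=
    congrArg (fun ψ => ψ.hom z) (HomologicalComplex.cyclesMap_i (xMap φ.hom Y) n)
  rw [h1, θ_π_apply, θ_π_apply, θcyc_apply, θcyc_apply,
    ProjectiveResolution.mk₀_comp_extMk _ _ _ _ φ]
  exact extMk_congr P' h2 (n + 1) rfl _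

/-- The comparison isomorphism between Mathlib's two `Ext`s. -/
noncomputable def oldNew (X Y : ModuleCat.{u} R) (n : ℕ) :
    (((Ext R (ModuleCat.{u} R) n).obj (op X)).obj Y) ≃ₗ[R] Ext X Y n :=
  ((projectiveResolution X).isoExt n Y).toLinearEquiv ≪≫ₗ
    LinearEquiv.ofBijective (θ (projectiveResolution X) Y n).hom
      ⟨θ_injective _ _ _, θ_surjective _ _ _⟩

lemma oldNew_apply (X Y : ModuleCat.{u} R) (n : ℕ)
    (x : ((Ext R (ModuleCat.{u} R) n).obj (op X)).obj Y) :
    oldNew X Y n x = (θ (projectiveResolution X) Y n).hom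
      (((projectiveResolution X).isoExt n Y).hom.hom x) := rfl

lemma oldNew_naturality_right (X : ModuleCat.{u} R) {Y Y' : ModuleCat.{u} R} (g : Y ⟶ Y')
    (n : ℕ) (x : ((Ext R (ModuleCat.{u} R) n).obj (op X)).obj Y) :
    oldNew X Y' n ((((Ext R (ModuleCat.{u} R) n).obj (op X)).map g).hom x) =
      (oldNew X Y n x).comp (Ext.mk₀ g) (add_zero n) := by
  rw [oldNew_apply, oldNew_apply, ← θ_yMap]
  congr 1
  exact congrArg (fun ψ => ψ.hom x) (isoExt_naturality_right (projectiveResolution X) g n)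

lemma oldNew_naturality_left {X X' : ModuleCat.{u} R} (f : X' ⟶ X) (Y : ModuleCat.{u} R)
    (n : ℕ) (x : ((Ext R (ModuleCat.{u} R) n).obj (op X)).obj Y) :
    oldNew X' Y n ((((Ext R (ModuleCat.{u} R) n).map f.op).app Y).hom x) =
      (Ext.mk₀ f).comp (oldNew X Y n x) (zero_add n) := by
  let φ : ProjectiveResolution.Hom (projectiveResolution X') (projectiveResolution X) f :=
    { hom := ProjectiveResolution.lift f _ _
      hom_f_zero_comp_π_f_zero := by
        simp only [ChainComplex.single₀_map_f_zero]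
        exact ProjectiveResolution.lift_commutes_zero f _ _ }
  rw [oldNew_apply, oldNew_apply, ← θ_xMap φ]
  congr 1
  exact congrArg (fun ψ => ψ.hom x) (isoExt_naturality_left f (projectiveResolution X)
    (projectiveResolution X') φ.hom (ProjectiveResolution.lift_commutes_zero f _ _) Y n)

end Groth.Agent.H21.LC
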