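import Mathlib
import Groth.Agent.Lib.helper21.LC2

universe u
open CategoryTheory Opposite Limits Abelian

namespace Groth.Agent.H21.LC

variable {R : Type u} [CommRing R]

instance presForget : PreservesColimitsOfShape (ℕᵒᵖᵒᵖ) (forget (ModuleCat.{u} R)) := by
  have : PreservesFilteredColimitsOfSize.{0, 0} (forget (ModuleCat.{u} R)) :=
    preservesSmallestFilteredColimits_of_preservesFilteredColimits _
  exact PreservesFilteredColimitsOfSize.preserves_filtered_colimits _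

/-- the diagram defining local cohomology -/
noncomputable abbrev dg (I : Ideal R) (i : ℕ) : ℕᵒᵖᵒᵖ ⥤ ModuleCat.{u} R ⥤ ModuleCat.{u} R :=
  localCohomology.diagram (localCohomology.idealPowersDiagram I) i

/-- `R/I^n` as an object. -/
abbrev Q (I : Ideal R) (n : ℕ) : ModuleCat.{u} R := ModuleCat.of R (R ⧸ I ^ n)

/-- transition map `R/I^m → R/I^n` for `n ≤ m`. -/
def tr (I : Ideal R) {m n : ℕ} (h : n ≤ m) : Q I m ⟶ Q I n :=
  ModuleCat.ofHom (Submodule.mapQ _ _ LinearMap.id (Ideal.pow_le_pow_right h))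

example (I : Ideal R) (i n : ℕ) : (dg I i).obj (op (op n)) = (Ext R (ModuleCat.{u} R) i).obj (op (Q I n)) := rfl

example (I : Ideal R) (i : ℕ) {m n : ℕ} (h : n ≤ m) :
    (dg I i).map (homOfLE h).op.op = (Ext R (ModuleCat.{u} R) i).map (tr I h).op := rfl

/-- the evaluated colimit cocone -/
noncomputable def evalCocone (I : Ideal R) (i : ℕ) (M : ModuleCat.{u} R) :
    Cocone (dg I i ⋙ (evaluation _ _).obj M) :=
  ((evaluation _ _).obj M).mapCocone (colimit.cocone (dg I i))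

noncomputable def evalIsColimit (I : Ideal R) (i : ℕ) (M : ModuleCat.{u} R) :
    IsColimit (evalCocone I i M) :=
  isColimitOfPreserves _ (colimit.isColimit _)

example (I : Ideal R) (i : ℕ) (M : ModuleCat.{u} R) :
    (evalCocone I i M).pt = (localCohomology I i).obj M := rfl


/-- structure map from stage `n` (old `Ext`). -/
noncomputable def ιOld (I : Ideal R) (i n : ℕ) (M : ModuleCat.{u} R) :
    ((Ext R (ModuleCat.{u} R) i).obj (op (Q I n))).obj M ⟶ (localCohomology I i).obj M :=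
  (colimit.ι (dg I i) (op (op n))).app M

lemma ιOld_eq (I : Ideal R) (i n : ℕ) (M : ModuleCat.{u} R) :
    (evalCocone I i M).ι.app (op (op n)) = ιOld I i n M := rfl

lemma ιOld_tr (I : Ideal R) (i : ℕ) {m n : ℕ} (h : n ≤ m) (M : ModuleCat.{u} R) :
    ((Ext R (ModuleCat.{u} R) i).map (tr I h).op).app M ≫ ιOld I i m M = ιOld I i n M :=
  (evalCocone I i M).w (homOfLE h).op.op

lemma hom_eq (j j' : ℕᵒᵖᵒᵖ) (w : j ⟶ j') :
    ∃ h : j.unop.unop ≤ j'.unop.unop, w = (homOfLE h).op.op :=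
  ⟨leOfHom w.unop.unop, Subsingleton.elim _ _⟩

/-- structure map from stage `n` (new `Ext`). -/
noncomputable def ιH (I : Ideal R) (i n : ℕ) (M : ModuleCat.{u} R) :
    Ext (Q I n) M i →ₗ[R] (localCohomology I i).obj M :=
  (ιOld I i n M).hom ∘ₗ (oldNew (Q I n) M i).symm.toLinearMap

lemma ιH_apply (I : Ideal R) (i n : ℕ) (M : ModuleCat.{u} R) (y : Ext (Q I n) M i) :
    ιH I i n M y = (ιOld I i n M).hom ((oldNew (Q I n) M i).symm y) := rfl

lemma ιH_oldNew (I : Ideal R) (i n : ℕ) (M : ModuleCat.{u} R)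
    (x : ((Ext R (ModuleCat.{u} R) i).obj (op (Q I n))).obj M) :
    ιH I i n M (oldNew (Q I n) M i x) = (ιOld I i n M).hom x := by
  rw [ιH_apply, LinearEquiv.symm_apply_apply]

lemma ιH_surj (I : Ideal R) (i : ℕ) (M : ModuleCat.{u} R) (x : (localCohomology I i).obj M) :
    ∃ (n : ℕ) (y : Ext (Q I n) M i), ιH I i n M y = x := by
  obtain ⟨j, y, hy⟩ := Concrete.isColimit_exists_rep _ (evalIsColimit I i M) x
  refine ⟨j.unop.unop, oldNew _ _ _ y, ?_⟩
  rw [ιH_oldNew]
  exact hy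

lemma ιH_tr (I : Ideal R) (i : ℕ) {m n : ℕ} (h : n ≤ m) (M : ModuleCat.{u} R)
    (y : Ext (Q I n) M i) :
    ιH I i m M ((Ext.mk₀ (tr I h)).comp y (zero_add i)) = ιH I i n M y := by
  obtain ⟨x, rfl⟩ := (oldNew (Q I n) M i).surjective y
  rw [← oldNew_naturality_left, ιH_oldNew, ιH_oldNew]
  exact congrArg (fun φ => φ.hom x) (ιOld_tr I i h M)

lemma ιH_eq_zero_iff (I : Ideal R) (i n : ℕ) (M : ModuleCat.{u} R) (y : Ext (Q I n) M i) :
    ιH I i n M y = 0 ↔ ∃ (m : ℕ) (h : n ≤ m), (Ext.mk₀ (tr I h)).comp y (zero_add i) = 0 := by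
  constructor
  · intro hy
    obtain ⟨x, rfl⟩ := (oldNew (Q I n) M i).surjective y
    rw [ιH_oldNew] at hy
    have h0 : (ιOld I i n M).hom x = (ιOld I i n M).hom 0 := hy.trans (map_zero _).symm
    obtain ⟨k, f, g, hfg⟩ := (Concrete.isColimit_rep_eq_iff_exists
      (dg I i ⋙ (evaluation _ _).obj M) (evalIsColimit I i M)
      (i := op (op n)) (j := op (op n)) x 0).1 h0
    obtain ⟨hf, rfl⟩ := hom_eq _ _ f
    obtain ⟨hg, rfl⟩ := hom_eq _ _ g
    refine ⟨k.unop.unop, hf, ?_⟩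
    rw [← oldNew_naturality_left]
    have h1 : (((Ext R (ModuleCat.{u} R) i).map (tr I hf).op).app M).hom x =
        (((Ext R (ModuleCat.{u} R) i).map (tr I hf).op).app M).hom 0 := hfg
    rw [h1, map_zero, map_zero]
  · rintro ⟨m, h, hm⟩
    rw [← ιH_tr I i h M y, hm, map_zero]

lemma map_ιH (I : Ideal R) (i n : ℕ) {M M' : ModuleCat.{u} R} (g : M ⟶ M')
    (y : Ext (Q I n) M i) :
    ((localCohomology I i).map g).hom (ιH I i n M y) =
      ιH I i n M' (y.comp (Ext.mk₀ g) (add_zero i)) := by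
  obtain ⟨x, rfl⟩ := (oldNew (Q I n) M i).surjective y
  rw [← oldNew_naturality_right, ιH_oldNew, ιH_oldNew]
  exact (congrArg (fun φ => φ.hom x) ((colimit.ι (dg I i) (op (op n))).naturality g)).symm


/-- cocone used for `descH`. -/
noncomputable def descCocone (I : Ideal R) (i : ℕ) (M : ModuleCat.{u} R) {N : Type u}
    [AddCommGroup N] [Module R N] (f : ∀ n, Ext (Q I n) M i →ₗ[R] N)
    (hf : ∀ (m n : ℕ) (h : n ≤ m) (y : Ext (Q I n) M i),
      f m ((Ext.mk₀ (tr I h)).comp y (zero_add i)) = f n y) :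
    Cocone (dg I i ⋙ (evaluation _ _).obj M) where
  pt := ModuleCat.of R N
  ι :=
    { app := fun j => ModuleCat.ofHom
        (f j.unop.unop ∘ₗ (oldNew (Q I j.unop.unop) M i).toLinearMap)
      naturality := by
        intro j j' w
        obtain ⟨h, rfl⟩ := hom_eq _ _ w
        refine ModuleCat.hom_ext (LinearMap.ext fun x => ?_)
        have := hf _ _ h (oldNew (Q I j.unop.unop) M i x)
        rw [← oldNew_naturality_left] at this
        exact this }

/-- maps out of local cohomology from compatible families. -/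
noncomputable def descH (I : Ideal R) (i : ℕ) (M : ModuleCat.{u} R) {N : Type u}
    [AddCommGroup N] [Module R N] (f : ∀ n, Ext (Q I n) M i →ₗ[R] N)
    (hf : ∀ (m n : ℕ) (h : n ≤ m) (y : Ext (Q I n) M i),
      f m ((Ext.mk₀ (tr I h)).comp y (zero_add i)) = f n y) :
    (localCohomology I i).obj M →ₗ[R] N :=
  ((evalIsColimit I i M).desc (descCocone I i M f hf)).hom

lemma descH_ιH (I : Ideal R) (i : ℕ) (M : ModuleCat.{u} R) {N : Type u}
    [AddCommGroup N] [Module R N] (f : ∀ n, Ext (Q I n) M i →ₗ[R] N)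
    (hf : ∀ (m n : ℕ) (h : n ≤ m) (y : Ext (Q I n) M i),
      f m ((Ext.mk₀ (tr I h)).comp y (zero_add i)) = f n y) (n : ℕ) (y : Ext (Q I n) M i) :
    descH I i M f hf (ιH I i n M y) = f n y := by
  obtain ⟨x, rfl⟩ := (oldNew (Q I n) M i).surjective y
  rw [ιH_oldNew]
  exact congrArg (fun φ => φ.hom x)
    ((evalIsColimit I i M).fac (descCocone I i M f hf) (op (op n)))

lemma ιH_eq_iff (I : Ideal R) (i n : ℕ) (M : ModuleCat.{u} R) (y y' : Ext (Q I n) M i) :
    ιH I i n M y = ιH I i n M y' ↔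
      ∃ (m : ℕ) (h : n ≤ m), (Ext.mk₀ (tr I h)).comp y (zero_add i) =
        (Ext.mk₀ (tr I h)).comp y' (zero_add i) := by
  rw [← sub_eq_zero, ← map_sub, ιH_eq_zero_iff]
  simp only [sub_eq_add_neg, Ext.comp_add, Ext.comp_neg, add_neg_eq_zero]

/-- two elements can be represented at a common stage. -/
lemma ιH_surj₂ (I : Ideal R) (i : ℕ) (M : ModuleCat.{u} R)
    (x x' : (localCohomology I i).obj M) :
    ∃ (n : ℕ) (y y' : Ext (Q I n) M i), ιH I i n M y = x ∧ ιH I i n M y' = x' := by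
  obtain ⟨n, y, rfl⟩ := ιH_surj I i M x
  obtain ⟨n', y', rfl⟩ := ιH_surj I i M x'
  refine ⟨max n n', (Ext.mk₀ (tr I (le_max_left n n'))).comp y (zero_add i),
    (Ext.mk₀ (tr I (le_max_right n n'))).comp y' (zero_add i), ιH_tr _ _ _ _ _, ιH_tr _ _ _ _ _⟩

end Groth.Agent.H21.LC
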