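import Mathlib
import Groth.Agent.Lib.helper21.LC3

universe u
open CategoryTheory Opposite Limits Abelian

namespace Groth.Agent.H21.LC

variable {R : Type u} [CommRing R]

/-- scalars that kill `M` kill its local cohomology. -/
lemma smul_eq_zero_of_kills (I : Ideal R) (i : ℕ) (M : ModuleCat.{u} R) (r : R)
    (hr : ∀ m : M, r • m = 0) (x : (localCohomology I i).obj M) : r • x = 0 := by
  obtain ⟨n, y, rfl⟩ := ιH_surj I i M x
  rw [← map_smul]
  have h1 : r • y = y.comp (Ext.mk₀ (r • 𝟙 M)) (add_zero i) := by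
    rw [Ext.mk₀_smul, Ext.comp_smul, Ext.comp_mk₀_id]
  have h2 : r • 𝟙 M = 0 := by
    refine ModuleCat.hom_ext (LinearMap.ext fun m => ?_)
    exact hr m
  rw [h1, h2, Ext.mk₀_zero, Ext.comp_zero, map_zero]

/-- vanishing on injectives in positive degrees. -/
lemma subsingleton_of_injective (I : Ideal R) (i : ℕ) (hi : 0 < i) (E : ModuleCat.{u} R)
    [Injective E] : Subsingleton ((localCohomology I i).obj E) := by
  refine ⟨fun x x' => ?_⟩
  obtain ⟨n, y, rfl⟩ := ιH_surj I i E x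
  obtain ⟨n', y', rfl⟩ := ιH_surj I i E x'
  obtain ⟨j, rfl⟩ : ∃ j, i = j + 1 := ⟨i - 1, by omega⟩
  rw [Ext.eq_zero_of_injective y, Ext.eq_zero_of_injective y', map_zero, map_zero]

section LES

variable (I : Ideal R) {S : ShortComplex (ModuleCat.{u} R)} (hS : S.ShortExact)

/-- connecting homomorphism. -/
noncomputable def δ (i : ℕ) :
    (localCohomology I i).obj S.X₃ →ₗ[R] (localCohomology I (i + 1)).obj S.X₁ :=
  descH I i S.X₃
    (fun n => ιH I (i + 1) n S.X₁ ∘ₗ hS.extClass.postcompOfLinear R (Q I n) (rfl : i + 1 = i + 1))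
    (by
      intro m n h y
      simp only [LinearMap.coe_comp, Function.comp_apply]
      rw [← ιH_tr I (i + 1) h]
      congr 1
      exact (Ext.comp_assoc (Ext.mk₀ (tr I h)) y hS.extClass (zero_add i) rfl (by omega)))

lemma δ_ιH (i n : ℕ) (y : Ext (Q I n) S.X₃ i) :
    δ I hS i (ιH I i n S.X₃ y) = ιH I (i + 1) n S.X₁ (y.comp hS.extClass rfl) :=
  descH_ιH _ _ _ _ _ _ _

include hS in
/-- exactness at `H^i(X₂)`. -/
lemma exact₂ (i : ℕ) :
    Function.Exact ((localCohomology I i).map S.f).hom ((localCohomology I i).map S.g).hom := by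
  intro x
  constructor
  · intro hx
    obtain ⟨n, y, rfl⟩ := ιH_surj I i S.X₂ x
    rw [map_ιH, ιH_eq_zero_iff] at hx
    obtain ⟨m, h, hm⟩ := hx
    rw [← Ext.comp_assoc (Ext.mk₀ (tr I h)) y (Ext.mk₀ S.g) (zero_add i) (add_zero i)
      (by omega)] at hm
    obtain ⟨y', hy'⟩ := Ext.covariant_sequence_exact₂ _ hS _ hm
    refine ⟨ιH I i m S.X₁ y', ?_⟩
    rw [map_ιH, hy', ιH_tr]
  · rintro ⟨x', rfl⟩
    obtain ⟨n, y, rfl⟩ := ιH_surj I i S.X₁ x'
    rw [map_ιH, map_ιH, Ext.comp_assoc y (Ext.mk₀ S.f) (Ext.mk₀ S.g) (add_zero i) (add_zero 0)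
      (by omega), Ext.mk₀_comp_mk₀, S.zero, Ext.mk₀_zero, Ext.comp_zero, map_zero]

/-- exactness at `H^i(X₃)`. -/
lemma exact₃ (i : ℕ) :
    Function.Exact ((localCohomology I i).map S.g).hom (δ I hS i) := by
  intro x
  constructor
  · intro hx
    obtain ⟨n, y, rfl⟩ := ιH_surj I i S.X₃ x
    rw [δ_ιH, ιH_eq_zero_iff] at hx
    obtain ⟨m, h, hm⟩ := hx
    rw [← Ext.comp_assoc (Ext.mk₀ (tr I h)) y hS.extClass (zero_add i) rfl
      (by omega)] at hm
    obtain ⟨y', hy'⟩ := Ext.covariant_sequence_exact₃ _ hS _ rfl hm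
    refine ⟨ιH I i m S.X₂ y', ?_⟩
    rw [map_ιH, hy', ιH_tr]
  · rintro ⟨x', rfl⟩
    obtain ⟨n, y, rfl⟩ := ιH_surj I i S.X₂ x'
    rw [map_ιH, δ_ιH, Ext.comp_assoc y (Ext.mk₀ S.g) hS.extClass (add_zero i) (zero_add 1)
      (by omega), hS.comp_extClass, Ext.comp_zero, map_zero]

/-- exactness at `H^{i+1}(X₁)`. -/
lemma exact₁ (i : ℕ) :
    Function.Exact (δ I hS i) ((localCohomology I (i + 1)).map S.f).hom := by
  intro x
  constructor
  · intro hx
    obtain ⟨n, y, rfl⟩ := ιH_surj I (i + 1) S.X₁ x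
    rw [map_ιH, ιH_eq_zero_iff] at hx
    obtain ⟨m, h, hm⟩ := hx
    rw [← Ext.comp_assoc (Ext.mk₀ (tr I h)) y (Ext.mk₀ S.f) (zero_add (i + 1)) (add_zero (i + 1))
      (by omega)] at hm
    obtain ⟨y', hy'⟩ := Ext.covariant_sequence_exact₁ _ hS _ hm rfl
    refine ⟨ιH I i m S.X₃ y', ?_⟩
    rw [δ_ιH, hy', ιH_tr]
  · rintro ⟨x', rfl⟩
    obtain ⟨n, y, rfl⟩ := ιH_surj I i S.X₃ x'
    rw [δ_ιH, map_ιH, Ext.comp_assoc y hS.extClass (Ext.mk₀ S.f) rfl (add_zero 1)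
      (by omega), hS.extClass_comp, Ext.comp_zero, map_zero]

end LES

end Groth.Agent.H21.LC
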