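import Mathlib
import Groth.Agent.Lib.helper21.LC4
import Groth.Prelude.Def_DRing3

universe u
open CategoryTheory Opposite Limits Abelian

namespace Groth.Agent.H21.LC

variable {R : Type u} [CommRing R]

/-- evaluation at `1` of a degree-zero Ext class out of `R/I^n`. -/
noncomputable def ev (I : Ideal R) (n : ℕ) (M : ModuleCat.{u} R) : Ext (Q I n) M 0 →ₗ[R] M :=
  (LinearMap.applyₗ (Ideal.Quotient.mk (I ^ n) 1 : R ⧸ I ^ n)) ∘ₗ
    (ModuleCat.homLinearEquiv (S := R)).toLinearMap ∘ₗ (Ext.linearEquiv₀ (R := R)).toLinearMap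

lemma ev_mk₀ (I : Ideal R) (n : ℕ) (M : ModuleCat.{u} R) (φ : Q I n ⟶ M) :
    ev I n M (Ext.mk₀ φ) = φ.hom (Ideal.Quotient.mk (I ^ n) 1) := by
  have : Ext.linearEquiv₀ (R := R) (Ext.mk₀ φ) = φ :=
    (Ext.linearEquiv₀ (R := R)).symm.injective
      ((LinearEquiv.symm_apply_apply _ _).trans (Ext.linearEquiv₀_symm_apply (R := R) φ).symm)
  simp only [ev, LinearMap.coe_comp, LinearEquiv.coe_coe, Function.comp_apply, this]
  rfl

lemma ev_injective (I : Ideal R) (n : ℕ) (M : ModuleCat.{u} R) :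
    Function.Injective (ev I n M) := by
  rw [← LinearMap.ker_eq_bot, LinearMap.ker_eq_bot']
  intro y hy
  obtain ⟨φ, rfl⟩ := (Ext.mk₀_bijective _ _).2 y
  rw [ev_mk₀] at hy
  have : φ = 0 := by
    refine ModuleCat.hom_ext (LinearMap.ext fun q => ?_)
    obtain ⟨r, rfl⟩ := Ideal.Quotient.mk_surjective q
    have : (Ideal.Quotient.mk (I ^ n)) r = r • (Ideal.Quotient.mk (I ^ n) 1 : R ⧸ I ^ n) := by
      rw [Algebra.smul_def, map_one, mul_one]; rfl
    rw [this, map_smul, hy, smul_zero]; rfl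
  rw [this, Ext.mk₀_zero]

lemma ev_mem (I : Ideal R) (n : ℕ) (M : ModuleCat.{u} R) (y : Ext (Q I n) M 0) :
    ∀ a ∈ I ^ n, a • ev I n M y = 0 := by
  intro a ha
  obtain ⟨φ, rfl⟩ := (Ext.mk₀_bijective _ _).2 y
  rw [ev_mk₀, ← map_smul]
  have : a • (Ideal.Quotient.mk (I ^ n) 1 : R ⧸ I ^ n) = 0 := by
    rw [← Ideal.Quotient.mk_eq_mk, ← Submodule.Quotient.mk_smul]
    simpa using (Submodule.Quotient.mk_eq_zero _).2 ha
  rw [this, map_zero]

lemma ev_tr (I : Ideal R) {m n : ℕ} (h : n ≤ m) (M : ModuleCat.{u} R) (y : Ext (Q I n) M 0) :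
    ev I m M ((Ext.mk₀ (tr I h)).comp y (zero_add 0)) = ev I n M y := by
  obtain ⟨φ, rfl⟩ := (Ext.mk₀_bijective _ _).2 y
  rw [Ext.mk₀_comp_mk₀, ev_mk₀, ev_mk₀]
  rfl

/-- the map `H⁰_I(M) → M`. -/
noncomputable def toM (I : Ideal R) (M : ModuleCat.{u} R) : (localCohomology I 0).obj M →ₗ[R] M :=
  descH I 0 M (fun n => ev I n M) (fun _ _ h y => ev_tr I h M y)

lemma toM_ιH (I : Ideal R) (M : ModuleCat.{u} R) (n : ℕ) (y : Ext (Q I n) M 0) :
    toM I M (ιH I 0 n M y) = ev I n M y := descH_ιH _ _ _ _ _ _ _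

lemma toM_injective (I : Ideal R) (M : ModuleCat.{u} R) : Function.Injective (toM I M) := by
  rw [← LinearMap.ker_eq_bot, LinearMap.ker_eq_bot']
  intro x hx
  obtain ⟨n, y, rfl⟩ := ιH_surj I 0 M x
  rw [toM_ιH] at hx
  rw [ev_injective I n M (hx.trans (map_zero _).symm), map_zero]

lemma range_toM (I : Ideal R) (M : ModuleCat.{u} R) :
    LinearMap.range (toM I M) = DRing.torsionSub I M := by
  ext m
  constructor
  · rintro ⟨x, rfl⟩
    obtain ⟨n, y, rfl⟩ := ιH_surj I 0 M x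
    rw [toM_ιH]
    exact ⟨n, ev_mem I n M y⟩
  · rintro ⟨n, hn⟩
    let φ : Q I n ⟶ M := ModuleCat.ofHom
      (Submodule.liftQ (I ^ n) (LinearMap.toSpanSingleton R M m) (fun a ha => by
        rw [LinearMap.mem_ker, LinearMap.toSpanSingleton_apply]; exact hn a ha))
    refine ⟨ιH I 0 n M (Ext.mk₀ φ), ?_⟩
    rw [toM_ιH, ev_mk₀]
    show (Submodule.liftQ (I ^ n) (LinearMap.toSpanSingleton R M m) _) (Submodule.Quotient.mk 1) = m
    rw [Submodule.liftQ_apply]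
    exact one_smul R m

/-- `H⁰_I(M) ≃ Γ_I(M)`. -/
noncomputable def H0Equiv (I : Ideal R) (M : ModuleCat.{u} R) :
    (localCohomology I 0).obj M ≃ₗ[R] DRing.torsionSub I M :=
  (LinearEquiv.ofInjective (toM I M) (toM_injective I M)).trans
    (LinearEquiv.ofEq _ _ (range_toM I M))

lemma H0Equiv_apply (I : Ideal R) (M : ModuleCat.{u} R) (x : (localCohomology I 0).obj M) :
    (H0Equiv I M x : M) = toM I M x := rfl

lemma toM_map (I : Ideal R) {M M' : ModuleCat.{u} R} (g : M ⟶ M')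
    (x : (localCohomology I 0).obj M) :
    toM I M' (((localCohomology I 0).map g).hom x) = g.hom (toM I M x) := by
  obtain ⟨n, y, rfl⟩ := ιH_surj I 0 M x
  obtain ⟨φ, rfl⟩ := (Ext.mk₀_bijective _ _).2 y
  rw [map_ιH, toM_ιH, toM_ιH, Ext.mk₀_comp_mk₀, ev_mk₀, ev_mk₀]
  rfl

end Groth.Agent.H21.LC
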