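import Mathlib
import Groth.Agent.Lib.helper21.LC5

universe u
open CategoryTheory Opposite Limits Abelian

namespace Groth.Agent.H21.LC

variable {R : Type u} [CommRing R]

lemma exists_pow_of_fg (I : Ideal R) {M : Type*} [AddCommGroup M] [Module R M]
    (P : Submodule R M) (hP : P.FG)
    (h : ∀ m ∈ P, ∃ k : ℕ, ∀ b ∈ I ^ k, b • m = 0) :
    ∃ k : ℕ, ∀ m ∈ P, ∀ b ∈ I ^ k, b • m = 0 := by
  classical
  obtain ⟨s, rfl⟩ := hP
  have h' : ∀ m : M, ∃ k : ℕ, m ∈ s → ∀ b ∈ I ^ k, b • m = 0 := by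
    intro m
    by_cases hm : m ∈ s
    · obtain ⟨k, hk⟩ := h m (Submodule.subset_span hm)
      exact ⟨k, fun _ => hk⟩
    · exact ⟨0, fun h => absurd h hm⟩
  choose kf hkf using h'
  refine ⟨s.sup kf, ?_⟩
  intro m hm
  induction hm using Submodule.span_induction with
  | mem x hx =>
    intro b hb
    exact hkf x hx b (Ideal.pow_le_pow_right (Finset.le_sup (f := kf) hx) hb)
  | zero => intro b _; exact smul_zero b
  | add x y _ _ hx hy => intro b hb; rw [smul_add, hx b hb, hy b hb, add_zero]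
  | smul a x _ hx => intro b hb; rw [smul_comm, hx b hb, smul_zero]

/-- Artin–Rees consequence: `I^(n+k) ⊓ J ≤ I^n * J` for some `k`. -/
lemma exists_pow_inf_le [IsNoetherianRing R] (I J : Ideal R) :
    ∃ k : ℕ, ∀ n : ℕ, I ^ (n + k) ⊓ J ≤ I ^ n * J := by
  obtain ⟨k, hk⟩ := Ideal.exists_pow_inf_eq_pow_smul I (J : Submodule R R)
  refine ⟨k, fun n => ?_⟩
  have := hk (n + k) (Nat.le_add_left k n)
  simp only [Nat.add_sub_cancel, smul_eq_mul, Ideal.mul_top] at this
  rw [this]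
  exact Ideal.mul_mono_right inf_le_right


/-- The `I`-power torsion of an injective module over a Noetherian ring is injective. -/
theorem injective_torsionSub [IsNoetherianRing R] (I : Ideal R) (E : Type u) [AddCommGroup E]
    [Module R E] [Module.Injective R E] : Module.Injective R (DRing.torsionSub I E) := by
  apply Module.Baer.injective
  intro J g
  let h : J →ₗ[R] E := (DRing.torsionSub I E).subtype ∘ₗ g
  have hfg : (LinearMap.range h).FG := by
    rw [LinearMap.range_eq_map]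
    exact Submodule.FG.map _ (Module.Finite.fg_top)
  obtain ⟨n, hn⟩ := exists_pow_of_fg I (LinearMap.range h) hfg (by
    rintro _ ⟨j, rfl⟩; exact (g j).2)
  obtain ⟨k, hk⟩ := exists_pow_inf_le I J
  have hle : I ^ n * J ≤ (LinearMap.ker h).map J.subtype := by
    rw [Ideal.mul_le]
    intro a ha b hb
    refine ⟨⟨a * b, J.mul_mem_left a hb⟩, ?_, rfl⟩
    have : (⟨a * b, J.mul_mem_left a hb⟩ : J) = a • (⟨b, hb⟩ : J) := rfl
    rw [SetLike.mem_coe, LinearMap.mem_ker, this, map_smul]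
    exact hn _ ⟨_, rfl⟩ a ha
  have hkill : ∀ j : J, (j : R) ∈ I ^ (n + k) → h j = 0 := by
    intro j hj
    obtain ⟨j', hj', hjj⟩ := hle (hk n ⟨hj, j.2⟩)
    have : j' = j := Subtype.ext hjj
    rw [← this]; exact hj'
  let p : J →ₗ[R] R ⧸ I ^ (n + k) := (I ^ (n + k)).mkQ ∘ₗ J.subtype
  have hker : LinearMap.ker p ≤ LinearMap.ker h := by
    intro j hj
    rw [LinearMap.mem_ker] at hj ⊢
    exact hkill j ((Submodule.Quotient.mk_eq_zero _).1 hj)
  let hbar : LinearMap.range p →ₗ[R] E :=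
    ((LinearMap.ker p).liftQ h hker) ∘ₗ (p.quotKerEquivRange).symm.toLinearMap
  obtain ⟨ψ, hψ⟩ := Module.Injective.extension_property R E _ _
    (LinearMap.range p).subtype Subtype.val_injective hbar
  have hψ' : ∀ j : J, ψ (p j) = h j := by
    intro j
    have := congrArg (fun φ => φ ⟨p j, ⟨j, rfl⟩⟩) hψ
    simp only [LinearMap.coe_comp, Function.comp_apply, Submodule.coe_subtype] at this
    rw [this]
    have h2 : (p.quotKerEquivRange).symm ⟨p j, ⟨j, rfl⟩⟩ = Submodule.Quotient.mk j := by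
      rw [LinearEquiv.symm_apply_eq]
      rfl
    show ((LinearMap.ker p).liftQ h hker) ((p.quotKerEquivRange).symm ⟨p j, ⟨j, rfl⟩⟩) = h j
    rw [h2, Submodule.liftQ_apply]
  let g₀ : R →ₗ[R] E := ψ ∘ₗ (I ^ (n + k)).mkQ
  have hg₀ : ∀ r, g₀ r ∈ DRing.torsionSub I E := by
    intro r
    refine ⟨n + k, fun a ha => ?_⟩
    show a • ψ ((I ^ (n + k)).mkQ r) = 0
    rw [← map_smul, ← map_smul]
    have : (I ^ (n + k)).mkQ (a • r) = 0 := by
      rw [Submodule.mkQ_apply, Submodule.Quotient.mk_eq_zero]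
      exact Ideal.mul_mem_right _ _ ha
    rw [this, map_zero]
  refine ⟨g₀.codRestrict _ hg₀, fun x hx => ?_⟩
  apply Subtype.ext
  show ψ (p ⟨x, hx⟩) = (g ⟨x, hx⟩ : E)
  rw [hψ']
  rfl

end Groth.Agent.H21.LC
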