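import Mathlib
import Groth.Agent.Lib.helper21.LC6

universe u
open CategoryTheory Opposite Limits Abelian

namespace Groth.Agent.H21.LC

variable {R : Type u} [CommRing R]

/-- if `M` is torsion then `toM` is surjective. -/
lemma toM_surjective_of_torsion (I : Ideal R) (M : ModuleCat.{u} R)
    (hM : ∀ m : M, m ∈ DRing.torsionSub I M) : Function.Surjective (toM I M) := by
  intro m
  have : m ∈ LinearMap.range (toM I M) := by rw [range_toM]; exact hM m
  exact this

/-- `H⁰` of a surjection of torsion modules is surjective. -/
lemma H0_map_surjective_of_torsion (I : Ideal R) {M M' : ModuleCat.{u} R} (g : M ⟶ M')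
    (hg : Function.Surjective g.hom) (hM : ∀ m : M, m ∈ DRing.torsionSub I M) :
    Function.Surjective ((localCohomology I 0).map g).hom := by
  intro c
  obtain ⟨e, he⟩ := hg (toM I M' c)
  obtain ⟨x, hx⟩ := toM_surjective_of_torsion I M hM e
  refine ⟨x, toM_injective I M' ?_⟩
  rw [toM_map, hx, he]

/-- Local cohomology of an `I`-power torsion module vanishes in positive degrees
(Noetherian case). -/
theorem subsingleton_of_torsion [IsNoetherianRing R] (I : Ideal R) (i : ℕ) (hi : 0 < i) :
    ∀ (N : ModuleCat.{u} R) (_ : ∀ m : N, m ∈ DRing.torsionSub I N),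
      Subsingleton ((localCohomology I i).obj N) := by
  induction i using Nat.strong_induction_on with
  | _ i ih =>
    intro N hN
    obtain ⟨j, rfl⟩ : ∃ j, i = j + 1 := ⟨i - 1, by omega⟩
    -- injective envelope
    let E := Injective.under N
    have hEinj : Injective (ModuleCat.of R E) := (inferInstance : Injective (Injective.under N))
    have : Module.Injective R E := Module.injective_module_of_injective_object R E
    have : Module.Injective R (DRing.torsionSub I E) := injective_torsionSub I E
    let E' : ModuleCat.{u} R := ModuleCat.of R (DRing.torsionSub I E)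
    have : Injective E' := Module.injective_object_of_injective_module R _
    have hinj : Function.Injective (Injective.ι N).hom :=
      (ModuleCat.mono_iff_injective _).1 inferInstance
    let f : N ⟶ E' := ModuleCat.ofHom
      ((Injective.ι N).hom.codRestrict (DRing.torsionSub I E)
        (fun m => DRing.map_mem_torsionSub I _ (hN m)))
    have hf : Function.Injective f.hom := by
      intro a b hab
      apply hinj
      exact congrArg Subtype.val hab
    let C : ModuleCat.{u} R := ModuleCat.of R (E' ⧸ LinearMap.range f.hom)
    let g : E' ⟶ C := ModuleCat.ofHom (LinearMap.range f.hom).mkQ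
    have hg : Function.Surjective g.hom := Submodule.mkQ_surjective _
    have hE' : ∀ m : E', m ∈ DRing.torsionSub I E' := by
      rintro ⟨m, n, hn⟩
      exact ⟨n, fun a ha => Subtype.ext (hn a ha)⟩
    have hC : ∀ m : C, m ∈ DRing.torsionSub I C := by
      intro c
      obtain ⟨e, rfl⟩ := hg c
      exact DRing.map_mem_torsionSub I _ (hE' e)
    let S : ShortComplex (ModuleCat.{u} R) := ShortComplex.mk f g (by
      refine ModuleCat.hom_ext (LinearMap.ext fun m => ?_)
      exact (Submodule.Quotient.mk_eq_zero _).2 ⟨m, rfl⟩)
    have hS : S.ShortExact := by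
      refine ModuleCat.shortComplex_shortExact S ?_ hf hg
      intro e
      constructor
      · intro he
        exact (Submodule.Quotient.mk_eq_zero _).1 he
      · rintro ⟨m, rfl⟩
        exact (Submodule.Quotient.mk_eq_zero _).2 ⟨m, rfl⟩
    have : Subsingleton ((localCohomology I (j + 1)).obj E') :=
      subsingleton_of_injective I (j + 1) (by omega) E'
    refine ⟨fun x x' => ?_⟩
    have key : ∀ x : (localCohomology I (j + 1)).obj N, x = 0 := by
      intro x
      obtain ⟨c, rfl⟩ := (exact₁ I hS j x).1 (Subsingleton.elim _ _)
      rcases Nat.eq_zero_or_pos j with rfl | hj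
      · obtain ⟨e, rfl⟩ := H0_map_surjective_of_torsion I g hg hE' c
        exact (exact₃ I hS 0 _).2 ⟨e, rfl⟩
      · have := ih j (by omega) hj C hC
        rw [Subsingleton.elim c 0, map_zero]
    rw [key x, key x']

end Groth.Agent.H21.LC
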