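import Mathlib
import Groth.Agent.Lib.helper21.LC7

universe u
open CategoryTheory Opposite Limits Abelian

namespace Groth.Agent.H21.LC

variable {R : Type u} [CommRing R]

section LES2

variable (I : Ideal R) {S : ShortComplex (ModuleCat.{u} R)} (hS : S.ShortExact)
include hS

lemma map_g_bijective_of_subsingleton (i : ℕ)
    (h1 : Subsingleton ((localCohomology I i).obj S.X₁))
    (h2 : Subsingleton ((localCohomology I (i + 1)).obj S.X₁)) :
    Function.Bijective ((localCohomology I i).map S.g).hom := by
  constructor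
  · rw [← LinearMap.ker_eq_bot, LinearMap.ker_eq_bot']
    intro x hx
    obtain ⟨y, rfl⟩ := (exact₂ I hS i x).1 hx
    rw [Subsingleton.elim y 0, map_zero]
  · intro c
    exact (exact₃ I hS i c).1 (Subsingleton.elim _ _)

lemma map_f_bijective_of_subsingleton (i : ℕ)
    (h1 : Subsingleton ((localCohomology I i).obj S.X₃))
    (h2 : Subsingleton ((localCohomology I (i + 1)).obj S.X₃)) :
    Function.Bijective ((localCohomology I (i + 1)).map S.f).hom := by
  constructor
  · rw [← LinearMap.ker_eq_bot, LinearMap.ker_eq_bot']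
    intro x hx
    obtain ⟨y, rfl⟩ := (exact₁ I hS i x).1 hx
    rw [Subsingleton.elim y 0, map_zero]
  · intro c
    exact (exact₂ I hS (i + 1) c).1 (Subsingleton.elim _ _)

lemma δ_bijective_of_subsingleton (i : ℕ)
    (h1 : Subsingleton ((localCohomology I i).obj S.X₂))
    (h2 : Subsingleton ((localCohomology I (i + 1)).obj S.X₂)) :
    Function.Bijective (δ I hS i) := by
  constructor
  · rw [← LinearMap.ker_eq_bot, LinearMap.ker_eq_bot']
    intro x hx
    obtain ⟨y, rfl⟩ := (exact₃ I hS i x).1 hx
    rw [Subsingleton.elim y 0, map_zero]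
  · intro c
    exact (exact₁ I hS i c).1 (Subsingleton.elim _ _)

lemma map_f_injective_zero : Function.Injective ((localCohomology I 0).map S.f).hom := by
  intro x x' h
  apply toM_injective I S.X₁
  have hf : Function.Injective S.f.hom := hS.moduleCat_injective_f
  apply hf
  rw [← toM_map, ← toM_map, h]

lemma subsingleton_X₂ (i : ℕ) (h1 : Subsingleton ((localCohomology I i).obj S.X₁))
    (h3 : Subsingleton ((localCohomology I i).obj S.X₃)) :
    Subsingleton ((localCohomology I i).obj S.X₂) := by
  refine ⟨fun x x' => ?_⟩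
  have key : ∀ x : (localCohomology I i).obj S.X₂, x = 0 := by
    intro x
    obtain ⟨y, rfl⟩ := (exact₂ I hS i x).1 (Subsingleton.elim _ _)
    rw [Subsingleton.elim y 0, map_zero]
  rw [key x, key x']

lemma subsingleton_X₃ (i : ℕ) (h2 : Subsingleton ((localCohomology I i).obj S.X₂))
    (h1 : Subsingleton ((localCohomology I (i + 1)).obj S.X₁)) :
    Subsingleton ((localCohomology I i).obj S.X₃) := by
  refine ⟨fun x x' => ?_⟩
  have key : ∀ x : (localCohomology I i).obj S.X₃, x = 0 := by
    intro x
    obtain ⟨y, rfl⟩ := (exact₃ I hS i x).1 (Subsingleton.elim _ _)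
    rw [Subsingleton.elim y 0, map_zero]
  rw [key x, key x']

lemma subsingleton_X₁ (i : ℕ) (h3 : Subsingleton ((localCohomology I i).obj S.X₃))
    (h2 : Subsingleton ((localCohomology I (i + 1)).obj S.X₂)) :
    Subsingleton ((localCohomology I (i + 1)).obj S.X₁) := by
  refine ⟨fun x x' => ?_⟩
  have key : ∀ x : (localCohomology I (i + 1)).obj S.X₁, x = 0 := by
    intro x
    obtain ⟨y, rfl⟩ := (exact₁ I hS i x).1 (Subsingleton.elim _ _)
    rw [Subsingleton.elim y 0, map_zero]
  rw [key x, key x']

end LES2

/-- The canonical short complex `Γ_I(N) → N → N/Γ_I(N)`. -/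
noncomputable def torsionSES (I : Ideal R) (N : Type u) [AddCommGroup N] [Module R N] :
    ShortComplex (ModuleCat.{u} R) :=
  ShortComplex.mk (ModuleCat.ofHom (DRing.torsionSub I N).subtype)
    (ModuleCat.ofHom (DRing.torsionSub I N).mkQ) (by
      refine ModuleCat.hom_ext (LinearMap.ext fun m => ?_)
      exact (Submodule.Quotient.mk_eq_zero _).2 m.2)

lemma torsionSES_shortExact (I : Ideal R) (N : Type u) [AddCommGroup N] [Module R N] :
    (torsionSES I N).ShortExact := by
  refine ModuleCat.shortComplex_shortExact _ ?_ (Subtype.val_injective)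
    (Submodule.mkQ_surjective _)
  intro e
  constructor
  · intro he
    exact ⟨⟨e, (Submodule.Quotient.mk_eq_zero _).1 he⟩, rfl⟩
  · rintro ⟨m, rfl⟩
    exact (Submodule.Quotient.mk_eq_zero _).2 m.2

lemma torsionSub_torsion (I : Ideal R) (N : Type u) [AddCommGroup N] [Module R N] :
    ∀ m : (ModuleCat.of R (DRing.torsionSub I N)),
      m ∈ DRing.torsionSub I (ModuleCat.of R (DRing.torsionSub I N)) := by
  rintro ⟨m, n, hn⟩
  exact ⟨n, fun a ha => Subtype.ext (hn a ha)⟩

/-- `H^i(N) → H^i(N/Γ_I N)` is bijective for `i > 0`. -/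
theorem map_mkQ_bijective [IsNoetherianRing R] (I : Ideal R) (N : Type u) [AddCommGroup N]
    [Module R N] (i : ℕ) (hi : 0 < i) :
    Function.Bijective
      ((localCohomology I i).map (ModuleCat.ofHom (DRing.torsionSub I N).mkQ)).hom :=
  map_g_bijective_of_subsingleton I (torsionSES_shortExact I N) i
    (subsingleton_of_torsion I i hi _ (torsionSub_torsion I N))
    (subsingleton_of_torsion I (i + 1) (by omega) _ (torsionSub_torsion I N))

end Groth.Agent.H21.LC
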