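import Mathlib
import Groth.Agent.Lib.helper21.LC8

universe u
open CategoryTheory Opposite Limits Abelian

namespace Groth.Agent.H21.LC

variable {R : Type u} [CommRing R]

/-- A linear map whose kernel and cokernel are `I`-power torsion induces bijections on
`H^i_I` for `i > 1`. -/
theorem map_bijective_of_torsion_ker_coker [IsNoetherianRing R] (I : Ideal R) {M M' : Type u}
    [AddCommGroup M] [Module R M] [AddCommGroup M'] [Module R M'] (e : M →ₗ[R] M')
    (hker : ∀ x ∈ LinearMap.ker e, x ∈ DRing.torsionSub I M)
    (hcoker : LocCoh.IsPowerTorsion I (M' ⧸ LinearMap.range e)) (i : ℕ) (hi : 1 < i) :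
    Function.Bijective ((localCohomology I i).map (ModuleCat.ofHom e)).hom := by
  -- first short exact sequence
  let S1 : ShortComplex (ModuleCat.{u} R) :=
    ShortComplex.mk (ModuleCat.ofHom (LinearMap.ker e).subtype)
      (ModuleCat.ofHom e.rangeRestrict) (by
        refine ModuleCat.hom_ext (LinearMap.ext fun x => ?_)
        apply Subtype.ext
        exact x.2)
  have hS1 : S1.ShortExact := by
    refine ModuleCat.shortComplex_shortExact _ ?_ Subtype.val_injective
      (LinearMap.surjective_rangeRestrict e)
    intro m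
    constructor
    · intro hm
      exact ⟨⟨m, congrArg Subtype.val hm⟩, rfl⟩
    · rintro ⟨x, rfl⟩
      apply Subtype.ext
      exact x.2
  let S2 : ShortComplex (ModuleCat.{u} R) :=
    ShortComplex.mk (ModuleCat.ofHom (LinearMap.range e).subtype)
      (ModuleCat.ofHom (LinearMap.range e).mkQ) (by
        refine ModuleCat.hom_ext (LinearMap.ext fun x => ?_)
        exact (Submodule.Quotient.mk_eq_zero _).2 x.2)
  have hS2 : S2.ShortExact := by
    refine ModuleCat.shortComplex_shortExact _ ?_ Subtype.val_injective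
      (Submodule.mkQ_surjective _)
    intro m
    constructor
    · intro hm
      exact ⟨⟨m, (Submodule.Quotient.mk_eq_zero _).1 hm⟩, rfl⟩
    · rintro ⟨x, rfl⟩
      exact (Submodule.Quotient.mk_eq_zero _).2 x.2
  have hK : ∀ m : (ModuleCat.of R (LinearMap.ker e)),
      m ∈ DRing.torsionSub I (ModuleCat.of R (LinearMap.ker e)) := by
    intro m
    obtain ⟨n, hn⟩ := hker m.1 m.2
    exact ⟨n, fun a ha => Subtype.ext (hn a ha)⟩
  have hC : ∀ m : (ModuleCat.of R (M' ⧸ LinearMap.range e)),
      m ∈ DRing.torsionSub I (ModuleCat.of R (M' ⧸ LinearMap.range e)) := fun m => hcoker m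
  obtain ⟨j, rfl⟩ : ∃ j, i = j + 1 := ⟨i - 1, by omega⟩
  have b1 := map_g_bijective_of_subsingleton I hS1 (j + 1)
    (subsingleton_of_torsion I (j + 1) (by omega) _ hK)
    (subsingleton_of_torsion I (j + 1 + 1) (by omega) _ hK)
  have b2 := map_f_bijective_of_subsingleton I hS2 j
    (subsingleton_of_torsion I j (by omega) _ hC)
    (subsingleton_of_torsion I (j + 1) (by omega) _ hC)
  have hcomp : ModuleCat.ofHom e = S1.g ≫ S2.f := by
    refine ModuleCat.hom_ext (LinearMap.ext fun x => ?_)
    rfl
  rw [hcomp, Functor.map_comp]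
  exact b2.comp b1

end Groth.Agent.H21.LC
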