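import Mathlib
import Groth.Agent.Lib.helper21.LC10
import Groth.Agent.Lib.helper20.IT4

universe u
open CategoryTheory Opposite Limits Abelian

namespace Groth.Agent.H21.LC

open Groth.Agent.Lib.helper20

variable {R : Type u} [CommRing R]

/-- the short complex `I^n → R → R/I^n`. -/
noncomputable def powSES (I : Ideal R) (n : ℕ) : ShortComplex (ModuleCat.{u} R) :=
  ShortComplex.mk (ModuleCat.ofHom (I ^ n).subtype)
    (ModuleCat.ofHom (Submodule.mkQ (I ^ n)) : ModuleCat.of R R ⟶ Q I n) (by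
      refine ModuleCat.hom_ext (LinearMap.ext fun x => ?_)
      exact (Submodule.Quotient.mk_eq_zero _).2 x.2)

lemma powSES_shortExact (I : Ideal R) (n : ℕ) : (powSES I n).ShortExact := by
  refine ModuleCat.shortComplex_shortExact _ ?_ Subtype.val_injective
    (Submodule.mkQ_surjective _)
  intro m
  constructor
  · intro hm
    exact ⟨⟨m, (Submodule.Quotient.mk_eq_zero _).1 hm⟩, rfl⟩
  · rintro ⟨x, rfl⟩
    exact (Submodule.Quotient.mk_eq_zero _).2 x.2

/-- the morphism of short complexes `powSES I m ⟶ powSES I n` for `n ≤ m`. -/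
noncomputable def powSESmap (I : Ideal R) {m n : ℕ} (h : n ≤ m) : powSES I m ⟶ powSES I n where
  τ₁ := ModuleCat.ofHom (Submodule.inclusion (Ideal.pow_le_pow_right h))
  τ₂ := 𝟙 _
  τ₃ := tr I h
  comm₁₂ := by
    refine ModuleCat.hom_ext (LinearMap.ext fun x => ?_)
    rfl
  comm₂₃ := by
    refine ModuleCat.hom_ext (LinearMap.ext fun x => ?_)
    rfl

/-- the connecting map `Hom(I^n, M) → H^1_I(M)`. -/
noncomputable def conn (I : Ideal R) (M : Type u) [AddCommGroup M] [Module R M] (n : ℕ) :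
    (↥(I ^ n) →ₗ[R] M) →ₗ[R] (localCohomology I 1).obj (ModuleCat.of R M) :=
  ιH I 1 n (ModuleCat.of R M) ∘ₗ
    ((powSES_shortExact I n).extClass.precompOfLinear R (ModuleCat.of R M) (add_zero 1)) ∘ₗ
    (Ext.linearEquiv₀ (R := R)).symm.toLinearMap ∘ₗ
    (ModuleCat.homLinearEquiv (S := R) (M := ModuleCat.of R ↥(I ^ n))
      (N := ModuleCat.of R M)).symm.toLinearMap

lemma conn_apply (I : Ideal R) (M : Type u) [AddCommGroup M] [Module R M] (n : ℕ)
    (φ : ↥(I ^ n) →ₗ[R] M) :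
    conn I M n φ = ιH I 1 n (ModuleCat.of R M)
      ((powSES_shortExact I n).extClass.comp (Ext.mk₀ (ModuleCat.ofHom φ)) (add_zero 1)) := rfl

lemma conn_res (I : Ideal R) (M : Type u) [AddCommGroup M] [Module R M] (n m : ℕ) (h : n ≤ m)
    (φ : ↥(I ^ n) →ₗ[R] M) : conn I M m (IT.res I M h φ) = conn I M n φ := by
  rw [conn_apply, conn_apply, ← ιH_tr I 1 h]
  congr 1
  have h1 : ModuleCat.ofHom (IT.res I M h φ) = (powSESmap I h).τ₁ ≫ ModuleCat.ofHom φ := rfl
  have h2 := ShortComplex.ShortExact.extClass_naturality (powSES_shortExact I m)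
    (powSES_shortExact I n) (powSESmap I h)
  rw [h1, ← Ext.mk₀_comp_mk₀, ← Ext.comp_assoc _ _ _ (add_zero 1) (add_zero 0) (by omega), h2,
    Ext.comp_assoc _ _ _ (zero_add 1) (add_zero 1) (by omega)]
  rfl

/-- the comparison map `D_I(M) → H^1_I(M)`. -/
noncomputable def dtToH1 (I : Ideal R) (M : Type u) [AddCommGroup M] [Module R M] :
    LocCoh.DT I M →ₗ[R] (localCohomology I 1).obj (ModuleCat.of R M) :=
  IT.desc I M (conn I M) (conn_res I M)

lemma dtToH1_cls (I : Ideal R) (M : Type u) [AddCommGroup M] [Module R M] (n : ℕ)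
    (φ : ↥(I ^ n) →ₗ[R] M) : dtToH1 I M (IT.cls I M n φ) = conn I M n φ :=
  IT.desc_cls I M _ _ n φ


lemma dtToH1_surjective (I : Ideal R) (M : Type u) [AddCommGroup M] [Module R M] :
    Function.Surjective (dtToH1 I M) := by
  intro x
  obtain ⟨n, y, rfl⟩ := ιH_surj I 1 _ x
  have hproj : Projective (powSES I n).X₂ := by
    show Projective (ModuleCat.of R R)
    infer_instance
  have hy : (Ext.mk₀ (powSES I n).g).comp y (zero_add 1) = 0 :=
    Ext.eq_zero_of_projective (P := (powSES I n).X₂) _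
  obtain ⟨x₁, rfl⟩ := Ext.contravariant_sequence_exact₃ (powSES_shortExact I n)
    (ModuleCat.of R M) y hy (n₀ := 0) (by omega)
  obtain ⟨ψ, rfl⟩ := (Ext.mk₀_bijective _ _).2 x₁
  refine ⟨IT.cls I M n ψ.hom, ?_⟩
  rw [dtToH1_cls, conn_apply]
  rfl

lemma ker_dtToH1 (I : Ideal R) (M : Type u) [AddCommGroup M] [Module R M] :
    LinearMap.ker (dtToH1 I M) = LinearMap.range (LocCoh.toDT I M) := by
  ext x
  constructor
  · intro hx
    obtain ⟨n, φ, rfl⟩ := IT.cls_surj I M x
    rw [LinearMap.mem_ker, dtToH1_cls, conn_apply, ιH_eq_zero_iff] at hx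
    obtain ⟨m, h, hm⟩ := hx
    -- transfer to stage m
    have h2 := ShortComplex.ShortExact.extClass_naturality (powSES_shortExact I m)
      (powSES_shortExact I n) (powSESmap I h)
    have h3 : (powSES_shortExact I m).extClass.comp
        (Ext.mk₀ (ModuleCat.ofHom (IT.res I M h φ))) (add_zero 1) = 0 := by
      have h1 : ModuleCat.ofHom (IT.res I M h φ) = (powSESmap I h).τ₁ ≫ ModuleCat.ofHom φ := rfl
      rw [h1, ← Ext.mk₀_comp_mk₀, ← Ext.comp_assoc _ _ _ (add_zero 1) (add_zero 0) (by omega), h2,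
        Ext.comp_assoc _ _ _ (zero_add 1) (add_zero 1) (by omega)]
      exact hm
    obtain ⟨x₂, hx₂⟩ := Ext.contravariant_sequence_exact₁ (powSES_shortExact I m)
      (ModuleCat.of R M) _ (by omega) h3
    obtain ⟨ψ, rfl⟩ := (Ext.mk₀_bijective _ _).2 x₂
    rw [Ext.mk₀_comp_mk₀] at hx₂
    have h4 : (powSES I m).f ≫ ψ = ModuleCat.ofHom (IT.res I M h φ) :=
      (Ext.mk₀_bijective _ _).1 hx₂
    refine ⟨ψ.hom (1 : R), ?_⟩
    rw [IT.toDT_eq I M m, ← IT.cls_res I M h φ]
    congr 1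
    ext a
    have := congrArg (fun t => t.hom a) h4
    simp only [IT.sm_apply]
    refine Eq.trans ?_ this
    show (a : R) • ψ.hom (1 : R) = ψ.hom (a : R)
    have hsm : (a : R) • ψ.hom (1 : R) = ψ.hom ((a : R) • (1 : R)) := (map_smul ψ.hom _ _).symm
    rw [hsm, smul_eq_mul, mul_one]
  · rintro ⟨m, rfl⟩
    rw [LinearMap.mem_ker, IT.toDT_eq I M 0, dtToH1_cls, conn_apply]
    have h1 : ModuleCat.ofHom (IT.sm I M 0 m) =
        (powSES I 0).f ≫ ModuleCat.ofHom (LinearMap.toSpanSingleton R M m) := by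
      refine ModuleCat.hom_ext (LinearMap.ext fun a => ?_)
      rfl
    rw [h1, ← Ext.mk₀_comp_mk₀, ← Ext.comp_assoc _ _ _ (add_zero 1) (add_zero 0) (by omega),
      (powSES_shortExact I 0).extClass_comp, Ext.zero_comp]
    exact map_zero _

/-- `coker(M → D_I(M)) ≃ H^1_I(M)`. -/
noncomputable def cokerToDTEquiv (I : Ideal R) (M : Type u) [AddCommGroup M] [Module R M] :
    (LocCoh.DT I M ⧸ LinearMap.range (LocCoh.toDT I M)) ≃ₗ[R]
      (localCohomology I 1).obj (ModuleCat.of R M) :=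
  (Submodule.quotEquivOfEq _ _ (ker_dtToH1 I M).symm).trans
    ((dtToH1 I M).quotKerEquivOfSurjective (dtToH1_surjective I M))

end Groth.Agent.H21.LC
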