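import Mathlib
import Groth.Agent.Lib.helper21.LC8

universe u
open CategoryTheory Opposite Limits Abelian

namespace Groth.Agent.H21.LC

variable {R : Type u} [CommRing R]

/-- the SES `0 → M → E → E/M → 0` with `E` injective. -/
noncomputable def injSES (M : ModuleCat.{u} R) : ShortComplex (ModuleCat.{u} R) :=
  ShortComplex.mk (Injective.ι M) (cokernel.π (Injective.ι M)) (cokernel.condition _)

lemma injSES_shortExact (M : ModuleCat.{u} R) : (injSES M).ShortExact where
  exact := ShortComplex.exact_cokernel _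
  mono_f := by dsimp [injSES]; infer_instance
  epi_g := by dsimp [injSES]; infer_instance

instance (M : ModuleCat.{u} R) : Injective (injSES M).X₂ := by
  dsimp [injSES]; infer_instance

section
variable (I : Ideal R) {S : ShortComplex (ModuleCat.{u} R)} (hS : S.ShortExact)

include hS in
/-- `H¹(X₁) = 0` iff `Γ(X₂) → Γ(X₃)` is surjective, when `H¹(X₂) = 0`. -/
lemma subsingleton_H1_iff (h2 : Subsingleton ((localCohomology I (0 + 1)).obj S.X₂)) :
    Subsingleton ((localCohomology I (0 + 1)).obj S.X₁) ↔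
      ∀ z : S.X₃, z ∈ DRing.torsionSub I S.X₃ →
        ∃ e : S.X₂, e ∈ DRing.torsionSub I S.X₂ ∧ S.g.hom e = z := by
  constructor
  · intro h1 z hz
    obtain ⟨v, hv⟩ := (exact₃ I hS 0 ((H0Equiv I S.X₃).symm ⟨z, hz⟩)).1 (Subsingleton.elim _ _)
    refine ⟨toM I S.X₂ v, ?_, ?_⟩
    · have := (H0Equiv I S.X₂ v).2
      rwa [H0Equiv_apply] at this
    · rw [← toM_map, hv, ← H0Equiv_apply, LinearEquiv.apply_symm_apply]
  · intro h
    refine ⟨fun x x' => ?_⟩
    have key : ∀ x : (localCohomology I (0 + 1)).obj S.X₁, x = 0 := by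
      intro x
      obtain ⟨w, rfl⟩ := (exact₁ I hS 0 x).1 (Subsingleton.elim _ _)
      have hz : toM I S.X₃ w ∈ DRing.torsionSub I S.X₃ := by
        have := (H0Equiv I S.X₃ w).2
        rwa [H0Equiv_apply] at this
      obtain ⟨e, he, hez⟩ := h _ hz
      apply (exact₃ I hS 0 w).2
      refine ⟨(H0Equiv I S.X₂).symm ⟨e, he⟩, ?_⟩
      apply toM_injective
      rw [toM_map, ← H0Equiv_apply, LinearEquiv.apply_symm_apply]
      exact hez
    rw [key x, key x']

include hS in
/-- dimension shifting: `H^{i+1}(X₁) = 0 ↔ H^i(X₃) = 0` for `i ≥ 1`, `X₂` acyclic in degrees `i,i+1`. -/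
lemma subsingleton_shift (i : ℕ)
    (h1 : Subsingleton ((localCohomology I i).obj S.X₂))
    (h2 : Subsingleton ((localCohomology I (i + 1)).obj S.X₂)) :
    Subsingleton ((localCohomology I (i + 1)).obj S.X₁) ↔
      Subsingleton ((localCohomology I i).obj S.X₃) :=
  (LinearEquiv.ofBijective (δ I hS i)
    (δ_bijective_of_subsingleton I hS i h1 h2)).toEquiv.subsingleton_congr.symm

end

/-- `M` is `Γ_J`-acyclic above degree `q`. -/
def AcyclicAbove (J : Ideal R) (q : ℕ) (M : ModuleCat.{u} R) : Prop :=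
  ∀ j, q < j → Subsingleton ((localCohomology J j).obj M)

lemma acyclicAbove_injSES (J : Ideal R) (q : ℕ) (M : ModuleCat.{u} R)
    (h : AcyclicAbove J (q + 1) M) : AcyclicAbove J q (injSES M).X₃ := by
  intro j hj
  obtain ⟨k, rfl⟩ : ∃ k, j = k + 1 := ⟨j - 1, by omega⟩
  rw [← subsingleton_shift J (injSES_shortExact M) (k + 1)
    (subsingleton_of_injective J _ (by omega) _) (subsingleton_of_injective J _ (by omega) _)]
  exact h _ (by omega)

lemma acyclicAbove_zero_injSES (J : Ideal R) (M : ModuleCat.{u} R)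
    (h : AcyclicAbove J 0 M) : AcyclicAbove J 0 (injSES M).X₃ := by
  intro j hj
  obtain ⟨k, rfl⟩ : ∃ k, j = k + 1 := ⟨j - 1, by omega⟩
  rw [← subsingleton_shift J (injSES_shortExact M) (k + 1)
    (subsingleton_of_injective J _ (by omega) _) (subsingleton_of_injective J _ (by omega) _)]
  exact h _ (by omega)

end Groth.Agent.H21.LC
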