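import Mathlib
import Groth.Agent.Lib.helper21.LC14

universe u
open CategoryTheory Opposite Limits Abelian

namespace Groth.Agent.H21.LC

variable {R : Type u} [CommRing R]

lemma mem_torsionSub_sup (I J : Ideal R) {M : Type u} [AddCommGroup M] [Module R M] (m : M) :
    m ∈ DRing.torsionSub (I ⊔ J) M ↔ m ∈ DRing.torsionSub I M ∧ m ∈ DRing.torsionSub J M := by
  constructor
  · rintro ⟨n, hn⟩
    exact ⟨⟨n, fun a ha => hn a (Ideal.pow_right_mono le_sup_left n ha)⟩,
      ⟨n, fun a ha => hn a (Ideal.pow_right_mono le_sup_right n ha)⟩⟩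
  · rintro ⟨⟨n, hn⟩, ⟨k, hk⟩⟩
    refine ⟨n + k, fun a ha => ?_⟩
    have h1 := Ideal.sup_pow_add_le_pow_sup_pow (I := I) (J := J) (n := n) (m := k) ha
    obtain ⟨x, hx, y, hy, rfl⟩ := Submodule.mem_sup.1 h1
    rw [add_smul, hn x hx, hk y hy, add_zero]

/-- `Γ_J` applied to a short complex. -/
noncomputable abbrev gammaSC (J : Ideal R) (S : ShortComplex (ModuleCat.{u} R)) :
    ShortComplex (ModuleCat.{u} R) := S.map (DRing.gammaI J)

lemma gammaSC_shortExact (J : Ideal R) {S : ShortComplex (ModuleCat.{u} R)} (hS : S.ShortExact)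
    (hsurj : ∀ z : S.X₃, z ∈ DRing.torsionSub J S.X₃ →
        ∃ e : S.X₂, e ∈ DRing.torsionSub J S.X₂ ∧ S.g.hom e = z) :
    (gammaSC J S).ShortExact := by
  have hf : Function.Injective S.f.hom := hS.moduleCat_injective_f
  refine ModuleCat.shortComplex_shortExact _ ?_ ?_ ?_
  · intro x
    constructor
    · intro hx
      have hx' : S.g.hom x.1 = 0 := congrArg Subtype.val hx
      obtain ⟨y, hy⟩ := (ShortComplex.ShortExact.moduleCat_exact_iff_function_exact S).1 hS.exact x.1 |>.1 hx'
      obtain ⟨n, hn⟩ := x.2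
      refine ⟨⟨y, n, fun a ha => hf ?_⟩, Subtype.ext hy⟩
      rw [map_smul, hy, hn a ha, map_zero]
    · rintro ⟨y, rfl⟩
      apply Subtype.ext
      exact (ShortComplex.ShortExact.moduleCat_exact_iff_function_exact S).1 hS.exact _ |>.2 ⟨y.1, rfl⟩
  · intro x y hxy
    exact Subtype.ext (hf (congrArg Subtype.val hxy))
  · rintro ⟨z, hz⟩
    obtain ⟨e, he, hez⟩ := hsurj z hz
    exact ⟨⟨e, he⟩, Subtype.ext hez⟩

end Groth.Agent.H21.LC

namespace Groth.Agent.H21.LC

variable {R : Type u} [CommRing R]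

instance injective_gammaSC_X₂ [IsNoetherianRing R] (J : Ideal R) (M : ModuleCat.{u} R) :
    Injective (gammaSC J (injSES M)).X₂ := by
  have h0 : Injective (ModuleCat.of R (injSES M).X₂) :=
    (inferInstance : Injective (injSES M).X₂)
  have : Module.Injective R (injSES M).X₂ := Module.injective_module_of_injective_object R _
  have := injective_torsionSub J (injSES M).X₂
  exact Module.injective_object_of_injective_module R (DRing.torsionSub J (injSES M).X₂)

/-- for `Γ_J`-acyclic `M`: `H^n_I(Γ_J M) = 0 → H^n_{I+J}(M) = 0`, `n ≥ 1`. -/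
lemma subsingleton_sup_of_acyclic [IsNoetherianRing R] (I J : Ideal R) (k : ℕ) :
    ∀ (M : ModuleCat.{u} R), AcyclicAbove J 0 M →
      Subsingleton ((localCohomology I (k + 1)).obj ((DRing.gammaI J).obj M)) →
      Subsingleton ((localCohomology (I ⊔ J) (k + 1)).obj M) := by
  induction k with
  | zero =>
    intro M hM h
    have hS := injSES_shortExact M
    have hsurj := (subsingleton_H1_iff J hS (subsingleton_of_injective J _ (by omega) _)).1
      (hM 1 (by omega))
    have hS' := gammaSC_shortExact J hS hsurj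
    have h2 := (subsingleton_H1_iff I hS' (subsingleton_of_injective I _ (by omega) _)).1 h
    refine (subsingleton_H1_iff (I ⊔ J) hS (subsingleton_of_injective _ _ (by omega) _)).2 ?_
    intro z hz
    rw [mem_torsionSub_sup] at hz
    obtain ⟨⟨n, hn⟩, hzJ⟩ := hz
    obtain ⟨e, he, hez⟩ := h2 ⟨z, hzJ⟩ ⟨n, fun a ha => Subtype.ext (hn a ha)⟩
    refine ⟨e.1, (mem_torsionSub_sup I J _).2 ⟨?_, e.2⟩, congrArg Subtype.val hez⟩
    obtain ⟨n', hn'⟩ := he
    exact ⟨n', fun a ha => congrArg Subtype.val (hn' a ha)⟩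
  | succ k ih =>
    intro M hM h
    have hS := injSES_shortExact M
    have hsurj := (subsingleton_H1_iff J hS (subsingleton_of_injective J _ (by omega) _)).1
      (hM 1 (by omega))
    have hS' := gammaSC_shortExact J hS hsurj
    refine (subsingleton_shift (I ⊔ J) hS (k + 1) (subsingleton_of_injective _ _ (by omega) _)
      (subsingleton_of_injective _ _ (by omega) _)).2 ?_
    apply ih _ (acyclicAbove_zero_injSES J M hM)
    exact (subsingleton_shift I hS' (k + 1) (subsingleton_of_injective _ _ (by omega) _)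
      (subsingleton_of_injective _ _ (by omega) _)).1 h

/-- the key induction for `cd (I + J) ≤ cd I + cd J`. -/
lemma subsingleton_sup_of_acyclicAbove [IsNoetherianRing R] (I J : Ideal R) (a : ℕ)
    (hI : ∀ (N : ModuleCat.{u} R) (i : ℕ), a < i → Subsingleton ((localCohomology I i).obj N))
    (q : ℕ) : ∀ (M : ModuleCat.{u} R), AcyclicAbove J q M →
      ∀ n, a + q < n → Subsingleton ((localCohomology (I ⊔ J) n).obj M) := by
  induction q with
  | zero =>
    intro M hM n hn
    obtain ⟨k, rfl⟩ : ∃ k, n = k + 1 := ⟨n - 1, by omega⟩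
    exact subsingleton_sup_of_acyclic I J k M hM (hI _ _ (by omega))
  | succ q ih =>
    intro M hM n hn
    obtain ⟨k, rfl⟩ : ∃ k, n = k + 1 := ⟨n - 1, by omega⟩
    have hS := injSES_shortExact M
    refine (subsingleton_shift (I ⊔ J) hS k (subsingleton_of_injective _ _ (by omega) _)
      (subsingleton_of_injective _ _ (by omega) _)).2 ?_
    exact ih _ (acyclicAbove_injSES J q M hM) k (by omega)

end Groth.Agent.H21.LC
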