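import Mathlib
import Groth.Agent.Lib.helper21.LC15
import Groth.Agent.Lib.helper21.LC11

universe u
open CategoryTheory Opposite Limits Abelian
open Groth.Agent.Lib.helper20.IT

namespace Groth.Agent.H21.LC

variable {R : Type u} [CommRing R]

/-- annihilators of powers stabilize. -/
lemma exists_ann_pow_stable [IsNoetherianRing R] (b : R) :
    ∃ N : ℕ, ∀ k, N ≤ k → ∀ r : R, r * b ^ k = 0 → r * b ^ N = 0 := by
  let f : ℕ →o Submodule R R :=
    { toFun := fun k => LinearMap.ker (LinearMap.toSpanSingleton R R (b ^ k))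
      monotone' := by
        intro k l hkl r hr
        rw [LinearMap.mem_ker, LinearMap.toSpanSingleton_apply, smul_eq_mul] at hr ⊢
        obtain ⟨d, rfl⟩ := Nat.exists_eq_add_of_le hkl
        rw [pow_add, ← mul_assoc, hr, zero_mul] }
  obtain ⟨N, hN⟩ := monotone_stabilizes_iff_noetherian.2 (inferInstance : IsNoetherian R R) f
  refine ⟨N, fun k hk r hr => ?_⟩
  have h1 : r ∈ f k := by
    show r ∈ LinearMap.ker (LinearMap.toSpanSingleton R R (b ^ k))
    rw [LinearMap.mem_ker, LinearMap.toSpanSingleton_apply, smul_eq_mul, hr]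
  rw [← hN k hk] at h1
  have h2 : r ∈ LinearMap.ker (LinearMap.toSpanSingleton R R (b ^ N)) := h1
  rwa [LinearMap.mem_ker, LinearMap.toSpanSingleton_apply, smul_eq_mul] at h2

/-- injective modules are divisible modulo torsion. -/
lemma exists_div_of_injective [IsNoetherianRing R] (E : Type u) [AddCommGroup E] [Module R E]
    [Module.Injective R E] (b : R) (n : ℕ) (e : E) :
    ∃ (N : ℕ) (e' : E), b ^ (N + n) • e' = b ^ N • e := by
  obtain ⟨N, hN⟩ := exists_ann_pow_stable b
  refine ⟨N, ?_⟩
  let c : R := b ^ (N + n)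
  let K : Submodule R R := LinearMap.ker (LinearMap.toSpanSingleton R R c)
  let f : (R ⧸ K) →ₗ[R] R := K.liftQ (LinearMap.toSpanSingleton R R c) le_rfl
  have hf : Function.Injective f := by
    rw [← LinearMap.ker_eq_bot]
    exact Submodule.ker_liftQ_eq_bot _ _ _ le_rfl
  have hK : K ≤ LinearMap.ker (LinearMap.toSpanSingleton R E (b ^ N • e)) := by
    intro r hr
    rw [LinearMap.mem_ker, LinearMap.toSpanSingleton_apply, smul_eq_mul] at hr
    rw [LinearMap.mem_ker, LinearMap.toSpanSingleton_apply, smul_smul,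
      hN (N + n) (by omega) r hr, zero_smul]
  let g : (R ⧸ K) →ₗ[R] E := K.liftQ (LinearMap.toSpanSingleton R E (b ^ N • e)) hK
  obtain ⟨h, hh⟩ := Module.Injective.extension_property R E _ _ f hf g
  refine ⟨h 1, ?_⟩
  have h1 : h (f (K.mkQ 1)) = g (K.mkQ 1) := by rw [← hh]; rfl
  have h2 : f (K.mkQ 1) = c • (1 : R) := by
    show LinearMap.toSpanSingleton R R c 1 = _
    rw [LinearMap.toSpanSingleton_apply, one_smul, smul_eq_mul, mul_one]
  have h3 : g (K.mkQ 1) = b ^ N • e := by
    show LinearMap.toSpanSingleton R E (b ^ N • e) 1 = _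
    rw [LinearMap.toSpanSingleton_apply, one_smul]
  rw [h2, map_smul, h3] at h1
  exact h1

end Groth.Agent.H21.LC

namespace Groth.Agent.H21.LC

variable {R : Type u} [CommRing R]

/-- for a principal ideal, `toDT` is surjective on quotients of injectives. -/
lemma toDT_surjective_of_quotient_injective [IsNoetherianRing R] (a : R)
    (E N : Type u) [AddCommGroup E] [Module R E] [Module.Injective R E]
    [AddCommGroup N] [Module R N] (π : E →ₗ[R] N) (hπ : Function.Surjective π) :
    Function.Surjective (LocCoh.toDT (Ideal.span {a}) N) := by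
  intro x
  obtain ⟨n, φ, rfl⟩ := cls_surj _ N x
  have han : a ^ n ∈ Ideal.span {a} ^ n := Ideal.pow_mem_pow (Ideal.mem_span_singleton_self a) n
  obtain ⟨e, he⟩ := hπ (φ ⟨a ^ n, han⟩)
  obtain ⟨k, e', he'⟩ := exists_div_of_injective E a n e
  refine ⟨π e', ?_⟩
  rw [toDT_eq _ N (n + k), eq_comm, cls_eq_iff]
  refine ⟨n + k, Nat.le_add_right n k, le_rfl, ?_⟩
  ext ⟨c, hc⟩
  rw [Ideal.span_singleton_pow, Ideal.mem_span_singleton'] at hc
  obtain ⟨r, rfl⟩ := hc
  rw [res_apply, res_apply, sm_apply]
  have h1 : (⟨r * a ^ (n + k), Ideal.pow_le_pow_right (Nat.le_add_right n k)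
      (by rw [Ideal.span_singleton_pow, Ideal.mem_span_singleton']; exact ⟨r, rfl⟩)⟩ :
        ↥(Ideal.span {a} ^ n)) = (r * a ^ k) • ⟨a ^ n, han⟩ := by
    apply Subtype.ext
    show r * a ^ (n + k) = (r * a ^ k) * a ^ n
    ring
  rw [h1, map_smul, ← he, ← map_smul, ← map_smul, mul_smul, ← he', smul_smul]
  show π ((r * a ^ (k + n)) • e') = π ((r * a ^ (n + k)) • e')
  rw [add_comm]

end Groth.Agent.H21.LC

namespace Groth.Agent.H21.LC

variable {R : Type u} [CommRing R]

/-- `cd (a) ≤ 1`. -/
theorem subsingleton_principal [IsNoetherianRing R] (a : R) (k : ℕ) :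
    ∀ M : ModuleCat.{u} R,
      Subsingleton ((localCohomology (Ideal.span {a}) (k + 2)).obj M) := by
  induction k with
  | zero =>
    intro M
    have hS := injSES_shortExact M
    refine (subsingleton_shift _ hS 1 (subsingleton_of_injective _ _ (by omega) _)
      (subsingleton_of_injective _ _ (by omega) _)).2 ?_
    have h0 : Injective (ModuleCat.of R (injSES M).X₂) :=
      (inferInstance : Injective (injSES M).X₂)
    have : Module.Injective R (injSES M).X₂ := Module.injective_module_of_injective_object R _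
    have hg : Function.Surjective (injSES M).g.hom := hS.moduleCat_surjective_g
    have hsurj := toDT_surjective_of_quotient_injective a (injSES M).X₂ (injSES M).X₃
      (injSES M).g.hom hg
    have e := cokerToDTEquiv (Ideal.span {a}) (injSES M).X₃
    have : Subsingleton (LocCoh.DT (Ideal.span {a}) (injSES M).X₃ ⧸
        LinearMap.range (LocCoh.toDT (Ideal.span {a}) (injSES M).X₃)) := by
      rw [LinearMap.range_eq_top.2 hsurj]
      infer_instance
    exact e.symm.toEquiv.subsingleton
  | succ k ih =>
    intro M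
    have hS := injSES_shortExact M
    exact (subsingleton_shift _ hS (k + 2) (subsingleton_of_injective _ _ (by omega) _)
      (subsingleton_of_injective _ _ (by omega) _)).2 (ih _)

end Groth.Agent.H21.LC
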