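import Mathlib
import Groth.Prelude.Def_DualLC
import Groth.Agent.Lib.helper21.LC16

universe u
open CategoryTheory Opposite Limits Abelian

namespace Groth.Agent.H21.LC

variable {R : Type u} [CommRing R]

/-- `R/I^n → R/I'^n` for `I ≤ I'`. -/
noncomputable def qm {I I' : Ideal R} (h : I ≤ I') (n : ℕ) : Q I n ⟶ Q I' n :=
  (Dual2.quotMapOfLE h).app (op n)

lemma qm_mk {I I' : Ideal R} (h : I ≤ I') (n : ℕ) (r : R) :
    (qm h n).hom (Ideal.Quotient.mk (I ^ n) r) = Ideal.Quotient.mk (I' ^ n) r := rfl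

lemma Hmap_ιH {I I' : Ideal R} (h : I ≤ I') (i n : ℕ) (M : ModuleCat.{u} R)
    (y : Ext (Q I' n) M i) :
    ((Dual2.HmapOfLE h i).app M).hom (ιH I' i n M y) =
      ιH I i n M ((Ext.mk₀ (qm h n)).comp y (zero_add i)) := by
  obtain ⟨x, rfl⟩ := (oldNew (Q I' n) M i).surjective y
  rw [← oldNew_naturality_left, ιH_oldNew, ιH_oldNew]
  have h1 := ι_colimMap (Functor.whiskerRight (NatTrans.op (Dual2.quotMapOfLE h))
    (Ext R (ModuleCat.{u} R) i)) (op (op n))
  have h2 := congrArg (fun φ => (φ.app M).hom x) h1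
  exact h2

end Groth.Agent.H21.LC

namespace Groth.Agent.H21.LC

variable {R : Type u} [CommRing R]

/-- abbreviation for the comparison map at a module. -/
noncomputable abbrev cmp {I I' : Ideal R} (h : I ≤ I') (i : ℕ) (M : ModuleCat.{u} R) :
    (localCohomology I' i).obj M →ₗ[R] (localCohomology I i).obj M :=
  ((Dual2.HmapOfLE h i).app M).hom

lemma cmp_ιH {I I' : Ideal R} (h : I ≤ I') (i n : ℕ) (M : ModuleCat.{u} R)
    (y : Ext (Q I' n) M i) :
    cmp h i M (ιH I' i n M y) = ιH I i n M ((Ext.mk₀ (qm h n)).comp y (zero_add i)) :=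
  Hmap_ιH h i n M y

lemma cmp_map {I I' : Ideal R} (h : I ≤ I') (i : ℕ) {M M' : ModuleCat.{u} R} (g : M ⟶ M')
    (x : (localCohomology I' i).obj M) :
    cmp h i M' (((localCohomology I' i).map g).hom x) =
      ((localCohomology I i).map g).hom (cmp h i M x) :=
  congrArg (fun φ => φ.hom x) ((Dual2.HmapOfLE h i).naturality g)

lemma cmp_δ {I I' : Ideal R} (h : I ≤ I') (i : ℕ) {S : ShortComplex (ModuleCat.{u} R)}
    (hS : S.ShortExact) (x : (localCohomology I' i).obj S.X₃) :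
    cmp h (i + 1) S.X₁ (δ I' hS i x) = δ I hS i (cmp h i S.X₃ x) := by
  obtain ⟨n, y, rfl⟩ := ιH_surj I' i S.X₃ x
  rw [δ_ιH, cmp_ιH, cmp_ιH, δ_ιH]
  congr 1
  exact (Ext.comp_assoc _ _ _ (zero_add i) rfl (by omega)).symm

lemma toM_cmp {I I' : Ideal R} (h : I ≤ I') (M : ModuleCat.{u} R)
    (x : (localCohomology I' 0).obj M) : toM I M (cmp h 0 M x) = toM I' M x := by
  obtain ⟨n, y, rfl⟩ := ιH_surj I' 0 M x
  obtain ⟨φ, rfl⟩ := (Ext.mk₀_bijective _ _).2 y
  rw [cmp_ιH, toM_ιH, toM_ιH, Ext.mk₀_comp_mk₀, ev_mk₀, ev_mk₀]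
  rfl

end Groth.Agent.H21.LC
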