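import Mathlib
import Groth.Agent.Lib.helper21.LC8
import Groth.Agent.Lib.helper9.Depth3

universe u
open CategoryTheory Opposite Limits Abelian

namespace Groth.Agent.H21.LC

open Groth.Agent.Lib.helper9.Depth LocCoh

variable {R : Type u} [CommRing R]

lemma support_subset_of_pow_smul (I : Ideal R) (N : Type*) [AddCommGroup N] [Module R N]
    (m : ℕ) (h : ∀ a ∈ I ^ m, ∀ x : N, a • x = 0) :
    Module.support R N ⊆ PrimeSpectrum.zeroLocus I := by
  intro p hp
  have h1 : Module.annihilator R N ≤ p.asIdeal := Module.annihilator_le_of_mem_support hp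
  have h2 : I ^ m ≤ p.asIdeal := fun a ha => h1 (Module.mem_annihilator.2 (h a ha))
  exact (PrimeSpectrum.mem_zeroLocus _ _).2 (p.2.le_of_pow_le h2)

/-- Rees: `Ext^i(N, M) = 0` for `i < depth_I(M)` and `N` finite supported in `V(I)`. -/
lemma ext_subsingleton_of_lt_depth [IsNoetherianRing R] (I : Ideal R) (M : Type u)
    [AddCommGroup M] [Module R M] [Module.Finite R M] (hIM : I • (⊤ : Submodule R M) ≠ ⊤)
    (N : ModuleCat.{u} R) [Module.Finite R N]
    (hN : Module.support R N ⊆ PrimeSpectrum.zeroLocus I) (i : ℕ)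
    (hi : ((i + 1 : ℕ) : ℕ∞) ≤ idealDepth I M) :
    Subsingleton (Ext N (ModuleCat.of R M) i) := by
  by_cases hNt : Nontrivial N
  · have hlt : I • (⊤ : Submodule R (ModuleCat.of R M)) < ⊤ := lt_top_iff_ne_top.mpr hIM
    have htfae := ModuleCat.exists_isRegular_tfae I (i + 1) (ModuleCat.of R M) hlt
    obtain ⟨rs, hlen, hreg, hmem⟩ := (le_idealDepth_iff hIM (i + 1)).1 hi
    have h4 : ∃ rs : List R, rs.length = i + 1 ∧ (∀ r ∈ rs, r ∈ I) ∧
        RingTheory.Sequence.IsRegular (ModuleCat.of R M) rs :=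
      ⟨rs, hlen, hmem, isRegular_of_isWeaklyRegular hIM hreg hmem⟩
    have h1 := (htfae.out 3 0).mp h4
    exact h1 N hNt inferInstance hN i (Nat.lt_succ_self i)
  · rw [not_nontrivial_iff_subsingleton] at hNt
    have hz : IsZero N := ModuleCat.isZero_of_subsingleton N
    have key : ∀ x : Ext N (ModuleCat.of R M) i, x = 0 := by
      intro x
      rw [← Ext.mk₀_id_comp x, hz.eq_of_src (𝟙 N) 0, Ext.mk₀_zero, Ext.zero_comp]
    exact ⟨fun x y => by rw [key x, key y]⟩


lemma Q_smul_eq_zero (I : Ideal R) (k : ℕ) : ∀ a ∈ I ^ k, ∀ x : Q I k, a • x = 0 := by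
  intro a ha x
  obtain ⟨r, rfl⟩ := Ideal.Quotient.mk_surjective x
  show a • (Ideal.Quotient.mk (I ^ k)) r = 0
  rw [Algebra.smul_def, Ideal.Quotient.algebraMap_eq, ← map_mul]
  exact Ideal.Quotient.eq_zero_iff_mem.2 (Ideal.mul_mem_right _ _ ha)

lemma support_Q (I : Ideal R) (k : ℕ) :
    Module.support R (Q I k) ⊆ PrimeSpectrum.zeroLocus I :=
  support_subset_of_pow_smul I _ k (Q_smul_eq_zero I k)

/-- vanishing below the depth. -/
theorem subsingleton_of_lt_depth [IsNoetherianRing R] (I : Ideal R) (M : Type u)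
    [AddCommGroup M] [Module R M] [Module.Finite R M] (hIM : I • (⊤ : Submodule R M) ≠ ⊤)
    (i : ℕ) (hi : ((i + 1 : ℕ) : ℕ∞) ≤ idealDepth I M) :
    Subsingleton ((localCohomology I i).obj (ModuleCat.of R M)) := by
  have key : ∀ x : (localCohomology I i).obj (ModuleCat.of R M), x = 0 := by
    intro x
    obtain ⟨k, y, rfl⟩ := ιH_surj I i _ x
    have : Module.Finite R (Q I k) := inferInstanceAs (Module.Finite R (R ⧸ I ^ k))
    have := ext_subsingleton_of_lt_depth I M hIM (Q I k) (support_Q I k) i hi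
    rw [Subsingleton.elim y 0, map_zero]
  exact ⟨fun x y => by rw [key x, key y]⟩

/-- the transition maps are injective on `Ext^d(-, M)` in degree `d ≤ depth`. -/
lemma tr_comp_injective [IsNoetherianRing R] (I : Ideal R) (M : Type u)
    [AddCommGroup M] [Module R M] [Module.Finite R M] (hIM : I • (⊤ : Submodule R M) ≠ ⊤)
    (d : ℕ) (hd : (d : ℕ∞) ≤ idealDepth I M) {m n : ℕ} (h : n ≤ m)
    (y : Ext (Q I n) (ModuleCat.of R M) d)
    (hy : (Ext.mk₀ (tr I h)).comp y (zero_add d) = 0) : y = 0 := by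
  have hsurj : Function.Surjective (tr I h).hom := by
    intro x
    obtain ⟨r, rfl⟩ := Ideal.Quotient.mk_surjective x
    exact ⟨Ideal.Quotient.mk _ r, rfl⟩
  rcases d with _ | e
  · haveI : Epi (tr I h) := (ModuleCat.epi_iff_surjective _).2 hsurj
    have := Ext.precomp_mk₀_injective_of_epi (ModuleCat.of R M) (tr I h)
    exact this (hy.trans (map_zero _).symm)
  · have hS := LinearMap.shortExact_shortComplexKer hsurj
    obtain ⟨x₁, rfl⟩ := Ext.contravariant_sequence_exact₃ hS (ModuleCat.of R M) y hy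
      (n₀ := e) (by omega)
    have hK : ∀ a ∈ I ^ m, ∀ x : LinearMap.ker (tr I h).hom, a • x = 0 := by
      intro a ha x
      apply Subtype.ext
      exact Q_smul_eq_zero I m a ha x.1
    have : Module.Finite R (Q I m) := inferInstanceAs (Module.Finite R (R ⧸ I ^ m))
    have : IsNoetherian R (Q I m) := isNoetherian_of_isNoetherianRing_of_finite R _
    have : Module.Finite R (LinearMap.ker (tr I h).hom) := Module.Finite.of_injective
      (LinearMap.ker (tr I h).hom).subtype Subtype.val_injective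
    have := ext_subsingleton_of_lt_depth I M hIM
      (ModuleCat.of R (LinearMap.ker (tr I h).hom))
      (support_subset_of_pow_smul I _ m hK) e (by exact_mod_cast hd)
    rw [Subsingleton.elim x₁ 0, Ext.comp_zero]

/-- non-vanishing at the depth. -/
theorem nontrivial_of_depth_eq [IsNoetherianRing R] (I : Ideal R) (M : Type u)
    [AddCommGroup M] [Module R M] [Module.Finite R M] (hIM : I • (⊤ : Submodule R M) ≠ ⊤)
    (d : ℕ) (hd : idealDepth I M = d) :
    Nontrivial ((localCohomology I d).obj (ModuleCat.of R M)) := by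
  have hIne : I ≠ ⊤ := by
    rintro rfl
    exact hIM (by simp)
  have : Module.Finite R (Q I 1) := inferInstanceAs (Module.Finite R (R ⧸ I ^ 1))
  have ntrQ : Nontrivial (Q I 1) := by
    show Nontrivial (R ⧸ I ^ 1)
    rw [pow_one]
    exact Ideal.Quotient.nontrivial_iff.mpr hIne
  have suppQ : Module.support R (Q I 1) = PrimeSpectrum.zeroLocus I := by
    show Module.support R (R ⧸ I ^ 1) = _
    rw [Module.support_eq_zeroLocus, Ideal.annihilator_quotient, pow_one]
  -- a nonzero class in degree d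
  have hex : ∃ y : Ext (Q I 1) (ModuleCat.of R M) d, y ≠ 0 := by
    by_contra hno
    push Not at hno
    have hall : ∀ i < d + 1, Subsingleton (Ext (Q I 1) (ModuleCat.of R M) i) := by
      intro i hi
      rcases Nat.lt_succ_iff_lt_or_eq.1 hi with hlt | rfl
      · exact ext_subsingleton_of_lt_depth I M hIM (Q I 1) suppQ.subset i
          (by rw [hd]; exact_mod_cast hlt)
      · exact ⟨fun a b => by rw [hno a, hno b]⟩
    have hlt : I • (⊤ : Submodule R (ModuleCat.of R M)) < ⊤ := lt_top_iff_ne_top.mpr hIM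
    have htfae := ModuleCat.exists_isRegular_tfae I (d + 1) (ModuleCat.of R M) hlt
    have h3 : ∃ N : ModuleCat R, Nontrivial N ∧ Module.Finite R N ∧
        Module.support R N = PrimeSpectrum.zeroLocus I ∧
        ∀ i < d + 1, Subsingleton (Ext N (ModuleCat.of R M) i) :=
      ⟨Q I 1, ntrQ, inferInstance, suppQ, hall⟩
    obtain ⟨rs, hlen, hmem, hreg⟩ := (htfae.out 2 3).mp h3
    have := length_le_idealDepth (I := I) (M := M) hreg.toIsWeaklyRegular hmem
    rw [hlen, hd] at this
    have : (d + 1 : ℕ) ≤ d := by exact_mod_cast this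
    omega
  obtain ⟨y, hy⟩ := hex
  refine ⟨⟨ιH I d 1 _ y, 0, ?_⟩⟩
  intro h0
  obtain ⟨m, h, hm⟩ := (ιH_eq_zero_iff I d 1 _ y).1 h0
  exact hy (tr_comp_injective I M hIM d hd.ge h y hm)

/-- depth via local cohomology. -/
theorem depth_eq_iff [IsNoetherianRing R] (I : Ideal R) (M : Type u)
    [AddCommGroup M] [Module R M] [Module.Finite R M] (hIM : I • (⊤ : Submodule R M) ≠ ⊤)
    (n : ℕ) :
    idealDepth I M = n ↔
      ((∀ i : ℕ, i < n → Subsingleton ((localCohomology I i).obj (ModuleCat.of R M))) ∧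
        Nontrivial ((localCohomology I n).obj (ModuleCat.of R M))) := by
  constructor
  · intro h
    refine ⟨fun i hi => subsingleton_of_lt_depth I M hIM i ?_, nontrivial_of_depth_eq I M hIM n h⟩
    rw [h]; exact_mod_cast hi
  · rintro ⟨h1, h2⟩
    obtain ⟨d, hd⟩ := exists_nat_eq_idealDepth M hIM
    rw [hd]
    rcases lt_trichotomy d n with hlt | heq | hgt
    · have := nontrivial_of_depth_eq I M hIM d hd
      exact absurd (h1 d hlt) (not_subsingleton_iff_nontrivial.2 this)
    · rw [heq]
    · have := subsingleton_of_lt_depth I M hIM n (by rw [hd]; exact_mod_cast hgt)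
      exact absurd this (not_subsingleton_iff_nontrivial.2 h2)

end Groth.Agent.H21.LC
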