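import Mathlib
import Groth.Agent.Lib.helper21.LC17
import Groth.Agent.Lib.helper21.LC9

universe u
open CategoryTheory Opposite Limits Abelian

namespace Groth.Agent.H21.LC

variable {R : Type u} [CommRing R]

lemma mem_torsionSub_span_singleton (b : R) {M : Type u} [AddCommGroup M] [Module R M] (m : M) :
    m ∈ DRing.torsionSub (Ideal.span {b}) M ↔ ∃ n : ℕ, b ^ n • m = 0 := by
  constructor
  · rintro ⟨n, hn⟩
    exact ⟨n, hn _ (Ideal.pow_mem_pow (Ideal.mem_span_singleton_self b) n)⟩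
  · rintro ⟨n, hn⟩
    refine ⟨n, fun a ha => ?_⟩
    rw [Ideal.span_singleton_pow, Ideal.mem_span_singleton'] at ha
    obtain ⟨r, rfl⟩ := ha
    rw [mul_smul, hn, smul_zero]

/-- every element of `H^i_I(M)` is `I`-power torsion. -/
lemma mem_torsionSub_H (I : Ideal R) (i : ℕ) (M : ModuleCat.{u} R)
    (x : (localCohomology I i).obj M) :
    x ∈ DRing.torsionSub I ((localCohomology I i).obj M) := by
  obtain ⟨n, y, rfl⟩ := ιH_surj I i M x
  refine ⟨n, fun a ha => ?_⟩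
  rw [← map_smul]
  have h1 : a • y = (Ext.mk₀ (a • 𝟙 (Q I n))).comp y (zero_add i) := by
    rw [Ext.mk₀_smul, Ext.smul_comp, Ext.mk₀_id_comp]
  have h2 : a • 𝟙 (Q I n) = 0 := by
    refine ModuleCat.hom_ext (LinearMap.ext fun m => ?_)
    exact Q_smul_eq_zero I n a ha m
  rw [h1, h2, Ext.mk₀_zero, Ext.zero_comp, map_zero]

/-- image of the comparison map consists of `b`-power torsion elements. -/
lemma pow_smul_cmp_eq_zero (𝔞 : Ideal R) (b : R) (i : ℕ) (M : ModuleCat.{u} R)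
    (x : (localCohomology (𝔞 ⊔ Ideal.span {b}) i).obj M) :
    ∃ n : ℕ, b ^ n • cmp (le_sup_left : 𝔞 ≤ 𝔞 ⊔ Ideal.span {b}) i M x = 0 := by
  obtain ⟨n, hn⟩ := mem_torsionSub_H _ i M x
  refine ⟨n, ?_⟩
  rw [← map_smul, hn _ (Ideal.pow_mem_pow
    (Ideal.mem_sup_right (Ideal.mem_span_singleton_self b)) n), map_zero]

end Groth.Agent.H21.LC

namespace Groth.Agent.H21.LC

variable {R : Type u} [CommRing R]

lemma toM_mem (I : Ideal R) (M : ModuleCat.{u} R) (x : (localCohomology I 0).obj M) :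
    toM I M x ∈ DRing.torsionSub I M := by
  have := (H0Equiv I M x).2
  rwa [H0Equiv_apply] at this

lemma toM_H0Equiv_symm (I : Ideal R) (M : ModuleCat.{u} R) (z : DRing.torsionSub I M) :
    toM I M ((H0Equiv I M).symm z) = z.1 := by
  rw [← H0Equiv_apply, LinearEquiv.apply_symm_apply]

section
variable [IsNoetherianRing R] (𝔞 : Ideal R) (b : R) {S : ShortComplex (ModuleCat.{u} R)}
  (hS : S.ShortExact) [Injective S.X₂]

include hS in
lemma range_cmp_base (x : (localCohomology 𝔞 (0 + 1)).obj S.X₁) (k : ℕ) (hk : b ^ k • x = 0) :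
    x ∈ LinearMap.range (cmp (le_sup_left : 𝔞 ≤ 𝔞 ⊔ Ideal.span {b}) (0 + 1) S.X₁) := by
  have hE1 : Subsingleton ((localCohomology 𝔞 (0 + 1)).obj S.X₂) :=
    subsingleton_of_injective 𝔞 _ (by omega) _
  obtain ⟨w, hw⟩ := (exact₁ 𝔞 hS 0 x).1 (Subsingleton.elim _ _)
  obtain ⟨v, hv⟩ := (exact₃ 𝔞 hS 0 (b ^ k • w)).1 (by rw [map_smul, hw, hk])
  have h0 : Injective (ModuleCat.of R S.X₂) := (inferInstance : Injective S.X₂)
  have : Module.Injective R S.X₂ := Module.injective_module_of_injective_object R _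
  have := injective_torsionSub 𝔞 S.X₂
  obtain ⟨K, u'', hu''⟩ := exists_div_of_injective (DRing.torsionSub 𝔞 S.X₂) b k
    ⟨toM 𝔞 _ v, toM_mem 𝔞 _ v⟩
  have hu2 : b ^ (K + k) • u''.1 = b ^ K • toM 𝔞 _ v := congrArg Subtype.val hu''
  set z := toM 𝔞 S.X₃ w with hz
  set z' := z - S.g.hom u''.1 with hz'
  have hzb : b ^ (K + k) • z' = 0 := by
    have ha : b ^ (K + k) • z = b ^ K • S.g.hom (toM 𝔞 S.X₂ v) := by
      rw [pow_add, mul_smul, hz, ← map_smul (toM 𝔞 S.X₃), ← hv, toM_map]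
    have hb : b ^ (K + k) • S.g.hom u''.1 = b ^ K • S.g.hom (toM 𝔞 S.X₂ v) := by
      rw [← map_smul, hu2, map_smul]
    rw [hz', smul_sub, ha, hb, sub_self]
  have hz𝔞 : z' ∈ DRing.torsionSub 𝔞 S.X₃ :=
    Submodule.sub_mem _ (toM_mem 𝔞 _ w) (DRing.map_mem_torsionSub 𝔞 _ u''.2)
  have hz𝔠 : z' ∈ DRing.torsionSub (𝔞 ⊔ Ideal.span {b}) S.X₃ :=
    (mem_torsionSub_sup _ _ _).2 ⟨hz𝔞, (mem_torsionSub_span_singleton b z').2 ⟨K + k, hzb⟩⟩
  refine ⟨δ (𝔞 ⊔ Ideal.span {b}) hS 0 ((H0Equiv _ S.X₃).symm ⟨z', hz𝔠⟩), ?_⟩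
  rw [cmp_δ]
  have h1 : cmp (le_sup_left : 𝔞 ≤ 𝔞 ⊔ Ideal.span {b}) 0 S.X₃
      ((H0Equiv _ S.X₃).symm ⟨z', hz𝔠⟩) =
      w - ((localCohomology 𝔞 0).map S.g).hom ((H0Equiv 𝔞 S.X₂).symm u'') := by
    apply toM_injective
    rw [toM_cmp, toM_H0Equiv_symm, map_sub, toM_map, toM_H0Equiv_symm]
  rw [h1, map_sub, (exact₃ 𝔞 hS 0 _).2 ⟨_, rfl⟩, sub_zero]
  exact hw

omit [IsNoetherianRing R] in
include hS in
lemma range_cmp_step (i : ℕ)
    (ih : ∀ (x : (localCohomology 𝔞 (i + 1)).obj S.X₃), (∃ k : ℕ, b ^ k • x = 0) →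
      x ∈ LinearMap.range (cmp (le_sup_left : 𝔞 ≤ 𝔞 ⊔ Ideal.span {b}) (i + 1) S.X₃))
    (x : (localCohomology 𝔞 (i + 1 + 1)).obj S.X₁) (k : ℕ) (hk : b ^ k • x = 0) :
    x ∈ LinearMap.range (cmp (le_sup_left : 𝔞 ≤ 𝔞 ⊔ Ideal.span {b}) (i + 1 + 1) S.X₁) := by
  have hbij := δ_bijective_of_subsingleton 𝔞 hS (i + 1)
    (subsingleton_of_injective 𝔞 _ (by omega) _) (subsingleton_of_injective 𝔞 _ (by omega) _)
  obtain ⟨x', rfl⟩ := hbij.2 x
  have hk' : b ^ k • x' = 0 := hbij.1 (by rw [map_smul, hk, map_zero])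
  obtain ⟨y', hy'⟩ := ih x' ⟨k, hk'⟩
  exact ⟨δ (𝔞 ⊔ Ideal.span {b}) hS (i + 1) y', by rw [cmp_δ, hy']⟩

end

/-- `b`-power torsion elements of `H^{i+1}_𝔞(M)` come from `H^{i+1}_{𝔞+Rb}(M)`. -/
theorem mem_range_cmp_of_pow_smul [IsNoetherianRing R] (𝔞 : Ideal R) (b : R) (i : ℕ) :
    ∀ (M : ModuleCat.{u} R) (x : (localCohomology 𝔞 (i + 1)).obj M), (∃ k : ℕ, b ^ k • x = 0) →
      x ∈ LinearMap.range (cmp (le_sup_left : 𝔞 ≤ 𝔞 ⊔ Ideal.span {b}) (i + 1) M) := by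
  induction i with
  | zero =>
    intro M x ⟨k, hk⟩
    exact range_cmp_base 𝔞 b (injSES_shortExact M) x k hk
  | succ i ih =>
    intro M x ⟨k, hk⟩
    exact range_cmp_step 𝔞 b (injSES_shortExact M) i (ih _) x k hk

end Groth.Agent.H21.LC
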