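import Mathlib
import Groth.Agent.Lib.helper21.LC18

universe u
set_option linter.unusedSectionVars false
open CategoryTheory Opposite Limits Abelian

namespace Groth.Agent.H21.LC

variable {R : Type u} [CommRing R]

/-- kernels of maps intertwined by equivalences are equivalent. -/
noncomputable def kerEquivOfComm {A A' B B' : Type*} [AddCommGroup A] [AddCommGroup A']
    [AddCommGroup B] [AddCommGroup B'] [Module R A] [Module R A'] [Module R B] [Module R B']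
    (e₁ : A ≃ₗ[R] A') (e₂ : B ≃ₗ[R] B') (f : A →ₗ[R] B) (f' : A' →ₗ[R] B')
    (h : ∀ a, e₂ (f a) = f' (e₁ a)) : LinearMap.ker f ≃ₗ[R] LinearMap.ker f' :=
  e₁.ofSubmodules _ _ (by
    ext a'
    simp only [Submodule.mem_map, LinearMap.mem_ker]
    constructor
    · rintro ⟨a, ha, rfl⟩
      show f' (e₁ a) = 0
      rw [← h, ha, map_zero]
    · intro ha'
      refine ⟨e₁.symm a', ?_, e₁.apply_symm_apply a'⟩
      apply e₂.injective
      rw [h, e₁.apply_symm_apply, ha', map_zero])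

/-- two surjections with the same kernel have isomorphic targets (here: range of one). -/
noncomputable def rangeEquivOfKerEq {X Y Y' : Type*} [AddCommGroup X] [AddCommGroup Y]
    [AddCommGroup Y'] [Module R X] [Module R Y] [Module R Y']
    (f : X →ₗ[R] Y) (f' : X →ₗ[R] Y') (hf : Function.Surjective f)
    (hk : LinearMap.ker f' = LinearMap.ker f) : LinearMap.range f' ≃ₗ[R] Y :=
  (LinearMap.quotKerEquivRange f').symm.trans
    ((Submodule.quotEquivOfEq _ _ hk).trans (f.quotKerEquivOfSurjective hf))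

end Groth.Agent.H21.LC

namespace Groth.Agent.H21.LC

variable {R : Type u} [CommRing R]

section KSES
variable (𝔞 : Ideal R) (S : ShortComplex (ModuleCat.{u} R))

/-- the image of `Γ_𝔞(X₂)` in `X₃`. -/
def imK : Submodule R S.X₃ := Submodule.map S.g.hom (DRing.torsionSub 𝔞 S.X₂)

/-- `Γ_𝔞 X₂ → K`. -/
def gK : DRing.torsionSub 𝔞 S.X₂ →ₗ[R] imK 𝔞 S :=
  (S.g.hom.domRestrict (DRing.torsionSub 𝔞 S.X₂)).codRestrict (imK 𝔞 S)
    (fun u => ⟨u.1, u.2, rfl⟩)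

lemma gK_apply (u : DRing.torsionSub 𝔞 S.X₂) : (gK 𝔞 S u : S.X₃) = S.g.hom u.1 := rfl

/-- the short complex `0 → Γ_𝔞 X₁ → Γ_𝔞 X₂ → K → 0`. -/
noncomputable def kSES : ShortComplex (ModuleCat.{u} R) :=
  ShortComplex.mk ((DRing.gammaI 𝔞).map S.f) (ModuleCat.ofHom (gK 𝔞 S)) (by
    refine ModuleCat.hom_ext (LinearMap.ext fun x => ?_)
    apply Subtype.ext
    show S.g.hom (S.f.hom x.1) = 0
    have := congrArg (fun φ => φ.hom x.1) S.zero
    exact this)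

variable {S}

lemma kSES_shortExact (hS : S.ShortExact) : (kSES 𝔞 S).ShortExact := by
  have hf : Function.Injective S.f.hom := hS.moduleCat_injective_f
  have hex := (ShortComplex.ShortExact.moduleCat_exact_iff_function_exact S).1 hS.exact
  refine ModuleCat.shortComplex_shortExact _ ?_ ?_ ?_
  · intro x
    constructor
    · intro hx
      have hx' : S.g.hom x.1 = 0 := congrArg Subtype.val hx
      obtain ⟨y, hy⟩ := (hex x.1).1 hx'
      obtain ⟨n, hn⟩ := x.2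
      refine ⟨⟨y, n, fun a ha => hf ?_⟩, Subtype.ext hy⟩
      rw [map_smul, hy, hn a ha, map_zero]
    · rintro ⟨y, rfl⟩
      apply Subtype.ext
      exact (hex _).2 ⟨y.1, rfl⟩
  · intro x y hxy
    exact Subtype.ext (hf (congrArg Subtype.val hxy))
  · rintro ⟨z, u, hu, rfl⟩
    exact ⟨⟨u, hu⟩, rfl⟩

instance injective_kSES_X₂ [IsNoetherianRing R] [Injective S.X₂] : Injective (kSES 𝔞 S).X₂ := by
  have h0 : Injective (ModuleCat.of R S.X₂) := (inferInstance : Injective S.X₂)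
  have : Module.Injective R S.X₂ := Module.injective_module_of_injective_object R _
  have := injective_torsionSub 𝔞 S.X₂
  exact Module.injective_object_of_injective_module R (DRing.torsionSub 𝔞 S.X₂)

end KSES

end Groth.Agent.H21.LC

namespace Groth.Agent.H21.LC

variable {R : Type u} [CommRing R]

section Base
variable (𝔞 : Ideal R) (b : R) {S : ShortComplex (ModuleCat.{u} R)} (hS : S.ShortExact)

/-- `Γ_b(K) → Γ_{𝔞+b}(X₃)`. -/
def jK (S : ShortComplex (ModuleCat.{u} R)) :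
    DRing.torsionSub (Ideal.span {b}) (imK 𝔞 S) →ₗ[R]
      DRing.torsionSub (𝔞 ⊔ Ideal.span {b}) S.X₃ :=
  ((imK 𝔞 S).subtype ∘ₗ (DRing.torsionSub (Ideal.span {b}) (imK 𝔞 S)).subtype).codRestrict _
    (fun z => by
      refine (mem_torsionSub_sup _ _ _).2 ⟨?_, ?_⟩
      · obtain ⟨u, hu, hz⟩ := z.1.2
        show (z.1 : S.X₃) ∈ _
        rw [← hz]
        exact DRing.map_mem_torsionSub 𝔞 _ hu
      · obtain ⟨n, hn⟩ := z.2
        exact ⟨n, fun a ha => congrArg Subtype.val (hn a ha)⟩)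

lemma jK_apply (z : DRing.torsionSub (Ideal.span {b}) (imK 𝔞 S)) :
    (jK 𝔞 b S z : S.X₃) = z.1.1 := rfl

/-- the map `H^0_b(K) → H^1_{𝔞+b}(X₁)`. -/
noncomputable def f₂ :
    (localCohomology (Ideal.span {b}) 0).obj (kSES 𝔞 S).X₃ →ₗ[R]
      (localCohomology (𝔞 ⊔ Ideal.span {b}) (0 + 1)).obj S.X₁ :=
  δ (𝔞 ⊔ Ideal.span {b}) hS 0 ∘ₗ (H0Equiv (𝔞 ⊔ Ideal.span {b}) S.X₃).symm.toLinearMap ∘ₗ
    jK 𝔞 b S ∘ₗ (H0Equiv (Ideal.span {b}) (kSES 𝔞 S).X₃).toLinearMap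

lemma f₂_apply (x : (localCohomology (Ideal.span {b}) 0).obj (kSES 𝔞 S).X₃) :
    f₂ 𝔞 b hS x = δ (𝔞 ⊔ Ideal.span {b}) hS 0
      ((H0Equiv (𝔞 ⊔ Ideal.span {b}) S.X₃).symm
        (jK 𝔞 b S (H0Equiv (Ideal.span {b}) (kSES 𝔞 S).X₃ x))) := rfl

end Base

end Groth.Agent.H21.LC

namespace Groth.Agent.H21.LC

variable {R : Type u} [CommRing R]

section Base2
variable [IsNoetherianRing R] (𝔞 : Ideal R) (b : R) {S : ShortComplex (ModuleCat.{u} R)}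
  (hS : S.ShortExact) [Injective S.X₂]

omit [IsNoetherianRing R] in
lemma range_f₂ :
    LinearMap.range (f₂ 𝔞 b hS) =
      LinearMap.ker (cmp (le_sup_left : 𝔞 ≤ 𝔞 ⊔ Ideal.span {b}) (0 + 1) S.X₁) := by
  ext y
  constructor
  · rintro ⟨x, rfl⟩
    rw [LinearMap.mem_ker, f₂_apply, cmp_δ]
    apply (exact₃ 𝔞 hS 0 _).2
    let zz : DRing.torsionSub (Ideal.span {b}) (imK 𝔞 S) :=
      H0Equiv (Ideal.span {b}) (kSES 𝔞 S).X₃ x
    obtain ⟨u, hu, hz⟩ := zz.1.2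
    refine ⟨(H0Equiv 𝔞 S.X₂).symm ⟨u, hu⟩, ?_⟩
    apply toM_injective
    rw [toM_map, toM_H0Equiv_symm, toM_cmp, toM_H0Equiv_symm, jK_apply]
    exact hz
  · intro hy
    rw [LinearMap.mem_ker] at hy
    have hE1 : Subsingleton ((localCohomology (𝔞 ⊔ Ideal.span {b}) (0 + 1)).obj S.X₂) :=
      subsingleton_of_injective _ _ (by omega) _
    obtain ⟨w', rfl⟩ := (exact₁ (𝔞 ⊔ Ideal.span {b}) hS 0 y).1 (Subsingleton.elim _ _)
    rw [cmp_δ] at hy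
    obtain ⟨v, hv⟩ := (exact₃ 𝔞 hS 0 _).1 hy
    have h1 : S.g.hom (toM 𝔞 S.X₂ v) = toM (𝔞 ⊔ Ideal.span {b}) S.X₃ w' := by
      rw [← toM_map, hv, toM_cmp]
    have hK : toM (𝔞 ⊔ Ideal.span {b}) S.X₃ w' ∈ imK 𝔞 S := ⟨_, toM_mem 𝔞 _ v, h1⟩
    have hb : (⟨_, hK⟩ : imK 𝔞 S) ∈ DRing.torsionSub (Ideal.span {b}) (imK 𝔞 S) := by
      obtain ⟨n, hn⟩ := ((mem_torsionSub_sup 𝔞 (Ideal.span {b}) _).1
        (toM_mem (𝔞 ⊔ Ideal.span {b}) S.X₃ w')).2
      exact ⟨n, fun a ha => Subtype.ext (hn a ha)⟩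
    refine ⟨(H0Equiv (Ideal.span {b}) (kSES 𝔞 S).X₃).symm ⟨⟨_, hK⟩, hb⟩, ?_⟩
    rw [f₂_apply, LinearEquiv.apply_symm_apply]
    congr 1
    apply toM_injective
    rw [toM_H0Equiv_symm, jK_apply]

lemma ker_f₂ :
    LinearMap.ker (f₂ 𝔞 b hS) =
      LinearMap.ker (δ (Ideal.span {b}) (kSES_shortExact 𝔞 hS) 0) := by
  ext x
  have e1 := exact₃ (𝔞 ⊔ Ideal.span {b}) hS 0
    ((H0Equiv (𝔞 ⊔ Ideal.span {b}) S.X₃).symm
      (jK 𝔞 b S (H0Equiv (Ideal.span {b}) (kSES 𝔞 S).X₃ x)))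
  have e2 := exact₃ (Ideal.span {b}) (kSES_shortExact 𝔞 hS) 0 x
  refine ⟨fun hx => LinearMap.mem_ker.2 (e2.2 ?_), fun hx => LinearMap.mem_ker.2 (e1.2 ?_)⟩
  · obtain ⟨v, hv⟩ := e1.1 (LinearMap.mem_ker.1 hx)
    have h1 := congrArg (toM (𝔞 ⊔ Ideal.span {b}) S.X₃) hv
    rw [toM_map, toM_H0Equiv_symm, jK_apply] at h1
    have hu := (mem_torsionSub_sup 𝔞 (Ideal.span {b}) _).1 (toM_mem _ S.X₂ v)
    have hub : (⟨toM _ S.X₂ v, hu.1⟩ : DRing.torsionSub 𝔞 S.X₂) ∈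
        DRing.torsionSub (Ideal.span {b}) (DRing.torsionSub 𝔞 S.X₂) := by
      obtain ⟨n, hn⟩ := hu.2
      exact ⟨n, fun a ha => Subtype.ext (hn a ha)⟩
    refine ⟨(H0Equiv (Ideal.span {b}) (kSES 𝔞 S).X₂).symm ⟨_, hub⟩, ?_⟩
    apply toM_injective
    rw [toM_map, toM_H0Equiv_symm]
    apply Subtype.ext
    exact h1
  · obtain ⟨v'', hv''⟩ := e2.1 (LinearMap.mem_ker.1 hx)
    have h1 := congrArg (toM (Ideal.span {b}) (kSES 𝔞 S).X₃) hv''
    rw [toM_map] at h1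
    have h2 : S.g.hom (toM (Ideal.span {b}) (kSES 𝔞 S).X₂ v'').1 =
        (show ↥(imK 𝔞 S) from toM (Ideal.span {b}) (kSES 𝔞 S).X₃ x).1 := congrArg Subtype.val h1
    have hu : (toM (Ideal.span {b}) (kSES 𝔞 S).X₂ v'').1 ∈
        DRing.torsionSub (𝔞 ⊔ Ideal.span {b}) S.X₂ := by
      refine (mem_torsionSub_sup _ _ _).2 ⟨(toM (Ideal.span {b}) (kSES 𝔞 S).X₂ v'').2, ?_⟩
      obtain ⟨n, hn⟩ := toM_mem (Ideal.span {b}) (kSES 𝔞 S).X₂ v''
      exact ⟨n, fun a ha => congrArg Subtype.val (hn a ha)⟩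
    refine ⟨(H0Equiv (𝔞 ⊔ Ideal.span {b}) S.X₂).symm ⟨_, hu⟩, ?_⟩
    apply toM_injective
    rw [toM_map, toM_H0Equiv_symm, toM_H0Equiv_symm, jK_apply]
    exact h2

/-- base case: `ker(H^1_{𝔞+b}(M) → H^1_𝔞(M)) ≃ H^1_b(Γ_𝔞 M)`. -/
noncomputable def kerCmpEquivBase :
    LinearMap.ker (cmp (le_sup_left : 𝔞 ≤ 𝔞 ⊔ Ideal.span {b}) (0 + 1) S.X₁) ≃ₗ[R]
      (localCohomology (Ideal.span {b}) (0 + 1)).obj ((DRing.gammaI 𝔞).obj S.X₁) :=
  (LinearEquiv.ofEq _ _ (range_f₂ 𝔞 b hS).symm).trans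
    (rangeEquivOfKerEq (δ (Ideal.span {b}) (kSES_shortExact 𝔞 hS) 0) (f₂ 𝔞 b hS)
      (by
        intro y
        have hE1 : Subsingleton ((localCohomology (Ideal.span {b}) (0 + 1)).obj (kSES 𝔞 S).X₂) :=
          subsingleton_of_injective _ _ (by omega) _
        exact (exact₁ (Ideal.span {b}) (kSES_shortExact 𝔞 hS) 0 y).1 (Subsingleton.elim _ _))
      (ker_f₂ 𝔞 b hS))

end Base2

end Groth.Agent.H21.LC
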