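import Mathlib
import Groth.Agent.Lib.helper21.LC19

universe u
set_option linter.unusedSectionVars false
open CategoryTheory Opposite Limits Abelian

namespace Groth.Agent.H21.LC

variable {R : Type u} [CommRing R]

/-- functoriality of local cohomology for linear equivalences. -/
noncomputable def Hcongr (I : Ideal R) (i : ℕ) {X Y : Type u} [AddCommGroup X] [Module R X]
    [AddCommGroup Y] [Module R Y] (e : X ≃ₗ[R] Y) :
    (localCohomology I i).obj (ModuleCat.of R X) ≃ₗ[R]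
      (localCohomology I i).obj (ModuleCat.of R Y) :=
  ((localCohomology I i).mapIso e.toModuleIso).toLinearEquiv

/-- `H^1_b` vanishes on quotients of injectives. -/
lemma subsingleton_H1_principal_of_quotient [IsNoetherianRing R] (b : R)
    (E N : Type u) [AddCommGroup E] [Module R E] [Module.Injective R E]
    [AddCommGroup N] [Module R N] (π : E →ₗ[R] N) (hπ : Function.Surjective π) :
    Subsingleton ((localCohomology (Ideal.span {b}) 1).obj (ModuleCat.of R N)) := by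
  have hsurj := toDT_surjective_of_quotient_injective b E N π hπ
  have e := cokerToDTEquiv (Ideal.span {b}) N
  have : Subsingleton (LocCoh.DT (Ideal.span {b}) N ⧸
      LinearMap.range (LocCoh.toDT (Ideal.span {b}) N)) := by
    rw [LinearMap.range_eq_top.2 hsurj]
    infer_instance
  exact e.symm.toEquiv.subsingleton

section
variable [IsNoetherianRing R] (𝔞 : Ideal R) (b : R) {S : ShortComplex (ModuleCat.{u} R)}
  (hS : S.ShortExact) [Injective S.X₂]

/-- shifting the kernel of the comparison map. -/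
noncomputable def kerCmpShift (i : ℕ) (hi : 0 < i) :
    LinearMap.ker (cmp (le_sup_left : 𝔞 ≤ 𝔞 ⊔ Ideal.span {b}) i S.X₃) ≃ₗ[R]
      LinearMap.ker (cmp (le_sup_left : 𝔞 ≤ 𝔞 ⊔ Ideal.span {b}) (i + 1) S.X₁) :=
  kerEquivOfComm
    (LinearEquiv.ofBijective (δ (𝔞 ⊔ Ideal.span {b}) hS i)
      (δ_bijective_of_subsingleton _ hS i (subsingleton_of_injective _ _ hi _)
        (subsingleton_of_injective _ _ (by omega) _)))
    (LinearEquiv.ofBijective (δ 𝔞 hS i)
      (δ_bijective_of_subsingleton _ hS i (subsingleton_of_injective _ _ hi _)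
        (subsingleton_of_injective _ _ (by omega) _)))
    _ _ (fun a => (cmp_δ _ i hS a).symm)

end

end Groth.Agent.H21.LC

namespace Groth.Agent.H21.LC

variable {R : Type u} [CommRing R]

section
variable [IsNoetherianRing R] (𝔞 : Ideal R) (b : R) {S : ShortComplex (ModuleCat.{u} R)}
  (hS : S.ShortExact) [Injective S.X₂]

/-- the surjection `Γ_𝔞(X₃) → H^1_𝔞(X₁)`. -/
noncomputable def pΓ : DRing.torsionSub 𝔞 S.X₃ →ₗ[R] (localCohomology 𝔞 (0 + 1)).obj S.X₁ :=
  δ 𝔞 hS 0 ∘ₗ (H0Equiv 𝔞 S.X₃).symm.toLinearMap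

lemma pΓ_surjective : Function.Surjective (pΓ 𝔞 hS) := by
  intro x
  have hE1 : Subsingleton ((localCohomology 𝔞 (0 + 1)).obj S.X₂) :=
    subsingleton_of_injective 𝔞 _ (by omega) _
  obtain ⟨w, hw⟩ := (exact₁ 𝔞 hS 0 x).1 (Subsingleton.elim _ _)
  exact ⟨H0Equiv 𝔞 S.X₃ w, by simp only [pΓ, LinearMap.comp_apply, LinearEquiv.coe_coe,
    LinearEquiv.symm_apply_apply, hw]⟩

/-- `Γ_𝔞(X₂) → ker pΓ`. -/
noncomputable def πK : DRing.torsionSub 𝔞 S.X₂ →ₗ[R] LinearMap.ker (pΓ 𝔞 hS) :=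
  (S.g.hom.restrict (fun m hm => DRing.map_mem_torsionSub 𝔞 S.g.hom hm)).codRestrict _ (fun u => by
    rw [LinearMap.mem_ker]
    show δ 𝔞 hS 0 ((H0Equiv 𝔞 S.X₃).symm _) = 0
    apply (exact₃ 𝔞 hS 0 _).2
    refine ⟨(H0Equiv 𝔞 S.X₂).symm u, ?_⟩
    apply toM_injective
    rw [toM_map, toM_H0Equiv_symm, toM_H0Equiv_symm]
    rfl)

lemma πK_surjective : Function.Surjective (πK 𝔞 hS) := by
  rintro ⟨z, hz⟩
  rw [LinearMap.mem_ker] at hz
  obtain ⟨v, hv⟩ := (exact₃ 𝔞 hS 0 _).1 hz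
  refine ⟨⟨toM 𝔞 S.X₂ v, toM_mem 𝔞 _ v⟩, ?_⟩
  apply Subtype.ext
  apply Subtype.ext
  show S.g.hom (toM 𝔞 S.X₂ v) = z.1
  rw [← toM_map, hv]
  exact toM_H0Equiv_symm 𝔞 S.X₃ z

/-- `H^1_b(Γ_𝔞 X₃) ≃ H^1_b(H^1_𝔞 X₁)`. -/
noncomputable def bridge1 :
    (localCohomology (Ideal.span {b}) 1).obj ((DRing.gammaI 𝔞).obj S.X₃) ≃ₗ[R]
      (localCohomology (Ideal.span {b}) 1).obj
        (ModuleCat.of R ((localCohomology 𝔞 (0 + 1)).obj S.X₁)) := by
  have hT := LinearMap.shortExact_shortComplexKer (pΓ_surjective 𝔞 hS)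
  have h0 : Injective (ModuleCat.of R S.X₂) := (inferInstance : Injective S.X₂)
  have : Module.Injective R S.X₂ := Module.injective_module_of_injective_object R _
  have := injective_torsionSub 𝔞 S.X₂
  have h1 := subsingleton_H1_principal_of_quotient b (DRing.torsionSub 𝔞 S.X₂)
    (LinearMap.ker (pΓ 𝔞 hS)) (πK 𝔞 hS) (πK_surjective 𝔞 hS)
  have h2 := subsingleton_principal b 0 (ModuleCat.of R (LinearMap.ker (pΓ 𝔞 hS)))
  exact LinearEquiv.ofBijective _ (map_g_bijective_of_subsingleton (Ideal.span {b}) hT 1 h1 h2)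

end

end Groth.Agent.H21.LC

namespace Groth.Agent.H21.LC

variable {R : Type u} [CommRing R]

/-- `ker(H^{i+1}_{𝔞+Rb}(M) → H^{i+1}_𝔞(M)) ≃ H^1_{Rb}(H^i_𝔞(M))`. -/
theorem nonempty_kerCmpEquiv [IsNoetherianRing R] (𝔞 : Ideal R) (b : R) (i : ℕ) :
    ∀ M : ModuleCat.{u} R,
      Nonempty (LinearMap.ker (cmp (le_sup_left : 𝔞 ≤ 𝔞 ⊔ Ideal.span {b}) (i + 1) M) ≃ₗ[R]
        (localCohomology (Ideal.span {b}) 1).obj
          (ModuleCat.of R ((localCohomology 𝔞 i).obj M))) := by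
  induction i with
  | zero =>
    intro M
    exact ⟨(kerCmpEquivBase 𝔞 b (injSES_shortExact M)).trans
      (Hcongr (Ideal.span {b}) 1 (H0Equiv 𝔞 M).symm)⟩
  | succ i ih =>
    intro M
    have hS := injSES_shortExact M
    cases i with
    | zero =>
      have hS' := injSES_shortExact (injSES M).X₃
      exact ⟨((kerCmpShift 𝔞 b hS 1 (by omega)).symm.trans
        (kerCmpEquivBase 𝔞 b hS')).trans (bridge1 𝔞 b hS)⟩
    | succ j =>
      obtain ⟨e⟩ := ih (injSES M).X₃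
      have hbij := δ_bijective_of_subsingleton 𝔞 hS (j + 1)
        (subsingleton_of_injective 𝔞 _ (by omega) _) (subsingleton_of_injective 𝔞 _ (by omega) _)
      exact ⟨((kerCmpShift 𝔞 b hS (j + 1 + 1) (by omega)).symm.trans e).trans
        (Hcongr (Ideal.span {b}) 1 (LinearEquiv.ofBijective _ hbij))⟩

end Groth.Agent.H21.LC
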