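import Mathlib
import Groth.Agent.Lib.helper21.LC20

universe u
set_option linter.unusedSectionVars false
open CategoryTheory Opposite Limits Abelian
open Groth.Agent.Lib.helper20.IT

namespace Groth.Agent.H21.LC

variable {R : Type u} [CommRing R]

/-- for a principal ideal, `toDT` is surjective on modules divisible modulo torsion. -/
lemma toDT_surjective_of_div [IsNoetherianRing R] (a : R)
    (N : Type u) [AddCommGroup N] [Module R N]
    (hdiv : ∀ (n : ℕ) (y : N), ∃ (K : ℕ) (x : N), a ^ (K + n) • x = a ^ K • y) :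
    Function.Surjective (LocCoh.toDT (Ideal.span {a}) N) := by
  intro x
  obtain ⟨n, φ, rfl⟩ := cls_surj _ N x
  have han : a ^ n ∈ Ideal.span {a} ^ n := Ideal.pow_mem_pow (Ideal.mem_span_singleton_self a) n
  obtain ⟨k, e', he'⟩ := hdiv n (φ ⟨a ^ n, han⟩)
  refine ⟨e', ?_⟩
  rw [toDT_eq _ N (n + k), eq_comm, cls_eq_iff]
  refine ⟨n + k, Nat.le_add_right n k, le_rfl, ?_⟩
  ext ⟨c, hc⟩
  rw [Ideal.span_singleton_pow, Ideal.mem_span_singleton'] at hc
  obtain ⟨r, rfl⟩ := hc
  rw [res_apply, res_apply, sm_apply]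
  have h1 : (⟨r * a ^ (n + k), Ideal.pow_le_pow_right (Nat.le_add_right n k)
      (by rw [Ideal.span_singleton_pow, Ideal.mem_span_singleton']; exact ⟨r, rfl⟩)⟩ :
        ↥(Ideal.span {a} ^ n)) = (r * a ^ k) • ⟨a ^ n, han⟩ := by
    apply Subtype.ext
    show r * a ^ (n + k) = (r * a ^ k) * a ^ n
    ring
  rw [h1, map_smul, mul_smul, ← he', smul_smul]
  show (r * a ^ (k + n)) • e' = (r * a ^ (n + k)) • e'
  rw [add_comm]

lemma subsingleton_H1_principal_of_div [IsNoetherianRing R] (b : R)
    (N : Type u) [AddCommGroup N] [Module R N]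
    (hdiv : ∀ (n : ℕ) (y : N), ∃ (K : ℕ) (x : N), b ^ (K + n) • x = b ^ K • y) :
    Subsingleton ((localCohomology (Ideal.span {b}) 1).obj (ModuleCat.of R N)) := by
  have hsurj := toDT_surjective_of_div b N hdiv
  have e := cokerToDTEquiv (Ideal.span {b}) N
  have : Subsingleton (LocCoh.DT (Ideal.span {b}) N ⧸
      LinearMap.range (LocCoh.toDT (Ideal.span {b}) N)) := by
    rw [LinearMap.range_eq_top.2 hsurj]
    infer_instance
  exact e.symm.toEquiv.subsingleton

/-- local cohomology of a zero module vanishes. -/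
lemma subsingleton_of_subsingleton (I : Ideal R) (i : ℕ) (M : ModuleCat.{u} R)
    [Subsingleton M] : Subsingleton ((localCohomology I i).obj M) := by
  refine ⟨fun x y => ?_⟩
  have h1 := smul_eq_zero_of_kills I i M 1 (fun m => Subsingleton.elim _ _) x
  have h2 := smul_eq_zero_of_kills I i M 1 (fun m => Subsingleton.elim _ _) y
  rw [one_smul] at h1 h2
  rw [h1, h2]

end Groth.Agent.H21.LC

namespace Groth.Agent.H21.LC

variable {R : Type u} [CommRing R]

section BaseRing
variable {R' : Type u} [CommRing R'] [Algebra R R']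
  (E' : Type u) [AddCommGroup E'] [Module R' E'] [Module R E'] [IsScalarTower R R' E']

lemma mem_torsionSub_map_iff (𝔞 : Ideal R) (y : E') :
    y ∈ DRing.torsionSub (𝔞.map (algebraMap R R')) E' ↔ y ∈ DRing.torsionSub 𝔞 E' := by
  constructor
  · rintro ⟨n, hn⟩
    refine ⟨n, fun a ha => ?_⟩
    rw [← algebraMap_smul R' a y]
    apply hn
    rw [← Ideal.map_pow]
    exact Ideal.mem_map_of_mem _ ha
  · rintro ⟨n, hn⟩
    refine ⟨n, ?_⟩
    have hle : (𝔞.map (algebraMap R R')) ^ n ≤ LinearMap.ker (LinearMap.toSpanSingleton R' E' y) := by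
      rw [← Ideal.map_pow, Ideal.map_le_iff_le_comap]
      intro a ha
      rw [Ideal.mem_comap]
      show algebraMap R R' a ∈ LinearMap.ker (LinearMap.toSpanSingleton R' E' y)
      rw [LinearMap.mem_ker, LinearMap.toSpanSingleton_apply, algebraMap_smul]
      exact hn a ha
    intro a' ha'
    have := hle ha'
    rwa [LinearMap.mem_ker, LinearMap.toSpanSingleton_apply] at this

lemma div_torsionSub_of_injective [IsNoetherianRing R'] [Module.Injective R' E']
    (𝔞 : Ideal R) (b : R) (n : ℕ) (y : DRing.torsionSub 𝔞 E') :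
    ∃ (K : ℕ) (x : DRing.torsionSub 𝔞 E'), b ^ (K + n) • x = b ^ K • y := by
  have := injective_torsionSub (𝔞.map (algebraMap R R')) E'
  obtain ⟨K, x', hx'⟩ := exists_div_of_injective
    (DRing.torsionSub (𝔞.map (algebraMap R R')) E') (algebraMap R R' b) n
    ⟨y.1, (mem_torsionSub_map_iff E' 𝔞 y.1).2 y.2⟩
  refine ⟨K, ⟨x'.1, (mem_torsionSub_map_iff E' 𝔞 x'.1).1 x'.2⟩, ?_⟩
  apply Subtype.ext
  have h1 : (algebraMap R R' b) ^ (K + n) • x'.1 = (algebraMap R R' b) ^ K • y.1 :=
    congrArg Subtype.val hx'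
  rw [← map_pow, ← map_pow, algebraMap_smul, algebraMap_smul] at h1
  exact h1

end BaseRing

end Groth.Agent.H21.LC

namespace Groth.Agent.H21.LC

variable {R : Type u} [CommRing R]

/-- injective modules over a Noetherian `R`-algebra are `Γ_I`-acyclic over `R`. -/
theorem subsingleton_of_injective_over [IsNoetherianRing R] {R' : Type u} [CommRing R']
    [IsNoetherianRing R'] [Algebra R R'] (E' : Type u) [AddCommGroup E'] [Module R' E']
    [Module R E'] [IsScalarTower R R' E'] [Module.Injective R' E'] (s : Finset R) :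
    ∀ i : ℕ, 0 < i →
      Subsingleton ((localCohomology (Ideal.span (s : Set R)) i).obj (ModuleCat.of R E')) := by
  classical
  induction s using Finset.induction_on with
  | empty =>
    intro i hi
    rw [Finset.coe_empty, Ideal.span_empty]
    refine subsingleton_of_torsion ⊥ i hi (ModuleCat.of R E') ?_
    intro m
    refine ⟨1, fun a ha => ?_⟩
    rw [pow_one, Ideal.mem_bot] at ha
    rw [ha, zero_smul]
  | insert b s hb ih =>
    intro i hi
    obtain ⟨j, rfl⟩ : ∃ j, i = j + 1 := ⟨i - 1, by omega⟩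
    rw [Finset.coe_insert, Ideal.span_insert, sup_comm]
    set 𝔞 := Ideal.span (s : Set R) with h𝔞
    have hsub : Subsingleton ((localCohomology (Ideal.span {b}) 1).obj
        (ModuleCat.of R ((localCohomology 𝔞 j).obj (ModuleCat.of R E')))) := by
      cases j with
      | zero =>
        have h1 := subsingleton_H1_principal_of_div b (DRing.torsionSub 𝔞 E')
          (div_torsionSub_of_injective (R' := R') E' 𝔞 b)
        exact (Hcongr (Ideal.span {b}) 1 (H0Equiv 𝔞 (ModuleCat.of R E'))).toEquiv.subsingleton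
      | succ j =>
        have := ih (j + 1) (by omega)
        exact subsingleton_of_subsingleton _ _ _
    obtain ⟨e⟩ := nonempty_kerCmpEquiv 𝔞 b j (ModuleCat.of R E')
    have hker : Subsingleton (LinearMap.ker
        (cmp (le_sup_left : 𝔞 ≤ 𝔞 ⊔ Ideal.span {b}) (j + 1) (ModuleCat.of R E'))) :=
      e.toEquiv.subsingleton
    have h0 := ih (j + 1) (by omega)
    refine ⟨fun x y => ?_⟩
    have hx : x ∈ LinearMap.ker
        (cmp (le_sup_left : 𝔞 ≤ 𝔞 ⊔ Ideal.span {b}) (j + 1) (ModuleCat.of R E')) :=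
      LinearMap.mem_ker.2 (Subsingleton.elim _ _)
    have hy : y ∈ LinearMap.ker
        (cmp (le_sup_left : 𝔞 ≤ 𝔞 ⊔ Ideal.span {b}) (j + 1) (ModuleCat.of R E')) :=
      LinearMap.mem_ker.2 (Subsingleton.elim _ _)
    exact congrArg Subtype.val (Subsingleton.elim (⟨x, hx⟩ : LinearMap.ker _) ⟨y, hy⟩)

end Groth.Agent.H21.LC
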