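import Mathlib
import Groth.Agent.Lib.helper21.LC21

universe u
set_option linter.unusedSectionVars false
set_option linter.style.haveILetI false
open CategoryTheory Opposite Limits Abelian

namespace Groth.Agent.H21.LC

variable {R : Type u} [CommRing R] {R' : Type u} [CommRing R'] [Algebra R R']

variable (R R') in
/-- restriction of scalars along `R → R'`. -/
noncomputable abbrev Fr : ModuleCat.{u} R' ⥤ ModuleCat.{u} R :=
  ModuleCat.restrictScalars (algebraMap R R')

lemma Fr_smul (X' : ModuleCat.{u} R') (r : R) (x : (Fr R R').obj X') :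
    r • x = (algebraMap R R' r) • (show X' from x) := rfl

lemma Fr_shortExact {S' : ShortComplex (ModuleCat.{u} R')} (hS' : S'.ShortExact) :
    (S'.map (Fr R R')).ShortExact := hS'.map_of_exact (Fr R R')

example (X' : ModuleCat.{u} R') : ((Fr R R').obj X' : Type u) = X' := rfl

end Groth.Agent.H21.LC

namespace Groth.Agent.H21.LC

section Generic
variable {A : Type u} [CommRing A] (I : Ideal A) {S : ShortComplex (ModuleCat.{u} A)}
  (hS : S.ShortExact)

lemma δ0_symm_eq_zero_iff (z : DRing.torsionSub I S.X₃) :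
    δ I hS 0 ((H0Equiv I S.X₃).symm z) = 0 ↔
      ∃ u : S.X₂, u ∈ DRing.torsionSub I S.X₂ ∧ S.g.hom u = z.1 := by
  rw [exact₃ I hS 0 _]
  constructor
  · rintro ⟨v, hv⟩
    refine ⟨toM I S.X₂ v, toM_mem I _ v, ?_⟩
    rw [← toM_map, hv, toM_H0Equiv_symm]
  · rintro ⟨u, hu, huz⟩
    refine ⟨(H0Equiv I S.X₂).symm ⟨u, hu⟩, ?_⟩
    apply toM_injective
    rw [toM_map, toM_H0Equiv_symm, toM_H0Equiv_symm]
    exact huz

lemma δ0_symm_surjective (h : Subsingleton ((localCohomology I (0 + 1)).obj S.X₂))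
    (x : (localCohomology I (0 + 1)).obj S.X₁) :
    ∃ z : DRing.torsionSub I S.X₃, δ I hS 0 ((H0Equiv I S.X₃).symm z) = x := by
  obtain ⟨w, hw⟩ := (exact₁ I hS 0 x).1 (Subsingleton.elim _ _)
  exact ⟨H0Equiv I S.X₃ w, by rw [LinearEquiv.symm_apply_apply, hw]⟩

end Generic

variable {R : Type u} [CommRing R] {R' : Type u} [CommRing R'] [Algebra R R']

lemma subsingleton_Fr_injective [IsNoetherianRing R] [IsNoetherianRing R']
    (E' : ModuleCat.{u} R') [Injective E'] (I : Ideal R) (i : ℕ) (hi : 0 < i) :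
    Subsingleton ((localCohomology I i).obj ((Fr R R').obj E')) := by
  letI : Module R E' := Module.compHom E' (algebraMap R R')
  haveI : IsScalarTower R R' E' := ⟨fun r r' x => by
    show (r • r') • x = (algebraMap R R' r) • (r' • x)
    rw [Algebra.smul_def, mul_smul]⟩
  have h0 : Injective (ModuleCat.of R' E') := ‹Injective E'›
  haveI : Module.Injective R' E' := Module.injective_module_of_injective_object R' E'
  obtain ⟨s, rfl⟩ := (IsNoetherian.noetherian I : I.FG)
  exact subsingleton_of_injective_over (R' := R') E' s i hi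

lemma mem_torsionSub_Fr_iff (I : Ideal R) (X' : ModuleCat.{u} R') (y : X') :
    y ∈ DRing.torsionSub (I.map (algebraMap R R')) X' ↔
      (show (Fr R R').obj X' from y) ∈ DRing.torsionSub I ((Fr R R').obj X') := by
  letI : Module R X' := Module.compHom X' (algebraMap R R')
  haveI : IsScalarTower R R' X' := ⟨fun r r' x => by
    show (r • r') • x = (algebraMap R R' r) • (r' • x)
    rw [Algebra.smul_def, mul_smul]⟩
  exact mem_torsionSub_map_iff X' I y

end Groth.Agent.H21.LC

namespace Groth.Agent.H21.LC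

variable {R : Type u} [CommRing R] {R' : Type u} [CommRing R'] [Algebra R R']

/-- two surjections with the same kernel have isomorphic targets. -/
noncomputable def equivOfSurjOfKerEq {X Y Y' : Type*} [AddCommGroup X] [AddCommGroup Y]
    [AddCommGroup Y'] [Module R X] [Module R Y] [Module R Y']
    (f : X →ₗ[R] Y) (f' : X →ₗ[R] Y') (hf : Function.Surjective f)
    (hf' : Function.Surjective f') (hk : LinearMap.ker f' = LinearMap.ker f) : Y' ≃ₗ[R] Y :=
  (f'.quotKerEquivOfSurjective hf').symm.trans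
    ((Submodule.quotEquivOfEq _ _ hk).trans (f.quotKerEquivOfSurjective hf))

section Deg
variable [IsNoetherianRing R] [IsNoetherianRing R'] (I : Ideal R)

/-- identity `Γ_I(Fr X') → Fr(Γ_{IR'} X')`. -/
def ι₀ (X' : ModuleCat.{u} R') :
    DRing.torsionSub I ((Fr R R').obj X') →ₗ[R]
      (Fr R R').obj (ModuleCat.of R' (DRing.torsionSub (I.map (algebraMap R R')) X')) where
  toFun x := ⟨x.1, (mem_torsionSub_Fr_iff I X' x.1).2 x.2⟩
  map_add' _ _ := rfl
  map_smul' _ _ := rfl

lemma ι₀_surjective (X' : ModuleCat.{u} R') : Function.Surjective (ι₀ I X') := by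
  rintro ⟨y, hy⟩
  exact ⟨⟨y, (mem_torsionSub_Fr_iff I X' y).1 hy⟩, rfl⟩

/-- degree zero. -/
noncomputable def FrEquiv0 (X' : ModuleCat.{u} R') :
    (Fr R R').obj ((localCohomology (I.map (algebraMap R R')) 0).obj X') ≃ₗ[R]
      (localCohomology I 0).obj ((Fr R R').obj X') :=
  (LinearEquiv.ofBijective
    (((Fr R R').map (ModuleCat.ofHom
      (H0Equiv (I.map (algebraMap R R')) X').symm.toLinearMap)).hom ∘ₗ ι₀ I X' ∘ₗ
      (H0Equiv I ((Fr R R').obj X')).toLinearMap)
    ⟨by
      intro x y hxy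
      apply (H0Equiv I ((Fr R R').obj X')).injective
      apply Subtype.ext
      have h1 := (H0Equiv (I.map (algebraMap R R')) X').symm.injective hxy
      have h2 := congrArg Subtype.val h1
      exact h2,
     by
      intro y
      obtain ⟨z, hz⟩ := ι₀_surjective I X' (H0Equiv (I.map (algebraMap R R')) X' y)
      refine ⟨(H0Equiv I ((Fr R R').obj X')).symm z, ?_⟩
      show (H0Equiv (I.map (algebraMap R R')) X').symm
        (ι₀ I X' (H0Equiv I _ ((H0Equiv I _).symm z))) = y
      rw [LinearEquiv.apply_symm_apply, hz, LinearEquiv.symm_apply_apply]⟩).symm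

end Deg

end Groth.Agent.H21.LC

namespace Groth.Agent.H21.LC

variable {R : Type u} [CommRing R] {R' : Type u} [CommRing R'] [Algebra R R']

section Deg1
variable [IsNoetherianRing R] [IsNoetherianRing R'] (I : Ideal R)
  {S' : ShortComplex (ModuleCat.{u} R')} (hS' : S'.ShortExact) [Injective S'.X₂]

/-- the `R`-side surjection. -/
noncomputable def pR : DRing.torsionSub I ((Fr R R').obj S'.X₃) →ₗ[R]
    (localCohomology I (0 + 1)).obj ((Fr R R').obj S'.X₁) :=
  δ I (Fr_shortExact (R := R) hS') 0 ∘ₗ (H0Equiv I ((Fr R R').obj S'.X₃)).symm.toLinearMap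

/-- the `R'`-side surjection, restricted to `R`. -/
noncomputable def qR : DRing.torsionSub I ((Fr R R').obj S'.X₃) →ₗ[R]
    (Fr R R').obj ((localCohomology (I.map (algebraMap R R')) (0 + 1)).obj S'.X₁) :=
  ((Fr R R').map (ModuleCat.ofHom (δ (I.map (algebraMap R R')) hS' 0 ∘ₗ
    (H0Equiv (I.map (algebraMap R R')) S'.X₃).symm.toLinearMap))).hom ∘ₗ ι₀ I S'.X₃

lemma pR_surjective : Function.Surjective (pR I hS') := by
  intro x
  obtain ⟨z, hz⟩ := δ0_symm_surjective I (Fr_shortExact (R := R) hS')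
    (subsingleton_Fr_injective S'.X₂ I _ (by omega)) x
  exact ⟨z, hz⟩

lemma qR_surjective : Function.Surjective (qR I hS') := by
  intro x
  obtain ⟨z, hz⟩ := δ0_symm_surjective (I.map (algebraMap R R')) hS'
    (subsingleton_of_injective _ _ (by omega) _) x
  obtain ⟨t, ht⟩ := ι₀_surjective I S'.X₃ z
  refine ⟨t, ?_⟩
  show δ (I.map (algebraMap R R')) hS' 0
    ((H0Equiv (I.map (algebraMap R R')) S'.X₃).symm (ι₀ I S'.X₃ t)) = x
  rw [ht, hz]

lemma ker_qR : LinearMap.ker (qR I hS') = LinearMap.ker (pR I hS') := by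
  ext x
  have h1 : qR I hS' x = 0 ↔ δ (I.map (algebraMap R R')) hS' 0
      ((H0Equiv (I.map (algebraMap R R')) S'.X₃).symm (ι₀ I S'.X₃ x)) = 0 := Iff.rfl
  have h2 : pR I hS' x = 0 ↔ δ I (Fr_shortExact (R := R) hS') 0
      ((H0Equiv I ((Fr R R').obj S'.X₃)).symm x) = 0 := Iff.rfl
  have h3 := δ0_symm_eq_zero_iff (I.map (algebraMap R R')) hS' (ι₀ I S'.X₃ x)
  have h4 := δ0_symm_eq_zero_iff I (Fr_shortExact (R := R) hS') x
  rw [LinearMap.mem_ker, LinearMap.mem_ker]
  refine (h1.trans h3).trans (Iff.trans ?_ (h2.trans h4).symm)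
  constructor
  · rintro ⟨u, hu, hux⟩
    exact ⟨u, (mem_torsionSub_Fr_iff I S'.X₂ u).1 hu, hux⟩
  · rintro ⟨u, hu, hux⟩
    exact ⟨u, (mem_torsionSub_Fr_iff I S'.X₂ u).2 hu, hux⟩

/-- degree one. -/
noncomputable def FrEquiv1 :
    (Fr R R').obj ((localCohomology (I.map (algebraMap R R')) (0 + 1)).obj S'.X₁) ≃ₗ[R]
      (localCohomology I (0 + 1)).obj ((Fr R R').obj S'.X₁) :=
  equivOfSurjOfKerEq (pR I hS') (qR I hS') (pR_surjective I hS') (qR_surjective I hS')
    (ker_qR I hS')

/-- the inductive step. -/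
noncomputable def FrEquivStep (i : ℕ) (hi : 0 < i)
    (e : (Fr R R').obj ((localCohomology (I.map (algebraMap R R')) i).obj S'.X₃) ≃ₗ[R]
      (localCohomology I i).obj ((Fr R R').obj S'.X₃)) :
    (Fr R R').obj ((localCohomology (I.map (algebraMap R R')) (i + 1)).obj S'.X₁) ≃ₗ[R]
      (localCohomology I (i + 1)).obj ((Fr R R').obj S'.X₁) :=
  ((LinearEquiv.ofBijective
      ((Fr R R').map (ModuleCat.ofHom (δ (I.map (algebraMap R R')) hS' i))).hom
      (δ_bijective_of_subsingleton _ hS' i (subsingleton_of_injective _ _ hi _)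
        (subsingleton_of_injective _ _ (by omega) _))).symm.trans e).trans
    (LinearEquiv.ofBijective (δ I (Fr_shortExact (R := R) hS') i)
      (δ_bijective_of_subsingleton _ _ i (subsingleton_Fr_injective S'.X₂ I _ hi)
        (subsingleton_Fr_injective S'.X₂ I _ (by omega))))

end Deg1

/-- independence of the base ring. -/
theorem nonempty_FrEquiv [IsNoetherianRing R] [IsNoetherianRing R'] (I : Ideal R) (i : ℕ) :
    ∀ X' : ModuleCat.{u} R',
      Nonempty ((Fr R R').obj ((localCohomology (I.map (algebraMap R R')) i).obj X') ≃ₗ[R]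
        (localCohomology I i).obj ((Fr R R').obj X')) := by
  induction i with
  | zero => exact fun X' => ⟨FrEquiv0 I X'⟩
  | succ i ih =>
    intro X'
    cases i with
    | zero => exact ⟨FrEquiv1 I (injSES_shortExact X')⟩
    | succ j =>
      obtain ⟨e⟩ := ih (injSES X').X₃
      exact ⟨FrEquivStep I (injSES_shortExact X') (j + 1) (by omega) e⟩

end Groth.Agent.H21.LC
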