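import Mathlib
import Groth.Agent.Lib.helper21.LC22

universe u
set_option linter.unusedSectionVars false
set_option linter.style.haveILetI false
open CategoryTheory Opposite Limits Abelian

namespace Groth.Agent.H21.LC

variable {R : Type u} [CommRing R]

/-- multiplication by `r` on `M` induces multiplication by `r` on `H^i_I(M)`. -/
lemma map_smul_id (I : Ideal R) (i : ℕ) (M : ModuleCat.{u} R) (r : R)
    (x : (localCohomology I i).obj M) :
    ((localCohomology I i).map (r • 𝟙 M)).hom x = r • x := by
  obtain ⟨n, y, rfl⟩ := ιH_surj I i M x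
  rw [map_ιH, Ext.mk₀_smul, Ext.comp_smul, Ext.comp_mk₀_id, map_smul]

/-- if `b ∈ I` acts bijectively on `Y` then `H^j_I(Y) = 0`. -/
lemma subsingleton_of_smul_bijective (I : Ideal R) (b : R) (hbI : b ∈ I) (j : ℕ)
    (Y : ModuleCat.{u} R) (hb : Function.Bijective (fun y : Y => b • y)) :
    Subsingleton ((localCohomology I j).obj Y) := by
  let eb : Y ≃ₗ[R] Y := LinearEquiv.ofBijective (b • LinearMap.id) hb
  have hiso : IsIso (b • 𝟙 Y) := by
    have : b • 𝟙 Y = eb.toModuleIso.hom := rfl
    rw [this]; infer_instance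
  have hinj : Function.Injective (fun x : (localCohomology I j).obj Y => b • x) := by
    intro x x' h
    have h1 : ((localCohomology I j).map (b • 𝟙 Y)).hom x =
        ((localCohomology I j).map (b • 𝟙 Y)).hom x' := by
      rw [map_smul_id, map_smul_id]; exact h
    have := (ModuleCat.mono_iff_injective ((localCohomology I j).map (b • 𝟙 Y))).1 inferInstance
    exact this h1
  have hpow : ∀ n : ℕ, Function.Injective (fun x : (localCohomology I j).obj Y => b ^ n • x) := by
    intro n
    induction n with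
    | zero => intro x x' h; simpa using h
    | succ n ih =>
      intro x x' h
      simp only [pow_succ, mul_smul] at h
      exact hinj (ih h)
  refine ⟨fun x x' => ?_⟩
  have key : ∀ x : (localCohomology I j).obj Y, x = 0 := by
    intro x
    obtain ⟨n, hn⟩ := mem_torsionSub_H I j Y x
    apply hpow n
    show b ^ n • x = b ^ n • 0
    rw [hn _ (Ideal.pow_mem_pow hbI n), smul_zero]
  rw [key x, key x']

end Groth.Agent.H21.LC

namespace Groth.Agent.H21.LC

variable {R : Type u} [CommRing R]

section KR
variable {M M' : Type u} [AddCommGroup M] [Module R M] [AddCommGroup M'] [Module R M']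
  (e : M →ₗ[R] M')

/-- `0 → ker e → M → range e → 0`. -/
noncomputable abbrev kerSES : ShortComplex (ModuleCat.{u} R) :=
  ShortComplex.mk (ModuleCat.ofHom (LinearMap.ker e).subtype)
    (ModuleCat.ofHom e.rangeRestrict) (by
      refine ModuleCat.hom_ext (LinearMap.ext fun x => ?_)
      apply Subtype.ext
      exact x.2)

lemma kerSES_shortExact : (kerSES e).ShortExact := by
  refine ModuleCat.shortComplex_shortExact _ ?_ Subtype.val_injective
    (LinearMap.surjective_rangeRestrict e)
  intro m
  constructor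
  · intro hm
    exact ⟨⟨m, congrArg Subtype.val hm⟩, rfl⟩
  · rintro ⟨x, rfl⟩
    apply Subtype.ext
    exact x.2

/-- `0 → range e → M' → M'/range e → 0`. -/
noncomputable abbrev rangeSES : ShortComplex (ModuleCat.{u} R) :=
  ShortComplex.mk (ModuleCat.ofHom (LinearMap.range e).subtype)
    (ModuleCat.ofHom (LinearMap.range e).mkQ) (by
      refine ModuleCat.hom_ext (LinearMap.ext fun x => ?_)
      exact (Submodule.Quotient.mk_eq_zero _).2 x.2)

lemma rangeSES_shortExact : (rangeSES e).ShortExact := by
  refine ModuleCat.shortComplex_shortExact _ ?_ Subtype.val_injective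
    (Submodule.mkQ_surjective _)
  intro m
  constructor
  · intro hm
    exact ⟨⟨m, (Submodule.Quotient.mk_eq_zero _).1 hm⟩, rfl⟩
  · rintro ⟨x, rfl⟩
    exact (Submodule.Quotient.mk_eq_zero _).2 x.2

lemma ofHom_eq_comp : ModuleCat.ofHom e = (kerSES e).g ≫ (rangeSES e).f := by
  refine ModuleCat.hom_ext (LinearMap.ext fun x => ?_)
  rfl

end KR

/-- Lemma L: if `b` is bijective on `Y` and `lam : X → Y` has `b`-power torsion kernel and
cokernel, then `Y / range lam ≃ H^1_{(b)}(X)`. -/
theorem nonempty_cokerEquivH1 [IsNoetherianRing R] (b : R) {X Y : Type u} [AddCommGroup X]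
    [Module R X] [AddCommGroup Y] [Module R Y] (lam : X →ₗ[R] Y)
    (hb : Function.Bijective (fun y : Y => b • y))
    (hker : ∀ x ∈ LinearMap.ker lam, ∃ n : ℕ, b ^ n • x = 0)
    (hcoker : ∀ y : Y, ∃ (n : ℕ) (x : X), b ^ n • y = lam x) :
    Nonempty ((Y ⧸ LinearMap.range lam) ≃ₗ[R]
      (localCohomology (Ideal.span {b}) 1).obj (ModuleCat.of R X)) := by
  have hS1 := kerSES_shortExact lam
  have hS2 := rangeSES_shortExact lam
  have hK : ∀ m : (ModuleCat.of R (LinearMap.ker lam)),
      m ∈ DRing.torsionSub (Ideal.span {b}) (ModuleCat.of R (LinearMap.ker lam)) := by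
    intro m
    obtain ⟨n, hn⟩ := hker m.1 m.2
    exact (mem_torsionSub_span_singleton b m).2 ⟨n, Subtype.ext hn⟩
  have b1 := map_g_bijective_of_subsingleton (Ideal.span {b}) hS1 1
    (subsingleton_of_torsion _ 1 (by omega) _ hK)
    (subsingleton_of_torsion _ (1 + 1) (by omega) _ hK)
  have hY : ∀ j, Subsingleton ((localCohomology (Ideal.span {b}) j).obj (rangeSES lam).X₂) :=
    fun j => subsingleton_of_smul_bijective _ b (Ideal.mem_span_singleton_self b) j _ hb
  have b2 := δ_bijective_of_subsingleton (Ideal.span {b}) hS2 0 (hY 0) (hY 1)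
  have hC : DRing.torsionSub (Ideal.span {b}) (Y ⧸ LinearMap.range lam) = ⊤ := by
    rw [eq_top_iff]
    intro q _
    obtain ⟨y, rfl⟩ := Submodule.Quotient.mk_surjective _ q
    obtain ⟨n, x, hx⟩ := hcoker y
    refine (mem_torsionSub_span_singleton b _).2 ⟨n, ?_⟩
    rw [← Submodule.Quotient.mk_smul, hx]
    exact (Submodule.Quotient.mk_eq_zero _).2 ⟨x, rfl⟩
  let e0 : (Y ⧸ LinearMap.range lam) ≃ₗ[R]
      DRing.torsionSub (Ideal.span {b}) (Y ⧸ LinearMap.range lam) :=
    (LinearEquiv.ofTop _ hC).symm
  let e1 := (H0Equiv (Ideal.span {b}) (rangeSES lam).X₃).symm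
  let e2 := LinearEquiv.ofBijective _ b2
  let e3 := (LinearEquiv.ofBijective _ b1).symm
  exact ⟨e0.trans (e1.trans (e2.trans e3))⟩

end Groth.Agent.H21.LC
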