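import Mathlib
import Groth.Agent.Lib.helper9.ExtCyclic

/-!
# Bass' lemma: finite injective dimension is detected by `Ext^i(k, M)` for `i ≫ 0`

For a Noetherian local ring `(A, 𝔪, k)` and a finite `A`-module `M`, if `Ext^i(k, M) = 0` for all
`i ≥ n₀`, then `M` has injective dimension `≤ n₀`.
-/

set_option autoImplicit false

namespace Groth.Agent.H21.Bass

open CategoryTheory Abelian

universe u

variable {A : Type u} [CommRing A]

/-- `Ext` out of a zero object vanishes. -/
lemma ext_eq_zero_of_isZero_src {X Y : ModuleCat.{u} A} (hX : Limits.IsZero X) {i : ℕ}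
    (z : Ext X Y i) : z = 0 := by
  have : z = (Ext.mk₀ (𝟙 X)).comp z (zero_add i) := by simp
  rw [this, hX.eq_of_src (𝟙 _) 0, Ext.mk₀_zero, Ext.zero_comp]

/-- Transport vanishing along an isomorphism in the first variable. -/
lemma ext_eq_zero_of_iso {X X' Y : ModuleCat.{u} A} (e : X ≅ X') {i : ℕ}
    (h : ∀ z : Ext X Y i, z = 0) (z : Ext X' Y i) : z = 0 := by
  have : z = (Ext.mk₀ e.inv).comp ((Ext.mk₀ e.hom).comp z (zero_add i)) (zero_add i) := by
    rw [← Ext.comp_assoc_of_second_deg_zero, Ext.mk₀_comp_mk₀]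
    simp
  rw [this, h ((Ext.mk₀ e.hom).comp z (zero_add i)), Ext.comp_zero]

open scoped Pointwise

lemma range_smul_id' (M : ModuleCat.{u} A) (f : A) :
    LinearMap.range (f • 𝟙 M : M ⟶ M).hom = f • (⊤ : Submodule A M) := by
  ext x
  simp [Submodule.mem_smul_pointwise_iff_exists]

/-- the short exact sequence `0 → Q --x--> Q → Q/xQ → 0` for `x` regular on `Q` -/
lemma shortExact_smul (Q : Type u) [AddCommGroup Q] [Module A Q] (x : A)
    (hx : IsSMulRegular Q x) :
    ∃ (w : (x • 𝟙 (ModuleCat.of A Q)) ≫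
      ModuleCat.ofHom (Submodule.mkQ (x • (⊤ : Submodule A Q))) = 0),
      (ShortComplex.mk _ _ w).ShortExact := by
  have hex : Function.Exact (x • 𝟙 (ModuleCat.of A Q) : ModuleCat.of A Q ⟶ ModuleCat.of A Q).hom
      (Submodule.mkQ (x • (⊤ : Submodule A Q))) := by
    rw [LinearMap.exact_iff, Submodule.ker_mkQ]
    exact (range_smul_id' (ModuleCat.of A Q) x).symm
  have w : (x • 𝟙 (ModuleCat.of A Q)) ≫
      ModuleCat.ofHom (Submodule.mkQ (x • (⊤ : Submodule A Q))) = 0 := by
    ext q
    exact hex.apply_apply_eq_zero q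
  refine ⟨w, ModuleCat.shortComplex_shortExact _ hex ?_ (Submodule.mkQ_surjective _)⟩
  exact hx

lemma mk₀_smul_id_comp {X Y : ModuleCat.{u} A} (x : A) {i : ℕ} (z : Ext X Y i) :
    (Ext.mk₀ (x • 𝟙 X)).comp z (zero_add i) = x • z := by
  simp [Ext.mk₀_smul]

variable [IsNoetherianRing A]

/-- If `Ext^i(A/q, M) = 0` for all primes `q` in the support of the finite module `N`, then
`Ext^i(N, M) = 0`. -/
theorem ext_eq_zero_of_support (M : ModuleCat.{u} A) (i : ℕ) (N : Type u) [AddCommGroup N]
    [Module A N] [hN : Module.Finite A N]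
    (h : ∀ q : PrimeSpectrum A, Module.annihilator A N ≤ q.asIdeal →
      ∀ z : Ext (ModuleCat.of A (A ⧸ q.asIdeal)) M i, z = 0) :
    ∀ z : Ext (ModuleCat.of A N) M i, z = 0 := by
  induction hN using IsNoetherianRing.induction_on_isQuotientEquivQuotientPrime A with
  | subsingleton N =>
    intro z
    exact ext_eq_zero_of_isZero_src (ModuleCat.isZero_of_subsingleton _) z
  | quotient N p f =>
    have hann : Module.annihilator A N ≤ p.asIdeal := by
      rw [f.annihilator_eq, Ideal.annihilator_quotient]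
    exact ext_eq_zero_of_iso f.symm.toModuleIso (h p hann)
  | exact N₁ N₂ N₃ f g hf hg hfg h₁ h₃ =>
    have ha₁ : Module.annihilator A N₂ ≤ Module.annihilator A N₁ :=
      LinearMap.annihilator_le_of_injective f hf
    have ha₃ : Module.annihilator A N₂ ≤ Module.annihilator A N₃ :=
      LinearMap.annihilator_le_of_surjective g hg
    have k₁ := h₁ (fun q hq => h q (ha₁.trans hq))
    have k₃ := h₃ (fun q hq => h q (ha₃.trans hq))
    let S : ShortComplex (ModuleCat.{u} A) :=
      ShortComplex.mk (ModuleCat.ofHom f) (ModuleCat.ofHom g)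
        (by ext x; exact hfg.apply_apply_eq_zero x)
    have hS : S.ShortExact := ModuleCat.shortComplex_shortExact S hfg hf hg
    intro z
    obtain ⟨z₃, rfl⟩ := Ext.contravariant_sequence_exact₂ hS M z (k₁ _)
    rw [k₃ z₃, Ext.comp_zero]

variable [IsLocalRing A]

/-- Key step of Bass' lemma: vanishing of `Ext^i(k, M)` for `i ≥ n₀` propagates to all
`Ext^i(A/p, M)`, `p` prime. -/
theorem ext_quot_prime_eq_zero (M : ModuleCat.{u} A) [Module.Finite A M] (n₀ : ℕ)
    (h : ∀ i, n₀ ≤ i →
      ∀ z : Ext (ModuleCat.of A (A ⧸ IsLocalRing.maximalIdeal A)) M i, z = 0)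
    (I : Ideal A) : I.IsPrime → ∀ i, n₀ ≤ i →
      ∀ z : Ext (ModuleCat.of A (A ⧸ I)) M i, z = 0 := by
  induction I using WellFoundedGT.induction with
  | ind I ih =>
    intro hI i hi
    by_cases hIm : I = IsLocalRing.maximalIdeal A
    · subst hIm
      exact h i hi
    have hlt : I < IsLocalRing.maximalIdeal A :=
      lt_of_le_of_ne (IsLocalRing.le_maximalIdeal hI.ne_top) hIm
    obtain ⟨x, hxm, hxI⟩ := SetLike.exists_of_lt hlt
    -- `x` is regular on `A ⧸ I`
    have hreg : IsSMulRegular (A ⧸ I) x := by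
      intro a b hab
      obtain ⟨a, rfl⟩ := Ideal.Quotient.mk_surjective a
      obtain ⟨b, rfl⟩ := Ideal.Quotient.mk_surjective b
      have : x * (a - b) ∈ I := by
        rw [← Ideal.Quotient.eq_zero_iff_mem]
        have hab' : x • (Ideal.Quotient.mk I a) = x • (Ideal.Quotient.mk I b) := hab
        simp only [Algebra.smul_def, Ideal.Quotient.algebraMap_eq] at hab'
        rw [mul_sub, map_sub, map_mul, map_mul, hab', sub_self]
      rcases hI.mem_or_mem this with h1 | h1
      · exact (hxI h1).elim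
      · exact Ideal.Quotient.eq.mpr h1
    obtain ⟨w, hS⟩ := shortExact_smul (A ⧸ I) x hreg
    -- Ext^j(Q/xQ, M) = 0 for j ≥ n₀
    have hN' : ∀ j, n₀ ≤ j → ∀ z : Ext (ModuleCat.of A
        ((A ⧸ I) ⧸ (x • (⊤ : Submodule A (A ⧸ I))))) M j, z = 0 := by
      intro j hj
      apply ext_eq_zero_of_support
      intro q hq
      have hIq : I ≤ q.asIdeal := by
        intro a ha
        apply hq
        rw [Module.mem_annihilator]
        intro n
        obtain ⟨n, rfl⟩ := Submodule.mkQ_surjective _ n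
        rw [← map_smul]
        have : a • n = 0 := by
          obtain ⟨n, rfl⟩ := Ideal.Quotient.mk_surjective n
          rw [Algebra.smul_def, Ideal.Quotient.algebraMap_eq, ← map_mul]
          exact Ideal.Quotient.eq_zero_iff_mem.mpr (I.mul_mem_right _ ha)
        rw [this, map_zero]
      have hxq : x ∈ q.asIdeal := by
        apply hq
        rw [Module.mem_annihilator]
        intro n
        obtain ⟨n, rfl⟩ := Submodule.mkQ_surjective _ n
        rw [← map_smul]
        exact (Submodule.Quotient.mk_eq_zero _).mpr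
          (Submodule.smul_mem_pointwise_smul _ _ _ Submodule.mem_top)
      have hlt' : I < q.asIdeal := lt_of_le_of_ne hIq (fun e => hxI (e ▸ hxq))
      exact ih q.asIdeal hlt' q.isPrime j hj
    -- Nakayama
    have : Module.Finite A (Ext (ModuleCat.of A (A ⧸ I)) M i) := inferInstance
    have htop : (⊤ : Submodule A (Ext (ModuleCat.of A (A ⧸ I)) M i)) = ⊥ := by
      apply Submodule.eq_bot_of_le_smul_of_le_jacobson_bot (Ideal.span {x}) ⊤
        Module.Finite.fg_top
      · intro z _
        obtain ⟨z₂, hz₂⟩ := Ext.contravariant_sequence_exact₁ hS M z (rfl : 1 + i = 1 + i)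
          (hN' (1 + i) (by omega) _)
        have hz₂' : (Ext.mk₀ (x • 𝟙 (ModuleCat.of A (A ⧸ I)))).comp z₂ (zero_add i) = z := hz₂
        rw [mk₀_smul_id_comp] at hz₂'
        rw [← hz₂']
        exact Submodule.smul_mem_smul (Ideal.mem_span_singleton_self x) Submodule.mem_top
      · rw [IsLocalRing.jacobson_eq_maximalIdeal ⊥ bot_ne_top]
        rw [Ideal.span_le]
        simpa using hxm
    intro z
    have : z ∈ (⊤ : Submodule A (Ext (ModuleCat.of A (A ⧸ I)) M i)) := Submodule.mem_top
    rw [htop] at this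
    simpa using this

/-- **Bass' lemma.** If `Ext^i(k, M) = 0` for all `i ≥ n₀`, the finite module `M` has injective
dimension `≤ n₀`. -/
theorem hasInjectiveDimensionLT_of_ext_residue (M : ModuleCat.{u} A) [Module.Finite A M] (n₀ : ℕ)
    (h : ∀ i, n₀ ≤ i →
      ∀ z : Ext (ModuleCat.of A (A ⧸ IsLocalRing.maximalIdeal A)) M i, z = 0) :
    HasInjectiveDimensionLT M (n₀ + 1) := by
  apply Groth.Agent.Lib.helper9.ExtCyclic.hasInjectiveDimensionLT_of_ext_cyclic
  intro J
  refine ⟨fun a b => ?_⟩
  have key : ∀ z : Ext (ModuleCat.of A (A ⧸ J)) M (n₀ + 1), z = 0 := by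
    apply ext_eq_zero_of_support
    intro q _
    exact ext_quot_prime_eq_zero M n₀ h q.asIdeal q.isPrime (n₀ + 1) (by omega)
  rw [key a, key b]

end Groth.Agent.H21.Bass
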