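import Mathlib

set_option autoImplicit false

namespace Groth.Agent.H21.ExtBC

open CategoryTheory Abelian Limits TensorProduct

universe u

variable {A B : Type u} [CommRing A] [CommRing B] [Algebra A B]
variable (Φ : ModuleCat.{u} A ⥤ ModuleCat.{u} B) [Φ.Additive] [PreservesFiniteLimits Φ]
  [PreservesFiniteColimits Φ]

/-- semilinearity of a functor between module categories -/
def SemiLin : Prop :=
  ∀ (a : A) {M N : ModuleCat.{u} A} (f : M ⟶ N), Φ.map (a • f) = algebraMap A B a • Φ.map f

variable {Φ}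

lemma mapExactFunctor_smul (hΦ : SemiLin Φ) {M N : ModuleCat.{u} A} {n : ℕ} (a : A)
    (x : Ext M N n) :
    (a • x).mapExactFunctor Φ = algebraMap A B a • x.mapExactFunctor Φ := by
  have h1 : a • x = (Ext.mk₀ (a • 𝟙 M)).comp x (zero_add n) := by
    simp [Ext.mk₀_smul]
  rw [h1, Ext.mapExactFunctor_comp, Ext.mapExactFunctor_mk₀, hΦ, Φ.map_id]
  simp [Ext.mk₀_smul]

variable (Φ)

/-- the canonical comparison map `B ⊗ Ext_A(M,N) → Ext_B(ΦM, ΦN)` -/
noncomputable def κ (hΦ : SemiLin Φ) (M N : ModuleCat.{u} A) (n : ℕ) :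
    B ⊗[A] Ext M N n →+ Ext (Φ.obj M) (Φ.obj N) n :=
  TensorProduct.liftAddHom
    ((AddMonoidHom.compHom.flip (Φ.mapExtAddHom M N n)).comp
      (smulAddHom B (Ext (Φ.obj M) (Φ.obj N) n)))
    (by
      intro r b x
      simp only [AddMonoidHom.coe_comp, Function.comp_apply, AddMonoidHom.flip_apply,
        AddMonoidHom.compHom_apply_apply, smulAddHom_apply, Functor.mapExtAddHom_coe]
      rw [mapExactFunctor_smul hΦ, Algebra.smul_def, mul_comm, mul_smul])

@[simp]
lemma κ_tmul (hΦ : SemiLin Φ) (M N : ModuleCat.{u} A) (n : ℕ) (b : B) (x : Ext M N n) :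
    κ Φ hΦ M N n (b ⊗ₜ x) = b • x.mapExactFunctor Φ := by
  simp [κ]

lemma κ_smul (hΦ : SemiLin Φ) (M N : ModuleCat.{u} A) (n : ℕ) (b : B) (t : B ⊗[A] Ext M N n) :
    κ Φ hΦ M N n (b • t) = b • κ Φ hΦ M N n t := by
  induction t using TensorProduct.induction_on with
  | zero => simp
  | tmul b' x => rw [TensorProduct.smul_tmul', κ_tmul, κ_tmul, smul_eq_mul, mul_smul]
  | add t₁ t₂ h₁ h₂ => rw [smul_add, map_add, map_add, h₁, h₂, smul_add]

lemma κ_precomp (hΦ : SemiLin Φ) {M' M : ModuleCat.{u} A} (N : ModuleCat.{u} A) {k a b : ℕ}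
    (α : Ext M' M k) (h : k + a = b) (t : B ⊗[A] Ext M N a) :
    κ Φ hΦ M' N b (LinearMap.lTensor B (α.precompOfLinear A N h) t) =
      (α.mapExactFunctor Φ).comp (κ Φ hΦ M N a t) h := by
  induction t using TensorProduct.induction_on with
  | zero => simp
  | tmul b' x =>
    rw [LinearMap.lTensor_tmul, κ_tmul, κ_tmul, Ext.comp_smul]
    congr 1
    exact Ext.mapExactFunctor_comp Φ α x h
  | add t₁ t₂ h₁ h₂ => rw [map_add, map_add, map_add, h₁, h₂, Ext.comp_add]

/-- **Flat base change for `Ext`, abstract form.** If the comparison map is bijective in degree `0`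
for all finite modules and `Φ` sends finite free modules to projectives, it is bijective in all
degrees. -/
theorem κ_bijective [IsNoetherianRing A] (hΦ : SemiLin Φ) (N : ModuleCat.{u} A)
    (hproj : ∀ m : ℕ, Projective (Φ.obj (ModuleCat.of A (Fin m → A))))
    (h0 : ∀ (M : Type u) [AddCommGroup M] [Module A M] [Module.Finite A M],
      Function.Bijective (κ Φ hΦ (ModuleCat.of A M) N 0)) :
    ∀ (n : ℕ) (M : Type u) [AddCommGroup M] [Module A M] [Module.Finite A M],
      Function.Bijective (κ Φ hΦ (ModuleCat.of A M) N n) := by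
  intro n
  induction n with
  | zero => exact h0
  | succ n ih =>
    intro M _ _ _
    obtain ⟨m, f, hf⟩ := Module.Finite.exists_fin' A M
    have hex : Function.Exact (LinearMap.ker f).subtype f := by
      rw [LinearMap.exact_iff, Submodule.range_subtype]
    have w : ModuleCat.ofHom (LinearMap.ker f).subtype ≫ ModuleCat.ofHom f = 0 := by
      refine ModuleCat.hom_ext (LinearMap.ext fun q => ?_)
      exact hex.apply_apply_eq_zero q
    have hS : (ShortComplex.mk _ _ w).ShortExact :=
      ModuleCat.shortComplex_shortExact _ hex (Submodule.subtype_injective _) hf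
    have hS' := hS.map_of_exact Φ
    have hclass := Ext.mapExactFunctor_extClass Φ hS
    have hP : Projective ((ShortComplex.mk _ _ w).map Φ).X₂ := hproj m
    have hP0 : Projective (ModuleCat.of A (Fin m → A)) :=
      ModuleCat.projective_of_free (Pi.basisFun A (Fin m))
    have hn : 1 + n = n + 1 := by omega
    -- bijectivity for `K` and `F`
    have ihK := ih (LinearMap.ker f)
    have ihF := ih (Fin m → A)
    -- surjectivity of `B ⊗ δ`
    have hδ : Function.Surjective (hS.extClass.precompOfLinear A N hn) := by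
      intro x₃
      obtain ⟨x₁, hx₁⟩ := Ext.contravariant_sequence_exact₃ hS N x₃
        (Ext.eq_zero_of_projective (P := ModuleCat.of A (Fin m → A)) _) hn
      exact ⟨x₁, hx₁⟩
    have hΔ : Function.Surjective (LinearMap.lTensor B (hS.extClass.precompOfLinear A N hn)) :=
      LinearMap.lTensor_surjective B hδ
    constructor
    · -- injectivity
      rw [injective_iff_map_eq_zero]
      intro t ht
      obtain ⟨t₁, rfl⟩ := hΔ t
      rw [κ_precomp, hclass] at ht
      obtain ⟨y₂, hy₂⟩ := Ext.contravariant_sequence_exact₁ hS' (Φ.obj N) _ hn ht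
      obtain ⟨t₂, rfl⟩ := ihF.2 y₂
      have h1 : κ Φ hΦ _ N n (LinearMap.lTensor B
          ((Ext.mk₀ (ModuleCat.ofHom (LinearMap.ker f).subtype)).precompOfLinear A N
            (zero_add n)) t₂) = κ Φ hΦ _ N n t₁ := by
        rw [κ_precomp, Ext.mapExactFunctor_mk₀]
        exact hy₂
      have h2 := ihK.1 h1
      rw [← h2, ← LinearMap.comp_apply, ← LinearMap.lTensor_comp]
      have h3 : (hS.extClass.precompOfLinear A N hn) ∘ₗ
          ((Ext.mk₀ (ModuleCat.ofHom (LinearMap.ker f).subtype)).precompOfLinear A N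
            (zero_add n)) = 0 := by
        ext x
        simp only [LinearMap.coe_comp, Function.comp_apply, Ext.bilinearCompOfLinear_apply_apply,
          LinearMap.zero_apply]
        exact hS.extClass_comp_assoc x
      rw [h3, LinearMap.lTensor_zero, LinearMap.zero_apply]
    · -- surjectivity
      intro y
      obtain ⟨y₁, hy₁⟩ := Ext.contravariant_sequence_exact₃ hS' (Φ.obj N) y
        (Ext.eq_zero_of_projective _) hn
      obtain ⟨t₁, rfl⟩ := ihK.2 y₁
      refine ⟨LinearMap.lTensor B (hS.extClass.precompOfLinear A N hn) t₁, ?_⟩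
      rw [κ_precomp, hclass]
      exact hy₁

end Groth.Agent.H21.ExtBC
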