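import Mathlib
import Groth.Agent.Lib.helper21.ExtBC
import Groth.Agent.Lib.helper6.TorBC

set_option autoImplicit false

namespace Groth.Agent.H21.ExtBC

open CategoryTheory Abelian Limits TensorProduct
open Groth.Agent.Lib.helper6.TorBC (bc bc_projective)

universe u

variable (A B : Type u) [CommRing A] [CommRing B] [Algebra A B]

lemma semiLin_bc : SemiLin (bc A B) := by
  intro a M N f
  ext : 1
  show LinearMap.baseChange B (a • f).hom = (algebraMap A B a • (bc A B).map f).hom
  rw [ModuleCat.hom_smul, ModuleCat.hom_smul, LinearMap.baseChange_smul]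
  show a • LinearMap.baseChange B f.hom = algebraMap A B a • LinearMap.baseChange B f.hom
  rw [algebraMap_smul]

variable [Module.Flat A B]

instance : PreservesFiniteLimits (bc A B) := (bc A B).preservesFiniteLimits_of_preservesHomology
instance : PreservesFiniteColimits (bc A B) :=
  (bc A B).preservesFiniteColimits_of_preservesHomology

/-- degree zero: `B ⊗ Hom_A(M, N) ≃ Hom_B(B ⊗ M, B ⊗ N)` for finitely presented `M`. -/
lemma κ_bc_zero_bijective (M : Type u) [AddCommGroup M] [Module A M]
    [Module.FinitePresentation A M] (N : ModuleCat.{u} A) :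
    Function.Bijective (κ (bc A B) (semiLin_bc A B) (ModuleCat.of A M) N 0) := by
  have hbc := Module.FinitePresentation.isBaseChange_map A M N B
  let eA : Ext (ModuleCat.of A M) N 0 ≃ₗ[A] (M →ₗ[A] N) :=
    Ext.linearEquiv₀.trans ModuleCat.homLinearEquiv
  let eB : Ext ((bc A B).obj (ModuleCat.of A M)) ((bc A B).obj N) 0 ≃ₗ[B]
      (B ⊗[A] M →ₗ[B] B ⊗[A] N) :=
    Ext.linearEquiv₀.trans ModuleCat.homLinearEquiv
  have key : ∀ t, eB (κ (bc A B) (semiLin_bc A B) (ModuleCat.of A M) N 0 t) =
      hbc.equiv (LinearEquiv.lTensor B eA t) := by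
    intro t
    induction t using TensorProduct.induction_on with
    | zero => simp
    | tmul b x =>
      obtain ⟨g, rfl⟩ := (Ext.mk₀_bijective _ _).2 x
      rw [κ_tmul, map_smul, Ext.mapExactFunctor_mk₀, LinearEquiv.lTensor_tmul,
        IsBaseChange.equiv_tmul]
      congr 1
      have h1 : eA (Ext.mk₀ g) = g.hom := by
        show (Ext.linearEquiv₀ (R := A) (Ext.mk₀ g)).hom = g.hom
        rw [← Ext.linearEquiv₀_symm_apply (R := A), LinearEquiv.apply_symm_apply]
      have h2 : eB (Ext.mk₀ ((bc A B).map g)) = ((bc A B).map g).hom := by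
        show (Ext.linearEquiv₀ (R := B) (Ext.mk₀ ((bc A B).map g))).hom = _
        rw [← Ext.linearEquiv₀_symm_apply (R := B), LinearEquiv.apply_symm_apply]
      rw [h1, h2]
      rfl
    | add t₁ t₂ h₁ h₂ => rw [map_add, map_add, map_add, map_add, h₁, h₂]
  have : (κ (bc A B) (semiLin_bc A B) (ModuleCat.of A M) N 0 : _ → _) =
      eB.symm ∘ hbc.equiv ∘ (LinearEquiv.lTensor B eA) := by
    funext t
    simp only [Function.comp_apply]
    rw [← key t, LinearEquiv.symm_apply_apply]
  rw [this]
  exact eB.symm.bijective.comp (hbc.equiv.bijective.comp (LinearEquiv.lTensor B eA).bijective)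

/-- **Flat base change for `Ext`**: the canonical map
`B ⊗ Ext_A^n(M, N) → Ext_B^n(B ⊗ M, B ⊗ N)` is bijective for `A` Noetherian, `M` finite, `B` flat. -/
theorem κ_bc_bijective [IsNoetherianRing A] (N : ModuleCat.{u} A) (n : ℕ) (M : Type u)
    [AddCommGroup M] [Module A M] [Module.Finite A M] :
    Function.Bijective (κ (bc A B) (semiLin_bc A B) (ModuleCat.of A M) N n) :=
  κ_bijective (bc A B) (semiLin_bc A B) N
    (fun m => bc_projective A B _ (ModuleCat.projective_of_free (Pi.basisFun A (Fin m))))
    (fun M _ _ _ =>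
      haveI := Module.finitePresentation_of_finite A M
      κ_bc_zero_bijective A B M N) n M

/-- the base change isomorphism for `Ext` -/
noncomputable def extBCEquiv [IsNoetherianRing A] (N : ModuleCat.{u} A) (n : ℕ) (M : Type u)
    [AddCommGroup M] [Module A M] [Module.Finite A M] :
    (B ⊗[A] Ext (ModuleCat.of A M) N n) ≃ₗ[B]
      Ext ((bc A B).obj (ModuleCat.of A M)) ((bc A B).obj N) n :=
  LinearEquiv.ofBijective
    { toFun := κ (bc A B) (semiLin_bc A B) (ModuleCat.of A M) N n
      map_add' := map_add _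
      map_smul' := fun b t => κ_smul (bc A B) (semiLin_bc A B) (ModuleCat.of A M) N n b t }
    (κ_bc_bijective A B N n M)

lemma extBCEquiv_tmul [IsNoetherianRing A] (N : ModuleCat.{u} A) (n : ℕ) (M : Type u)
    [AddCommGroup M] [Module A M] [Module.Finite A M] (b : B) (x : Ext (ModuleCat.of A M) N n) :
    extBCEquiv A B N n M (b ⊗ₜ x) = b • x.mapExactFunctor (bc A B) :=
  κ_tmul (bc A B) (semiLin_bc A B) _ _ _ _ _

end Groth.Agent.H21.ExtBC
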