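import Mathlib
import Groth.Agent.Lib.helper21.ExtBC2
import Groth.Agent.Lib.helper21.Bass

set_option autoImplicit false

namespace Groth.Agent.H21.ExtBC

open CategoryTheory Abelian Limits TensorProduct
open Groth.Agent.Lib.helper6.TorBC (bc bc_projective)

universe u

section General

variable (A B : Type u) [CommRing A] [CommRing B] [Algebra A B] [Module.Flat A B]
  [IsNoetherianRing A]

/-- vanishing of `Ext` passes to a flat base change -/
theorem subsingleton_ext_bc (N : ModuleCat.{u} A) (n : ℕ) (M : Type u)
    [AddCommGroup M] [Module A M] [Module.Finite A M]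
    (h : Subsingleton (Ext (ModuleCat.of A M) N n)) :
    Subsingleton (Ext ((bc A B).obj (ModuleCat.of A M)) ((bc A B).obj N) n) := by
  have : Subsingleton (B ⊗[A] Ext (ModuleCat.of A M) N n) := by
    refine ⟨fun s t => ?_⟩
    have h0 : ∀ t : B ⊗[A] Ext (ModuleCat.of A M) N n, t = 0 := by
      intro t
      induction t using TensorProduct.induction_on with
      | zero => rfl
      | tmul b x => rw [Subsingleton.elim x 0, TensorProduct.tmul_zero]
      | add t₁ t₂ h₁ h₂ => rw [h₁, h₂, add_zero]
    rw [h0 s, h0 t]
  exact (extBCEquiv A B N n M).symm.toEquiv.subsingleton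

/-- `Ext` is invariant under isomorphisms in both variables (subsingleton version). -/
theorem subsingleton_ext_of_isos {X X' Y Y' : ModuleCat.{u} B} (n : ℕ) (e : X ≅ X') (e' : Y ≅ Y')
    (h : Subsingleton (Ext X Y n)) : Subsingleton (Ext X' Y' n) := by
  have h1 : Subsingleton (Ext X Y' n) :=
    Groth.Agent.Lib.helper9.ExtCyclic.subsingleton_ext_of_iso n e' h
  refine ⟨fun a b => ?_⟩
  rw [Groth.Agent.H21.Bass.ext_eq_zero_of_iso e (fun z => Subsingleton.elim z 0) a,
    Groth.Agent.H21.Bass.ext_eq_zero_of_iso e (fun z => Subsingleton.elim z 0) b]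

end General

section Localization

variable {A : Type u} [CommRing A] [IsNoetherianRing A]

/-- `A_p ⊗ M ≅ M_p` in `ModuleCat A_p` -/
noncomputable def bcIsoLocalized (p : Ideal A) [p.IsPrime] (M : Type u) [AddCommGroup M]
    [Module A M] :
    (bc A (Localization.AtPrime p)).obj (ModuleCat.of A M) ≅
      ModuleCat.of (Localization.AtPrime p) (LocalizedModule p.primeCompl M) :=
  LinearEquiv.toModuleIso
    ((isLocalizedModule_iff_isBaseChange p.primeCompl (Localization.AtPrime p)
      (LocalizedModule.mkLinearMap p.primeCompl M)).mp inferInstance).equiv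

/-- `B ⊗ A/I ≅ B/IB` in `ModuleCat B` -/
noncomputable def bcIsoQuot (B : Type u) [CommRing B] [Algebra A B] (I : Ideal A) :
    (bc A B).obj (ModuleCat.of A (A ⧸ I)) ≅
      ModuleCat.of B (B ⧸ I.map (algebraMap A B)) :=
  LinearEquiv.toModuleIso
    (Algebra.TensorProduct.quotIdealMapEquivTensorQuot B I).toLinearEquiv.symm

/-- vanishing of `Ext_A^n(X, M)` implies vanishing of `Ext_{A_p}^n(A_p ⊗ X, M_p)` -/
theorem subsingleton_ext_localization (p : Ideal A) [p.IsPrime] (X : Type u) [AddCommGroup X]
    [Module A X] [Module.Finite A X] (M : Type u) [AddCommGroup M] [Module A M] (n : ℕ)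
    (h : Subsingleton (Ext (ModuleCat.of A X) (ModuleCat.of A M) n)) :
    Subsingleton (Ext ((bc A (Localization.AtPrime p)).obj (ModuleCat.of A X))
      (ModuleCat.of (Localization.AtPrime p) (LocalizedModule p.primeCompl M)) n) :=
  subsingleton_ext_of_isos (Localization.AtPrime p) n (Iso.refl _) (bcIsoLocalized p M)
    (subsingleton_ext_bc A (Localization.AtPrime p) (ModuleCat.of A M) n X h)

/-- local-global principle for vanishing of `Ext` -/
theorem subsingleton_ext_of_localization (X : Type u) [AddCommGroup X]
    [Module A X] [Module.Finite A X] (M : Type u) [AddCommGroup M] [Module A M] (n : ℕ)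
    (h : ∀ p : PrimeSpectrum A,
      Subsingleton (Ext ((bc A (Localization.AtPrime p.asIdeal)).obj (ModuleCat.of A X))
        (ModuleCat.of (Localization.AtPrime p.asIdeal)
          (LocalizedModule p.asIdeal.primeCompl M)) n)) :
    Subsingleton (Ext (ModuleCat.of A X) (ModuleCat.of A M) n) := by
  rw [← Module.support_eq_empty_iff (R := A), Set.eq_empty_iff_forall_notMem]
  intro p
  rw [Module.notMem_support_iff]
  have h1 : Subsingleton (Ext ((bc A (Localization.AtPrime p.asIdeal)).obj (ModuleCat.of A X))
      ((bc A (Localization.AtPrime p.asIdeal)).obj (ModuleCat.of A M)) n) :=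
    subsingleton_ext_of_isos (Localization.AtPrime p.asIdeal) n (Iso.refl _)
      (bcIsoLocalized p.asIdeal M).symm (h p)
  have h2 : Subsingleton (Localization.AtPrime p.asIdeal ⊗[A]
      Ext (ModuleCat.of A X) (ModuleCat.of A M) n) :=
    (extBCEquiv A (Localization.AtPrime p.asIdeal) (ModuleCat.of A M) n X).toEquiv.subsingleton
  exact ((isLocalizedModule_iff_isBaseChange p.asIdeal.primeCompl (Localization.AtPrime p.asIdeal)
      (LocalizedModule.mkLinearMap p.asIdeal.primeCompl
        (Ext (ModuleCat.of A X) (ModuleCat.of A M) n))).mp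
        inferInstance).equiv.symm.toEquiv.subsingleton

end Localization

end Groth.Agent.H21.ExtBC
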