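import Mathlib
import Groth.Agent.Lib.helper21.LC10
import Groth.Agent.Lib.helper21.ExtBC3

universe u
open CategoryTheory Opposite Limits Abelian TensorProduct

namespace Groth.Agent.H21.LC

open Groth.Agent.H21.ExtBC
open Groth.Agent.Lib.helper6.TorBC (bc bc_projective)

variable (A B : Type u) [CommRing A] [CommRing B] [Algebra A B]

/-- `B/(IB)^n → B ⊗ A/I^n`. -/
noncomputable def eInv (I : Ideal A) (n : ℕ) :
    Q (I.map (algebraMap A B)) n ≅ (bc A B).obj (Q I n) :=
  (LinearEquiv.toModuleIso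
    (Submodule.quotEquivOfEq ((I.map (algebraMap A B)) ^ n) ((I ^ n).map (algebraMap A B))
      (Ideal.map_pow _ _ _).symm)) ≪≫ (bcIsoQuot B (I ^ n)).symm

lemma eInv_hom_apply (I : Ideal A) (n : ℕ) (b : B) :
    (eInv A B I n).hom.hom (Ideal.Quotient.mk _ b) = b ⊗ₜ[A] (1 : A ⧸ I ^ n) := rfl

lemma eInv_compat (I : Ideal A) {m n : ℕ} (h : n ≤ m) :
    tr (I.map (algebraMap A B)) h ≫ (eInv A B I n).hom =
      (eInv A B I m).hom ≫ (bc A B).map (tr I h) := by
  refine ModuleCat.hom_ext (LinearMap.ext fun q => ?_)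
  obtain ⟨b, rfl⟩ := Ideal.Quotient.mk_surjective q
  rfl


variable [Module.Flat A B]

/-- the `A`-module structure on local cohomology over `B`. -/
noncomputable local instance modA (J : Ideal B) (i : ℕ) (N : ModuleCat.{u} B) :
    Module A ((localCohomology J i).obj N) :=
  Module.compHom _ (algebraMap A B)

local instance towerA (J : Ideal B) (i : ℕ) (N : ModuleCat.{u} B) :
    IsScalarTower A B ((localCohomology J i).obj N) :=
  IsScalarTower.of_algebraMap_smul fun _ _ => rfl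

/-- stage map of the base-change comparison. -/
noncomputable def θn (I : Ideal A) (i n : ℕ) (M : ModuleCat.{u} A) :
    Ext (Q I n) M i →ₗ[A]
      (localCohomology (I.map (algebraMap A B)) i).obj ((bc A B).obj M) where
  toFun y := ιH (I.map (algebraMap A B)) i n ((bc A B).obj M)
    ((Ext.mk₀ (eInv A B I n).hom).comp (y.mapExactFunctor (bc A B)) (zero_add i))
  map_add' y y' := by
    have : (y + y').mapExactFunctor (bc A B) =
        y.mapExactFunctor (bc A B) + y'.mapExactFunctor (bc A B) :=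
      map_add ((bc A B).mapExtAddHom _ _ i) y y'
    rw [this, Ext.comp_add, map_add]
  map_smul' a y := by
    rw [mapExactFunctor_smul (semiLin_bc A B), Ext.comp_smul, map_smul, RingHom.id_apply]
    rfl

lemma θn_apply (I : Ideal A) (i n : ℕ) (M : ModuleCat.{u} A) (y : Ext (Q I n) M i) :
    θn A B I i n M y = ιH (I.map (algebraMap A B)) i n ((bc A B).obj M)
      ((Ext.mk₀ (eInv A B I n).hom).comp (y.mapExactFunctor (bc A B)) (zero_add i)) := rfl

lemma θn_tr (I : Ideal A) (i : ℕ) {m n : ℕ} (h : n ≤ m) (M : ModuleCat.{u} A)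
    (y : Ext (Q I n) M i) :
    θn A B I i m M ((Ext.mk₀ (tr I h)).comp y (zero_add i)) = θn A B I i n M y := by
  rw [θn_apply, θn_apply, ← ιH_tr (I.map (algebraMap A B)) i h, Ext.mapExactFunctor_comp,
    Ext.mapExactFunctor_mk₀,
    ← Ext.comp_assoc _ _ _ (zero_add 0) (zero_add i) (by omega),
    ← Ext.comp_assoc _ _ _ (zero_add 0) (zero_add i) (by omega),
    Ext.mk₀_comp_mk₀, Ext.mk₀_comp_mk₀, eInv_compat]

/-- the `A`-linear comparison `H^i_I(M) → H^i_{IB}(B ⊗ M)`. -/
noncomputable def θbc (I : Ideal A) (i : ℕ) (M : ModuleCat.{u} A) :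
    (localCohomology I i).obj M →ₗ[A]
      (localCohomology (I.map (algebraMap A B)) i).obj ((bc A B).obj M) :=
  descH I i M (fun n => θn A B I i n M) (fun _ _ h y => θn_tr A B I i h M y)

lemma θbc_ιH (I : Ideal A) (i n : ℕ) (M : ModuleCat.{u} A) (y : Ext (Q I n) M i) :
    θbc A B I i M (ιH I i n M y) = θn A B I i n M y := descH_ιH _ _ _ _ _ _ _

/-- the `B`-linear comparison `B ⊗ H^i_I(M) → H^i_{IB}(B ⊗ M)`. -/
noncomputable def Θ (I : Ideal A) (i : ℕ) (M : ModuleCat.{u} A) :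
    B ⊗[A] (localCohomology I i).obj M →ₗ[B]
      (localCohomology (I.map (algebraMap A B)) i).obj ((bc A B).obj M) :=
  LinearMap.liftBaseChange B (θbc A B I i M)

lemma Θ_tmul (I : Ideal A) (i : ℕ) (M : ModuleCat.{u} A) (b : B)
    (x : (localCohomology I i).obj M) : Θ A B I i M (b ⊗ₜ x) = b • θbc A B I i M x := by
  simp [Θ]


/-- every tensor comes from a finite stage. -/
lemma exists_stage (I : Ideal A) (i : ℕ) (M : ModuleCat.{u} A)
    (t : B ⊗[A] (localCohomology I i).obj M) :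
    ∃ (n : ℕ) (s : B ⊗[A] Ext (Q I n) M i), LinearMap.lTensor B (ιH I i n M) s = t := by
  have raise : ∀ (n m : ℕ) (h : n ≤ m) (s : B ⊗[A] Ext (Q I n) M i),
      ∃ s' : B ⊗[A] Ext (Q I m) M i,
        LinearMap.lTensor B (ιH I i m M) s' = LinearMap.lTensor B (ιH I i n M) s := by
    intro n m h s
    refine ⟨LinearMap.lTensor B ((Ext.mk₀ (tr I h)).precompOfLinear A M (zero_add i)) s, ?_⟩
    rw [← LinearMap.comp_apply, ← LinearMap.lTensor_comp]
    congr 2
    ext y
    exact ιH_tr I i h M y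
  induction t using TensorProduct.induction_on with
  | zero => exact ⟨0, 0, map_zero _⟩
  | tmul b x =>
    obtain ⟨n, y, rfl⟩ := ιH_surj I i M x
    exact ⟨n, b ⊗ₜ y, rfl⟩
  | add t₁ t₂ h₁ h₂ =>
    obtain ⟨n₁, s₁, rfl⟩ := h₁
    obtain ⟨n₂, s₂, rfl⟩ := h₂
    obtain ⟨s₁', hs₁⟩ := raise n₁ (max n₁ n₂) (le_max_left _ _) s₁
    obtain ⟨s₂', hs₂⟩ := raise n₂ (max n₁ n₂) (le_max_right _ _) s₂
    exact ⟨max n₁ n₂, s₁' + s₂', by rw [map_add, hs₁, hs₂]⟩

lemma Θ_lTensor (I : Ideal A) (i n : ℕ) (M : ModuleCat.{u} A)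
    (s : B ⊗[A] Ext (Q I n) M i) :
    Θ A B I i M (LinearMap.lTensor B (ιH I i n M) s) =
      ιH (I.map (algebraMap A B)) i n ((bc A B).obj M)
        ((Ext.mk₀ (eInv A B I n).hom).comp (κ (bc A B) (semiLin_bc A B) (Q I n) M i s)
          (zero_add i)) := by
  induction s using TensorProduct.induction_on with
  | zero => simp
  | tmul b y =>
    rw [LinearMap.lTensor_tmul, Θ_tmul, θbc_ιH, θn_apply, κ_tmul, Ext.comp_smul, map_smul]
  | add s₁ s₂ h₁ h₂ =>
    rw [map_add, map_add, h₁, h₂, map_add, Ext.comp_add, map_add]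

theorem Θ_bijective [IsNoetherianRing A] (I : Ideal A) (i : ℕ) (M : ModuleCat.{u} A) :
    Function.Bijective (Θ A B I i M) := by
  have hκ : ∀ n, Function.Bijective (κ (bc A B) (semiLin_bc A B) (Q I n) M i) := fun n =>
    κ_bc_bijective A B M i (A ⧸ I ^ n)
  constructor
  · rw [← LinearMap.ker_eq_bot, LinearMap.ker_eq_bot']
    intro t ht
    obtain ⟨n, s, rfl⟩ := exists_stage A B I i M t
    rw [Θ_lTensor, ιH_eq_zero_iff] at ht
    obtain ⟨m, h, hm⟩ := ht
    rw [← Ext.comp_assoc _ _ _ (zero_add 0) (zero_add i) (by omega), Ext.mk₀_comp_mk₀,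
      eInv_compat, ← Ext.mk₀_comp_mk₀,
      Ext.comp_assoc _ _ _ (zero_add 0) (zero_add i) (by omega)] at hm
    have h1 : (Ext.mk₀ ((bc A B).map (tr I h))).comp
        (κ (bc A B) (semiLin_bc A B) (Q I n) M i s) (zero_add i) = 0 := by
      have := congrArg (fun z => (Ext.mk₀ (eInv A B I m).inv).comp z (zero_add i)) hm
      simp only [Ext.comp_zero] at this
      rw [← Ext.comp_assoc _ _ _ (zero_add 0) (zero_add i) (by omega), Ext.mk₀_comp_mk₀,
        Iso.inv_hom_id, Ext.mk₀_id_comp] at this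
      exact this
    have h2 := κ_precomp (bc A B) (semiLin_bc A B) M (Ext.mk₀ (tr I h)) (zero_add i) s
    rw [Ext.mapExactFunctor_mk₀, h1] at h2
    have h3 : LinearMap.lTensor B ((Ext.mk₀ (tr I h)).precompOfLinear A M (zero_add i)) s = 0 :=
      (hκ m).1 (h2.trans (map_zero _).symm)
    have h4 : LinearMap.lTensor B (ιH I i n M) s =
        LinearMap.lTensor B (ιH I i m M)
          (LinearMap.lTensor B ((Ext.mk₀ (tr I h)).precompOfLinear A M (zero_add i)) s) := by
      rw [← LinearMap.comp_apply, ← LinearMap.lTensor_comp]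
      congr 2
      ext y
      exact (ιH_tr I i h M y).symm
    rw [h4, h3, map_zero]
  · intro x'
    obtain ⟨n, y', rfl⟩ := ιH_surj _ i _ x'
    obtain ⟨s, hs⟩ := (hκ n).2 ((Ext.mk₀ (eInv A B I n).inv).comp y' (zero_add i))
    refine ⟨LinearMap.lTensor B (ιH I i n M) s, ?_⟩
    rw [Θ_lTensor, hs, ← Ext.comp_assoc _ _ _ (zero_add 0) (zero_add i) (by omega),
      Ext.mk₀_comp_mk₀, Iso.hom_inv_id, Ext.mk₀_id_comp]

/-- flat base change for local cohomology. -/
noncomputable def bcEquiv [IsNoetherianRing A] (I : Ideal A) (i : ℕ) (M : ModuleCat.{u} A) :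
    (B ⊗[A] (localCohomology I i).obj M) ≃ₗ[B]
      (localCohomology (I.map (algebraMap A B)) i).obj ((bc A B).obj M) :=
  LinearEquiv.ofBijective (Θ A B I i M) (Θ_bijective A B I i M)

end Groth.Agent.H21.LC
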