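import Mathlib
import Groth.Agent.Lib.helper21.LC12

universe u
open CategoryTheory Opposite Limits Abelian TensorProduct

namespace Groth.Agent.H21.LC

variable {R : Type u} [CommRing R]

/-- localization commutes with local cohomology. -/
noncomputable def locEquiv [IsNoetherianRing R] (I : Ideal R) (S : Submonoid R) (M : Type u)
    [AddCommGroup M] [Module R M] (i : ℕ) :
    LocalizedModule S ((localCohomology I i).obj (ModuleCat.of R M)) ≃ₗ[Localization S]
      (localCohomology (Ideal.map (algebraMap R (Localization S)) I) i).obj
        (ModuleCat.of (Localization S) (LocalizedModule S M)) :=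
  let B := Localization S
  let e0 := bcEquiv R B I i (ModuleCat.of R M)
  let e1 : TensorProduct R B ((localCohomology I i).obj (ModuleCat.of R M)) ≃ₗ[B]
      LocalizedModule S ((localCohomology I i).obj (ModuleCat.of R M)) :=
    ((isLocalizedModule_iff_isBaseChange S B
      (LocalizedModule.mkLinearMap S ((localCohomology I i).obj (ModuleCat.of R M)))).mp
        inferInstance).equiv
  let e2 : TensorProduct R B M ≃ₗ[B] LocalizedModule S M :=
    ((isLocalizedModule_iff_isBaseChange S B
      (LocalizedModule.mkLinearMap S M)).mp inferInstance).equiv
  let e3 := ((localCohomology (Ideal.map (algebraMap R B) I) i).mapIso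
    (LinearEquiv.toModuleIso e2)).toLinearEquiv
  e1.symm.trans (e0.trans e3)

/-- vanishing can be checked locally. -/
theorem subsingleton_of_localization [IsNoetherianRing R] (I : Ideal R) (M : Type u)
    [AddCommGroup M] [Module R M] (i : ℕ)
    (h : ∀ (p : Ideal R) [p.IsPrime],
      Subsingleton ((localCohomology (Ideal.map (algebraMap R (Localization.AtPrime p)) I) i).obj
        (ModuleCat.of (Localization.AtPrime p) (LocalizedModule p.primeCompl M)))) :
    Subsingleton ((localCohomology I i).obj (ModuleCat.of R M)) := by
  rw [← Module.support_eq_empty_iff (R := R)]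
  rw [Set.eq_empty_iff_forall_notMem]
  intro p
  rw [Module.notMem_support_iff]
  have := h p.asIdeal
  exact (locEquiv I p.asIdeal.primeCompl M i).toEquiv.subsingleton

/-- vanishing over `R` gives vanishing over a localization, for modules over the localization. -/
theorem subsingleton_localization_of [IsNoetherianRing R] (I : Ideal R) (S : Submonoid R)
    (N : Type u) [AddCommGroup N] [Module (Localization S) N] [Module R N]
    [IsScalarTower R (Localization S) N] (i : ℕ)
    (h : Subsingleton ((localCohomology I i).obj (ModuleCat.of R N))) :
    Subsingleton ((localCohomology (Ideal.map (algebraMap R (Localization S)) I) i).obj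
      (ModuleCat.of (Localization S) N)) := by
  have hloc : IsLocalizedModule S (LinearMap.id : N →ₗ[R] N) :=
    isLocalizedModule_id S N (Localization S)
  let e : LocalizedModule S N ≃ₗ[Localization S] N :=
    (IsLocalizedModule.iso S (LinearMap.id : N →ₗ[R] N)).extendScalarsOfIsLocalization S
      (Localization S)
  have e3 := ((localCohomology (Ideal.map (algebraMap R (Localization S)) I) i).mapIso
    (LinearEquiv.toModuleIso e)).toLinearEquiv
  have h1 : Subsingleton (LocalizedModule S ((localCohomology I i).obj (ModuleCat.of R N))) :=
    inferInstance
  have h2 := (locEquiv I S N i).symm.toEquiv.subsingleton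
  exact e3.symm.toEquiv.subsingleton

end Groth.Agent.H21.LC
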