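import Mathlib

/-!
# `Ext^p(A/J, M) ≅ M/JM` for `J` generated by a weakly regular sequence of length `p`
-/

set_option autoImplicit false

namespace Groth.Agent.H21.ExtReg

open CategoryTheory Abelian
open scoped Pointwise

universe u

variable {A : Type u} [CommRing A]

/-- `(M/IM)/x(M/IM) ≅ M/(I + (x))M`. -/
noncomputable def quotQuotSMul (M : Type*) [AddCommGroup M] [Module A M] (I : Ideal A) (x : A) :
    QuotSMulTop x (M ⧸ (I • ⊤ : Submodule A M)) ≃ₗ[A]
      M ⧸ ((I ⊔ Ideal.span {x}) • ⊤ : Submodule A M) :=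
  Submodule.quotEquivOfEq _ _ (by
      rw [Submodule.map_pointwise_smul, Submodule.map_top, Submodule.range_mkQ]) ≪≫ₗ
    Submodule.quotientQuotientEquivQuotientSup (I • ⊤ : Submodule A M) (x • ⊤) ≪≫ₗ
    Submodule.quotEquivOfEq _ _ (by
      rw [Submodule.sup_smul, Submodule.ideal_span_singleton_smul])

/-- The short exact sequence `0 → A/I --x--> A/I → A/(I + (x)) → 0`. -/
lemma shortExact_quot (I : Ideal A) (x : A) (hx : IsSMulRegular (A ⧸ I) x) :
    ∃ (w : (x • 𝟙 (ModuleCat.of A (A ⧸ I))) ≫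
      ModuleCat.ofHom (Submodule.mapQ I (I ⊔ Ideal.span {x}) LinearMap.id le_sup_left) = 0),
      (ShortComplex.mk _ _ w).ShortExact := by
  have hex : Function.Exact
      (x • 𝟙 (ModuleCat.of A (A ⧸ I)) : ModuleCat.of A (A ⧸ I) ⟶ ModuleCat.of A (A ⧸ I)).hom
      (Submodule.mapQ I (I ⊔ Ideal.span {x}) LinearMap.id le_sup_left) := by
    intro b
    obtain ⟨b, rfl⟩ := Submodule.mkQ_surjective _ b
    constructor
    · intro hb
      have hb' : b ∈ I ⊔ Ideal.span {x} := by
        rw [Submodule.mkQ_apply, Submodule.mapQ_apply, LinearMap.id_apply,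
          Submodule.Quotient.mk_eq_zero] at hb
        exact hb
      obtain ⟨i, hi, c, hc, rfl⟩ := Submodule.mem_sup.mp hb'
      obtain ⟨c, rfl⟩ := Ideal.mem_span_singleton'.mp hc
      refine ⟨Submodule.mkQ I c, ?_⟩
      change x • Submodule.mkQ I c = Submodule.mkQ I (i + c * x)
      rw [map_add, ← map_smul, smul_eq_mul, mul_comm]
      have : Submodule.mkQ I i = 0 := by
        rw [Submodule.mkQ_apply, Submodule.Quotient.mk_eq_zero]; exact hi
      rw [this, zero_add]
    · rintro ⟨c, hc⟩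
      obtain ⟨c, rfl⟩ := Submodule.mkQ_surjective _ c
      have hc' : x • Submodule.mkQ I c = Submodule.mkQ I b := hc
      rw [← hc', ← map_smul, Submodule.mkQ_apply, Submodule.mapQ_apply, LinearMap.id_apply,
        Submodule.Quotient.mk_eq_zero, smul_eq_mul]
      exact Submodule.mem_sup_right (Ideal.mul_mem_right _ _ (Ideal.mem_span_singleton_self x))
  have w : (x • 𝟙 (ModuleCat.of A (A ⧸ I))) ≫
      ModuleCat.ofHom (Submodule.mapQ I (I ⊔ Ideal.span {x}) LinearMap.id le_sup_left) = 0 := by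
    apply ModuleCat.hom_ext
    apply LinearMap.ext
    intro q
    exact hex.apply_apply_eq_zero q
  refine ⟨w, ModuleCat.shortComplex_shortExact _ hex ?_ ?_⟩
  · exact hx
  · intro b
    obtain ⟨b, rfl⟩ := Submodule.mkQ_surjective _ b
    exact ⟨Submodule.mkQ I b, rfl⟩

lemma mk₀_smul_id_comp {X Y : ModuleCat.{u} A} (x : A) {i : ℕ} (z : Ext X Y i) :
    (Ext.mk₀ (x • 𝟙 X)).comp z (zero_add i) = x • z := by
  simp [Ext.mk₀_smul]

/-- projective dimension step -/
lemma step_pd (I : Ideal A) (x : A) (hx : IsSMulRegular (A ⧸ I) x) (n : ℕ)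
    (h : HasProjectiveDimensionLT (ModuleCat.of A (A ⧸ I)) (n + 1)) :
    HasProjectiveDimensionLT (ModuleCat.of A (A ⧸ (I ⊔ Ideal.span {x}))) (n + 1 + 1) := by
  obtain ⟨w, hS⟩ := shortExact_quot I x hx
  exact hS.hasProjectiveDimensionLT_X₃ (n + 1) h
    (hasProjectiveDimensionLT_of_ge _ (n + 1) (n + 1 + 1) (by omega))

/-- Ext step -/
lemma step_ext (I : Ideal A) (x : A) (hx : IsSMulRegular (A ⧸ I) x) (M : ModuleCat.{u} A)
    (p : ℕ) (hpd : HasProjectiveDimensionLT (ModuleCat.of A (A ⧸ I)) (p + 1))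
    (e : Ext (ModuleCat.of A (A ⧸ I)) M p ≃ₗ[A] M ⧸ (I • ⊤ : Submodule A M)) :
    Nonempty (Ext (ModuleCat.of A (A ⧸ (I ⊔ Ideal.span {x}))) M (p + 1) ≃ₗ[A]
      M ⧸ ((I ⊔ Ideal.span {x}) • ⊤ : Submodule A M)) := by
  obtain ⟨w, hS⟩ := shortExact_quot I x hx
  -- the connecting map
  let φ : Ext (ModuleCat.of A (A ⧸ I)) M p →ₗ[A]
      Ext (ModuleCat.of A (A ⧸ (I ⊔ Ideal.span {x}))) M (p + 1) :=
    { toFun := fun z => hS.extClass.comp z (add_comm 1 p)
      map_add' := fun a b => by simp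
      map_smul' := fun r a => by simp }
  have hsurj : Function.Surjective φ := by
    intro z
    exact Ext.contravariant_sequence_exact₃ hS M z
      (Ext.eq_zero_of_hasProjectiveDimensionLT _ (p + 1) le_rfl) (add_comm 1 p)
  have hker : LinearMap.ker φ = x • (⊤ : Submodule A (Ext (ModuleCat.of A (A ⧸ I)) M p)) := by
    ext z
    rw [LinearMap.mem_ker, Submodule.mem_smul_pointwise_iff_exists]
    constructor
    · intro hz
      obtain ⟨z₂, hz₂⟩ := Ext.contravariant_sequence_exact₁ hS M z (add_comm 1 p) hz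
      have hz₂' : (Ext.mk₀ (x • 𝟙 (ModuleCat.of A (A ⧸ I)))).comp z₂ (zero_add p) = z := hz₂
      rw [mk₀_smul_id_comp] at hz₂'
      exact ⟨z₂, Submodule.mem_top, hz₂'⟩
    · rintro ⟨z₂, -, rfl⟩
      have : x • z₂ = (Ext.mk₀ (x • 𝟙 (ModuleCat.of A (A ⧸ I)))).comp z₂ (zero_add p) :=
        (mk₀_smul_id_comp x z₂).symm
      rw [this]
      exact hS.extClass_comp_assoc (h := add_comm 1 p) z₂
  refine ⟨(LinearMap.quotKerEquivOfSurjective φ hsurj).symm ≪≫ₗ
    Submodule.quotEquivOfEq _ _ hker ≪≫ₗ QuotSMulTop.congr x e ≪≫ₗ quotQuotSMul M I x⟩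

end Groth.Agent.H21.ExtReg

namespace Groth.Agent.H21.ExtReg

open CategoryTheory Abelian RingTheory.Sequence
open scoped Pointwise

universe u

variable {A : Type u} [CommRing A]

lemma isSMulRegular_quot_of_append (xs : List A) (x : A)
    (h : IsWeaklyRegular A (xs ++ [x])) : IsSMulRegular (A ⧸ Ideal.ofList xs) x := by
  rw [isWeaklyRegular_append_iff] at h
  have h2 := (isWeaklyRegular_singleton_iff _ _).mp h.2
  have e : (A ⧸ (Ideal.ofList xs • ⊤ : Submodule A A)) ≃ₗ[A] (A ⧸ Ideal.ofList xs) :=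
    Submodule.quotEquivOfEq _ _ (by simp)
  exact (e.isSMulRegular_congr x).mp h2

theorem main (xs : List A) (hreg : IsWeaklyRegular A xs) (M : ModuleCat.{u} A) :
    HasProjectiveDimensionLT (ModuleCat.of A (A ⧸ Ideal.ofList xs)) (xs.length + 1) ∧
    Nonempty (Ext (ModuleCat.of A (A ⧸ Ideal.ofList xs)) M xs.length ≃ₗ[A]
      M ⧸ (Ideal.ofList xs • ⊤ : Submodule A M)) := by
  induction xs using List.reverseRecOn with
  | nil =>
    have e0 : (A ⧸ Ideal.ofList ([] : List A)) ≃ₗ[A] A :=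
      Submodule.quotEquivOfEqBot _ (by simp)
    have hproj : Projective (ModuleCat.of A (A ⧸ Ideal.ofList ([] : List A))) :=
      Projective.of_iso e0.toModuleIso.symm
        (inferInstanceAs (Projective (ModuleCat.of A A)))
    refine ⟨by simpa using (inferInstance : HasProjectiveDimensionLT _ 1), ⟨?_⟩⟩
    refine Ext.linearEquiv₀ ≪≫ₗ ModuleCat.homLinearEquiv ≪≫ₗ
      LinearEquiv.congrLeft M A e0 ≪≫ₗ LinearMap.ringLmapEquivSelf A A M ≪≫ₗ
      (Submodule.quotEquivOfEqBot _ (by simp)).symm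
  | append_singleton xs x ih =>
    have hx := isSMulRegular_quot_of_append xs x hreg
    have hreg₁ : IsWeaklyRegular A xs := ((isWeaklyRegular_append_iff _ _ _).mp hreg).1
    obtain ⟨hpd, ⟨e⟩⟩ := ih hreg₁
    have hI : Ideal.ofList (xs ++ [x]) = Ideal.ofList xs ⊔ Ideal.span {x} := by
      rw [Ideal.ofList_append, Ideal.ofList_singleton]
    have hl : (xs ++ [x]).length = xs.length + 1 := by simp
    rw [hI, hl]
    exact ⟨step_pd _ x hx _ hpd, step_ext _ x hx M _ hpd e⟩

end Groth.Agent.H21.ExtReg
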