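import Mathlib
import Groth.Agent.Lib.helper21.ExtReg

set_option autoImplicit false

namespace Groth.Agent.H21.Rees

open CategoryTheory Abelian Limits

universe u

variable {A : Type u} [CommRing A] (f : A)

/-- restriction of scalars along `A → A/(f)` -/
noncomputable abbrev F : ModuleCat.{u} (A ⧸ Ideal.span {f}) ⥤ ModuleCat.{u} A :=
  ModuleCat.restrictScalars (Ideal.Quotient.mk (Ideal.span {f}))

/-- `F` is full -/
lemma exists_preimage {N N' : ModuleCat.{u} (A ⧸ Ideal.span {f})}
    (h : (F f).obj N ⟶ (F f).obj N') : ∃ g : N ⟶ N', (F f).map g = h := by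
  refine ⟨ModuleCat.ofHom
    { toFun := fun n => h.hom n
      map_add' := fun a b => h.hom.map_add a b
      map_smul' := ?_ }, ?_⟩
  · intro b n
    obtain ⟨a, rfl⟩ := Ideal.Quotient.mk_surjective b
    exact h.hom.map_smul a n
  · rfl

/-- `f` kills restricted modules -/
lemma smul_id_eq_zero (N : ModuleCat.{u} (A ⧸ Ideal.span {f})) :
    f • 𝟙 ((F f).obj N) = 0 := by
  apply ModuleCat.hom_ext
  apply LinearMap.ext
  intro n
  change (Ideal.Quotient.mk (Ideal.span {f}) f) • (n : N) = 0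
  rw [Ideal.Quotient.eq_zero_iff_mem.mpr (Ideal.mem_span_singleton_self f), zero_smul]

lemma smul_ext_eq_zero (N : ModuleCat.{u} (A ⧸ Ideal.span {f})) (M : ModuleCat.{u} A) {k : ℕ}
    (z : Ext ((F f).obj N) M k) : f • z = 0 := by
  rw [← ExtReg.mk₀_smul_id_comp, smul_id_eq_zero, Ext.mk₀_zero, Ext.zero_comp]

/-- no maps from an `f`-killed module to a module on which `f` is regular -/
lemma hom_eq_zero (N : ModuleCat.{u} (A ⧸ Ideal.span {f})) (M : ModuleCat.{u} A)
    (hM : IsSMulRegular M f) (h : (F f).obj N ⟶ M) : h = 0 := by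
  apply ModuleCat.hom_ext
  apply LinearMap.ext
  intro n
  apply hM
  change f • h.hom n = f • (0 : M)
  rw [smul_zero, ← map_smul]
  have : f • n = (0 : (F f).obj N) := by
    have := congrArg (fun g => g.hom n) (smul_id_eq_zero f N)
    exact this
  rw [this, map_zero]


section

variable {f}
variable {M : ModuleCat.{u} A} {Mbar : ModuleCat.{u} (A ⧸ Ideal.span {f})}
  {π : M ⟶ (F f).obj Mbar} {w : (f • 𝟙 M) ≫ π = 0}
  (hS : (ShortComplex.mk (f • 𝟙 M) π w).ShortExact)

/-- the Rees map `Ext_B^i(N, M̄) → Ext_A^{i+1}(N, M)` -/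
noncomputable def Φ (N : ModuleCat.{u} (A ⧸ Ideal.span {f})) (i : ℕ) :
    Ext N Mbar i →+ Ext ((F f).obj N) M (i + 1) :=
  (hS.extClass.postcomp ((F f).obj N) rfl).comp ((F f).mapExtAddHom N Mbar i)

lemma Φ_apply (N : ModuleCat.{u} (A ⧸ Ideal.span {f})) (i : ℕ) (z : Ext N Mbar i) :
    Φ hS N i z = (z.mapExactFunctor (F f)).comp hS.extClass rfl := rfl

lemma Φ_naturality {N N' : ModuleCat.{u} (A ⧸ Ideal.span {f})} (g : N' ⟶ N) (i : ℕ)
    (z : Ext N Mbar i) :
    Φ hS N' i ((Ext.mk₀ g).comp z (zero_add i)) =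
      (Ext.mk₀ ((F f).map g)).comp (Φ hS N i z) (zero_add (i + 1)) := by
  rw [Φ_apply, Φ_apply, Ext.mapExactFunctor_comp, Ext.mapExactFunctor_mk₀]
  exact Ext.comp_assoc _ _ _ (zero_add i) rfl (by omega)

lemma Φ_extClass {T : ShortComplex (ModuleCat.{u} (A ⧸ Ideal.span {f}))} (hT : T.ShortExact)
    (i : ℕ) (z : Ext T.X₁ Mbar i) :
    Φ hS T.X₃ (i + 1) (hT.extClass.comp z (add_comm 1 i)) =
      (hT.map_of_exact (F f)).extClass.comp (Φ hS T.X₁ i z) (add_comm 1 (i + 1)) := by
  rw [Φ_apply, Φ_apply, Ext.mapExactFunctor_comp, Ext.mapExactFunctor_extClass]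
  exact Ext.comp_assoc _ _ _ (add_comm 1 i) rfl (by omega)

include hS in
lemma regular_of_shortExact : IsSMulRegular M f := by
  have := hS.mono_f
  exact (ModuleCat.mono_iff_injective (f • 𝟙 M)).mp this

lemma Φ_bijective_zero (N : ModuleCat.{u} (A ⧸ Ideal.span {f})) :
    Function.Bijective (Φ hS N 0) := by
  constructor
  · rw [injective_iff_map_eq_zero]
    intro z hz
    obtain ⟨g, rfl⟩ : ∃ g, z = Ext.mk₀ g := ⟨_, (Ext.mk₀_addEquiv₀_apply z).symm⟩
    rw [Φ_apply, Ext.mapExactFunctor_mk₀] at hz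
    obtain ⟨x₂, hx₂⟩ := Ext.covariant_sequence_exact₃ ((F f).obj N) hS
      (Ext.mk₀ ((F f).map g)) rfl hz
    obtain ⟨h, rfl⟩ : ∃ h, x₂ = Ext.mk₀ h := ⟨_, (Ext.mk₀_addEquiv₀_apply x₂).symm⟩
    rw [hom_eq_zero f N M (regular_of_shortExact hS) h, Ext.mk₀_zero, Ext.zero_comp] at hx₂
    have h1 : (F f).map g = 0 := by
      have := congrArg Ext.addEquiv₀ hx₂
      rw [map_zero] at this
      rw [← Ext.addEquiv₀_symm_apply, AddEquiv.apply_symm_apply] at this
      exact this.symm
    have h2 : g = 0 := (F f).map_injective (by rw [h1, Functor.map_zero])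
    rw [h2, Ext.mk₀_zero]
  · intro y
    have hy : y.comp (Ext.mk₀ (f • 𝟙 M)) (add_zero 1) = 0 := by
      rw [← Ext.smul_eq_comp_mk₀, smul_ext_eq_zero]
    obtain ⟨x₃, hx₃⟩ := Ext.covariant_sequence_exact₁ ((F f).obj N) hS y hy (zero_add 1)
    obtain ⟨h, rfl⟩ : ∃ h, x₃ = Ext.mk₀ h := ⟨_, (Ext.mk₀_addEquiv₀_apply x₃).symm⟩
    obtain ⟨g, rfl⟩ := exists_preimage f h
    refine ⟨Ext.mk₀ g, ?_⟩
    rw [Φ_apply, Ext.mapExactFunctor_mk₀]
    exact hx₃

end


section free

variable (X : Type u)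

/-- the free `A/(f)`-module on `X` -/
noncomputable abbrev PB : ModuleCat.{u} (A ⧸ Ideal.span {f}) :=
  ModuleCat.of (A ⧸ Ideal.span {f}) (X →₀ (A ⧸ Ideal.span {f}))

instance : Projective (PB f X) := by
  have : Module.Projective (A ⧸ Ideal.span {f}) (PB f X) :=
    inferInstanceAs (Module.Projective (A ⧸ Ideal.span {f}) (X →₀ (A ⧸ Ideal.span {f})))
  exact (IsProjective.iff_projective (R := A ⧸ Ideal.span {f}) (P := PB f X)).1 this

/-- the reduction map `A^(X) → (A/f)^(X)` -/
noncomputable def red : ModuleCat.of A (X →₀ A) ⟶ (F f).obj (PB f X) :=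
  ModuleCat.ofHom (Y := (F f).obj (PB f X))
    { toFun := fun v => Finsupp.mapRange (Ideal.Quotient.mk (Ideal.span {f})) (map_zero _) v
      map_add' := fun v v' => Finsupp.mapRange_add (map_add _) v v'
      map_smul' := fun a v => by
        apply Finsupp.ext
        intro x
        change Ideal.Quotient.mk _ (a * v x) = Ideal.Quotient.mk _ a * Ideal.Quotient.mk _ (v x)
        rw [map_mul] }

/-- the underlying function of `red` -/
noncomputable def redFun (v : X →₀ A) : X →₀ (A ⧸ Ideal.span {f}) :=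
  Finsupp.mapRange (Ideal.Quotient.mk (Ideal.span {f})) (map_zero _) v

lemma redFun_apply (v : X →₀ A) (x : X) :
    redFun f X v x = Ideal.Quotient.mk _ (v x) := rfl

lemma red_eq_zero_iff (v : X →₀ A) : (red f X).hom v = 0 ↔ redFun f X v = 0 := Iff.rfl

lemma red_eq_iff (v : X →₀ A) (u : X →₀ (A ⧸ Ideal.span {f})) :
    (red f X).hom v = (show ((F f).obj (PB f X) : Type u) from u) ↔ redFun f X v = u := Iff.rfl

lemma freeSES (hf : IsSMulRegular A f) :
    ∃ (w : (f • 𝟙 (ModuleCat.of A (X →₀ A))) ≫ red f X = 0),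
      (ShortComplex.mk _ _ w).ShortExact := by
  classical
  have hex : Function.Exact (f • 𝟙 (ModuleCat.of A (X →₀ A))).hom (red f X).hom := by
    intro v
    constructor
    · intro hv
      have hv' : ∀ x, v x ∈ Ideal.span {f} := by
        intro x
        have := DFunLike.congr_fun ((red_eq_zero_iff f X v).mp hv) x
        rw [redFun_apply] at this
        exact Ideal.Quotient.eq_zero_iff_mem.mp this
      have hc : ∀ a : A, ∃ c : A, a ∈ Ideal.span {f} → a = f * c := by
        intro a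
        by_cases ha : a ∈ Ideal.span {f}
        · obtain ⟨c, hc⟩ := Ideal.mem_span_singleton'.mp ha
          exact ⟨c, fun _ => by rw [← hc, mul_comm]⟩
        · exact ⟨0, fun h => (ha h).elim⟩
      choose c hc using hc
      refine ⟨v.mapRange (fun a => if a = 0 then 0 else c a) (by simp), ?_⟩
      apply Finsupp.ext
      intro x
      change f • (v.mapRange (fun a => if a = 0 then 0 else c a) (by simp)) x = v x
      rw [Finsupp.mapRange_apply]
      by_cases h0 : v x = 0
      · simp [h0]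
      · rw [if_neg h0, smul_eq_mul, ← hc (v x) (hv' x)]
    · rintro ⟨u, rfl⟩
      rw [red_eq_zero_iff]
      apply Finsupp.ext
      intro x
      change Ideal.Quotient.mk (Ideal.span {f}) (f • u x) = 0
      rw [Ideal.Quotient.eq_zero_iff_mem, smul_eq_mul]
      exact Ideal.mul_mem_right _ _ (Ideal.mem_span_singleton_self f)
  have w : (f • 𝟙 (ModuleCat.of A (X →₀ A))) ≫ red f X = 0 := by
    apply ModuleCat.hom_ext
    apply LinearMap.ext
    intro v
    exact hex.apply_apply_eq_zero v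
  refine ⟨w, ModuleCat.shortComplex_shortExact _ hex ?_ ?_⟩
  · intro u v huv
    apply Finsupp.ext
    intro x
    have := DFunLike.congr_fun huv x
    exact hf this
  · intro v
    have hsurj := Ideal.Quotient.mk_surjective (I := Ideal.span {f})
    obtain ⟨u, hu⟩ : ∃ u : X →₀ (A ⧸ Ideal.span {f}),
        v = (show ((F f).obj (PB f X) : Type u) from u) := ⟨v, rfl⟩
    rw [hu]
    refine ⟨Finsupp.mapRange (fun b => if b = 0 then 0 else Function.surjInv hsurj b) (by simp)
      u, ?_⟩
    rw [red_eq_iff]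
    apply Finsupp.ext
    intro x
    rw [redFun_apply, Finsupp.mapRange_apply]
    by_cases h0 : u x = 0
    · rw [if_pos h0, map_zero, h0]
    · rw [if_neg h0, Function.surjInv_eq hsurj]

lemma vanish_free (hf : IsSMulRegular A f) (M : ModuleCat.{u} A) (j : ℕ) (hj : 2 ≤ j)
    (y : Ext ((F f).obj (PB f X)) M j) : y = 0 := by
  obtain ⟨w, hS⟩ := freeSES f X hf
  have hproj : Projective (ModuleCat.of A (X →₀ A)) := by
    have : Module.Projective A (ModuleCat.of A (X →₀ A)) :=
      inferInstanceAs (Module.Projective A (X →₀ A))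
    exact (IsProjective.iff_projective (R := A) (P := ModuleCat.of A (X →₀ A))).1 this
  have h2 : HasProjectiveDimensionLT ((F f).obj (PB f X)) 2 :=
    hS.hasProjectiveDimensionLT_X₃ 1 inferInstance inferInstance
  exact Ext.eq_zero_of_hasProjectiveDimensionLT y 2 hj

end free


/-- the kernel short exact sequence of a surjection -/
lemma kerSES {R : Type u} [Ring R] {P N : ModuleCat.{u} R} (q : P ⟶ N)
    (hq : Function.Surjective q.hom) :
    ∃ (w : ModuleCat.ofHom (LinearMap.ker q.hom).subtype ≫ q = 0),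
      (ShortComplex.mk _ _ w).ShortExact := by
  have hex : Function.Exact (LinearMap.ker q.hom).subtype q.hom := by
    intro p
    constructor
    · intro hp
      exact ⟨⟨p, hp⟩, rfl⟩
    · rintro ⟨⟨p, hp⟩, rfl⟩
      exact hp
  have w : ModuleCat.ofHom (LinearMap.ker q.hom).subtype ≫ q = 0 := by
    apply ModuleCat.hom_ext
    apply LinearMap.ext
    intro p
    exact p.2
  exact ⟨w, ModuleCat.shortComplex_shortExact _ hex (Submodule.injective_subtype _) hq⟩

section

variable {f}
variable {M : ModuleCat.{u} A} {Mbar : ModuleCat.{u} (A ⧸ Ideal.span {f})}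
  {π : M ⟶ (F f).obj Mbar} {w : (f • 𝟙 M) ≫ π = 0}
  (hS : (ShortComplex.mk (f • 𝟙 M) π w).ShortExact)

/-- **Rees' lemma**: `Ext_{A/f}^i(N, M/fM) ≅ Ext_A^{i+1}(N, M)`. -/
theorem Φ_bijective (hf : IsSMulRegular A f) (i : ℕ) :
    ∀ N : ModuleCat.{u} (A ⧸ Ideal.span {f}), Function.Bijective (Φ hS N i) := by
  induction i with
  | zero => exact Φ_bijective_zero hS
  | succ i ih =>
    intro N
    let q : PB f N ⟶ N := ModuleCat.ofHom (Finsupp.linearCombination _ id)
    have hq : Function.Surjective q.hom := by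
      intro n
      refine ⟨Finsupp.single n 1, ?_⟩
      change Finsupp.linearCombination _ id (Finsupp.single n 1) = n
      rw [Finsupp.linearCombination_single, one_smul, id]
    obtain ⟨w', hT⟩ := kerSES q hq
    have hTA := hT.map_of_exact (F f)
    constructor
    · rw [injective_iff_map_eq_zero]
      intro z hz
      obtain ⟨z₁, rfl⟩ := Ext.contravariant_sequence_exact₃ hT Mbar z
        (Ext.eq_zero_of_projective _) (add_comm 1 i)
      rw [Φ_extClass hS hT i z₁] at hz
      obtain ⟨x₂, hx₂⟩ := Ext.contravariant_sequence_exact₁ hTA M _ (add_comm 1 (i + 1)) hz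
      obtain ⟨z₂, rfl⟩ := (ih (PB f N)).2 x₂
      have h1 : Φ hS _ i ((Ext.mk₀ (ModuleCat.ofHom (LinearMap.ker q.hom).subtype)).comp z₂
          (zero_add i)) = Φ hS _ i z₁ := by
        rw [Φ_naturality]
        exact hx₂
      have h2 := (ih _).1 h1
      rw [← h2]
      exact hT.extClass_comp_assoc z₂
    · intro y
      have hy : (Ext.mk₀ ((F f).map q)).comp y (zero_add (i + 1 + 1)) = 0 :=
        vanish_free f N hf M (i + 1 + 1) (by omega) _
      obtain ⟨x₁, hx₁⟩ := Ext.contravariant_sequence_exact₃ hTA M y hy (add_comm 1 (i + 1))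
      obtain ⟨z₁, rfl⟩ := (ih _).2 x₁
      refine ⟨hT.extClass.comp z₁ (add_comm 1 i), ?_⟩
      rw [Φ_extClass hS hT i z₁]
      exact hx₁

end

end Groth.Agent.H21.Rees
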