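import Mathlib
import Groth.Agent.Lib.helper21.Bass
import Groth.Agent.Lib.helper9.Depth24
import Groth.Agent.S0343

/-!
# A Gorenstein local ring is Cohen–Macaulay

Induction on the depth.  Depth zero: `k ↪ A`, so the smallest `n₀` with `Ext^{≥ n₀}(k, A) = 0` is
`1` (dimension shifting along `0 → k → A → C → 0` and Bass' lemma), i.e. `A` is self-injective;
then Nakayama kills `Hom(A/p, A)` for every nonmaximal prime `p`, so no minimal prime is
nonmaximal.  Positive depth: cut by a regular element (Gorenstein passes to `A/(f)` by `S0343`).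
-/

set_option autoImplicit false

namespace Groth.Agent.H21.GorCM

open CategoryTheory Abelian Groth.Agent.H21.Bass

universe u

section
variable {A : Type u} [CommRing A] [IsNoetherianRing A] [IsLocalRing A]

/-- all higher Ext into `M` vanish from degree `n₀` on, for finite source -/
lemma ext_finite_eq_zero (M : ModuleCat.{u} A) [Module.Finite A M] (n₀ : ℕ)
    (h : ∀ i, n₀ ≤ i →
      ∀ z : Ext (ModuleCat.of A (A ⧸ IsLocalRing.maximalIdeal A)) M i, z = 0)
    (N : Type u) [AddCommGroup N] [Module A N] [Module.Finite A N] (i : ℕ) (hi : n₀ ≤ i)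
    (z : Ext (ModuleCat.of A N) M i) : z = 0 := by
  revert z
  apply ext_eq_zero_of_support
  intro q _
  exact ext_quot_prime_eq_zero M n₀ h q.asIdeal q.isPrime i hi

/-- descending step: if `k ↪ A` then vanishing of `Ext^{≥ i+1}(k, A)` gives vanishing of
`Ext^{≥ i}(k,A)` for `i ≥ 1`. -/
lemma step_down (φ : (A ⧸ IsLocalRing.maximalIdeal A) →ₗ[A] A) (hφ : Function.Injective φ)
    (i : ℕ) (hi : 1 ≤ i)
    (h : ∀ j, i + 1 ≤ j →
      ∀ z : Ext (ModuleCat.of A (A ⧸ IsLocalRing.maximalIdeal A)) (ModuleCat.of A A) j, z = 0) :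
    ∀ j, i ≤ j →
      ∀ z : Ext (ModuleCat.of A (A ⧸ IsLocalRing.maximalIdeal A)) (ModuleCat.of A A) j, z = 0 := by
  intro j hj z
  have hex : Function.Exact φ (Submodule.mkQ (LinearMap.range φ)) := by
    rw [LinearMap.exact_iff, Submodule.ker_mkQ]
  have w : ModuleCat.ofHom φ ≫ ModuleCat.ofHom (Submodule.mkQ (LinearMap.range φ)) = 0 := by
    refine ModuleCat.hom_ext (LinearMap.ext fun q => ?_)
    exact hex.apply_apply_eq_zero q
  have hS : (ShortComplex.mk _ _ w).ShortExact :=
    ModuleCat.shortComplex_shortExact _ hex hφ (Submodule.mkQ_surjective _)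
  have : Module.Finite A (ModuleCat.of A A) := inferInstanceAs (Module.Finite A A)
  obtain ⟨z₂, hz₂⟩ := Ext.contravariant_sequence_exact₁ hS (ModuleCat.of A A) z
    (rfl : 1 + j = 1 + j)
    (ext_finite_eq_zero (ModuleCat.of A A) (i + 1) h (A ⧸ LinearMap.range φ) (1 + j)
      (by omega) _)
  have hz0 : z₂ = 0 := by
    have : Projective (ModuleCat.of A A) := ModuleCat.projective_of_free (ι := Unit)
      (Module.Basis.singleton Unit A)
    obtain ⟨j', rfl⟩ : ∃ j', j = j' + 1 := ⟨j - 1, by omega⟩
    exact Ext.eq_zero_of_projective z₂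
  rw [← hz₂, hz0, Ext.comp_zero]

/-- Nakayama step: if `Ext^{i+1}(N, M) = 0` for all finite `N`, then `Ext^i(A/p, M) = 0` for
every nonmaximal prime `p`. -/
theorem ext_quot_prime_eq_zero_of_succ (M : ModuleCat.{u} A) [Module.Finite A M] (i : ℕ)
    (h : ∀ (N : Type u) [AddCommGroup N] [Module A N] [Module.Finite A N]
      (z : Ext (ModuleCat.of A N) M (1 + i)), z = 0)
    (I : Ideal A) (hI : I.IsPrime) (hIm : I ≠ IsLocalRing.maximalIdeal A) :
    ∀ z : Ext (ModuleCat.of A (A ⧸ I)) M i, z = 0 := by
  have hlt : I < IsLocalRing.maximalIdeal A :=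
    lt_of_le_of_ne (IsLocalRing.le_maximalIdeal hI.ne_top) hIm
  obtain ⟨x, hxm, hxI⟩ := SetLike.exists_of_lt hlt
  have hreg : IsSMulRegular (A ⧸ I) x := by
    intro a b hab
    obtain ⟨a, rfl⟩ := Ideal.Quotient.mk_surjective a
    obtain ⟨b, rfl⟩ := Ideal.Quotient.mk_surjective b
    have : x * (a - b) ∈ I := by
      rw [← Ideal.Quotient.eq_zero_iff_mem]
      have hab' : x • (Ideal.Quotient.mk I a) = x • (Ideal.Quotient.mk I b) := hab
      simp only [Algebra.smul_def, Ideal.Quotient.algebraMap_eq] at hab'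
      rw [mul_sub, map_sub, map_mul, map_mul, hab', sub_self]
    rcases hI.mem_or_mem this with h1 | h1
    · exact (hxI h1).elim
    · exact Ideal.Quotient.eq.mpr h1
  obtain ⟨w, hS⟩ := shortExact_smul (A ⧸ I) x hreg
  have : Module.Finite A (Ext (ModuleCat.of A (A ⧸ I)) M i) := inferInstance
  have htop : (⊤ : Submodule A (Ext (ModuleCat.of A (A ⧸ I)) M i)) = ⊥ := by
    apply Submodule.eq_bot_of_le_smul_of_le_jacobson_bot (Ideal.span {x}) ⊤
      Module.Finite.fg_top
    · intro z _
      obtain ⟨z₂, hz₂⟩ := Ext.contravariant_sequence_exact₁ hS M z (rfl : 1 + i = 1 + i)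
        (h _ _)
      have hz₂' : (Ext.mk₀ (x • 𝟙 (ModuleCat.of A (A ⧸ I)))).comp z₂ (zero_add i) = z := hz₂
      rw [mk₀_smul_id_comp] at hz₂'
      rw [← hz₂']
      exact Submodule.smul_mem_smul (Ideal.mem_span_singleton_self x) Submodule.mem_top
    · rw [IsLocalRing.jacobson_eq_maximalIdeal ⊥ bot_ne_top]
      rw [Ideal.span_le]
      simpa using hxm
  intro z
  have : z ∈ (⊤ : Submodule A (Ext (ModuleCat.of A (A ⧸ I)) M i)) := Submodule.mem_top
  rw [htop] at this
  simpa using this

/-- A self-injective Noetherian local ring has dimension zero. -/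
theorem krullDimLE_zero_of_selfInjective
    (h : ∀ (N : Type u) [AddCommGroup N] [Module A N] [Module.Finite A N]
      (z : Ext (ModuleCat.of A N) (ModuleCat.of A A) 1), z = 0) : Ring.KrullDimLE 0 A := by
  rw [Ring.krullDimLE_zero_iff_forall_minimalPrimes_isMaximal]
  intro p hp
  by_contra hmax
  have hpm : p ≠ IsLocalRing.maximalIdeal A := fun e => hmax (e ▸ inferInstance)
  have hass : p ∈ associatedPrimes A A := by
    apply Module.associatedPrimes.minimalPrimes_annihilator_subset_associatedPrimes A A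
    have : Module.annihilator A A = ⊥ := by
      rw [eq_bot_iff]
      intro a ha
      have := Module.mem_annihilator.mp ha 1
      simpa using this
    rw [this]
    exact hp
  obtain ⟨hprime, a, ha⟩ := isAssociatedPrime_iff.mp hass
  have : Module.Finite A (ModuleCat.of A A) := inferInstanceAs (Module.Finite A A)
  have hz := ext_quot_prime_eq_zero_of_succ (ModuleCat.of A A) 0
    (fun N _ _ _ z => h N z) p hprime hpm
  -- the map `A/p → A`, `1 ↦ a`
  have hle : p ≤ LinearMap.ker (LinearMap.toSpanSingleton A A a) := by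
    intro r hr
    rw [ha, Submodule.mem_colon_singleton] at hr
    simpa using hr
  let ψ : (A ⧸ p) →ₗ[A] A := Submodule.liftQ p (LinearMap.toSpanSingleton A A a) hle
  have hψ : Ext.mk₀ (ModuleCat.ofHom ψ) = 0 := hz _
  have hψ0 : ModuleCat.ofHom ψ = 0 := by
    have := congrArg Ext.addEquiv₀ hψ
    simpa using this
  have ha0 : a = 0 := by
    have h1 : ψ (Submodule.Quotient.mk (1 : A)) = a := by
      show Submodule.liftQ p (LinearMap.toSpanSingleton A A a) hle (Submodule.Quotient.mk (1 : A)) = a
      rw [Submodule.liftQ_apply]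
      simp
    have h2 : ψ (Submodule.Quotient.mk (1 : A)) = 0 := by
      have := congrArg (fun f => f.hom (Submodule.Quotient.mk (1 : A))) hψ0
      exact this
    rw [← h1, h2]
  apply hprime.ne_top
  rw [ha, ha0]
  rw [eq_top_iff]
  intro r _
  rw [Submodule.mem_colon_singleton]
  simp

/-- depth-zero case: a Noetherian local ring of finite self-injective dimension and depth zero
has Krull dimension zero. -/
theorem krullDimLE_zero_of_depth_zero (n : ℕ)
    [HasInjectiveDimensionLT (ModuleCat.of A A) n]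
    (hd : LocCoh.depth A A = 0) : Ring.KrullDimLE 0 A := by
  -- a nonzero map `k → A`
  have hns : ¬ Subsingleton (Ext (ModuleCat.of A (A ⧸ IsLocalRing.maximalIdeal A))
      (ModuleCat.of A A) 0) := by
    intro hs
    have := (Groth.Agent.Lib.helper9.Depth.le_idealDepth_iff_ext'
      (IsLocalRing.maximalIdeal A) A 1).mpr (fun i hi => by
        obtain rfl : i = 0 := by omega
        exact hs)
    have h0 : LocCoh.idealDepth (IsLocalRing.maximalIdeal A) A = 0 := hd
    rw [h0] at this
    simp at this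
  rw [not_subsingleton_iff_nontrivial] at hns
  obtain ⟨z, hz⟩ := exists_ne (0 : Ext (ModuleCat.of A (A ⧸ IsLocalRing.maximalIdeal A))
      (ModuleCat.of A A) 0)
  let φ : (A ⧸ IsLocalRing.maximalIdeal A) →ₗ[A] A := (Ext.addEquiv₀ z).hom
  have hφ0 : φ ≠ 0 := by
    intro e
    apply hz
    apply Ext.addEquiv₀.injective
    rw [map_zero]
    exact ModuleCat.hom_ext e
  have : IsSimpleModule A (A ⧸ IsLocalRing.maximalIdeal A) :=
    isSimpleModule_iff_isCoatom.mpr (Ideal.isMaximal_def.mp inferInstance)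
  have hφ : Function.Injective φ := φ.injective_or_eq_zero.resolve_right hφ0
  -- descending induction
  have hP : ∀ d : ℕ, (∀ j, 1 + d ≤ j → ∀ z : Ext (ModuleCat.of A (A ⧸ IsLocalRing.maximalIdeal A))
      (ModuleCat.of A A) j, z = 0) → (∀ j, 1 ≤ j → ∀ z : Ext (ModuleCat.of A
      (A ⧸ IsLocalRing.maximalIdeal A)) (ModuleCat.of A A) j, z = 0) := by
    intro d
    induction d with
    | zero => intro h; exact h
    | succ d ih =>
      intro h
      apply ih
      apply step_down φ hφ (1 + d) (by omega)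
      intro j hj
      exact h j (by omega)
  have h1 := hP n (fun j hj z => Ext.eq_zero_of_hasInjectiveDimensionLT z n (by omega))
  apply krullDimLE_zero_of_selfInjective
  intro N _ _ _ z
  have : Module.Finite A (ModuleCat.of A A) := inferInstanceAs (Module.Finite A A)
  exact ext_finite_eq_zero (ModuleCat.of A A) 1 h1 N 1 le_rfl z

end

open Groth.Agent.Lib.helper9.Depth in
theorem main : ∀ (d : ℕ) (A : Type u) [CommRing A] [LocCoh.IsGorensteinLocalRing A],
    LocCoh.depth A A = d →
      Module.supportDim A A = ((LocCoh.depth A A : ℕ∞) : WithBot ℕ∞) := by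
  intro d
  induction d with
  | zero =>
    intro A _ _ hd
    obtain ⟨n, hn⟩ := LocCoh.IsGorensteinLocalRing.exists_hasInjectiveDimensionLT (A := A)
    have h0 : Ring.KrullDimLE 0 A := krullDimLE_zero_of_depth_zero n (by exact_mod_cast hd)
    rw [Module.supportDim_self_eq_ringKrullDim, hd,
      ringKrullDimZero_iff_ringKrullDim_eq_zero.mp h0]
    rfl
  | succ d ih =>
    intro A _ _ hd
    have hIM := maximalIdeal_smul_top_ne_top (R := A) A
    obtain ⟨rs, hlen, hrs, hmem⟩ := (le_idealDepth_iff hIM 1).mp (by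
      have : LocCoh.idealDepth (IsLocalRing.maximalIdeal A) A = ((d + 1 : ℕ) : ℕ∞) := hd
      rw [this]
      exact_mod_cast Nat.le_add_left 1 d)
    obtain ⟨f, rfl⟩ := List.length_eq_one_iff.mp hlen
    have hreg : IsSMulRegular A f := (RingTheory.Sequence.isWeaklyRegular_singleton_iff A f).mp hrs
    have hf : f ∈ IsLocalRing.maximalIdeal A := hmem f (by simp)
    have hB : LocCoh.IsGorensteinLocalRing (A ⧸ Ideal.span {f}) :=
      (Groth.Agent.S0343.result A f hf hreg).mp inferInstance
    have hs : Function.Surjective (algebraMap A (A ⧸ Ideal.span {f})) :=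
      Ideal.Quotient.mk_surjective
    have e : QuotSMulTop f A ≃ₗ[A] (A ⧸ Ideal.span {f}) :=
      Submodule.quotEquivOfEq _ _ (by simp [← Submodule.ideal_span_singleton_smul])
    have h1 : LocCoh.depth A (A ⧸ Ideal.span {f}) =
        LocCoh.depth (A ⧸ Ideal.span {f}) (A ⧸ Ideal.span {f}) :=
      depth_eq_of_surjective hs
    have h2 : LocCoh.depth A (QuotSMulTop f A) + 1 = LocCoh.depth A A :=
      idealDepth_quotSMulTop_add_one hIM hf hreg
    have h3 : LocCoh.depth A (QuotSMulTop f A) = LocCoh.depth A (A ⧸ Ideal.span {f}) :=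
      idealDepth_congr _ e
    have hdB : LocCoh.depth (A ⧸ Ideal.span {f}) (A ⧸ Ideal.span {f}) = d := by
      rw [h3, h1, hd] at h2
      have h4 : LocCoh.depth (A ⧸ Ideal.span {f}) (A ⧸ Ideal.span {f}) + 1 = (d : ℕ∞) + 1 := by
        rw [h2]; push_cast; rfl
      exact (ENat.add_left_injective_of_ne_top (by simp)) h4
    have hcm := ih (A ⧸ Ideal.span {f}) hdB
    rw [Module.supportDim_self_eq_ringKrullDim] at hcm ⊢
    rw [← ringKrullDim_quotient_span_singleton_succ_eq_ringKrullDim hreg hf, hcm, hdB, hd]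
    rfl

end Groth.Agent.H21.GorCM
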