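import Mathlib
import Groth.Agent.Lib.helper21.GorCM
import Groth.Agent.Lib.helper21.ExtReg

/-!
# Injective dimension of finite modules over a Noetherian local ring vs. depth

`hasInjectiveDimensionLT_of_depth`: a finite module of finite injective dimension has injective
dimension `≤ depth A`;  `depth_le_of_hasInjectiveDimensionLT`: `depth M ≤ injdim M`.
-/

set_option autoImplicit false

namespace Groth.Agent.H21.GorDim

open CategoryTheory Abelian Groth.Agent.H21.Bass Groth.Agent.H21.GorCM
open Groth.Agent.Lib.helper9.Depth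

universe u

variable {A : Type u} [CommRing A] [IsNoetherianRing A] [IsLocalRing A]

/-- a finite module of depth zero contains a copy of the residue field -/
theorem exists_injective_of_depth_zero (Q : Type u) [AddCommGroup Q] [Module A Q]
    [Module.Finite A Q] (hd : LocCoh.depth A Q = 0) :
    ∃ φ : (A ⧸ IsLocalRing.maximalIdeal A) →ₗ[A] Q, Function.Injective φ := by
  have hns : ¬ Subsingleton (Ext (ModuleCat.of A (A ⧸ IsLocalRing.maximalIdeal A))
      (ModuleCat.of A Q) 0) := by
    intro hs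
    have := (le_idealDepth_iff_ext' (IsLocalRing.maximalIdeal A) Q 1).mpr (fun i hi => by
        obtain rfl : i = 0 := by omega
        exact hs)
    have h0 : LocCoh.idealDepth (IsLocalRing.maximalIdeal A) Q = 0 := hd
    rw [h0] at this
    simp at this
  rw [not_subsingleton_iff_nontrivial] at hns
  obtain ⟨z, hz⟩ := exists_ne (0 : Ext (ModuleCat.of A (A ⧸ IsLocalRing.maximalIdeal A))
      (ModuleCat.of A Q) 0)
  let φ : (A ⧸ IsLocalRing.maximalIdeal A) →ₗ[A] Q := (Ext.addEquiv₀ z).hom
  have hφ0 : φ ≠ 0 := by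
    intro e
    apply hz
    apply Ext.addEquiv₀.injective
    rw [map_zero]
    exact ModuleCat.hom_ext e
  have : IsSimpleModule A (A ⧸ IsLocalRing.maximalIdeal A) :=
    isSimpleModule_iff_isCoatom.mpr (Ideal.isMaximal_def.mp inferInstance)
  exact ⟨φ, φ.injective_or_eq_zero.resolve_right hφ0⟩

/-- descending step: `k ↪ Q` with `pd Q < i`: vanishing of `Ext^{≥ i+1}(k, M)` gives vanishing of
`Ext^{≥ i}(k, M)`. -/
theorem step_down (M : ModuleCat.{u} A) [Module.Finite A M]
    (Q : Type u) [AddCommGroup Q] [Module A Q] [Module.Finite A Q]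
    (φ : (A ⧸ IsLocalRing.maximalIdeal A) →ₗ[A] Q) (hφ : Function.Injective φ)
    (i : ℕ) [HasProjectiveDimensionLT (ModuleCat.of A Q) i]
    (h : ∀ j, i + 1 ≤ j →
      ∀ z : Ext (ModuleCat.of A (A ⧸ IsLocalRing.maximalIdeal A)) M j, z = 0) :
    ∀ j, i ≤ j →
      ∀ z : Ext (ModuleCat.of A (A ⧸ IsLocalRing.maximalIdeal A)) M j, z = 0 := by
  intro j hj z
  have hex : Function.Exact φ (Submodule.mkQ (LinearMap.range φ)) := by
    rw [LinearMap.exact_iff, Submodule.ker_mkQ]
  have w : ModuleCat.ofHom φ ≫ ModuleCat.ofHom (Submodule.mkQ (LinearMap.range φ)) = 0 := by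
    refine ModuleCat.hom_ext (LinearMap.ext fun q => ?_)
    exact hex.apply_apply_eq_zero q
  have hS : (ShortComplex.mk _ _ w).ShortExact :=
    ModuleCat.shortComplex_shortExact _ hex hφ (Submodule.mkQ_surjective _)
  obtain ⟨z₂, hz₂⟩ := Ext.contravariant_sequence_exact₁ hS M z
    (rfl : 1 + j = 1 + j)
    (ext_finite_eq_zero M (i + 1) h (Q ⧸ LinearMap.range φ) (1 + j)
      (by omega) _)
  have hz0 : z₂ = 0 :=
    Ext.eq_zero_of_hasProjectiveDimensionLT (X := ModuleCat.of A Q) z₂ i hj
  rw [← hz₂, hz0, Ext.comp_zero]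

/-- For a finite module `M` of finite injective dimension over a Noetherian local ring `A`, the
injective dimension is at most `depth A`. -/
theorem hasInjectiveDimensionLT_of_depth (M : ModuleCat.{u} A) [Module.Finite A M] (n : ℕ)
    [HasInjectiveDimensionLT M n] (t : ℕ) (ht : LocCoh.depth A A = t) :
    HasInjectiveDimensionLT M (t + 1) := by
  have hIM := maximalIdeal_smul_top_ne_top (R := A) A
  obtain ⟨xs, hlen, hreg, hmem⟩ := (le_idealDepth_iff hIM t).mp (by
    have : LocCoh.idealDepth (IsLocalRing.maximalIdeal A) A = (t : ℕ∞) := ht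
    rw [this])
  obtain ⟨hpd, -⟩ := Groth.Agent.H21.ExtReg.main xs hreg M
  rw [hlen] at hpd
  -- depth of the quotient is zero
  have hq := idealDepth_quot_ofList_add_length xs A hIM hreg hmem
  have e : (A ⧸ (Ideal.ofList xs • (⊤ : Submodule A A))) ≃ₗ[A] (A ⧸ Ideal.ofList xs) :=
    Submodule.quotEquivOfEq _ _ (by simp)
  rw [idealDepth_congr _ e, hlen] at hq
  have hd0 : LocCoh.depth A (A ⧸ Ideal.ofList xs) = 0 := by
    have h1 : LocCoh.idealDepth (IsLocalRing.maximalIdeal A) A = (t : ℕ∞) := ht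
    rw [h1] at hq
    have h2 : LocCoh.idealDepth (IsLocalRing.maximalIdeal A) (A ⧸ Ideal.ofList xs) + (t : ℕ∞) =
        0 + (t : ℕ∞) := by rw [hq, zero_add]
    exact (ENat.add_left_injective_of_ne_top (ENat.natCast_ne_top t)) h2
  obtain ⟨φ, hφ⟩ := exists_injective_of_depth_zero (A ⧸ Ideal.ofList xs) hd0
  -- descending induction
  have hP : ∀ d : ℕ, (∀ j, t + 1 + d ≤ j →
      ∀ z : Ext (ModuleCat.of A (A ⧸ IsLocalRing.maximalIdeal A)) M j, z = 0) →
      (∀ j, t + 1 ≤ j → ∀ z : Ext (ModuleCat.of A (A ⧸ IsLocalRing.maximalIdeal A)) M j,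
        z = 0) := by
    intro d
    induction d with
    | zero => intro h; exact h
    | succ d ih =>
      intro h
      apply ih
      have : HasProjectiveDimensionLT (ModuleCat.of A (A ⧸ Ideal.ofList xs)) (t + 1 + d) :=
        hasProjectiveDimensionLT_of_ge _ (t + 1) (t + 1 + d) (by omega)
      apply step_down M (A ⧸ Ideal.ofList xs) φ hφ (t + 1 + d)
      intro j hj
      exact h j (by omega)
  have h1 := hP n (fun j hj z => Ext.eq_zero_of_hasInjectiveDimensionLT z n (by omega))
  apply Groth.Agent.Lib.helper9.ExtCyclic.hasInjectiveDimensionLT_of_ext_cyclic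
  intro I
  refine ⟨fun a b => ?_⟩
  rw [ext_finite_eq_zero M (t + 1) h1 (A ⧸ I) (t + 1) le_rfl a,
    ext_finite_eq_zero M (t + 1) h1 (A ⧸ I) (t + 1) le_rfl b]

/-- `depth M ≤ injdim M` for a nonzero finite module. -/
theorem depth_le_of_hasInjectiveDimensionLT (M : Type u) [AddCommGroup M] [Module A M]
    [Module.Finite A M] [Nontrivial M] (n : ℕ)
    [HasInjectiveDimensionLT (ModuleCat.of A M) (n + 1)] :
    LocCoh.depth A M ≤ n := by
  obtain ⟨d, hd⟩ := exists_nat_depth (R := A) M
  rw [hd]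
  by_contra hlt
  have hlt' : n + 1 ≤ d := by
    have : ¬ (d ≤ n) := fun h => hlt (by exact_mod_cast h)
    omega
  have h1 : ¬ ((d + 1 : ℕ) : ℕ∞) ≤ LocCoh.idealDepth (IsLocalRing.maximalIdeal A) M := by
    have : LocCoh.idealDepth (IsLocalRing.maximalIdeal A) M = (d : ℕ∞) := hd
    rw [this]
    intro h
    have : d + 1 ≤ d := by exact_mod_cast h
    omega
  rw [le_idealDepth_iff_ext'] at h1
  apply h1
  intro i _
  by_cases hi : i < d
  · have h2 : ((d : ℕ) : ℕ∞) ≤ LocCoh.idealDepth (IsLocalRing.maximalIdeal A) M := by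
      have : LocCoh.idealDepth (IsLocalRing.maximalIdeal A) M = (d : ℕ∞) := hd
      rw [this]
    exact (le_idealDepth_iff_ext' _ _ d).mp h2 i hi
  · exact HasInjectiveDimensionLT.subsingleton _ (n + 1) i (by omega) _

end Groth.Agent.H21.GorDim
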