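import Mathlib
import Groth.Agent.Lib.helper21.GorDim
import Groth.Agent.Lib.helper21.ExtBC3
import Groth.Agent.S0341
import Groth.Agent.S5790

set_option autoImplicit false

namespace Groth.Agent.H21.GorRing

open CategoryTheory Abelian Groth.Agent.H21.Bass Groth.Agent.H21.GorCM Groth.Agent.H21.GorDim
open Groth.Agent.Lib.helper9.Depth

universe u

section Local

variable {R : Type u} [CommRing R] [IsNoetherianRing R] [IsLocalRing R]

/-- `Ext^d(k, M) ≠ 0` for `d = depth M`. -/
theorem not_subsingleton_ext_depth (M : Type u) [AddCommGroup M] [Module R M]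
    [Module.Finite R M] (d : ℕ)
    (hd : LocCoh.depth R M = d) :
    ¬ Subsingleton (Ext (ModuleCat.of R (R ⧸ IsLocalRing.maximalIdeal R)) (ModuleCat.of R M) d) := by
  intro hs
  have h1 : ¬ ((d + 1 : ℕ) : ℕ∞) ≤ LocCoh.idealDepth (IsLocalRing.maximalIdeal R) M := by
    have : LocCoh.idealDepth (IsLocalRing.maximalIdeal R) M = (d : ℕ∞) := hd
    rw [this]
    intro h
    have : d + 1 ≤ d := by exact_mod_cast h
    omega
  rw [le_idealDepth_iff_ext'] at h1
  apply h1
  intro i hi
  by_cases hid : i < d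
  · have h2 : ((d : ℕ) : ℕ∞) ≤ LocCoh.idealDepth (IsLocalRing.maximalIdeal R) M := by
      have : LocCoh.idealDepth (IsLocalRing.maximalIdeal R) M = (d : ℕ∞) := hd
      rw [this]
    exact (le_idealDepth_iff_ext' _ _ d).mp h2 i hid
  · obtain rfl : i = d := by omega
    exact hs

end Local

/-- A Gorenstein local ring of dimension `n` has depth `n` and injective dimension `≤ n`. -/
theorem depth_and_injdim (R : Type u) [CommRing R] [LocCoh.IsGorensteinLocalRing R] (n : ℕ)
    (hn : ringKrullDim R = n) :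
    LocCoh.depth R R = n ∧ HasInjectiveDimensionLT (ModuleCat.of R R) (n + 1) := by
  have hCM := Groth.Agent.S0341.result R
  have h1 := hCM.supportDim_eq_depth
  rw [Module.supportDim_self_eq_ringKrullDim, hn] at h1
  have hd : LocCoh.depth R R = n := by
    have : ((n : ℕ∞) : WithBot ℕ∞) = ((LocCoh.depth R R : ℕ∞) : WithBot ℕ∞) := h1
    exact (WithBot.coe_injective this).symm
  refine ⟨hd, ?_⟩
  obtain ⟨m, hm⟩ := LocCoh.IsGorensteinLocalRing.exists_hasInjectiveDimensionLT (A := R)
  have : Module.Finite R (ModuleCat.of R R) := inferInstanceAs (Module.Finite R R)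
  exact hasInjectiveDimensionLT_of_depth (ModuleCat.of R R) m n hd

/-- A Gorenstein ring of dimension `≤ d` has injective dimension `≤ d`. -/
theorem hasInjectiveDimensionLT_of_isGorensteinRing (A : Type u) [CommRing A]
    [hG : LocCoh.IsGorensteinRing A] (d : ℕ) (hd : ringKrullDim A ≤ (d : WithBot ℕ∞)) :
    HasInjectiveDimensionLT (ModuleCat.of A A) (d + 1) := by
  refine (Groth.Agent.S5790.result A A d).mpr ?_
  intro p
  have hGp := hG.isGorensteinLocalRing_localization p.asIdeal
  have hfin : p.asIdeal.height ≠ ⊤ := Ideal.height_ne_top_of_isPrime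
  obtain ⟨h, hh⟩ : ∃ h : ℕ, p.asIdeal.height = h :=
    ⟨p.asIdeal.height.toNat, (ENat.natCast_toNat hfin).symm⟩
  have hdim : ringKrullDim (Localization.AtPrime p.asIdeal) = (h : WithBot ℕ∞) := by
    rw [IsLocalization.AtPrime.ringKrullDim_eq_height p.asIdeal (Localization.AtPrime p.asIdeal),
      hh]
    rfl
  obtain ⟨-, h2⟩ := depth_and_injdim (Localization.AtPrime p.asIdeal) h hdim
  have htd : h ≤ d := by
    have h3 : ((p.asIdeal.height : ℕ∞) : WithBot ℕ∞) ≤ (d : WithBot ℕ∞) :=
      (ringKrullDim_le_iff_height_le _).mp hd p.isPrime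
    rw [hh] at h3
    exact_mod_cast h3
  have h4 : HasInjectiveDimensionLT
      (ModuleCat.of (Localization.AtPrime p.asIdeal) (Localization.AtPrime p.asIdeal)) (d + 1) :=
    hasInjectiveDimensionLT_of_ge _ (h + 1) (d + 1) (by omega)
  exact hasInjectiveDimensionLT_of_iso (LinearEquiv.toModuleIso
    (localizedModuleSelfEquiv p.asIdeal)).symm (d + 1)

end Groth.Agent.H21.GorRing
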