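import Mathlib
import Groth.Agent.Lib.helper21.LC23

universe u
set_option linter.unusedSectionVars false
set_option linter.style.haveILetI false
open CategoryTheory Opposite Limits Abelian

namespace Groth.Agent.H21.LC

variable {R : Type u} [CommRing R]

/-- if `b` acts bijectively on `Y`, it acts bijectively on `H^j_I(Y)`. -/
lemma smul_bijective_H (I : Ideal R) (b : R) (j : ℕ)
    (Y : ModuleCat.{u} R) (hb : Function.Bijective (fun y : Y => b • y)) :
    Function.Bijective (fun x : (localCohomology I j).obj Y => b • x) := by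
  let eb : Y ≃ₗ[R] Y := LinearEquiv.ofBijective (b • LinearMap.id) hb
  have hiso : IsIso (b • 𝟙 Y) := by
    have : b • 𝟙 Y = eb.toModuleIso.hom := rfl
    rw [this]; infer_instance
  have h1 : (fun x : (localCohomology I j).obj Y => b • x) =
      ((localCohomology I j).map (b • 𝟙 Y)).hom := by
    funext x
    exact (map_smul_id I j Y b x).symm
  rw [h1]
  exact ConcreteCategory.bijective_of_isIso ((localCohomology I j).map (b • 𝟙 Y))

lemma pow_smul_injective_H (I : Ideal R) (b : R) (j : ℕ)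
    (Y : ModuleCat.{u} R) (hb : Function.Bijective (fun y : Y => b • y)) (n : ℕ)
    (x : (localCohomology I j).obj Y) (hx : b ^ n • x = 0) : x = 0 := by
  have hinj := (smul_bijective_H I b j Y hb).1
  induction n with
  | zero => simpa using hx
  | succ n ih =>
    apply ih
    apply hinj
    show b • b ^ n • x = b • 0
    rw [smul_zero, ← mul_smul, ← pow_succ']
    exact hx

/-- an injective module containing `T`. -/
noncomputable abbrev EU (T : ModuleCat.{u} R) : ModuleCat.{u} R := Injective.under T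

/-- the SES `0 → T → Γ_b(E) → N → 0` for a module `T`. -/
noncomputable def torsInjSES (b : R) (T : ModuleCat.{u} R)
    (hT : ∀ t : T, ∃ n : ℕ, b ^ n • t = 0) : ShortComplex (ModuleCat.{u} R) :=
  let f : T ⟶ ModuleCat.of R (DRing.torsionSub (Ideal.span {b}) (EU T)) :=
    ModuleCat.ofHom ((Injective.ι T).hom.codRestrict _ (fun t => by
      obtain ⟨n, hn⟩ := hT t
      refine (mem_torsionSub_span_singleton b _).2 ⟨n, ?_⟩
      rw [← map_smul, hn, map_zero]))
  ShortComplex.mk f (cokernel.π f) (cokernel.condition f)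

lemma torsInjSES_shortExact (b : R) (T : ModuleCat.{u} R)
    (hT : ∀ t : T, ∃ n : ℕ, b ^ n • t = 0) : (torsInjSES b T hT).ShortExact where
  exact := ShortComplex.exact_cokernel _
  mono_f := by
    dsimp only [torsInjSES]
    rw [ModuleCat.mono_iff_injective]
    intro t t' h
    have h1 : (Injective.ι T).hom t = (Injective.ι T).hom t' := congrArg Subtype.val h
    exact (ModuleCat.mono_iff_injective (Injective.ι T)).1 inferInstance h1
  epi_g := by dsimp only [torsInjSES]; infer_instance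

instance injective_torsInjSES_X₂ [IsNoetherianRing R] (b : R) (T : ModuleCat.{u} R)
    (hT : ∀ t : T, ∃ n : ℕ, b ^ n • t = 0) : Injective (torsInjSES b T hT).X₂ := by
  have h0 : Injective (ModuleCat.of R (EU T)) :=
    (inferInstance : Injective (EU T))
  have : Module.Injective R (EU T) := Module.injective_module_of_injective_object R _
  have := injective_torsionSub (Ideal.span {b}) (EU T)
  exact Module.injective_object_of_injective_module R
    (DRing.torsionSub (Ideal.span {b}) (EU T))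

lemma torsInjSES_X₃_torsion (b : R) (T : ModuleCat.{u} R)
    (hT : ∀ t : T, ∃ n : ℕ, b ^ n • t = 0) (z : (torsInjSES b T hT).X₃) :
    ∃ n : ℕ, b ^ n • z = 0 := by
  have hsurj : Function.Surjective (torsInjSES b T hT).g.hom :=
    (torsInjSES_shortExact b T hT).moduleCat_surjective_g
  obtain ⟨u, rfl⟩ := hsurj z
  let u' : DRing.torsionSub (Ideal.span {b}) (EU T) := u
  obtain ⟨n, hn⟩ := (mem_torsionSub_span_singleton b u'.1).1 u'.2
  refine ⟨n, ?_⟩
  rw [← map_smul]
  have : b ^ n • u = 0 := Subtype.ext hn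
  rw [this, map_zero]

end Groth.Agent.H21.LC

namespace Groth.Agent.H21.LC

variable {R : Type u} [CommRing R]

/-- Fact T: local cohomology of a `b`-power torsion module is `b`-power torsion. -/
theorem pow_smul_eq_zero_of_torsion [IsNoetherianRing R] (𝔞 : Ideal R) (b : R) (i : ℕ) :
    ∀ (T : ModuleCat.{u} R) (_ : ∀ t : T, ∃ n : ℕ, b ^ n • t = 0)
      (x : (localCohomology 𝔞 i).obj T), ∃ n : ℕ, b ^ n • x = 0 := by
  induction i with
  | zero =>
    intro T hT x
    obtain ⟨n, hn⟩ := hT (toM 𝔞 T x)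
    refine ⟨n, toM_injective 𝔞 T ?_⟩
    rw [map_smul, hn, map_zero]
  | succ i ih =>
    intro T hT x
    have hS := torsInjSES_shortExact b T hT
    have hE1 : Subsingleton ((localCohomology 𝔞 (i + 1)).obj (torsInjSES b T hT).X₂) :=
      subsingleton_of_injective 𝔞 _ (by omega) _
    obtain ⟨w, hw⟩ := (exact₁ 𝔞 hS i x).1 (Subsingleton.elim _ _)
    obtain ⟨n, hn⟩ := ih _ (torsInjSES_X₃_torsion b T hT) w
    refine ⟨n, ?_⟩
    have : b ^ n • δ 𝔞 hS i w = 0 := by rw [← map_smul, hn, map_zero]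
    rw [hw] at this
    exact this

lemma map_ofHom_apply (𝔞 : Ideal R) {M M' : Type u} [AddCommGroup M]
    [Module R M] [AddCommGroup M'] [Module R M'] (e : M →ₗ[R] M') (i : ℕ)
    (x : (localCohomology 𝔞 i).obj (ModuleCat.of R M)) :
    ((localCohomology 𝔞 i).map (ModuleCat.ofHom e)).hom x =
      ((localCohomology 𝔞 i).map (rangeSES e).f).hom
        (((localCohomology 𝔞 i).map (kerSES e).g).hom x) := by
  have h : (localCohomology 𝔞 i).map (ModuleCat.ofHom e) =
      (localCohomology 𝔞 i).map (kerSES e).g ≫ (localCohomology 𝔞 i).map (rangeSES e).f :=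
    (congrArg (fun φ => (localCohomology 𝔞 i).map φ) (ofHom_eq_comp e)).trans
      ((localCohomology 𝔞 i).map_comp _ _)
  exact congrArg (fun φ => φ.hom x) h

section T2
variable [IsNoetherianRing R] (𝔞 : Ideal R) (b : R) {M M' : Type u} [AddCommGroup M]
  [Module R M] [AddCommGroup M'] [Module R M'] (e : M →ₗ[R] M')
  (hker : ∀ x ∈ LinearMap.ker e, ∃ n : ℕ, b ^ n • x = 0)
  (hcoker : ∀ y : M', ∃ (n : ℕ) (x : M), b ^ n • y = e x)

include hker hcoker

lemma ker_map_torsion (i : ℕ) (x : (localCohomology 𝔞 i).obj (ModuleCat.of R M))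
    (hx : ((localCohomology 𝔞 i).map (ModuleCat.ofHom e)).hom x = 0) :
    ∃ n : ℕ, b ^ n • x = 0 := by
  have hS1 := kerSES_shortExact e
  have hS2 := rangeSES_shortExact e
  have hK : ∀ t : (kerSES e).X₁, ∃ n : ℕ, b ^ n • t = 0 := fun t => by
    obtain ⟨n, hn⟩ := hker t.1 t.2
    exact ⟨n, Subtype.ext hn⟩
  have hC : ∀ t : (rangeSES e).X₃, ∃ n : ℕ, b ^ n • t = 0 := fun t => by
    obtain ⟨y, rfl⟩ := Submodule.Quotient.mk_surjective _ t
    obtain ⟨n, x, hx⟩ := hcoker y
    refine ⟨n, ?_⟩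
    rw [← Submodule.Quotient.mk_smul, hx]
    exact (Submodule.Quotient.mk_eq_zero _).2 ⟨x, rfl⟩
  have hx' : ((localCohomology 𝔞 i).map (rangeSES e).f).hom
      (((localCohomology 𝔞 i).map (kerSES e).g).hom x) = 0 := by
    rw [← map_ofHom_apply]; exact hx
  -- step 1: the image in `H^i(range e)` is torsion
  have h1 : ∃ n : ℕ, b ^ n • ((localCohomology 𝔞 i).map (kerSES e).g).hom x = 0 := by
    cases i with
    | zero =>
      refine ⟨0, ?_⟩
      rw [pow_zero, one_smul]
      exact map_f_injective_zero 𝔞 hS2 (hx'.trans (map_zero _).symm)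
    | succ j =>
      obtain ⟨w, hw⟩ := (exact₁ 𝔞 hS2 j _).1 hx'
      obtain ⟨n, hn⟩ := pow_smul_eq_zero_of_torsion 𝔞 b j _ hC w
      refine ⟨n, ?_⟩
      rw [← hw, ← map_smul, hn, map_zero]
  obtain ⟨n, hn⟩ := h1
  rw [← map_smul] at hn
  obtain ⟨v, hv⟩ := (exact₂ 𝔞 hS1 i _).1 hn
  obtain ⟨m, hm⟩ := pow_smul_eq_zero_of_torsion 𝔞 b i _ hK v
  refine ⟨m + n, ?_⟩
  rw [pow_add, mul_smul, ← hv, ← map_smul, hm, map_zero]

lemma coker_map_torsion (i : ℕ) (y : (localCohomology 𝔞 i).obj (ModuleCat.of R M')) :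
    ∃ (n : ℕ) (x : (localCohomology 𝔞 i).obj (ModuleCat.of R M)),
      b ^ n • y = ((localCohomology 𝔞 i).map (ModuleCat.ofHom e)).hom x := by
  have hS1 := kerSES_shortExact e
  have hS2 := rangeSES_shortExact e
  have hK : ∀ t : (kerSES e).X₁, ∃ n : ℕ, b ^ n • t = 0 := fun t => by
    obtain ⟨n, hn⟩ := hker t.1 t.2
    exact ⟨n, Subtype.ext hn⟩
  have hC : ∀ t : (rangeSES e).X₃, ∃ n : ℕ, b ^ n • t = 0 := fun t => by
    obtain ⟨y, rfl⟩ := Submodule.Quotient.mk_surjective _ t
    obtain ⟨n, x, hx⟩ := hcoker y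
    refine ⟨n, ?_⟩
    rw [← Submodule.Quotient.mk_smul, hx]
    exact (Submodule.Quotient.mk_eq_zero _).2 ⟨x, rfl⟩
  obtain ⟨n, hn⟩ := pow_smul_eq_zero_of_torsion 𝔞 b i _ hC
    (((localCohomology 𝔞 i).map (rangeSES e).g).hom y)
  rw [← map_smul] at hn
  obtain ⟨ybar, hybar⟩ := (exact₂ 𝔞 hS2 i _).1 hn
  obtain ⟨m, hm⟩ := pow_smul_eq_zero_of_torsion 𝔞 b (i + 1) _ hK (δ 𝔞 hS1 i ybar)
  rw [← map_smul] at hm
  obtain ⟨x, hx⟩ := (exact₃ 𝔞 hS1 i _).1 hm
  refine ⟨m + n, x, ?_⟩
  have h2 : ((localCohomology 𝔞 i).map (rangeSES e).f).hom (b ^ m • ybar) = b ^ (m + n) • y := by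
    rw [map_smul, hybar, pow_add, mul_smul]
  rw [map_ofHom_apply, hx]
  exact h2.symm

end T2

end Groth.Agent.H21.LC

namespace Groth.Agent.H21.LC

variable {R : Type u} [CommRing R]

lemma cmp_zero_injective {I I' : Ideal R} (h : I ≤ I') (M : ModuleCat.{u} R) :
    Function.Injective (cmp h 0 M) := by
  intro x y hxy
  apply toM_injective I' M
  rw [← toM_cmp h, ← toM_cmp h, hxy]

/-- `b`-power torsion elements of `H^i_𝔞(M)` are in the image of the comparison map (all `i`). -/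
lemma mem_range_cmp_of_pow_smul' [IsNoetherianRing R] (𝔞 : Ideal R) (b : R) (i : ℕ)
    (M : ModuleCat.{u} R) (x : (localCohomology 𝔞 i).obj M) (hx : ∃ k : ℕ, b ^ k • x = 0) :
    x ∈ LinearMap.range (cmp (le_sup_left : 𝔞 ≤ 𝔞 ⊔ Ideal.span {b}) i M) := by
  cases i with
  | zero =>
    obtain ⟨k, hk⟩ := hx
    have h1 : toM 𝔞 M x ∈ DRing.torsionSub (𝔞 ⊔ Ideal.span {b}) M := by
      refine (mem_torsionSub_sup _ _ _).2 ⟨toM_mem 𝔞 M x, ?_⟩
      refine (mem_torsionSub_span_singleton b _).2 ⟨k, ?_⟩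
      rw [← map_smul, hk, map_zero]
    refine ⟨(H0Equiv _ M).symm ⟨_, h1⟩, ?_⟩
    apply toM_injective
    rw [toM_cmp, toM_H0Equiv_symm]
  | succ j => exact mem_range_cmp_of_pow_smul 𝔞 b j M x hx

section Loc
variable [IsNoetherianRing R] (𝔞 : Ideal R) (b : R) (M : Type u) [AddCommGroup M] [Module R M]

lemma loc_smul_bijective :
    Function.Bijective (fun y : LocalizedModule (Submonoid.powers b) M => b • y) := by
  have h := IsLocalizedModule.map_units (S := Submonoid.powers b)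
    (LocalizedModule.mkLinearMap (Submonoid.powers b) M) ⟨b, Submonoid.mem_powers b⟩
  exact (Module.End.isUnit_iff _).1 h

lemma loc_ker : ∀ x ∈ LinearMap.ker (LocalizedModule.mkLinearMap (Submonoid.powers b) M),
    ∃ n : ℕ, b ^ n • x = 0 := by
  intro x hx
  rw [LinearMap.mem_ker] at hx
  obtain ⟨⟨c, n, rfl⟩, hc⟩ := IsLocalizedModule.exists_of_eq (S := Submonoid.powers b)
    (f := LocalizedModule.mkLinearMap (Submonoid.powers b) M) (hx.trans (map_zero _).symm)
  refine ⟨n, ?_⟩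
  rw [smul_zero] at hc
  exact hc

lemma loc_coker : ∀ y : LocalizedModule (Submonoid.powers b) M, ∃ (n : ℕ) (x : M),
    b ^ n • y = LocalizedModule.mkLinearMap (Submonoid.powers b) M x := by
  intro y
  obtain ⟨⟨m, ⟨c, n, rfl⟩⟩, h⟩ := IsLocalizedModule.surj (Submonoid.powers b)
    (LocalizedModule.mkLinearMap (Submonoid.powers b) M) y
  exact ⟨n, m, h⟩

/-- exactness of `H^i_{𝔞+Rb}(M) → H^i_𝔞(M) → H^i_𝔞(M_b)`. -/
theorem exact_cmp_loc (i : ℕ) :
    Function.Exact (cmp (le_sup_left : 𝔞 ≤ 𝔞 ⊔ Ideal.span {b}) i (ModuleCat.of R M))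
      ((localCohomology 𝔞 i).map
        (ModuleCat.ofHom (LocalizedModule.mkLinearMap (Submonoid.powers b) M))).hom := by
  intro x
  constructor
  · intro hx
    exact mem_range_cmp_of_pow_smul' 𝔞 b i _ x
      (ker_map_torsion 𝔞 b _ (loc_ker b M) (loc_coker b M) i x hx)
  · rintro ⟨y, rfl⟩
    obtain ⟨n, hn⟩ := pow_smul_cmp_eq_zero 𝔞 b i (ModuleCat.of R M) y
    apply pow_smul_injective_H 𝔞 b i
      (ModuleCat.of R (LocalizedModule (Submonoid.powers b) M)) (loc_smul_bijective b M) n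
    rw [← map_smul, hn, map_zero]

/-- the cokernel of `H^i_𝔞(M) → H^i_𝔞(M_b)` is the kernel of the next comparison map. -/
theorem nonempty_cokerLocEquiv (i : ℕ) :
    Nonempty (((localCohomology 𝔞 i).obj
        (ModuleCat.of R (LocalizedModule (Submonoid.powers b) M)) ⧸
      LinearMap.range ((localCohomology 𝔞 i).map
        (ModuleCat.ofHom (LocalizedModule.mkLinearMap (Submonoid.powers b) M))).hom) ≃ₗ[R]
      LinearMap.ker (cmp (le_sup_left : 𝔞 ≤ 𝔞 ⊔ Ideal.span {b}) (i + 1) (ModuleCat.of R M))) := by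
  obtain ⟨e1⟩ := nonempty_cokerEquivH1 b
    ((localCohomology 𝔞 i).map
      (ModuleCat.ofHom (LocalizedModule.mkLinearMap (Submonoid.powers b) M))).hom
    (smul_bijective_H 𝔞 b i _ (loc_smul_bijective b M))
    (fun x hx => ker_map_torsion 𝔞 b _ (loc_ker b M) (loc_coker b M) i x
      (LinearMap.mem_ker.1 hx))
    (coker_map_torsion 𝔞 b _ (loc_ker b M) (loc_coker b M) i)
  obtain ⟨e2⟩ := nonempty_kerCmpEquiv 𝔞 b i (ModuleCat.of R M)
  exact ⟨e1.trans e2.symm⟩

end Loc

end Groth.Agent.H21.LC
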