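import Mathlib
import Groth.Agent.Lib.helper21.LC24

universe u
set_option linter.unusedSectionVars false
open CategoryTheory Opposite Limits Abelian

namespace Groth.Agent.H21.LC

variable {R : Type u} [CommRing R]

/-- vanishing for `𝔞 + Rb` from the short exact sequence. -/
lemma subsingleton_sup_span [IsNoetherianRing R] (𝔞 : Ideal R) (b : R) (j : ℕ)
    (M : ModuleCat.{u} R)
    (h1 : Subsingleton ((localCohomology (Ideal.span {b}) 1).obj
      (ModuleCat.of R ((localCohomology 𝔞 j).obj M))))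
    (h2 : Subsingleton ((localCohomology 𝔞 (j + 1)).obj M)) :
    Subsingleton ((localCohomology (𝔞 ⊔ Ideal.span {b}) (j + 1)).obj M) := by
  obtain ⟨e⟩ := nonempty_kerCmpEquiv 𝔞 b j M
  have hker : Subsingleton (LinearMap.ker
      (cmp (le_sup_left : 𝔞 ≤ 𝔞 ⊔ Ideal.span {b}) (j + 1) M)) := e.toEquiv.subsingleton
  refine ⟨fun x y => ?_⟩
  have hx : x ∈ LinearMap.ker (cmp (le_sup_left : 𝔞 ≤ 𝔞 ⊔ Ideal.span {b}) (j + 1) M) :=
    LinearMap.mem_ker.2 (Subsingleton.elim _ _)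
  have hy : y ∈ LinearMap.ker (cmp (le_sup_left : 𝔞 ≤ 𝔞 ⊔ Ideal.span {b}) (j + 1) M) :=
    LinearMap.mem_ker.2 (Subsingleton.elim _ _)
  exact congrArg Subtype.val (Subsingleton.elim (⟨x, hx⟩ : LinearMap.ker _) ⟨y, hy⟩)

lemma subsingleton_bot [IsNoetherianRing R] (i : ℕ) (hi : 0 < i) (M : ModuleCat.{u} R) :
    Subsingleton ((localCohomology (⊥ : Ideal R) i).obj M) := by
  refine subsingleton_of_torsion ⊥ i hi M ?_
  intro m
  refine ⟨1, fun a ha => ?_⟩
  rw [pow_one, Ideal.mem_bot] at ha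
  rw [ha, zero_smul]

end Groth.Agent.H21.LC
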