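import Mathlib
import Groth.Agent.Lib.helper21.LC25

universe u
set_option linter.unusedSectionVars false
open CategoryTheory Opposite Limits Abelian
open Groth.Agent.Lib.helper20

namespace Groth.Agent.H21.LC

variable {R : Type u} [CommRing R]

/-- Lemma E1: classes in `Ext^j(I^n, K)` die on restriction when `H^{j+1}_I(K) = 0`. -/
lemma exists_restrict_eq_zero (I : Ideal R) (K : ModuleCat.{u} R) (j : ℕ)
    (hK : Subsingleton ((localCohomology I (j + 1 + 1)).obj K)) (n : ℕ)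
    (ξ : Ext (powSES I n).X₁ K (j + 1)) :
    ∃ (m : ℕ) (h : n ≤ m), (Ext.mk₀ (powSESmap I h).τ₁).comp ξ (zero_add (j + 1)) = 0 := by
  have h0 : ιH I (j + 1 + 1) n K
      ((powSES_shortExact I n).extClass.comp ξ (add_comm 1 (j + 1))) = 0 :=
    Subsingleton.elim _ _
  rw [ιH_eq_zero_iff] at h0
  obtain ⟨m, h, hm⟩ := h0
  refine ⟨m, h, ?_⟩
  have h2 := ShortComplex.ShortExact.extClass_naturality (powSES_shortExact I m)
    (powSES_shortExact I n) (powSESmap I h)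
  have h3 : (powSES_shortExact I m).extClass.comp
      ((Ext.mk₀ (powSESmap I h).τ₁).comp ξ (zero_add (j + 1))) (add_comm 1 (j + 1)) = 0 := by
    rw [← Ext.comp_assoc _ _ _ (add_zero 1) (zero_add (j + 1)) (by omega), h2,
      Ext.comp_assoc _ _ _ (zero_add 1) (add_comm 1 (j + 1)) (by omega)]
    exact hm
  obtain ⟨x₂, hx₂⟩ := Ext.contravariant_sequence_exact₁ (powSES_shortExact I m) K _
    (add_comm 1 (j + 1)) h3
  have hproj : Projective (powSES I m).X₂ := by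
    show Projective (ModuleCat.of R R)
    infer_instance
  have hx0 : x₂ = 0 := Ext.eq_zero_of_projective (P := (powSES I m).X₂) x₂
  rw [← hx₂, hx0, Ext.comp_zero]

/-- Lemma E2: lifting maps `I^n → X₃` along an epimorphism after restriction. -/
lemma exists_lift_of_subsingleton (I : Ideal R) {S : ShortComplex (ModuleCat.{u} R)}
    (hS : S.ShortExact) (hK : Subsingleton ((localCohomology I (0 + 1 + 1)).obj S.X₁)) (n : ℕ)
    (φ : (powSES I n).X₁ ⟶ S.X₃) :
    ∃ (m : ℕ) (h : n ≤ m) (ψ : (powSES I m).X₁ ⟶ S.X₂), ψ ≫ S.g = (powSESmap I h).τ₁ ≫ φ := by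
  obtain ⟨m, h, hm⟩ := exists_restrict_eq_zero I S.X₁ 0 hK n
    ((Ext.mk₀ φ).comp hS.extClass (zero_add 1))
  refine ⟨m, h, ?_⟩
  rw [← Ext.comp_assoc _ _ _ (zero_add 0) (zero_add 1) (by omega), Ext.mk₀_comp_mk₀] at hm
  obtain ⟨x₂, hx₂⟩ := Ext.covariant_sequence_exact₃ _ hS _ (zero_add 1) hm
  obtain ⟨ψ, rfl⟩ := (Ext.mk₀_bijective _ _).2 x₂
  rw [Ext.mk₀_comp_mk₀] at hx₂
  exact ⟨ψ, (Ext.mk₀_bijective _ _).1 hx₂⟩

end Groth.Agent.H21.LC
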