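import Mathlib
import Groth.Agent.Lib.helper21.LC26

universe u
set_option linter.unusedSectionVars false
open CategoryTheory Opposite Limits Abelian
open Groth.Agent.Lib.helper20

namespace Groth.Agent.H21.LC

variable {R : Type u} [CommRing R]

lemma D_map_cls (I : Ideal R) {X Y : ModuleCat.{u} R} (g : X ⟶ Y) (n : ℕ)
    (φ : ↥(I ^ n) →ₗ[R] X) :
    ((LocCoh.idealTransform I).map g).hom (IT.cls I X n φ) = IT.cls I Y n (g.hom ∘ₗ φ) :=
  IT.map_cls I X g.hom n φ

/-- `D_I` is exact when `H^2_I` vanishes. -/
theorem shortExact_map_idealTransform [IsNoetherianRing R] (I : Ideal R)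
    (hcd : ∀ K : ModuleCat.{u} R, Subsingleton ((localCohomology I (0 + 1 + 1)).obj K))
    {S : ShortComplex (ModuleCat.{u} R)} (hS : S.ShortExact) :
    (S.map (LocCoh.idealTransform I)).ShortExact := by
  have hf : Function.Injective S.f.hom := hS.moduleCat_injective_f
  have hex := (ShortComplex.ShortExact.moduleCat_exact_iff_function_exact S).1 hS.exact
  refine ModuleCat.shortComplex_shortExact _ ?_ ?_ ?_
  · intro x
    constructor
    · intro hx
      obtain ⟨n, φ, rfl⟩ := IT.cls_surj I S.X₂ x
      have hx' : IT.cls I S.X₃ n (S.g.hom ∘ₗ φ) = 0 := by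
        rw [← D_map_cls]; exact hx
      rw [IT.cls_eq_zero_iff] at hx'
      obtain ⟨k, h1, hk⟩ := hx'
      let ef := LinearEquiv.ofInjective S.f.hom hf
      have hmem : ∀ a : ↥(I ^ k), IT.res I S.X₂ h1 φ a ∈ LinearMap.range S.f.hom := by
        intro a
        have h2 := congrArg (fun t => t a) hk
        have h3 : S.g.hom (IT.res I S.X₂ h1 φ a) = 0 := h2
        obtain ⟨y, hy⟩ := (hex _).1 h3
        exact ⟨y, hy⟩
      let φ' : ↥(I ^ k) →ₗ[R] S.X₁ :=
        ef.symm.toLinearMap ∘ₗ (IT.res I S.X₂ h1 φ).codRestrict _ hmem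
      have hφ' : S.f.hom ∘ₗ φ' = IT.res I S.X₂ h1 φ := by
        ext a
        show S.f.hom (ef.symm ⟨_, hmem a⟩) = _
        exact congrArg Subtype.val (ef.apply_symm_apply ⟨_, hmem a⟩)
      refine ⟨IT.cls I S.X₁ k φ', ?_⟩
      show ((LocCoh.idealTransform I).map S.f).hom (IT.cls I S.X₁ k φ') = _
      rw [D_map_cls, hφ', IT.cls_res]
    · rintro ⟨y, rfl⟩
      have h0 := (S.map (LocCoh.idealTransform I)).zero
      exact congrArg (fun t => t.hom y) h0
  · exact IT.map_injective_of_ker_le I S.X₁ S.f.hom (by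
      rw [LinearMap.ker_eq_bot.2 hf]; exact bot_le)
  · intro x
    obtain ⟨n, φ, rfl⟩ := IT.cls_surj I S.X₃ x
    obtain ⟨m, h, ψ, hψ⟩ := exists_lift_of_subsingleton I hS (hcd _) n
      (ModuleCat.ofHom φ : (powSES I n).X₁ ⟶ S.X₃)
    refine ⟨IT.cls I S.X₂ m ψ.hom, ?_⟩
    show ((LocCoh.idealTransform I).map S.g).hom (IT.cls I S.X₂ m ψ.hom) = _
    rw [D_map_cls, ← IT.cls_res I S.X₃ h φ]
    congr 1
    exact congrArg ModuleCat.Hom.hom hψ

end Groth.Agent.H21.LC

namespace Groth.Agent.H21.LC

variable {R : Type u} [CommRing R]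

/-- if `D_I` preserves epimorphisms then `cd I ≤ 1`. -/
theorem subsingleton_of_idealTransform_epi [IsNoetherianRing R] (I : Ideal R)
    (hepi : ∀ {X Y : ModuleCat.{u} R} (g : X ⟶ Y), Function.Surjective g.hom →
      Function.Surjective ((LocCoh.idealTransform I).map g).hom) (k : ℕ) :
    ∀ M : ModuleCat.{u} R, Subsingleton ((localCohomology I (k + 2)).obj M) := by
  induction k with
  | zero =>
    intro M
    have hS := injSES_shortExact M
    refine (subsingleton_shift _ hS 1 (subsingleton_of_injective _ _ (by omega) _)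
      (subsingleton_of_injective _ _ (by omega) _)).2 ?_
    have hg : Function.Surjective (injSES M).g.hom := hS.moduleCat_surjective_g
    have hDg := hepi (injSES M).g hg
    -- `toDT` is surjective on the injective module
    have hE : Function.Surjective (LocCoh.toDT I (injSES M).X₂) := by
      have e := cokerToDTEquiv I (injSES M).X₂
      have h1 : Subsingleton ((localCohomology I 1).obj (ModuleCat.of R (injSES M).X₂)) :=
        subsingleton_of_injective I 1 (by omega) (injSES M).X₂
      have h2 : Subsingleton (LocCoh.DT I (injSES M).X₂ ⧸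
          LinearMap.range (LocCoh.toDT I (injSES M).X₂)) := e.toEquiv.subsingleton
      rw [← LinearMap.range_eq_top]
      exact Submodule.Quotient.subsingleton_iff.1 h2
    have hN : Function.Surjective (LocCoh.toDT I (injSES M).X₃) := by
      intro x
      obtain ⟨y, rfl⟩ := hDg x
      obtain ⟨e, rfl⟩ := hE y
      exact ⟨(injSES M).g.hom e, (IT.toDT_natural I (injSES M).X₂ (injSES M).g.hom e).symm⟩
    have e := cokerToDTEquiv I (injSES M).X₃
    have : Subsingleton (LocCoh.DT I (injSES M).X₃ ⧸
        LinearMap.range (LocCoh.toDT I (injSES M).X₃)) := by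
      rw [LinearMap.range_eq_top.2 hN]
      infer_instance
    exact e.symm.toEquiv.subsingleton
  | succ k ih =>
    intro M
    have hS := injSES_shortExact M
    exact (subsingleton_shift _ hS (k + 2) (subsingleton_of_injective _ _ (by omega) _)
      (subsingleton_of_injective _ _ (by omega) _)).2 (ih _)

end Groth.Agent.H21.LC
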