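import Mathlib
import Groth.Agent.Lib.helper21.LC27
import Groth.Agent.Lib.helper1.InjHull3

universe u
set_option linter.unusedSectionVars false
open CategoryTheory Opposite Limits Abelian DirectSum

namespace Groth.Agent.H21.LC

variable {R : Type u} [CommRing R]

section DS
variable {ι : Type u} (S : ι → ShortComplex (ModuleCat.{u} R))

/-- direct sum of short complexes of modules. -/
noncomputable def dsSC : ShortComplex (ModuleCat.{u} R) :=
  ShortComplex.mk
    (ModuleCat.ofHom (DirectSum.lmap (fun l => (S l).f.hom)) :
      ModuleCat.of R (⨁ l, (S l).X₁) ⟶ ModuleCat.of R (⨁ l, (S l).X₂))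
    (ModuleCat.ofHom (DirectSum.lmap (fun l => (S l).g.hom)) :
      ModuleCat.of R (⨁ l, (S l).X₂) ⟶ ModuleCat.of R (⨁ l, (S l).X₃)) (by
      refine ModuleCat.hom_ext ?_
      rw [ModuleCat.hom_comp, ModuleCat.hom_ofHom, ModuleCat.hom_ofHom, ← DirectSum.lmap_comp]
      have : (fun l => (S l).g.hom ∘ₗ (S l).f.hom) = fun l => 0 := by
        funext l
        have := (S l).zero
        exact congrArg ModuleCat.Hom.hom this
      rw [this]
      ext x
      rfl)

variable {S}

lemma dsSC_shortExact (hS : ∀ l, (S l).ShortExact) : (dsSC S).ShortExact := by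
  classical
  refine ModuleCat.shortComplex_shortExact _ ?_ ?_ ?_
  · intro (x : ⨁ l, (S l).X₂)
    have hx : ∀ l, (S l).g.hom (x l) = 0 ↔ x l ∈ Set.range (S l).f.hom := fun l =>
      (ShortComplex.ShortExact.moduleCat_exact_iff_function_exact (S l)).1 (hS l).exact (x l)
    constructor
    · intro h
      have h1 : ∀ l, (S l).g.hom (x l) = 0 := fun l => by
        have := congrArg (fun t : ⨁ l, (S l).X₃ => t l) h
        exact this
      choose y hy using fun l => (hx l).1 (h1 l)
      refine ⟨(DFinsupp.mk (DFinsupp.support x) (fun l => y l.1) : ⨁ l, (S l).X₁), ?_⟩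
      refine DFinsupp.ext fun l => ?_
      show (S l).f.hom ((DFinsupp.mk (DFinsupp.support x) (fun l => y l.1) :
        ⨁ l, (S l).X₁) l) = x l
      by_cases hl : l ∈ DFinsupp.support x
      · rw [DFinsupp.mk_of_mem hl]; exact hy l
      · rw [DFinsupp.mk_of_notMem hl, map_zero]
        exact (DFinsupp.notMem_support_iff.1 hl).symm
    · rintro ⟨(y : ⨁ l, (S l).X₁), rfl⟩
      refine DFinsupp.ext fun l => ?_
      exact ((ShortComplex.ShortExact.moduleCat_exact_iff_function_exact (S l)).1
        (hS l).exact _).2 ⟨y l, rfl⟩
  · exact (DirectSum.lmap_injective _).2 (fun l => (hS l).moduleCat_injective_f)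
  · exact (DirectSum.lmap_surjective _).2 (fun l => (hS l).moduleCat_surjective_g)

end DS

end Groth.Agent.H21.LC

namespace Groth.Agent.H21.LC

variable {R : Type u} [CommRing R]

lemma mem_torsionSub_directSum (I : Ideal R) {ι : Type u} (N : ι → Type u)
    [∀ l, AddCommGroup (N l)] [∀ l, Module R (N l)] (z : ⨁ l, N l) :
    z ∈ DRing.torsionSub I (⨁ l, N l) ↔ ∀ l, z l ∈ DRing.torsionSub I (N l) := by
  classical
  constructor
  · rintro ⟨n, hn⟩ l
    refine ⟨n, fun a ha => ?_⟩
    have := congrArg (fun t : ⨁ l, N l => t l) (hn a ha)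
    exact this
  · intro h
    choose n hn using h
    refine ⟨(DFinsupp.support z).sup n, fun a ha => ?_⟩
    refine DFinsupp.ext fun l => ?_
    show a • z l = 0
    by_cases hl : l ∈ DFinsupp.support z
    · exact hn l a (Ideal.pow_le_pow_right (Finset.le_sup hl) ha)
    · rw [DFinsupp.notMem_support_iff.1 hl, smul_zero]

/-- local cohomology vanishing passes to arbitrary direct sums. -/
theorem subsingleton_directSum [IsNoetherianRing R] (I : Ideal R) (i : ℕ) :
    ∀ {ι : Type u} (M : ι → ModuleCat.{u} R),
      (∀ l, Subsingleton ((localCohomology I (i + 1)).obj (M l))) →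
      Subsingleton ((localCohomology I (i + 1)).obj (ModuleCat.of R (⨁ l, M l))) := by
  classical
  induction i with
  | zero =>
    intro ι M h
    have hS : ∀ l, (injSES (M l)).ShortExact := fun l => injSES_shortExact (M l)
    have hT := dsSC_shortExact hS
    have hinj : Injective (dsSC (fun l => injSES (M l))).X₂ := by
      have hE : ∀ l, Module.Injective R (injSES (M l)).X₂ := fun l => by
        have h0 : Injective (ModuleCat.of R (injSES (M l)).X₂) :=
          (inferInstance : Injective (injSES (M l)).X₂)
        exact Module.injective_module_of_injective_object R _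
      have := Groth.Agent.Lib.helper1.InjHullLib.injective_directSum
        (fun l => ((injSES (M l)).X₂ : Type u)) hE
      exact Module.injective_object_of_injective_module R (⨁ l, (injSES (M l)).X₂)
    refine (subsingleton_H1_iff I hT (subsingleton_of_injective I _ (by omega) _)).2 ?_
    intro (z : ⨁ l, (injSES (M l)).X₃) hz
    have hz' := (mem_torsionSub_directSum I (fun l => ((injSES (M l)).X₃ : Type u)) z).1 hz
    have key : ∀ l, ∃ e : (injSES (M l)).X₂, e ∈ DRing.torsionSub I (injSES (M l)).X₂ ∧
        (injSES (M l)).g.hom e = z l := fun l =>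
      (subsingleton_H1_iff I (hS l) (subsingleton_of_injective I _ (by omega) _)).1 (h l)
        (z l) (hz' l)
    choose e he hge using key
    refine ⟨(DFinsupp.mk (DFinsupp.support z) (fun l => e l.1) : ⨁ l, (injSES (M l)).X₂), ?_, ?_⟩
    · refine (mem_torsionSub_directSum I (fun l => ((injSES (M l)).X₂ : Type u)) _).2 ?_
      intro l
      by_cases hl : l ∈ DFinsupp.support z
      · rw [DFinsupp.mk_of_mem hl]; exact he l
      · rw [DFinsupp.mk_of_notMem hl]; exact Submodule.zero_mem _
    · refine DFinsupp.ext fun l => ?_
      show (injSES (M l)).g.hom ((DFinsupp.mk (DFinsupp.support z) (fun l => e l.1) :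
        ⨁ l, (injSES (M l)).X₂) l) = z l
      by_cases hl : l ∈ DFinsupp.support z
      · rw [DFinsupp.mk_of_mem hl]; exact hge l
      · rw [DFinsupp.mk_of_notMem hl, map_zero]
        exact (DFinsupp.notMem_support_iff.1 hl).symm
  | succ i ih =>
    intro ι M h
    have hS : ∀ l, (injSES (M l)).ShortExact := fun l => injSES_shortExact (M l)
    have hT := dsSC_shortExact hS
    have hinj : Injective (dsSC (fun l => injSES (M l))).X₂ := by
      have hE : ∀ l, Module.Injective R (injSES (M l)).X₂ := fun l => by
        have h0 : Injective (ModuleCat.of R (injSES (M l)).X₂) :=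
          (inferInstance : Injective (injSES (M l)).X₂)
        exact Module.injective_module_of_injective_object R _
      have := Groth.Agent.Lib.helper1.InjHullLib.injective_directSum
        (fun l => ((injSES (M l)).X₂ : Type u)) hE
      exact Module.injective_object_of_injective_module R (⨁ l, (injSES (M l)).X₂)
    refine (subsingleton_shift I hT (i + 1) (subsingleton_of_injective I _ (by omega) _)
      (subsingleton_of_injective I _ (by omega) _)).2 ?_
    refine ih (fun l => (injSES (M l)).X₃) (fun l => ?_)
    exact (subsingleton_shift I (hS l) (i + 1) (subsingleton_of_injective I _ (by omega) _)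
      (subsingleton_of_injective I _ (by omega) _)).1 (h l)

end Groth.Agent.H21.LC
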