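import Mathlib
import Groth.Agent.Lib.helper21.LC28

universe u
set_option linter.unusedSectionVars false
open CategoryTheory Opposite Limits Abelian

namespace Groth.Agent.H21.LC

variable {R : Type u} [CommRing R]

/-- `R/J` as an `R/J`-module restricted to `R` is the quotient module. -/
def FrQuotEquiv (J : Ideal R) :
    (Fr R (R ⧸ J)).obj (ModuleCat.of (R ⧸ J) (R ⧸ J)) ≃ₗ[R] (R ⧸ J) where
  toFun x := x
  invFun x := x
  map_add' _ _ := rfl
  map_smul' r x := by
    have h := algebraMap_smul (R ⧸ J) r (show R ⧸ J from x)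
    exact h
  left_inv _ := rfl
  right_inv _ := rfl

/-- local cohomology of `R/J` can be computed over the ring `R/J`. -/
lemma subsingleton_quotient_of_ring [IsNoetherianRing R] (I J : Ideal R) (i : ℕ)
    (h : Subsingleton ((localCohomology (I.map (algebraMap R (R ⧸ J))) i).obj
      (ModuleCat.of (R ⧸ J) (R ⧸ J)))) :
    Subsingleton ((localCohomology I i).obj (ModuleCat.of R (R ⧸ J))) := by
  obtain ⟨e⟩ := nonempty_FrEquiv (R := R) (R' := R ⧸ J) I i (ModuleCat.of (R ⧸ J) (R ⧸ J))
  have h0 : Subsingleton ((Fr R (R ⧸ J)).obj ((localCohomology (I.map (algebraMap R (R ⧸ J))) i).obj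
      (ModuleCat.of (R ⧸ J) (R ⧸ J)))) := h
  have h1 : Subsingleton ((localCohomology I i).obj
      ((Fr R (R ⧸ J)).obj (ModuleCat.of (R ⧸ J) (R ⧸ J)))) := e.symm.toEquiv.subsingleton
  let e2 : (localCohomology I i).obj ((Fr R (R ⧸ J)).obj (ModuleCat.of (R ⧸ J) (R ⧸ J))) ≃ₗ[R]
      (localCohomology I i).obj (ModuleCat.of R (R ⧸ J)) :=
    ((localCohomology I i).mapIso (FrQuotEquiv J).toModuleIso).toLinearEquiv
  exact e2.symm.toEquiv.subsingleton

end Groth.Agent.H21.LC

namespace Groth.Agent.H21.LC

variable {R : Type u} [CommRing R]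

/-- the SES `0 → R → R → R/(a) → 0` for a nonzerodivisor `a`. -/
noncomputable abbrev nzdSES (a : R) : ShortComplex (ModuleCat.{u} R) :=
  ShortComplex.mk (a • 𝟙 (ModuleCat.of R R))
    (ModuleCat.ofHom (Submodule.mkQ (Ideal.span {a})) :
      ModuleCat.of R R ⟶ ModuleCat.of R (R ⧸ Ideal.span {a})) (by
      refine ModuleCat.hom_ext (LinearMap.ext fun x => ?_)
      refine (Submodule.Quotient.mk_eq_zero _).2 ?_
      exact Ideal.mem_span_singleton'.2 ⟨x, mul_comm _ _⟩)

lemma nzdSES_shortExact (a : R) (ha : a ∈ nonZeroDivisors R) : (nzdSES a).ShortExact := by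
  refine ModuleCat.shortComplex_shortExact _ ?_ ?_ (Submodule.mkQ_surjective _)
  · intro x
    constructor
    · intro hx
      obtain ⟨y, hy⟩ := Ideal.mem_span_singleton'.1 ((Submodule.Quotient.mk_eq_zero _).1 hx)
      exact ⟨y, by rw [← hy]; exact mul_comm _ _⟩
    · rintro ⟨y, rfl⟩
      refine (Submodule.Quotient.mk_eq_zero _).2 ?_
      exact Ideal.mem_span_singleton'.2 ⟨y, mul_comm _ _⟩
  · intro x y hxy
    have h1 : a * x = a * y := hxy
    exact mul_cancel_left_mem_nonZeroDivisors ha |>.1 h1

lemma subsingleton_of_nzd [IsNoetherianRing R] (I : Ideal R) (a : R) (haI : a ∈ I)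
    (ha : a ∈ nonZeroDivisors R) (j : ℕ)
    (h : Subsingleton ((localCohomology I j).obj (ModuleCat.of R (R ⧸ Ideal.span {a})))) :
    Subsingleton ((localCohomology I (j + 1)).obj (ModuleCat.of R R)) := by
  have hS := nzdSES_shortExact a ha
  have hinj : Function.Injective
      (fun x : (localCohomology I (j + 1)).obj (ModuleCat.of R R) => a • x) := by
    intro x y hxy
    have h1 : ((localCohomology I (j + 1)).map (nzdSES a).f).hom (x - y) = 0 := by
      have : ((localCohomology I (j + 1)).map (a • 𝟙 (ModuleCat.of R R))).hom (x - y) = 0 := by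
        rw [map_smul_id, smul_sub]
        exact sub_eq_zero.2 hxy
      exact this
    obtain ⟨w, hw⟩ := (exact₁ I hS j (x - y)).1 h1
    have hw0 : w = 0 := Subsingleton.elim _ _
    rw [hw0, map_zero] at hw
    exact sub_eq_zero.1 hw.symm
  have hpow : ∀ n : ℕ, Function.Injective
      (fun x : (localCohomology I (j + 1)).obj (ModuleCat.of R R) => a ^ n • x) := by
    intro n
    induction n with
    | zero => intro x x' h; simpa using h
    | succ n ih =>
      intro x x' h
      simp only [pow_succ, mul_smul] at h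
      exact hinj (ih h)
  refine ⟨fun x x' => ?_⟩
  have key : ∀ x : (localCohomology I (j + 1)).obj (ModuleCat.of R R), x = 0 := by
    intro x
    obtain ⟨n, hn⟩ := mem_torsionSub_H I (j + 1) _ x
    apply hpow n
    show a ^ n • x = a ^ n • 0
    rw [hn _ (Ideal.pow_mem_pow haI n), smul_zero]
  rw [key x, key x']

end Groth.Agent.H21.LC

namespace Groth.Agent.H21.LC

/-- Grothendieck vanishing for the ring itself, inductive form. -/
theorem subsingleton_ring_of_dim_lt (cdRing : ∀ (R : Type u) [CommRing R] [IsNoetherianRing R]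
      (I : Ideal R) (d : ℕ), (∀ i : ℕ, d < i → Subsingleton ((localCohomology I i).obj
        (ModuleCat.of R R))) → ∀ (M : ModuleCat.{u} R) (i : ℕ), d < i →
        Subsingleton ((localCohomology I i).obj M)) (d : ℕ) :
    ∀ (R : Type u) [CommRing R] [IsNoetherianRing R], ringKrullDim R < d →
      ∀ (I : Ideal R) (M : ModuleCat.{u} R) (i : ℕ), d ≤ i →
        Subsingleton ((localCohomology I i).obj M) := by
  induction d with
  | zero =>
    intro R _ _ hdim I M i _
    have hR : Subsingleton R := by
      by_contra h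
      have : Nontrivial R := not_subsingleton_iff_nontrivial.1 h
      have h0 := ringKrullDim_nonneg_of_nontrivial (R := R)
      exact absurd (lt_of_le_of_lt h0 hdim) (lt_irrefl _)
    have : Subsingleton M := Module.subsingleton R M
    exact subsingleton_of_subsingleton I i M
  | succ d ih =>
    intro R _ _ hdim I M i hi
    refine cdRing R I d ?_ M i (by omega)
    refine IsNoetherianRing.induction_on_isQuotientEquivQuotientPrime R
      (M := R) inferInstance
      (motive := fun N _ _ _ => ∀ i, d < i →
        Subsingleton ((localCohomology I i).obj (ModuleCat.of R N))) ?_ ?_ ?_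
    · intro N _ _ _ _ i _
      exact subsingleton_of_subsingleton I i _
    · intro N _ _ _ p e i hi
      have hmain : Subsingleton ((localCohomology I i).obj (ModuleCat.of R (R ⧸ p.1))) := by
        apply subsingleton_quotient_of_ring I p.1 i
        by_cases hI' : I.map (algebraMap R (R ⧸ p.1)) = ⊥
        · rw [hI']
          exact subsingleton_bot i (by omega) _
        · obtain ⟨a, haI, ha0⟩ := Submodule.exists_mem_ne_zero_of_ne_bot hI'
          have hdom : IsDomain (R ⧸ p.1) := Ideal.Quotient.isDomain p.1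
          have ha : a ∈ nonZeroDivisors (R ⧸ p.1) := mem_nonZeroDivisors_of_ne_zero ha0
          obtain ⟨j, rfl⟩ : ∃ j, i = j + 1 := ⟨i - 1, by omega⟩
          apply subsingleton_of_nzd _ a haI ha j
          apply subsingleton_quotient_of_ring _ (Ideal.span {a}) j
          refine ih ((R ⧸ p.1) ⧸ Ideal.span {a}) ?_ _ _ j (by omega)
          have h1 := ringKrullDim_quotient_succ_le_of_nonZeroDivisor ha
          have h2 := ringKrullDim_quotient_le p.1
          have h3 : ringKrullDim ((R ⧸ p.1) ⧸ Ideal.span {a}) + 1 < (d : WithBot ℕ∞) + 1 := by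
            refine lt_of_le_of_lt (h1.trans h2) ?_
            exact_mod_cast hdim
          exact lt_of_add_lt_add_right h3
      exact (Hcongr I i e).toEquiv.subsingleton
    · intro N₁ _ _ _ N₂ _ _ _ N₃ _ _ _ f g hf hg hfg h1 h3 i hi
      have hS : (ShortComplex.mk (ModuleCat.ofHom f) (ModuleCat.ofHom g) (by
          refine ModuleCat.hom_ext ?_
          rw [ModuleCat.hom_comp, ModuleCat.hom_ofHom, ModuleCat.hom_ofHom]
          exact hfg.linearMap_comp_eq_zero)).ShortExact :=
        ModuleCat.shortComplex_shortExact _ hfg hf hg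
      exact subsingleton_X₂ I hS i (h1 i hi) (h3 i hi)

end Groth.Agent.H21.LC
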