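import Mathlib
import Groth.Agent.Lib.helper21.LC29
import Groth.Agent.S0378

universe u
set_option linter.unusedSectionVars false
set_option linter.style.haveILetI false
open CategoryTheory Opposite Limits Abelian DirectSum

namespace Groth.Agent.H21.LC

variable {R : Type u} [CommRing R]

/-- Grothendieck vanishing: `H^i_I = 0` for `i > dim R`. -/
theorem subsingleton_of_dim_lt [IsNoetherianRing R] (d : ℕ) (hdim : ringKrullDim R < d)
    (I : Ideal R) (M : ModuleCat.{u} R) (i : ℕ) (hi : d ≤ i) :
    Subsingleton ((localCohomology I i).obj M) := by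
  refine subsingleton_ring_of_dim_lt ?_ d R hdim I M i hi
  intro R' _ _ I' d' h M' i' hi'
  exact (Groth.Agent.S0378.result R' I' d').1 (fun j hj => h j hj) M' i' hi'

/-- vanishing can be checked over an algebra through which the module structure factors. -/
lemma subsingleton_of_algebra [IsNoetherianRing R] {R' : Type u} [CommRing R']
    [IsNoetherianRing R'] [Algebra R R'] (I : Ideal R) (M' : Type u) [AddCommGroup M']
    [Module R' M'] [Module R M'] [IsScalarTower R R' M'] (i : ℕ)
    (h : Subsingleton ((localCohomology (I.map (algebraMap R R')) i).obj (ModuleCat.of R' M'))) :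
    Subsingleton ((localCohomology I i).obj (ModuleCat.of R M')) := by
  obtain ⟨e⟩ := nonempty_FrEquiv (R := R) (R' := R') I i (ModuleCat.of R' M')
  have h0 : Subsingleton ((Fr R R').obj ((localCohomology (I.map (algebraMap R R')) i).obj
      (ModuleCat.of R' M'))) := h
  have h1 : Subsingleton ((localCohomology I i).obj ((Fr R R').obj (ModuleCat.of R' M'))) :=
    e.symm.toEquiv.subsingleton
  let e₀ : ((Fr R R').obj (ModuleCat.of R' M')) ≃ₗ[R] M' :=
    { toFun := fun m => m
      invFun := fun m => m
      map_add' := fun _ _ => rfl
      map_smul' := fun r m => by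
        have h := algebraMap_smul R' r (show M' from m)
        exact h
      left_inv := fun _ => rfl
      right_inv := fun _ => rfl }
  let e₁ : (localCohomology I i).obj ((Fr R R').obj (ModuleCat.of R' M')) ≃ₗ[R]
      (localCohomology I i).obj (ModuleCat.of R M') :=
    ((localCohomology I i).mapIso e₀.toModuleIso).toLinearEquiv
  exact e₁.symm.toEquiv.subsingleton

/-- Grothendieck vanishing for finitely generated modules. -/
theorem subsingleton_of_supportDim_lt_of_finite [IsNoetherianRing R] (I : Ideal R) (M : Type u)
    [AddCommGroup M] [Module R M] [Module.Finite R M] (i : ℕ)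
    (h : Module.supportDim R M < (i : WithBot ℕ∞)) :
    Subsingleton ((localCohomology I i).obj (ModuleCat.of R M)) := by
  letI : Module (R ⧸ Module.annihilator R M) M := Module.quotientAnnihilator
  haveI : IsScalarTower R (R ⧸ Module.annihilator R M) M :=
    (Module.isTorsionBySet_annihilator R M).isScalarTower
  apply subsingleton_of_algebra (R' := R ⧸ Module.annihilator R M) I M i
  rw [Module.supportDim_eq_ringKrullDim_quotient_annihilator] at h
  exact subsingleton_of_dim_lt i h _ _ i le_rfl

end Groth.Agent.H21.LC

namespace Groth.Agent.H21.LC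

variable {R : Type u} [CommRing R]

/-- support of a direct sum of submodules of `M` is inside the support of `M`. -/
lemma support_directSum_subset {M : Type u} [AddCommGroup M] [Module R M] {ι : Type u}
    (N : ι → Submodule R M) :
    Module.support R (⨁ l, N l) ⊆ Module.support R M := by
  classical
  intro p hp
  by_contra hpM
  rw [Module.notMem_support_iff'] at hpM
  apply (Module.notMem_support_iff'.2 ?_) hp
  intro x
  choose r hr hrm using hpM
  refine ⟨∏ l ∈ DFinsupp.support x, r (x l).1, ?_, ?_⟩
  · intro hmem
    obtain ⟨l, _, hl⟩ := (Ideal.IsPrime.prod_mem_iff (hp := p.isPrime)).1 hmem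
    exact hr _ hl
  · refine DFinsupp.ext fun l => ?_
    show (∏ l ∈ DFinsupp.support x, r (x l).1) • x l = 0
    by_cases hl : l ∈ DFinsupp.support x
    · rw [← Finset.mul_prod_erase _ _ hl, mul_comm, mul_smul]
      have : r (x l).1 • x l = 0 := Subtype.ext (hrm (x l).1)
      rw [this, smul_zero]
    · rw [DFinsupp.notMem_support_iff.1 hl, smul_zero]

lemma supportDim_directSum_le {M : Type u} [AddCommGroup M] [Module R M] {ι : Type u}
    (N : ι → Submodule R M) : Module.supportDim R (⨁ l, N l) ≤ Module.supportDim R M :=
  Order.krullDim_le_of_strictMono (fun a => ⟨a.1, support_directSum_subset N a.2⟩)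
    (fun {_ _} lt => lt)

end Groth.Agent.H21.LC

namespace Groth.Agent.H21.LC

variable {R : Type u} [CommRing R]

lemma subsingleton_of_supportDim_lt_zero {M : Type u} [AddCommGroup M] [Module R M]
    (h : Module.supportDim R M < ((0 : ℕ) : WithBot ℕ∞)) : Subsingleton M := by
  rw [← Module.supportDim_eq_bot_iff_subsingleton (R := R)]
  by_contra hne
  obtain ⟨n, hn⟩ := WithBot.ne_bot_iff_exists.1 hne
  rw [← hn] at h
  have h' : (n : WithBot ℕ∞) < ((0 : ℕ∞) : WithBot ℕ∞) := by exact_mod_cast h
  exact absurd (WithBot.coe_lt_coe.1 h') (not_lt.2 zero_le)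

/-- the descending step. -/
lemma supportDim_step [IsNoetherianRing R] (I : Ideal R) (i : ℕ)
    (hnext : ∀ (K : Type u) [AddCommGroup K] [Module R K],
      Module.supportDim R K < ((i + 1 : ℕ) : WithBot ℕ∞) →
      Subsingleton ((localCohomology I (i + 1)).obj (ModuleCat.of R K)))
    (M : Type u) [AddCommGroup M] [Module R M]
    (hM : Module.supportDim R M < (i : WithBot ℕ∞)) :
    Subsingleton ((localCohomology I i).obj (ModuleCat.of R M)) := by
  classical
  cases i with
  | zero =>
    have := subsingleton_of_supportDim_lt_zero hM
    exact subsingleton_of_subsingleton I 0 _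
  | succ j =>
    let N : M → Submodule R M := fun m => Submodule.span R {m}
    let π : (⨁ m, N m) →ₗ[R] M := DirectSum.toModule R M M (fun m => (N m).subtype)
    have hπ : Function.Surjective π := by
      intro m
      refine ⟨DirectSum.lof R M (fun m => N m) m ⟨m, Submodule.mem_span_singleton_self m⟩, ?_⟩
      rw [DirectSum.toModule_lof]
      rfl
    have hT := LinearMap.shortExact_shortComplexKer hπ
    have hfin : ∀ m, Module.Finite R (N m) := fun m =>
      Module.Finite.of_fg (Submodule.fg_span_singleton m)
    have hF : Subsingleton ((localCohomology I (j + 1)).obj π.shortComplexKer.X₂) :=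
      subsingleton_directSum I j (fun m => ModuleCat.of R (N m)) (fun m =>
        subsingleton_of_supportDim_lt_of_finite I (N m) (j + 1)
          (lt_of_le_of_lt (Module.supportDim_le_of_injective (N m).subtype
            (Submodule.injective_subtype _)) hM))
    have hK : Subsingleton ((localCohomology I (j + 1 + 1)).obj π.shortComplexKer.X₁) := by
      apply hnext (LinearMap.ker π)
      have h1 : Module.supportDim R (LinearMap.ker π) ≤ Module.supportDim R (⨁ m, N m) :=
        Module.supportDim_le_of_injective (LinearMap.ker π).subtype
          (Submodule.injective_subtype (LinearMap.ker π))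
      have h2 := supportDim_directSum_le N
      refine lt_of_le_of_lt (h1.trans h2) (lt_trans hM ?_)
      exact_mod_cast Nat.lt_succ_self (j + 1)
    exact subsingleton_X₃ I hT (j + 1) hF hK

end Groth.Agent.H21.LC
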