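import Mathlib
import Groth.Agent.Lib.helper21.LC30

universe u
set_option linter.unusedSectionVars false
open CategoryTheory Opposite Limits Abelian

namespace Groth.Agent.H21.LC

variable {R : Type u} [CommRing R]

/-- the SES `0 → Ω → P → X → 0` with `P` projective. -/
noncomputable def projSES (X : ModuleCat.{u} R) : ShortComplex (ModuleCat.{u} R) :=
  ShortComplex.mk (kernel.ι (Projective.π X)) (Projective.π X) (kernel.condition _)

lemma projSES_shortExact (X : ModuleCat.{u} R) : (projSES X).ShortExact where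
  exact := ShortComplex.exact_kernel _
  mono_f := by dsimp [projSES]; infer_instance
  epi_g := by dsimp [projSES]; infer_instance

instance (X : ModuleCat.{u} R) : Projective (projSES X).X₂ := by
  dsimp [projSES]; infer_instance

/-- universal classes: every class in `Ext^{k+1}(X, N)` is a pushforward of one class `u`. -/
theorem exists_universal_class (k : ℕ) : ∀ X : ModuleCat.{u} R,
    ∃ (Ω : ModuleCat.{u} R) (u : Ext X Ω (k + 1)), ∀ (N : ModuleCat.{u} R) (x : Ext X N (k + 1)),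
      ∃ h : Ω ⟶ N, x = u.comp (Ext.mk₀ h) (add_zero (k + 1)) := by
  induction k with
  | zero =>
    intro X
    have hS := projSES_shortExact X
    refine ⟨(projSES X).X₁, hS.extClass, fun N x => ?_⟩
    have hx : (Ext.mk₀ (projSES X).g).comp x (zero_add (0 + 1)) = 0 :=
      Ext.eq_zero_of_projective (P := (projSES X).X₂) _
    obtain ⟨x₁, hx₁⟩ := Ext.contravariant_sequence_exact₃ hS N x hx (n₀ := 0) (by omega)
    obtain ⟨h, rfl⟩ := (Ext.mk₀_bijective _ _).2 x₁
    exact ⟨h, hx₁.symm⟩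
  | succ k ih =>
    intro X
    have hS := projSES_shortExact X
    obtain ⟨Ω', u', hu'⟩ := ih (projSES X).X₁
    refine ⟨Ω', hS.extClass.comp u' (by omega), fun N x => ?_⟩
    have hx : (Ext.mk₀ (projSES X).g).comp x (zero_add (k + 1 + 1)) = 0 :=
      Ext.eq_zero_of_projective (P := (projSES X).X₂) _
    obtain ⟨x₁, hx₁⟩ := Ext.contravariant_sequence_exact₃ hS N x hx (n₀ := k + 1) (by omega)
    obtain ⟨h, rfl⟩ := hu' N x₁
    refine ⟨h, ?_⟩
    rw [← hx₁]
    exact (Ext.comp_assoc hS.extClass u' (Ext.mk₀ h) (by omega) (add_zero (k + 1))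
      (by omega)).symm

end Groth.Agent.H21.LC

namespace Groth.Agent.H21.LC

variable {R : Type u} [CommRing R]

lemma tr_comp (I : Ideal R) {a b c : ℕ} (h₁ : b ≤ a) (h₂ : c ≤ b) :
    tr I h₁ ≫ tr I h₂ = tr I (h₂.trans h₁) := by
  refine ModuleCat.hom_ext (LinearMap.ext fun x => ?_)
  obtain ⟨r, rfl⟩ := Ideal.Quotient.mk_surjective x
  rfl

/-- uniform annihilation of `Ext^i(R/I^n, -)`, `i > cd`, by a transition map. -/
theorem exists_uniform_kill (I : Ideal R) (e : ℕ)
    (he : ∀ (M : ModuleCat.{u} R) (i : ℕ), e < i → Subsingleton ((localCohomology I i).obj M))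
    (n : ℕ) :
    ∃ (m : ℕ) (hm : n < m), ∀ (N : ModuleCat.{u} R) (i : ℕ), e < i → ∀ x : Ext (Q I n) N i,
      (Ext.mk₀ (tr I (le_of_lt hm))).comp x (zero_add i) = 0 := by
  obtain ⟨Ω, u, hu⟩ := exists_universal_class e (Q I n)
  have h0 : ιH I (e + 1) n Ω u = 0 := @Subsingleton.elim _ (he Ω (e + 1) (by omega)) _ _
  rw [ιH_eq_zero_iff] at h0
  obtain ⟨m₀, h₀, hm₀⟩ := h0
  have hm : n < max m₀ (n + 1) := lt_of_lt_of_le (Nat.lt_succ_self n) (le_max_right _ _)
  refine ⟨max m₀ (n + 1), hm, ?_⟩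
  have hu0 : (Ext.mk₀ (tr I (le_of_lt hm))).comp u (zero_add (e + 1)) = 0 := by
    rw [← tr_comp I (le_max_left m₀ (n + 1)) h₀, ← Ext.mk₀_comp_mk₀,
      Ext.comp_assoc _ _ _ (zero_add 0) (zero_add (e + 1)) (by omega), hm₀, Ext.comp_zero]
  have key : ∀ (t : ℕ) (N : ModuleCat.{u} R) (x : Ext (Q I n) N (e + 1 + t)),
      (Ext.mk₀ (tr I (le_of_lt hm))).comp x (zero_add (e + 1 + t)) = 0 := by
    intro t
    induction t with
    | zero =>
      intro N x
      obtain ⟨h, rfl⟩ := hu N x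
      have := Ext.comp_assoc (Ext.mk₀ (tr I (le_of_lt hm))) u (Ext.mk₀ h) (zero_add (e + 1))
        (add_zero (e + 1)) (show 0 + (e + 1) + 0 = e + 1 + 0 by omega)
      rw [hu0, Ext.zero_comp] at this
      exact this.symm
    | succ t ih =>
      intro N x
      have hS := injSES_shortExact N
      have hx : x.comp (Ext.mk₀ (injSES N).f) (add_zero (e + 1 + (t + 1))) = 0 :=
        Ext.eq_zero_of_injective _
      obtain ⟨x₃, hx₃⟩ := Ext.covariant_sequence_exact₁ _ hS x hx (n₀ := e + 1 + t) (by omega)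
      have := Ext.comp_assoc (Ext.mk₀ (tr I (le_of_lt hm))) x₃ hS.extClass (zero_add (e + 1 + t))
        (show e + 1 + t + 1 = e + 1 + (t + 1) by omega)
        (show 0 + (e + 1 + t) + 1 = e + 1 + (t + 1) by omega)
      rw [ih _ x₃, Ext.zero_comp, hx₃] at this
      exact this.symm
  intro N i hi x
  obtain ⟨t, rfl⟩ : ∃ t, i = e + 1 + t := ⟨i - e - 1, by omega⟩
  exact key t N x

end Groth.Agent.H21.LC
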