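import Mathlib
import Groth.Agent.Lib.helper21.LC31
import Groth.Agent.Lib.helper21.LC13

universe u
set_option linter.unusedSectionVars false
open CategoryTheory Opposite Limits Abelian

namespace Groth.Agent.H21.LC

variable {R : Type u} [CommRing R]

/-- if all primes containing `J` are maximal then elements of the Jacobson radical are nilpotent
modulo `J` (Noetherian case). -/
lemma exists_pow_mem_of_primes_maximal [IsNoetherianRing R] (J : Ideal R)
    (hJ : ∀ p : Ideal R, p.IsPrime → J ≤ p → p.IsMaximal) (f : R)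
    (hf : f ∈ (⊥ : Ideal R).jacobson) : ∃ k : ℕ, f ^ k ∈ J := by
  have hdim : Ring.KrullDimLE 0 (R ⧸ J) := by
    rw [Ring.krullDimLE_zero_iff]
    intro q hq
    have hq' : (q.comap (Ideal.Quotient.mk J)).IsPrime := Ideal.comap_isPrime _ q
    have hmax := hJ _ hq' (by
      intro a ha
      rw [Ideal.mem_comap, Ideal.Quotient.eq_zero_iff_mem.2 ha]
      exact q.zero_mem)
    have hmap : (q.comap (Ideal.Quotient.mk J)).map (Ideal.Quotient.mk J) = q :=
      Ideal.map_comap_of_surjective _ Ideal.Quotient.mk_surjective q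
    rcases Ideal.map_eq_top_or_isMaximal_of_surjective (Ideal.Quotient.mk J)
      Ideal.Quotient.mk_surjective hmax with h | h
    · rw [hmap] at h
      exact absurd h hq.ne_top
    · rw [hmap] at h
      exact h
  have hart : IsArtinianRing (R ⧸ J) := isArtinianRing_iff_krullDimLE_zero.2 hdim
  obtain ⟨n, hn⟩ := IsArtinianRing.isNilpotent_jacobson_bot (R := R ⧸ J)
  have hfbar : Ideal.Quotient.mk J f ∈ (⊥ : Ideal (R ⧸ J)).jacobson := by
    rw [Ideal.mem_jacobson_bot]
    intro ybar
    obtain ⟨y, rfl⟩ := Ideal.Quotient.mk_surjective ybar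
    have := (Ideal.mem_jacobson_bot.1 hf) y
    rw [← map_mul, ← map_one (Ideal.Quotient.mk J), ← map_add]
    exact this.map _
  refine ⟨n, ?_⟩
  rw [← Ideal.Quotient.eq_zero_iff_mem, map_pow]
  have h1 : (Ideal.Quotient.mk J f) ^ n ∈ (⊥ : Ideal (R ⧸ J)).jacobson ^ n :=
    Ideal.pow_mem_pow hfbar n
  rw [hn] at h1
  exact h1

/-- elements of `H^d_I(M)` (`d = dim R`) are killed by some element outside any non-maximal
prime. -/
lemma exists_notMem_smul_eq_zero [IsNoetherianRing R] (d : ℕ) (hd : ringKrullDim R = d)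
    (I : Ideal R) (M : Type u) [AddCommGroup M] [Module R M] (p : Ideal R) [hpp : p.IsPrime]
    (hp : ¬ p.IsMaximal) (x : (localCohomology I d).obj (ModuleCat.of R M)) :
    ∃ r : R, r ∉ p ∧ r • x = 0 := by
  have hdim : ringKrullDim (Localization.AtPrime p) < d := by
    rw [IsLocalization.AtPrime.ringKrullDim_eq_height p]
    obtain ⟨m, hm, hpm⟩ := Ideal.exists_le_maximal p hpp.ne_top
    have hlt : p < m := lt_of_le_of_ne hpm (fun h => hp (h ▸ hm))
    have : m.IsPrime := hm.isPrime
    have h1 : p.height + 1 ≤ m.height := Ideal.height_add_one_le_of_lt_of_isPrime hlt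
    have h2 : (m.height : WithBot ℕ∞) ≤ ringKrullDim R :=
      Ideal.height_le_ringKrullDim_of_isPrime
    rw [hd] at h2
    have h3 : m.height ≤ (d : ℕ∞) := by exact_mod_cast h2
    have h4 : p.height + 1 ≤ (d : ℕ∞) := h1.trans h3
    have h5 : p.height < (d : ℕ∞) := by
      refine lt_of_lt_of_le ?_ h4
      refine ENat.lt_add_one_iff ?_ |>.2 le_rfl
      intro htop
      rw [htop] at h4
      simp at h4
    exact_mod_cast h5
  have hss : Subsingleton
      ((localCohomology (Ideal.map (algebraMap R (Localization.AtPrime p)) I) d).obj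
        (ModuleCat.of (Localization.AtPrime p) (LocalizedModule p.primeCompl M))) :=
    subsingleton_of_dim_lt d hdim _ _ d le_rfl
  have hss' : Subsingleton
      (LocalizedModule p.primeCompl ((localCohomology I d).obj (ModuleCat.of R M))) :=
    (locEquiv I p.primeCompl M d).toEquiv.subsingleton
  rw [LocalizedModule.subsingleton_iff] at hss'
  obtain ⟨r, hr, hrx⟩ := hss' x
  exact ⟨r, hr, hrx⟩

/-- adding an element of the Jacobson radical to `I` does not destroy non-vanishing of
`H^d` (`d = dim R`). -/
lemma subsingleton_of_sup_span_jacobson [IsNoetherianRing R] (d : ℕ)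
    (hd : ringKrullDim R = d) (I : Ideal R) (f : R) (hf : f ∈ (⊥ : Ideal R).jacobson)
    (M : Type u) [AddCommGroup M] [Module R M]
    (h : Subsingleton ((localCohomology (I ⊔ Ideal.span {f}) d).obj (ModuleCat.of R M))) :
    Subsingleton ((localCohomology I d).obj (ModuleCat.of R M)) := by
  refine ⟨fun x y => ?_⟩
  suffices hx : ∀ x : (localCohomology I d).obj (ModuleCat.of R M), x = 0 by
    rw [hx x, hx y]
  intro x
  let J : Ideal R := LinearMap.ker (LinearMap.toSpanSingleton R _ x)
  have hJ : ∀ p : Ideal R, p.IsPrime → J ≤ p → p.IsMaximal := by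
    intro p hp hJp
    by_contra hmax
    obtain ⟨r, hr, hrx⟩ := exists_notMem_smul_eq_zero d hd I M p hmax x
    exact hr (hJp (by
      show r ∈ LinearMap.ker (LinearMap.toSpanSingleton R _ x)
      rw [LinearMap.mem_ker, LinearMap.toSpanSingleton_apply]
      exact hrx))
  obtain ⟨k, hk⟩ := exists_pow_mem_of_primes_maximal J hJ f hf
  have hk' : f ^ k • x = 0 := by
    have : f ^ k ∈ LinearMap.ker (LinearMap.toSpanSingleton R _ x) := hk
    rw [LinearMap.mem_ker, LinearMap.toSpanSingleton_apply] at this
    exact this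
  obtain ⟨y, hy⟩ := mem_range_cmp_of_pow_smul' I f d (ModuleCat.of R M) x ⟨k, hk'⟩
  rw [← hy, Subsingleton.elim y 0, map_zero]

/-- finite version: adding finitely many elements of the Jacobson radical. -/
lemma subsingleton_of_sup_span_finset_jacobson [IsNoetherianRing R] (d : ℕ)
    (hd : ringKrullDim R = d) (I : Ideal R) (M : Type u) [AddCommGroup M] [Module R M]
    (s : Finset R) (hs : ∀ f ∈ s, f ∈ (⊥ : Ideal R).jacobson)
    (h : Subsingleton ((localCohomology (I ⊔ Ideal.span (s : Set R)) d).obj (ModuleCat.of R M))) :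
    Subsingleton ((localCohomology I d).obj (ModuleCat.of R M)) := by
  classical
  induction s using Finset.induction_on with
  | empty =>
    have e : I ⊔ Ideal.span ((∅ : Finset R) : Set R) = I := by simp
    rw [e] at h
    exact h
  | insert a t hat ih =>
    have e : I ⊔ Ideal.span ((insert a t : Finset R) : Set R)
        = (I ⊔ Ideal.span (t : Set R)) ⊔ Ideal.span {a} := by
      rw [Finset.coe_insert, Ideal.span_insert, sup_assoc, sup_comm (Ideal.span {a})]
    rw [e] at h
    have h1 := subsingleton_of_sup_span_jacobson d hd (I ⊔ Ideal.span (t : Set R)) a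
      (hs a (Finset.mem_insert_self a t)) M h
    exact ih (fun f hf => hs f (Finset.mem_insert_of_mem hf)) h1

/-- S1736: if `I ≤ I' ≤ Jac(R)` and `H^i_{I'} = 0` for `i ≥ d = dim R` then the same for `I`. -/
theorem subsingleton_of_le_jacobson [IsNoetherianRing R] (d : ℕ)
    (hd : ringKrullDim R = d) (I I' : Ideal R) (hII' : I ≤ I')
    (hJ : I' ≤ (⊥ : Ideal R).jacobson) (M : Type u) [AddCommGroup M] [Module R M]
    (h : Subsingleton ((localCohomology I' d).obj (ModuleCat.of R M))) (i : ℕ) (hi : d ≤ i) :
    Subsingleton ((localCohomology I i).obj (ModuleCat.of R M)) := by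
  rcases Nat.lt_or_ge d i with hlt | hge
  · refine subsingleton_of_dim_lt (d + 1) ?_ I _ i hlt
    rw [hd]
    exact_mod_cast Nat.lt_succ_self d
  · obtain rfl : i = d := le_antisymm hge hi
    obtain ⟨s, hs⟩ := (IsNoetherian.noetherian I' : I'.FG)
    have hs' : Ideal.span (s : Set R) = I' := hs
    have e : I ⊔ Ideal.span (s : Set R) = I' := by
      rw [hs']
      exact sup_eq_right.2 hII'
    refine subsingleton_of_sup_span_finset_jacobson i hd I M s ?_ (by rw [e]; exact h)
    intro f hf
    exact hJ (hs' ▸ Ideal.subset_span hf)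

end Groth.Agent.H21.LC
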