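import Mathlib
import Groth.Agent.Lib.helper21.LC32

universe u
set_option linter.unusedSectionVars false
open CategoryTheory Opposite Limits Abelian

namespace Groth.Agent.H21.LC

variable {R : Type u} [CommRing R]

/-- if all primes containing `J` are maximal, `R ⧸ J` has dimension `≤ 0`. -/
lemma krullDimLE_zero_quotient_of_primes_maximal (J : Ideal R)
    (hJ : ∀ p : Ideal R, p.IsPrime → J ≤ p → p.IsMaximal) : Ring.KrullDimLE 0 (R ⧸ J) := by
  rw [Ring.krullDimLE_zero_iff]
  intro q hq
  have hq' : (q.comap (Ideal.Quotient.mk J)).IsPrime := Ideal.comap_isPrime _ q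
  have hmax := hJ _ hq' (by
    intro a ha
    rw [Ideal.mem_comap, Ideal.Quotient.eq_zero_iff_mem.2 ha]
    exact q.zero_mem)
  have hmap : (q.comap (Ideal.Quotient.mk J)).map (Ideal.Quotient.mk J) = q :=
    Ideal.map_comap_of_surjective _ Ideal.Quotient.mk_surjective q
  rcases Ideal.map_eq_top_or_isMaximal_of_surjective (Ideal.Quotient.mk J)
    Ideal.Quotient.mk_surjective hmax with h | h
  · rw [hmap] at h
    exact absurd h hq.ne_top
  · rw [hmap] at h
    exact h

/-- in a Noetherian local ring, an ideal `I` with `dim R/I > 0` is contained in a prime `p`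
with `dim R/p = 1`. -/
lemma exists_prime_dim_one [IsNoetherianRing R] [IsLocalRing R] (I : Ideal R)
    (hI : 0 < ringKrullDim (R ⧸ I)) :
    ∃ p : Ideal R, p.IsPrime ∧ I ≤ p ∧ ringKrullDim (R ⧸ p) = 1 := by
  let S : Set (Ideal R) := {p | p.IsPrime ∧ I ≤ p ∧ p ≠ IsLocalRing.maximalIdeal R}
  have hne : S.Nonempty := by
    by_contra hS
    rw [Set.not_nonempty_iff_eq_empty] at hS
    have h0 : Ring.KrullDimLE 0 (R ⧸ I) := by
      apply krullDimLE_zero_quotient_of_primes_maximal
      intro p hp hIp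
      by_contra hmax
      have : p ∈ S := ⟨hp, hIp, fun h => hmax (h ▸ IsLocalRing.maximalIdeal.isMaximal R)⟩
      rw [hS] at this
      exact this
    rw [Ring.krullDimLE_iff] at h0
    exact absurd hI (not_lt.2 (by exact_mod_cast h0))
  obtain ⟨p, hpS, hpmax⟩ := set_has_maximal_iff_noetherian.2 (inferInstance : IsNoetherian R R) S hne
  obtain ⟨hp, hIp, hpm⟩ := hpS
  refine ⟨p, hp, hIp, ?_⟩
  have hdom : IsDomain (R ⧸ p) := Ideal.Quotient.isDomain p
  have h1 : Ring.KrullDimLE 1 (R ⧸ p) := by
    rw [Ring.krullDimLE_one_iff_of_noZeroDivisors]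
    intro Q hQ0 hQ
    have hq' : (Q.comap (Ideal.Quotient.mk p)).IsPrime := Ideal.comap_isPrime _ Q
    have hle : p ≤ Q.comap (Ideal.Quotient.mk p) := by
      intro a ha
      rw [Ideal.mem_comap, Ideal.Quotient.eq_zero_iff_mem.2 ha]
      exact Q.zero_mem
    have hmap : (Q.comap (Ideal.Quotient.mk p)).map (Ideal.Quotient.mk p) = Q :=
      Ideal.map_comap_of_surjective _ Ideal.Quotient.mk_surjective Q
    have hm : Q.comap (Ideal.Quotient.mk p) = IsLocalRing.maximalIdeal R := by
      by_contra hnm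
      have hmem : Q.comap (Ideal.Quotient.mk p) ∈ S := ⟨hq', hIp.trans hle, hnm⟩
      have hlt : p < Q.comap (Ideal.Quotient.mk p) := by
        refine lt_of_le_of_ne hle ?_
        intro heq
        apply hQ0
        rw [← hmap, ← heq]
        exact Ideal.map_quotient_self p
      exact hpmax _ hmem hlt
    rcases Ideal.map_eq_top_or_isMaximal_of_surjective (Ideal.Quotient.mk p)
      Ideal.Quotient.mk_surjective (hm ▸ IsLocalRing.maximalIdeal.isMaximal R :
        (Q.comap (Ideal.Quotient.mk p)).IsMaximal) with h | h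
    · rw [hmap] at h
      exact absurd h hQ.ne_top
    · rw [hmap] at h
      exact h
  have h0 : ¬ ringKrullDim (R ⧸ p) ≤ 0 := by
    intro h
    have : Ring.KrullDimLE 0 (R ⧸ p) := Ring.krullDimLE_iff.mpr h
    have hf : IsField (R ⧸ p) := Ring.KrullDimLE.isField_of_isDomain
    have := Ideal.Quotient.maximal_of_isField p hf
    exact hpm (IsLocalRing.eq_maximalIdeal this)
  rw [Ring.krullDimLE_iff] at h1
  exact le_antisymm h1 (Order.succ_le_of_lt (lt_of_not_ge h0))

/-- S17763. -/
theorem top_vanishing_iff_primes_dim_one [IsNoetherianRing R] [IsLocalRing R] (d : ℕ)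
    (hd : ringKrullDim R = d) :
    (∀ I : Ideal R, 0 < ringKrullDim (R ⧸ I) →
      Subsingleton ((localCohomology I d).obj (ModuleCat.of R R))) ↔
    (∀ (p : Ideal R) [p.IsPrime], ringKrullDim (R ⧸ p) = 1 →
      Subsingleton ((localCohomology p d).obj (ModuleCat.of R R))) := by
  constructor
  · intro h p _ hp
    exact h p (by rw [hp]; exact zero_lt_one)
  · intro h I hI
    obtain ⟨p, hp, hIp, hdim⟩ := exists_prime_dim_one I hI
    have h1 := h p hdim
    refine subsingleton_of_le_jacobson d hd I p hIp ?_ R h1 d le_rfl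
    rw [IsLocalRing.jacobson_eq_maximalIdeal ⊥ bot_ne_top]
    exact IsLocalRing.le_maximalIdeal hp.ne_top

end Groth.Agent.H21.LC
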