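import Mathlib
import Groth.Agent.Lib.helper21.LC33
import Groth.Agent.Lib.helper21.LC30
import Groth.Agent.Lib.helper21.LC23

universe u
set_option linter.unusedSectionVars false
open CategoryTheory Opposite Limits Abelian

namespace Groth.Agent.H21.LC

variable {R : Type u} [CommRing R]

/-- a finitely generated submodule whose annihilator is inside a prime `p` admits a nonzero
map to `R ⧸ p`. -/
lemma exists_ne_zero_hom_quotient_of_span {M : Type u} [AddCommGroup M] [Module R M]
    (p : Ideal R) [hp : p.IsPrime] (t : Finset M) :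
    Module.annihilator R (Submodule.span R (t : Set M)) ≤ p →
    ∃ f : Submodule.span R (t : Set M) →ₗ[R] R ⧸ p, f ≠ 0 := by
  classical
  induction t using Finset.induction_on with
  | empty =>
    intro h
    exfalso
    apply hp.ne_top
    rw [eq_top_iff]
    refine le_trans ?_ h
    intro r _
    rw [Module.mem_annihilator]
    rintro ⟨x, hx⟩
    apply Subtype.ext
    have hx' : x = 0 := by simpa using hx
    simp [hx']
  | insert a t' hat ih =>
    intro hann
    set N : Submodule R M := Submodule.span R ((insert a t' : Finset M) : Set M) with hN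
    set N' : Submodule R M := Submodule.span R (t' : Set M) with hN'
    have hle : N' ≤ N := Submodule.span_mono (by
      rw [Finset.coe_insert]; exact Set.subset_insert _ _)
    have hmem : ∀ x, x ∈ N ↔ ∃ r : R, ∃ n' ∈ N', x = r • a + n' := by
      intro x
      rw [hN, Finset.coe_insert, Submodule.mem_span_insert]
    have haN : a ∈ N := Submodule.subset_span (by simp)
    by_cases hcase : ∃ s : R, s ∉ p ∧ s • a ∈ N'
    · obtain ⟨s, hsp, hsa⟩ := hcase
      have hsN : ∀ x ∈ N, s • x ∈ N' := by
        intro x hx
        obtain ⟨r, n', hn', rfl⟩ := (hmem x).1 hx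
        rw [smul_add, smul_comm]
        exact N'.add_mem (N'.smul_mem r hsa) (N'.smul_mem s hn')
      have hann' : Module.annihilator R N' ≤ p := by
        intro c hc
        rw [Module.mem_annihilator] at hc
        have hcs : c * s ∈ Module.annihilator R N := by
          rw [Module.mem_annihilator]
          rintro ⟨x, hx⟩
          apply Subtype.ext
          have := congrArg Subtype.val (hc ⟨s • x, hsN x hx⟩)
          simpa [mul_smul] using this
        rcases hp.mem_or_mem (hann hcs) with h | h
        · exact h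
        · exact absurd h hsp
      obtain ⟨f', hf'⟩ := ih hann'
      let φ : N →ₗ[R] N' := LinearMap.codRestrict N' (s • N.subtype) (fun x => hsN x.1 x.2)
      refine ⟨f' ∘ₗ φ, ?_⟩
      intro h0
      apply hf'
      ext y
      have h1 := LinearMap.congr_fun h0 ⟨y.1, hle y.2⟩
      have h2 : φ ⟨y.1, hle y.2⟩ = s • y := Subtype.ext rfl
      rw [LinearMap.comp_apply, h2, map_smul, LinearMap.zero_apply] at h1
      rw [LinearMap.zero_apply]
      have hs0 : (Ideal.Quotient.mk p s) ≠ 0 := by
        rw [Ne, Ideal.Quotient.eq_zero_iff_mem]; exact hsp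
      have h3 : (Ideal.Quotient.mk p s) * f' y = 0 := h1
      have hdom : IsDomain (R ⧸ p) := Ideal.Quotient.isDomain p
      rcases mul_eq_zero.1 h3 with h | h
      · exact absurd h hs0
      · exact h
    · push Not at hcase
      let g : R →ₗ[R] M ⧸ N' := LinearMap.toSpanSingleton R (M ⧸ N') (N'.mkQ a)
      have hker : LinearMap.ker g ≤ p := by
        intro s hs
        by_contra hsp
        apply hcase s hsp
        rw [LinearMap.mem_ker, LinearMap.toSpanSingleton_apply, ← map_smul,
          Submodule.mkQ_apply, Submodule.Quotient.mk_eq_zero] at hs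
        exact hs
      let h : N →ₗ[R] LinearMap.range g :=
        LinearMap.codRestrict (LinearMap.range g) (N'.mkQ ∘ₗ N.subtype) (by
          rintro ⟨x, hx⟩
          obtain ⟨r, n', hn', rfl⟩ := (hmem x).1 hx
          refine ⟨r, ?_⟩
          rw [LinearMap.toSpanSingleton_apply, LinearMap.comp_apply, Submodule.subtype_apply,
            map_add, map_smul]
          rw [show N'.mkQ n' = 0 from (Submodule.Quotient.mk_eq_zero _).2 hn', add_zero])
      let e := g.quotKerEquivRange
      let q : (R ⧸ LinearMap.ker g) →ₗ[R] R ⧸ p :=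
        Submodule.liftQ (LinearMap.ker g) (Submodule.mkQ p) (by
          rw [Submodule.ker_mkQ]; exact hker)
      refine ⟨q ∘ₗ e.symm.toLinearMap ∘ₗ h, ?_⟩
      intro h0
      have h1 := LinearMap.congr_fun h0 ⟨a, haN⟩
      have h2 : e.symm (h ⟨a, haN⟩) = Submodule.Quotient.mk 1 := by
        rw [LinearEquiv.symm_apply_eq]
        apply Subtype.ext
        show N'.mkQ a = g 1
        rw [LinearMap.toSpanSingleton_apply, one_smul]
      rw [LinearMap.comp_apply, LinearMap.comp_apply, LinearEquiv.coe_coe, h2] at h1
      have h3 : (Submodule.mkQ p) (1 : R) = 0 := h1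
      have h4 : (1 : R) ∈ p := (Submodule.Quotient.mk_eq_zero p).1 h3
      exact hp.ne_top ((Ideal.eq_top_iff_one p).2 h4)

/-- a finite module with `p` in its support admits a nonzero map to `R ⧸ p`. -/
lemma exists_ne_zero_hom_quotient_prime {M : Type u} [AddCommGroup M] [Module R M]
    [Module.Finite R M] (p : PrimeSpectrum R) (hp : p ∈ Module.support R M) :
    ∃ f : M →ₗ[R] R ⧸ p.asIdeal, f ≠ 0 := by
  obtain ⟨t, ht⟩ := (Module.Finite.fg_top : (⊤ : Submodule R M).FG)
  have hann : Module.annihilator R (Submodule.span R (t : Set M)) ≤ p.asIdeal := by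
    rw [ht]
    have h1 : Module.annihilator R (⊤ : Submodule R M) = Module.annihilator R M :=
      Submodule.annihilator_top
    rw [h1]
    exact Module.mem_support_iff_of_finite.1 hp
  obtain ⟨f, hf⟩ := exists_ne_zero_hom_quotient_of_span p.asIdeal t hann
  let e : Submodule.span R (t : Set M) ≃ₗ[R] M := LinearEquiv.ofTop _ ht
  refine ⟨f ∘ₗ e.symm.toLinearMap, ?_⟩
  intro h0
  apply hf
  ext y
  have := LinearMap.congr_fun h0 (e y)
  rw [LinearMap.comp_apply, LinearEquiv.coe_coe, LinearEquiv.symm_apply_apply] at this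
  rw [this, LinearMap.zero_apply, LinearMap.zero_apply]

lemma ringKrullDim_quotient_sup_span_succ_le (p : Ideal R) [hp : p.IsPrime] (c : R)
    (hc : c ∉ p) :
    ringKrullDim (R ⧸ (p ⊔ Ideal.span {c})) + 1 ≤ ringKrullDim (R ⧸ p) := by
  have hdom : IsDomain (R ⧸ p) := Ideal.Quotient.isDomain p
  have hc0 : Ideal.Quotient.mk p c ≠ 0 := by
    rw [Ne, Ideal.Quotient.eq_zero_iff_mem]; exact hc
  have ha : Ideal.Quotient.mk p c ∈ nonZeroDivisors (R ⧸ p) := mem_nonZeroDivisors_of_ne_zero hc0
  have h1 := ringKrullDim_quotient_succ_le_of_nonZeroDivisor ha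
  have e := DoubleQuot.quotQuotEquivQuotSup p (Ideal.span {c})
  have hmap : (Ideal.span {c}).map (Ideal.Quotient.mk p) = Ideal.span {Ideal.Quotient.mk p c} := by
    rw [Ideal.map_span, Set.image_singleton]
  rw [hmap] at e
  rw [← ringKrullDim_eq_of_ringEquiv e]
  exact h1

/-- if `H^d_I(M) = 0` (`d ≥ dim R`) and `M → R ⧸ p` is a nonzero map with `dim R ⧸ p ≤ d` then
`H^d_I(R ⧸ p) = 0`. -/
lemma subsingleton_quotient_prime_of_hom [IsNoetherianRing R] (I : Ideal R) (d : ℕ)
    (hd : ringKrullDim R ≤ d) {M : Type u} [AddCommGroup M] [Module R M]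
    (hM : Subsingleton ((localCohomology I d).obj (ModuleCat.of R M)))
    (p : Ideal R) [hp : p.IsPrime] (f : M →ₗ[R] R ⧸ p) (hf : f ≠ 0) :
    Subsingleton ((localCohomology I d).obj (ModuleCat.of R (R ⧸ p))) := by
  have hK : Subsingleton ((localCohomology I (d + 1)).obj (kerSES f).X₁) := by
    refine subsingleton_of_dim_lt (d + 1) ?_ I _ (d + 1) le_rfl
    refine lt_of_le_of_lt hd ?_
    exact_mod_cast Nat.lt_succ_self d
  have hR : Subsingleton ((localCohomology I d).obj (kerSES f).X₃) :=
    subsingleton_X₃ I (kerSES_shortExact f) d hM hK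
  have hQ : Subsingleton ((localCohomology I d).obj (rangeSES f).X₃) := by
    obtain ⟨m₀, hm₀⟩ : ∃ m₀, f m₀ ≠ 0 := by
      by_contra h
      push Not at h
      exact hf (LinearMap.ext h)
    obtain ⟨c, hc⟩ := Ideal.Quotient.mk_surjective (f m₀)
    have hcp : c ∉ p := by
      intro h
      apply hm₀
      rw [← hc]
      exact Ideal.Quotient.eq_zero_iff_mem.2 h
    apply subsingleton_of_supportDim_lt_of_finite I ((R ⧸ p) ⧸ LinearMap.range f) d
    rw [Module.supportDim_eq_ringKrullDim_quotient_annihilator]
    have hle : p ⊔ Ideal.span {c} ≤ Module.annihilator R ((R ⧸ p) ⧸ LinearMap.range f) := by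
      rw [sup_le_iff, Ideal.span_le, Set.singleton_subset_iff]
      constructor
      · intro x hx
        rw [Module.mem_annihilator]
        intro q
        obtain ⟨y, rfl⟩ := Submodule.mkQ_surjective _ q
        obtain ⟨r, rfl⟩ := Ideal.Quotient.mk_surjective y
        rw [← map_smul]
        have : x • (Ideal.Quotient.mk p r) = 0 := by
          rw [Algebra.smul_def]
          show Ideal.Quotient.mk p x * _ = 0
          rw [Ideal.Quotient.eq_zero_iff_mem.2 hx, zero_mul]
        rw [this, map_zero]
      · show c ∈ Module.annihilator R ((R ⧸ p) ⧸ LinearMap.range f)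
        rw [Module.mem_annihilator]
        intro q
        obtain ⟨y, rfl⟩ := Submodule.mkQ_surjective _ q
        obtain ⟨r, rfl⟩ := Ideal.Quotient.mk_surjective y
        rw [← map_smul, Submodule.mkQ_apply, Submodule.Quotient.mk_eq_zero]
        refine ⟨r • m₀, ?_⟩
        rw [map_smul, ← hc, Algebra.smul_def, Algebra.smul_def]
        show Ideal.Quotient.mk p r * _ = Ideal.Quotient.mk p c * _
        exact mul_comm _ _
    have h1 : ringKrullDim (R ⧸ Module.annihilator R ((R ⧸ p) ⧸ LinearMap.range f)) ≤
        ringKrullDim (R ⧸ (p ⊔ Ideal.span {c})) :=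
      ringKrullDim_le_of_surjective (Ideal.Quotient.factor hle)
        (Ideal.Quotient.factor_surjective hle)
    have h2 := ringKrullDim_quotient_sup_span_succ_le p c hcp
    have h3 := ringKrullDim_quotient_le p
    have h4 : ringKrullDim (R ⧸ Module.annihilator R ((R ⧸ p) ⧸ LinearMap.range f)) + 1
        < (d : WithBot ℕ∞) + 1 := by
      refine lt_of_le_of_lt ((add_le_add_left h1 1).trans (h2.trans (h3.trans hd))) ?_
      exact_mod_cast Nat.lt_succ_self d
    exact lt_of_add_lt_add_right h4
  exact subsingleton_X₂ I (rangeSES_shortExact f) d hR hQ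

/-- `H^0_I` vanishes on all modules if it vanishes on cyclic ones. -/
lemma subsingleton_H0_of_cyclic (I : Ideal R) (N : Type u) [AddCommGroup N] [Module R N]
    (h : ∀ n : N, Subsingleton ((localCohomology I 0).obj
      (ModuleCat.of R (Submodule.span R {n})))) :
    Subsingleton ((localCohomology I 0).obj (ModuleCat.of R N)) := by
  refine ⟨fun x y => ?_⟩
  suffices hx : ∀ x : (localCohomology I 0).obj (ModuleCat.of R N), x = 0 by rw [hx x, hx y]
  intro y
  apply toM_injective
  rw [map_zero]
  set n : N := toM I (ModuleCat.of R N) y with hn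
  have hmem : n ∈ DRing.torsionSub I N := toM_mem I (ModuleCat.of R N) y
  let n' : Submodule.span R {n} := ⟨n, Submodule.mem_span_singleton_self n⟩
  have hmem' : n' ∈ DRing.torsionSub I (Submodule.span R {n}) := by
    obtain ⟨k, hk⟩ := hmem
    exact ⟨k, fun a ha => Subtype.ext (hk a ha)⟩
  have := h n
  let y' := (H0Equiv I (ModuleCat.of R (Submodule.span R {n}))).symm ⟨n', hmem'⟩
  have h1 : toM I (ModuleCat.of R (Submodule.span R {n})) y' = n' :=
    toM_H0Equiv_symm I (ModuleCat.of R (Submodule.span R {n})) ⟨n', hmem'⟩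
  rw [Subsingleton.elim y' 0, map_zero] at h1
  have h2 : (n' : N) = 0 := by rw [← h1]; rfl
  exact h2

/-- S0333. -/
theorem subsingleton_of_top_support [IsNoetherianRing R] (I : Ideal R) (d : ℕ)
    (hd : ringKrullDim R = d) (M : Type u) [AddCommGroup M] [Module R M] [Module.Finite R M]
    (hsupp : ∀ p ∈ minimalPrimes R, ringKrullDim (R ⧸ p) = d → ∀ hp : p.IsPrime,
      (⟨p, hp⟩ : PrimeSpectrum R) ∈ Module.support R M)
    (hvan : Subsingleton ((localCohomology I d).obj (ModuleCat.of R M)))
    (N : Type u) [AddCommGroup N] [Module R N] (i : ℕ) (hi : d ≤ i) :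
    Subsingleton ((localCohomology I i).obj (ModuleCat.of R N)) := by
  have hbig : ∀ (N : Type u) [AddCommGroup N] [Module R N] (i : ℕ), d < i →
      Subsingleton ((localCohomology I i).obj (ModuleCat.of R N)) := by
    intro N _ _ i hi
    refine subsingleton_of_dim_lt (d + 1) ?_ I _ i hi
    rw [hd]
    exact_mod_cast Nat.lt_succ_self d
  -- Step A: primes
  have hA : ∀ (p : Ideal R) [p.IsPrime],
      Subsingleton ((localCohomology I d).obj (ModuleCat.of R (R ⧸ p))) := by
    intro p hp
    by_cases hdim : ringKrullDim (R ⧸ p) < d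
    · apply subsingleton_of_supportDim_lt_of_finite I (R ⧸ p) d
      rw [Module.supportDim_quotient_eq_ringKrullDim]
      exact hdim
    · have hpd : ringKrullDim (R ⧸ p) = d :=
        le_antisymm ((ringKrullDim_quotient_le p).trans hd.le) (not_lt.1 hdim)
      have hmin : p ∈ minimalPrimes R := by
        refine ⟨⟨hp, bot_le⟩, ?_⟩
        rintro q ⟨hq, _⟩ hqp
        by_contra hpq
        obtain ⟨c, hcp, hcq⟩ := Set.not_subset.1 hpq
        have h1 := ringKrullDim_quotient_sup_span_succ_le q c hcq
        have hle : q ⊔ Ideal.span {c} ≤ p := by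
          rw [sup_le_iff, Ideal.span_le, Set.singleton_subset_iff]
          exact ⟨hqp, hcp⟩
        have h2 : ringKrullDim (R ⧸ p) ≤ ringKrullDim (R ⧸ (q ⊔ Ideal.span {c})) :=
          ringKrullDim_le_of_surjective (Ideal.Quotient.factor hle)
            (Ideal.Quotient.factor_surjective hle)
        have h3 := ringKrullDim_quotient_le q
        have h4 : (d : WithBot ℕ∞) + 1 ≤ d := by
          rw [hpd] at h2
          exact ((add_le_add_left h2 1).trans h1).trans (h3.trans hd.le)
        have h5 : ((d + 1 : ℕ) : WithBot ℕ∞) ≤ (d : ℕ) := by exact_mod_cast h4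
        have h6 : d + 1 ≤ d := by exact_mod_cast h5
        omega
      obtain ⟨f, hf⟩ := exists_ne_zero_hom_quotient_prime ⟨p, hp⟩ (hsupp p hmin hpd hp)
      exact subsingleton_quotient_prime_of_hom I d hd.le hvan p f hf
  -- Step B: finite modules
  have hB : ∀ (N : Type u) [AddCommGroup N] [Module R N] [Module.Finite R N],
      Subsingleton ((localCohomology I d).obj (ModuleCat.of R N)) := by
    intro N _ _ _
    refine IsNoetherianRing.induction_on_isQuotientEquivQuotientPrime R
      (M := N) inferInstance
      (motive := fun N _ _ _ =>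
        Subsingleton ((localCohomology I d).obj (ModuleCat.of R N))) ?_ ?_ ?_
    · intro N _ _ _ _
      exact subsingleton_of_subsingleton I d _
    · intro N _ _ _ p e
      have := p.2
      have hmain := hA p.1
      exact (Hcongr I d e).toEquiv.subsingleton
    · intro N₁ _ _ _ N₂ _ _ _ N₃ _ _ _ f g hf hg hfg h1 h3
      have hS : (ShortComplex.mk (ModuleCat.ofHom f) (ModuleCat.ofHom g) (by
          refine ModuleCat.hom_ext ?_
          rw [ModuleCat.hom_comp, ModuleCat.hom_ofHom, ModuleCat.hom_ofHom]
          exact hfg.linearMap_comp_eq_zero)).ShortExact :=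
        ModuleCat.shortComplex_shortExact _ hfg hf hg
      exact subsingleton_X₂ I hS d h1 h3
  -- Step C: all modules
  rcases Nat.lt_or_ge d i with hlt | hge
  · exact hbig N i hlt
  · obtain rfl : i = d := le_antisymm hge hi
    cases i with
    | zero =>
      apply subsingleton_H0_of_cyclic
      intro n
      have : Module.Finite R (Submodule.span R {n}) :=
        Module.Finite.of_fg (Submodule.fg_span_singleton n)
      exact hB _
    | succ j =>
      exact (Groth.Agent.S0378.result R I j).1 (fun k hk => by
        rcases Nat.lt_or_ge (j + 1) k with h | h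
        · exact hbig R k h
        · obtain rfl : k = j + 1 := by omega
          exact hB R) N (j + 1) (Nat.lt_succ_self j)

end Groth.Agent.H21.LC
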