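import Mathlib
import Groth.Agent.Lib.helper21.LC40
import Groth.Agent.Lib.helper21.TorLib

/-!
# `cd(A, I) ≤ 1` and an `I`-closed algebra `B` (no torsion, homs `I^n → B` are multiplications)
imply `I B = B`.
-/

set_option autoImplicit false

namespace Groth.Agent.H21.AF

open CategoryTheory Abelian
open Groth.Agent.H21.LC Groth.Agent.H21.TorLib

universe u

variable {A : Type u} [CommRing A]

/-- additivity of the local cohomology functor on morphisms. -/
lemma H_map_add (I : Ideal A) (i : ℕ) {M M' : ModuleCat.{u} A} (g₁ g₂ : M ⟶ M') :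
    (localCohomology I i).map (g₁ + g₂) = (localCohomology I i).map g₁ +
      (localCohomology I i).map g₂ := by
  ext x
  obtain ⟨n, y, rfl⟩ := ιH_surj I i M x
  rw [ModuleCat.hom_add, LinearMap.add_apply, map_ιH, map_ιH, map_ιH, Ext.mk₀_add, Ext.comp_add,
    map_add]

lemma H_map_zero (I : Ideal A) (i : ℕ) (M M' : ModuleCat.{u} A) :
    (localCohomology I i).map (0 : M ⟶ M') = 0 := by
  ext x
  obtain ⟨n, y, rfl⟩ := ιH_surj I i M x
  rw [map_ιH, Ext.mk₀_zero, Ext.comp_zero, map_zero]
  rfl

lemma H_map_sum (I : Ideal A) (i : ℕ) {M M' : ModuleCat.{u} A} {ι : Type*} (s : Finset ι)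
    (g : ι → (M ⟶ M')) :
    (localCohomology I i).map (∑ j ∈ s, g j) = ∑ j ∈ s, (localCohomology I i).map (g j) := by
  classical
  induction s using Finset.induction_on with
  | empty => simp [H_map_zero]
  | insert a s ha ih => rw [Finset.sum_insert ha, Finset.sum_insert ha, H_map_add, ih]

/-- vanishing of local cohomology passes to finite powers. -/
lemma subsingleton_pi (I : Ideal A) (i : ℕ) (B : Type u) [AddCommGroup B] [Module A B] (r : ℕ)
    (h : Subsingleton ((localCohomology I i).obj (ModuleCat.of A B))) :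
    Subsingleton ((localCohomology I i).obj (ModuleCat.of A (Fin r → B))) := by
  let pj : ∀ j : Fin r, ModuleCat.of A (Fin r → B) ⟶ ModuleCat.of A B :=
    fun j => ModuleCat.ofHom (LinearMap.proj j)
  let ιj : ∀ j : Fin r, ModuleCat.of A B ⟶ ModuleCat.of A (Fin r → B) :=
    fun j => ModuleCat.ofHom (LinearMap.single A (fun _ => B) j)
  have hsum : ∑ j, pj j ≫ ιj j = 𝟙 (ModuleCat.of A (Fin r → B)) := by
    classical
    apply ModuleCat.hom_ext
    apply LinearMap.ext
    intro v
    simp only [ModuleCat.hom_id, LinearMap.id_coe, id_eq, ModuleCat.hom_sum, ModuleCat.hom_comp,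
      LinearMap.coe_sum, Finset.sum_apply, LinearMap.coe_comp, Function.comp_apply, pj, ιj,
      ModuleCat.hom_ofHom, LinearMap.coe_proj, Function.eval, LinearMap.coe_single]
    exact Finset.univ_sum_single v
  refine ⟨fun a b => ?_⟩
  have key : ∀ x : (localCohomology I i).obj (ModuleCat.of A (Fin r → B)), x = 0 := by
    intro x
    have h1 : ((localCohomology I i).map (𝟙 (ModuleCat.of A (Fin r → B)))).hom x = x := by
      rw [CategoryTheory.Functor.map_id]; rfl
    rw [← h1, ← hsum, H_map_sum, ModuleCat.hom_sum, LinearMap.sum_apply]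
    apply Finset.sum_eq_zero
    intro j _
    rw [Functor.map_comp, ModuleCat.hom_comp, LinearMap.comp_apply,
      Subsingleton.elim (((localCohomology I i).map (pj j)).hom x) 0, map_zero]
  rw [key a, key b]

end Groth.Agent.H21.AF
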