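import Mathlib
import Groth.Agent.Lib.helper21.AF1

/-!
# `cd(A, I) ≤ 1` and an `I`-closed algebra `B` imply `I B = B`.
-/

set_option autoImplicit false

namespace Groth.Agent.H21.AF

open CategoryTheory Abelian
open Groth.Agent.H21.LC Groth.Agent.H21.TorLib

universe u

variable {A : Type u} [CommRing A]

lemma subsingleton_H0 (I : Ideal A) (B : Type u) [AddCommGroup B] [Module A B]
    (hB0 : ∀ c : B, (∀ f ∈ I, ∃ n : ℕ, f ^ n • c = 0) → c = 0) :
    Subsingleton ((localCohomology I 0).obj (ModuleCat.of A B)) := by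
  have h : ∀ m ∈ DRing.torsionSub I (ModuleCat.of A B), m = 0 := by
    rintro m ⟨n, hn⟩
    exact hB0 m (fun f hf => ⟨n, hn _ (Ideal.pow_mem_pow hf n)⟩)
  refine ⟨fun a b => ?_⟩
  apply (H0Equiv I (ModuleCat.of A B)).injective
  apply Subtype.ext
  rw [h _ (H0Equiv I _ a).2, h _ (H0Equiv I _ b).2]

lemma subsingleton_H1 (I : Ideal A) (B : Type u) [AddCommGroup B] [Module A B]
    (hB1 : ∀ (n : ℕ) (φ : ↥(I ^ n) →ₗ[A] B), ∃ b : B, ∀ a : ↥(I ^ n), φ a = (a : A) • b) :
    Subsingleton ((localCohomology I 1).obj (ModuleCat.of A B)) := by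
  have key : ∀ x : (localCohomology I 1).obj (ModuleCat.of A B), x = 0 := by
    intro x
    obtain ⟨n, y, rfl⟩ := ιH_surj I 1 (ModuleCat.of A B) x
    have hS := quotSES_shortExact (R := A) (X := A) (I ^ n : Ideal A)
    haveI : Projective (quotSES (R := A) (X := A) (I ^ n : Ideal A)).X₂ :=
      (IsProjective.iff_projective A).1 inferInstance
    obtain ⟨x₁, hx₁⟩ := Ext.contravariant_sequence_exact₃ hS (ModuleCat.of A B) y
      (Ext.eq_zero_of_projective _) (n₀ := 0) rfl
    obtain ⟨φ, rfl⟩ := (Ext.mk₀_bijective _ _).2 x₁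
    obtain ⟨b, hb⟩ := hB1 n φ.hom
    have hφ : φ = (quotSES (R := A) (X := A) (I ^ n : Ideal A)).f ≫
        ModuleCat.ofHom (LinearMap.toSpanSingleton A B b) := by
      ext a
      exact hb a
    have hy : y = 0 := by
      rw [← hx₁, hφ, ← Ext.mk₀_comp_mk₀, hS.extClass_comp_assoc]
      rfl
    rw [hy, map_zero]
  exact ⟨fun a b => (key a).trans (key b).symm⟩

theorem map_eq_top [IsNoetherianRing A] (I : Ideal A)
    (hcd : ∀ (M : Type u) [AddCommGroup M] [Module A M],
      Subsingleton ((localCohomology I 2).obj (ModuleCat.of A M)))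
    (B : Type u) [CommRing B] [Algebra A B]
    (hB0 : ∀ c : B, (∀ f ∈ I, ∃ n : ℕ, f ^ n • c = 0) → c = 0)
    (hB1 : ∀ (n : ℕ) (φ : ↥(I ^ n) →ₗ[A] B), ∃ b : B, ∀ a : ↥(I ^ n), φ a = (a : A) • b) :
    I.map (algebraMap A B) = ⊤ := by
  have h0 := subsingleton_H0 I B hB0
  have h1 := subsingleton_H1 I B hB1
  obtain ⟨r, g, hg⟩ := Submodule.fg_iff_exists_fin_generating_family.1 (IsNoetherian.noetherian I)
  have h1r := subsingleton_pi I 1 B r h1
  let π : (Fin r → B) →ₗ[A] B := ∑ j, g j • (LinearMap.proj j : (Fin r → B) →ₗ[A] B)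
  have hπ : ∀ v, π v = ∑ j, g j • v j := fun v => by
    simp [π, LinearMap.sum_apply]
  have hIJ : ∀ f ∈ I, ∀ b : B, f • b ∈ LinearMap.range π := by
    intro f hf
    rw [← hg] at hf
    induction hf using Submodule.span_induction with
    | mem x hx =>
      obtain ⟨j, rfl⟩ := hx
      intro b
      refine ⟨Pi.single j b, ?_⟩
      rw [hπ, Finset.sum_eq_single j]
      · simp
      · intro k _ hk
        simp [Pi.single_eq_of_ne hk]
      · simp
    | zero => intro b; simp
    | add x y _ _ hx hy => intro b; rw [add_smul]; exact Submodule.add_mem _ (hx b) (hy b)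
    | smul a x _ hx =>
      intro b
      rw [smul_eq_mul, mul_comm, mul_smul]
      exact hx (a • b)
  -- H¹(J) = 0
  have hSa := LinearMap.shortExact_shortComplexKer (LinearMap.surjective_rangeRestrict π)
  have hJ1 : Subsingleton ((localCohomology I 1).obj (ModuleCat.of A (LinearMap.range π))) := by
    refine ⟨fun a b => ?_⟩
    have key : ∀ x : (localCohomology I 1).obj (ModuleCat.of A (LinearMap.range π)), x = 0 := by
      intro x
      have h2 := hcd (LinearMap.ker π.rangeRestrict)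
      obtain ⟨x', rfl⟩ := (exact₃ I hSa 1 x).1 (Subsingleton.elim _ _)
      rw [Subsingleton.elim x' 0, map_zero]
    rw [key a, key b]
  -- H⁰(B/J) = 0
  have hSb := quotSES_shortExact (R := A) (X := B) (LinearMap.range π)
  have hQ0 : Subsingleton ((localCohomology I 0).obj (ModuleCat.of A (B ⧸ LinearMap.range π))) := by
    refine ⟨fun a b => ?_⟩
    have key : ∀ x : (localCohomology I 0).obj (ModuleCat.of A (B ⧸ LinearMap.range π)),
        x = 0 := by
      intro x
      obtain ⟨x', rfl⟩ := (exact₃ I hSb 0 x).1 (@Subsingleton.elim _ hJ1 _ _)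
      have hx' : x' = 0 := @Subsingleton.elim _ h0 x' 0
      rw [hx']
      exact map_zero _
    rw [key a, key b]
  -- B/J is torsion, hence zero
  have hone : (1 : B) ∈ LinearMap.range π := by
    have hmem : (Submodule.Quotient.mk (1 : B) : B ⧸ LinearMap.range π) ∈
        DRing.torsionSub I (ModuleCat.of A (B ⧸ LinearMap.range π)) := by
      refine ⟨1, fun a ha => ?_⟩
      rw [pow_one] at ha
      rw [← Submodule.Quotient.mk_smul, Submodule.Quotient.mk_eq_zero]
      exact hIJ a ha 1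
    have h3 := (H0Equiv I (ModuleCat.of A (B ⧸ LinearMap.range π))).symm.injective
      (Subsingleton.elim ((H0Equiv I _).symm ⟨_, hmem⟩) ((H0Equiv I _).symm 0))
    have h4 : (Submodule.Quotient.mk (1 : B) : B ⧸ LinearMap.range π) = 0 :=
      congrArg Subtype.val h3
    exact (Submodule.Quotient.mk_eq_zero _).1 h4
  obtain ⟨v, hv⟩ := hone
  rw [Ideal.eq_top_iff_one, ← hv, hπ]
  refine Ideal.sum_mem _ (fun j _ => ?_)
  rw [Algebra.smul_def]
  exact Ideal.mul_mem_right _ _ (Ideal.mem_map_of_mem _ (hg ▸ Submodule.subset_span ⟨j, rfl⟩))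

end Groth.Agent.H21.AF
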