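import Mathlib
import Groth.Agent.Lib.helper8.LCNonVanF
import Groth.Agent.S11628

universe u
set_option linter.unusedSectionVars false
set_option linter.style.haveILetI false
open CategoryTheory Opposite Limits Abelian

namespace Groth.Agent.H21.LC

open LocCoh IsLocalRing Groth.Agent.Lib.helper9.Depth Groth.Agent.H8.NonVan

variable {R : Type u} [CommRing R]

/-- `H^h_I(R) ≠ 0` for `h` the height of a minimal prime over `I`. -/
theorem nontrivial_H_height_minimalPrime [IsNoetherianRing R] (I : Ideal R) (p : Ideal R)
    (hp : p ∈ I.minimalPrimes) (h : ℕ) (hph : p.height = h) :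
    Nontrivial ((localCohomology I h).obj (ModuleCat.of R R)) := by
  haveI hpp : p.IsPrime := hp.1.1
  by_contra hnt
  rw [not_nontrivial_iff_subsingleton] at hnt
  have hrad := IsLocalization.AtPrime.radical_map_of_mem_minimalPrimes
    (A := Localization.AtPrime p) p I hp
  have hrad' : (I.map (algebraMap R (Localization.AtPrime p))).radical =
      (maximalIdeal (Localization.AtPrime p)).radical := by
    rw [hrad, Localization.AtPrime.map_eq_maximalIdeal, (Ideal.IsMaximal.isPrime' _).radical]
  haveI h1 : Subsingleton (LocalizedModule p.primeCompl
      ((localCohomology I h).obj (ModuleCat.of R R))) := by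
    haveI := hnt
    infer_instance
  have e := locEquiv I p.primeCompl R h
  haveI h2 : Subsingleton ((localCohomology (I.map (algebraMap R (Localization.AtPrime p))) h).obj
      (ModuleCat.of (Localization.AtPrime p) (LocalizedModule p.primeCompl R))) :=
    e.symm.toEquiv.subsingleton
  haveI h3 : Subsingleton ((localCohomology (maximalIdeal (Localization.AtPrime p)) h).obj
      (ModuleCat.of (Localization.AtPrime p) (LocalizedModule p.primeCompl R))) :=
    (((localCohomology.isoOfSameRadical hrad' h).app
      (ModuleCat.of (Localization.AtPrime p) (LocalizedModule p.primeCompl R))).toLinearEquiv.symm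
        ).toEquiv.subsingleton
  haveI : Module.Finite (Localization.AtPrime p) (LocalizedModule p.primeCompl R) :=
    Module.Finite.equiv (localizedModuleSelfEquiv p).symm
  have hdim : Module.supportDim (Localization.AtPrime p) (LocalizedModule p.primeCompl R) = h := by
    rw [Module.supportDim_eq_of_equiv (localizedModuleSelfEquiv p), supportDim_self_localization,
      hph]
    rfl
  have h4 := nontrivial_H_supportDim h (LocalizedModule p.primeCompl R) hdim
  exact not_subsingleton _ h3

/-- minimal primes over `I` have height at most `cd(I)`. -/
theorem height_le_of_cdLE [IsNoetherianRing R] (I : Ideal R) (d : ℕ) (hcd : LocCoh.CdLE R I d)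
    (p : Ideal R) (hp : p ∈ I.minimalPrimes) : p.height ≤ d := by
  haveI hpp : p.IsPrime := hp.1.1
  have hfin : p.height ≠ ⊤ := Ideal.height_ne_top hpp.ne_top
  obtain ⟨h, hh⟩ := ENat.ne_top_iff_exists.mp hfin
  by_contra hlt
  have hdh : d < h := by
    rw [← hh] at hlt
    exact_mod_cast not_le.1 hlt
  have := nontrivial_H_height_minimalPrime I p hp h hh.symm
  exact not_subsingleton _ (hcd R h hdh)

end Groth.Agent.H21.LC
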