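import Mathlib
import Groth.Agent.Lib.helper21.LC9
import Groth.Agent.Lib.helper9.Depth8
import Groth.Agent.Lib.helper8.GrLCC

universe u
set_option linter.unusedSectionVars false
open CategoryTheory Opposite Limits Abelian LocCoh

namespace Groth.Agent.H21.LC

variable {R : Type u} [CommRing R]

/-- if `IM = M` for a finite module then all local cohomology vanishes. -/
lemma subsingleton_of_smul_top_eq_top (I : Ideal R) (M : Type u) [AddCommGroup M] [Module R M]
    [Module.Finite R M] (h : I • (⊤ : Submodule R M) = ⊤) (i : ℕ) :
    Subsingleton (LocCoh.H I i M) := by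
  obtain ⟨r, hr, hr0⟩ := Submodule.exists_sub_one_mem_and_smul_eq_zero_of_fg_of_le_smul I
    (⊤ : Submodule R M) Module.Finite.fg_top h.ge
  have h1 : 1 - r ∈ I := by
    have := I.neg_mem hr
    rwa [neg_sub] at this
  refine Groth.Agent.H8.Gr.subsingleton_H_of_smul_bijective I M h1 ?_ i
  have hid : (fun x : M => (1 - r) • x) = id := by
    funext x
    rw [sub_smul, one_smul, hr0 x Submodule.mem_top, sub_zero]
    rfl
  rw [hid]
  exact Function.bijective_id

/-- vanishing below `n` iff `n ≤ depth_I M`. -/
theorem forall_subsingleton_iff_le_idealDepth [IsNoetherianRing R] (I : Ideal R) (M : Type u)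
    [AddCommGroup M] [Module R M] [Module.Finite R M] (n : ℕ) :
    (∀ i : ℕ, i < n → Subsingleton (LocCoh.H I i M)) ↔ (n : ℕ∞) ≤ idealDepth I M := by
  by_cases hIM : I • (⊤ : Submodule R M) = ⊤
  · rw [Groth.Agent.Lib.helper9.Depth.idealDepth_eq_top I M hIM]
    exact ⟨fun _ => le_top, fun _ i _ => subsingleton_of_smul_top_eq_top I M hIM i⟩
  · constructor
    · intro h
      by_contra hlt
      rw [not_le] at hlt
      obtain ⟨k, hk⟩ := ENat.ne_top_iff_exists.1 (ne_top_of_lt hlt)
      have hkn : k < n := by
        rw [← hk] at hlt
        exact_mod_cast hlt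
      have := nontrivial_of_depth_eq I M hIM k hk.symm
      exact not_subsingleton _ (h k hkn)
    · intro h i hi
      apply subsingleton_of_lt_depth I M hIM i
      refine le_trans ?_ h
      exact_mod_cast hi

/-- S5171. -/
theorem cm_vanishing_iff [IsNoetherianRing R] (J : Ideal R) (G : Type u) [AddCommGroup G]
    [Module R G] [Module.Finite R G]
    (hCM : ∀ p : PrimeSpectrum R, Subsingleton (LocalizedModule p.asIdeal.primeCompl G) ∨
      LocCoh.IsCohenMacaulayModule (Localization.AtPrime p.asIdeal)
        (LocalizedModule p.asIdeal.primeCompl G)) (n : ℕ) :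
    (∀ i : ℕ, i < n → Subsingleton (LocCoh.H J i G)) ↔
      ∀ p : PrimeSpectrum R, J ≤ p.asIdeal → p ∈ Module.support R G →
        (n : WithBot ℕ∞) ≤ Module.supportDim (Localization.AtPrime p.asIdeal)
          (LocalizedModule p.asIdeal.primeCompl G) := by
  rw [forall_subsingleton_iff_le_idealDepth,
    Groth.Agent.Lib.helper9.Depth.idealDepth_eq_iInf_depth_localization]
  simp only [le_iInf_iff]
  constructor
  · intro h p hp hsupp
    rcases hCM p with hs | hcm
    · exact absurd hs (not_subsingleton_iff_nontrivial.2 (Module.mem_support_iff.1 hsupp))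
    · rw [hcm]
      exact_mod_cast h p hp
  · intro h p hp
    rcases hCM p with hs | hcm
    · have : IsLocalRing.maximalIdeal (Localization.AtPrime p.asIdeal) •
          (⊤ : Submodule (Localization.AtPrime p.asIdeal)
            (LocalizedModule p.asIdeal.primeCompl G)) = ⊤ := Subsingleton.elim _ _
      unfold LocCoh.depth
      rw [Groth.Agent.Lib.helper9.Depth.idealDepth_eq_top _ _ this]
      exact le_top
    · have hsupp : p ∈ Module.support R G := by
        rw [Module.mem_support_iff]
        by_contra hn
        rw [not_nontrivial_iff_subsingleton] at hn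
        have h1 : IsLocalRing.maximalIdeal (Localization.AtPrime p.asIdeal) •
          (⊤ : Submodule (Localization.AtPrime p.asIdeal)
            (LocalizedModule p.asIdeal.primeCompl G)) = ⊤ := Subsingleton.elim _ _
        have h2 : LocCoh.depth (Localization.AtPrime p.asIdeal)
            (LocalizedModule p.asIdeal.primeCompl G) = ⊤ :=
          Groth.Agent.Lib.helper9.Depth.idealDepth_eq_top _ _ h1
        have h3 : Module.supportDim (Localization.AtPrime p.asIdeal)
            (LocalizedModule p.asIdeal.primeCompl G) = ⊥ :=
          Module.supportDim_eq_bot_of_subsingleton _ _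
        rw [LocCoh.IsCohenMacaulayModule, h2, h3] at hcm
        exact absurd hcm (by simp)
      have := h p hp hsupp
      rw [hcm] at this
      exact_mod_cast this

end Groth.Agent.H21.LC
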