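import Mathlib
import Groth.Agent.Lib.helper21.LC10
import Groth.Agent.Lib.helper21.LC30
import Groth.Agent.Lib.helper21.LC37
import Groth.Agent.Lib.helper21.LC44

universe u
set_option linter.unusedSectionVars false
set_option linter.style.haveILetI false
open CategoryTheory Opposite Limits Abelian AlgebraicGeometry

namespace Groth.Agent.H21.LC

/-- elements killed by a power of each element of a f.g. ideal are killed by a power of it -/
theorem exists_pow_smul_eq_zero {A : Type u} [CommRing A] [IsNoetherianRing A] (I : Ideal A)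
    {M : Type*} [AddCommGroup M] [Module A M] (m : M)
    (h : ∀ f ∈ I, ∃ n : ℕ, f ^ n • m = 0) : ∃ n : ℕ, ∀ a ∈ I ^ n, a • m = 0 := by
  let J : Ideal A := LinearMap.ker (LinearMap.toSpanSingleton A M m)
  have hJ : ∀ a, a ∈ J ↔ a • m = 0 := fun a => by
    simp [J, LinearMap.mem_ker, LinearMap.toSpanSingleton_apply]
  have hle : I ≤ J.radical := by
    intro f hf
    obtain ⟨n, hn⟩ := h f hf
    exact ⟨n, (hJ _).mpr hn⟩
  obtain ⟨n, hn⟩ := Ideal.exists_pow_le_of_le_radical_of_fg hle (IsNoetherian.noetherian I)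
  exact ⟨n, fun a ha => (hJ a).mp (hn ha)⟩

theorem vanishing_of_facts (A : Type u) [CommRing A] [IsNoetherianRing A] (C : Type u)
    [CommRing C] [IsNoetherianRing C] (φ : A →+* C) (I : Ideal A) (h1 : I.map φ = ⊤)
    (hk : ∀ f ∈ I, ∀ a, φ a = 0 → ∃ n : ℕ, f ^ n * a = 0)
    (hc : ∀ f ∈ I, ∀ c : C, ∃ (n : ℕ) (a : A), φ f ^ n * c = φ a) (i : ℕ) (hi : 1 < i) :
    Subsingleton ((localCohomology I i).obj (ModuleCat.of A A)) := by
  letI : Algebra A C := φ.toAlgebra
  let e : A →ₗ[A] C := Algebra.linearMap A C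
  have he : ∀ a, e a = φ a := fun a => rfl
  have hker : ∀ x ∈ LinearMap.ker e, x ∈ DRing.torsionSub I A := by
    intro x hx
    rw [LinearMap.mem_ker, he] at hx
    exact exists_pow_smul_eq_zero I x (fun f hf => by
      obtain ⟨n, hn⟩ := hk f hf x hx
      exact ⟨n, by rw [smul_eq_mul, hn]⟩)
  have hcoker : LocCoh.IsPowerTorsion I (C ⧸ LinearMap.range e) := by
    intro m
    obtain ⟨c, rfl⟩ := Submodule.Quotient.mk_surjective _ m
    apply exists_pow_smul_eq_zero I
    intro f hf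
    obtain ⟨n, a, hna⟩ := hc f hf c
    refine ⟨n, ?_⟩
    rw [← Submodule.Quotient.mk_smul, Submodule.Quotient.mk_eq_zero]
    refine ⟨a, ?_⟩
    rw [he, ← hna, Algebra.smul_def, map_pow]
    rfl
  have hbij := map_bijective_of_torsion_ker_coker I e hker hcoker i hi
  have hC : Subsingleton ((localCohomology I i).obj (ModuleCat.of A C)) := by
    apply subsingleton_of_algebra (R' := C) I C i
    have htop : (I.map (algebraMap A C)) • (⊤ : Submodule C C) = ⊤ := by
      have : I.map (algebraMap A C) = ⊤ := h1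
      rw [this]
      simp
    exact subsingleton_of_smul_top_eq_top (I.map (algebraMap A C)) C htop i
  exact hbij.1.subsingleton

/-- unbundled consequences of `IsLocalization.Away` along a ring hom -/
theorem away_facts {B S : Type*} [CommRing B] [CommRing S] (ψ : B →+* S) (b : B)
    (h : @IsLocalization.Away B _ b S _ ψ.toAlgebra) :
    (∀ a : B, ψ a = 0 → ∃ n : ℕ, b ^ n * a = 0) ∧
    (∀ s : S, ∃ (n : ℕ) (a : B), s * ψ b ^ n = ψ a) := by
  letI := ψ.toAlgebra
  constructor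
  · intro a ha
    have h0 : algebraMap B S a = 0 := ha
    rw [IsLocalization.map_eq_zero_iff (Submonoid.powers b)] at h0
    obtain ⟨⟨m, n, rfl⟩, hm⟩ := h0
    exact ⟨n, hm⟩
  · intro s
    obtain ⟨n, a, ha⟩ := IsLocalization.Away.surj b s
    exact ⟨n, a, ha⟩

theorem affine_open_facts (A : CommRingCat.{u}) [IsNoetherianRing A]
    (U : (Spec A).Opens) (hU : IsAffineOpen U) :
    ∃ (C : Type u) (_ : CommRing C) (_ : IsNoetherianRing C) (φ : A →+* C) (I : Ideal A),
      (∀ x : PrimeSpectrum A, x ∈ (show TopologicalSpace.Opens (PrimeSpectrum A) from U) ↔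
        ¬ I ≤ x.asIdeal) ∧ I.map φ = ⊤ ∧
      (∀ f ∈ I, ∀ a, φ a = 0 → ∃ n : ℕ, f ^ n * a = 0) ∧
      (∀ f ∈ I, ∀ c : C, ∃ (n : ℕ) (a : A), φ f ^ n * c = φ a) := by
  have h1 : IsNoetherianRing Γ(Spec A, U) := by
    haveI : IsLocallyNoetherian (Spec A) := inferInstance
    exact IsLocallyNoetherian.component_noetherian ⟨U, hU⟩
  let e := Scheme.ΓSpecIso A
  let ι : Γ(Spec A, ⊤) →+* Γ(Spec A, U) := ((Spec A).presheaf.map (homOfLE le_top).op).hom
  let φ : A →+* Γ(Spec A, U) := ι.comp e.inv.hom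
  have hb : ∀ f : A, (Spec A).basicOpen (φ f) = U ⊓ (Spec A).basicOpen (e.inv.hom f) := by
    intro f
    exact Scheme.basicOpen_res (Spec A) (e.inv.hom f) (homOfLE (le_top : U ≤ ⊤)).op
  have h2 : ∀ f : A, (Spec A).basicOpen (φ f) = U ⊓ PrimeSpectrum.basicOpen f := by
    intro f
    have h := hb f
    rw [basicOpen_eq_of_affine] at h
    exact h
  let U' : TopologicalSpace.Opens (PrimeSpectrum A) := U
  let I : Ideal A := PrimeSpectrum.vanishingIdeal ((U' : Set (PrimeSpectrum A))ᶜ)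
  have hI : ∀ x : PrimeSpectrum A, x ∈ (U' : Set (PrimeSpectrum A)) ↔ ¬ I ≤ x.asIdeal := by
    intro x
    have hcl : IsClosed ((U' : Set (PrimeSpectrum A))ᶜ) := U'.2.isClosed_compl
    have hz : PrimeSpectrum.zeroLocus (I : Set A) = (U' : Set (PrimeSpectrum A))ᶜ := by
      rw [PrimeSpectrum.zeroLocus_vanishingIdeal_eq_closure, hcl.closure_eq]
    rw [← not_iff_not, not_not]
    change x ∉ (U' : Set (PrimeSpectrum A)) ↔ (I : Set A) ⊆ x.asIdeal
    rw [← PrimeSpectrum.mem_zeroLocus, hz]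
    rfl
  have hDU : ∀ f ∈ I, (PrimeSpectrum.basicOpen f : (Spec A).Opens) ≤ U := by
    intro f hf x hx
    refine (hI x).mpr ?_
    intro hle
    exact hx (hle hf)
  have h3 : ∀ f ∈ I, (PrimeSpectrum.basicOpen f : (Spec A).Opens) = (Spec A).basicOpen (φ f) := by
    intro f hf
    rw [h2]
    exact (inf_eq_right.mpr (hDU f hf)).symm
  have hV : ∀ f ∈ I, (Spec A).basicOpen (φ f) = (Spec A).basicOpen (e.inv.hom f) := by
    intro f hf
    rw [hb f]
    apply inf_eq_right.mpr
    rw [basicOpen_eq_of_affine]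
    exact hDU f hf
  -- the two localization facts
  have key : ∀ f ∈ I, ∃ (ρU : Γ(Spec A, U) →+* Γ(Spec A, (Spec A).basicOpen (φ f)))
      (ρT : Γ(Spec A, ⊤) →+* Γ(Spec A, (Spec A).basicOpen (φ f))),
      (∀ g, ρT g = ρU (ι g)) ∧
      (∀ c, ρU c = 0 → ∃ n : ℕ, φ f ^ n * c = 0) ∧
      (∀ g, ρT g = 0 → ∃ n : ℕ, e.inv.hom f ^ n * g = 0) ∧
      (∀ s, ∃ (n : ℕ) (g : Γ(Spec A, ⊤)), s * ρT (e.inv.hom f) ^ n = ρT g) := by
    intro f hf
    have LU := hU.isLocalization_basicOpen (φ f)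
    have LT := (isAffineOpen_top (Spec A)).isLocalization_of_eq_basicOpen (e.inv.hom f)
      (homOfLE le_top : (Spec A).basicOpen (φ f) ⟶ ⊤) (hV f hf)
    refine ⟨((Spec A).presheaf.map (homOfLE ((Spec A).basicOpen_le (φ f))).op).hom,
      ((Spec A).presheaf.map (homOfLE le_top : (Spec A).basicOpen (φ f) ⟶ ⊤).op).hom, ?_, ?_, ?_, ?_⟩
    · intro g
      change _ = ((Spec A).presheaf.map (homOfLE le_top).op ≫
        (Spec A).presheaf.map (homOfLE ((Spec A).basicOpen_le (φ f))).op).hom g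
      rw [← Functor.map_comp]
      rfl
    · exact (away_facts _ (φ f) LU).1
    · exact (away_facts _ (e.inv.hom f) LT).1
    · exact (away_facts _ (e.inv.hom f) LT).2
  have einj : Function.Injective e.inv.hom := by
    intro a b hab
    have := congrArg e.hom.hom hab
    simpa using this
  refine ⟨Γ(Spec A, U), inferInstance, h1, φ, I, hI, ?_, ?_, ?_⟩
  · -- I.map φ = ⊤
    have hcov : U ≤ ⨆ g : (φ '' (I : Set A)), (Spec A).basicOpen g.1 := by
      intro x hx
      have hx' : ¬ I ≤ x.asIdeal := (hI x).mp hx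
      rw [SetLike.not_le_iff_exists] at hx'
      obtain ⟨f, hf, hfx⟩ := hx'
      rw [TopologicalSpace.Opens.mem_iSup]
      refine ⟨⟨φ f, f, hf, rfl⟩, ?_⟩
      rw [← h3 f hf]
      exact hfx
    have := (hU.self_le_iSup_basicOpen_iff).mp hcov
    rw [Ideal.map]
    exact this
  · intro f hf a ha
    obtain ⟨ρU, ρT, hc, -, hT, -⟩ := key f hf
    have h0 : ρT (e.inv.hom a) = 0 := by
      rw [hc]
      change ρU (φ a) = 0
      rw [ha, map_zero]
    obtain ⟨n, hn⟩ := hT _ h0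
    refine ⟨n, einj ?_⟩
    rw [map_mul, map_pow, hn, map_zero]
  · intro f hf c
    obtain ⟨ρU, ρT, hc, hUU, -, hS⟩ := key f hf
    obtain ⟨n, g, hg⟩ := hS (ρU c)
    -- g = e.inv a
    obtain ⟨a, rfl⟩ : ∃ a, e.inv.hom a = g := ⟨e.hom.hom g, by simp⟩
    have h0 : ρU (φ f ^ n * c - φ a) = 0 := by
      rw [map_sub, map_mul, map_pow]
      have h1 : ρU (φ f) = ρT (e.inv.hom f) := (hc _).symm
      have h2 : ρU (φ a) = ρT (e.inv.hom a) := (hc _).symm
      rw [h1, h2, ← hg]
      ring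
    obtain ⟨m, hm⟩ := hUU _ h0
    refine ⟨m + n, f ^ m * a, ?_⟩
    rw [map_mul, map_pow, pow_add]
    linear_combination hm

theorem height_le_one_of_affine_compl (A : Type u) [CommRing A] [IsNoetherianRing A]
    (U : (Spec (CommRingCat.of A)).Opens) (hU : IsAffineOpen U) (p : PrimeSpectrum A)
    (hpU : (p : (Spec (CommRingCat.of A) : Type u)) ∉ (U : Set (Spec (CommRingCat.of A) : Type u)))
    (hmin : ∀ q : PrimeSpectrum A, q.asIdeal ≤ p.asIdeal →
      (q : (Spec (CommRingCat.of A) : Type u)) ∉ (U : Set (Spec (CommRingCat.of A) : Type u)) →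
      q = p) : p.asIdeal.height ≤ 1 := by
  haveI : IsNoetherianRing (CommRingCat.of A) := ‹IsNoetherianRing A›
  obtain ⟨C, _, _, φ, I, hI, h1, hk, hc⟩ := affine_open_facts (CommRingCat.of A) U hU
  have hIp : I ≤ p.asIdeal := by
    by_contra hcon
    exact hpU ((hI p).mpr hcon)
  have hp : p.asIdeal ∈ I.minimalPrimes := by
    refine ⟨⟨p.2, hIp⟩, ?_⟩
    rintro q ⟨hq, hIq⟩ hqp
    have hqU : (⟨q, hq⟩ : PrimeSpectrum A) ∉
        (show TopologicalSpace.Opens (PrimeSpectrum A) from U) := by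
      intro hmem
      exact ((hI ⟨q, hq⟩).mp hmem) hIq
    have := hmin ⟨q, hq⟩ hqp hqU
    rw [← this]
  have hfin : p.asIdeal.height ≠ ⊤ := Ideal.height_ne_top p.2.ne_top
  obtain ⟨h, hh⟩ := ENat.ne_top_iff_exists.mp hfin
  by_contra hlt
  have h1h : 1 < h := by
    rw [← hh] at hlt
    exact_mod_cast not_le.1 hlt
  haveI := nontrivial_H_height_minimalPrime I p.asIdeal hp h hh.symm
  haveI := vanishing_of_facts A C φ I h1 hk hc h h1h
  exact not_subsingleton _ ‹_›

end Groth.Agent.H21.LC
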