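import Mathlib
import Groth.Agent.Lib.helper21.AF2
import Groth.Agent.Lib.helper21.LC68e

/-!
# Sections over the punctured spectrum are `I`-closed
-/

set_option autoImplicit false

namespace Groth.Agent.H21.AF

open CategoryTheory Opposite Limits AlgebraicGeometry TopologicalSpace
open Groth.Agent.H21.LC

universe u

section
variable (R : CommRingCat.{u})

/-- restriction `Γ(V) → Γ(W)` for `W ≤ V` -/
noncomputable abbrev ρ {V W : (Spec R).Opens} (h : W ≤ V) : Γ(Spec R, V) →+* Γ(Spec R, W) :=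
  ((Spec R).presheaf.map (homOfLE h).op).hom

lemma ρ_comp {V W Z : (Spec R).Opens} (h : W ≤ V) (h' : Z ≤ W) (s : Γ(Spec R, V)) :
    ρ R h' (ρ R h s) = ρ R (h'.trans h) s := by
  change ((Spec R).presheaf.map (homOfLE h).op ≫ (Spec R).presheaf.map (homOfLE h').op).hom s = _
  rw [← Functor.map_comp]
  rfl

variable (U : (Spec R).Opens)

lemma basicOpen_resΓ (f : R) :
    (Spec R).basicOpen (resΓ R U f) = U ⊓ (PrimeSpectrum.basicOpen f : (Spec R).Opens) := by
  have := Scheme.basicOpen_res (Spec R) ((Scheme.ΓSpecIso R).inv.hom f)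
    (homOfLE (le_top : U ≤ ⊤)).op
  rw [basicOpen_eq_of_affine] at this
  exact this

/-- `W f = U ∩ D(f)` -/
noncomputable abbrev W (f : R) : (Spec R).Opens := (Spec R).basicOpen (resΓ R U f)

lemma W_le (f : R) : W R U f ≤ U := (Spec R).basicOpen_le _

lemma isUnit_ρ (f : R) : IsUnit (ρ R (W_le R U f) (resΓ R U f)) :=
  RingedSpace.isUnit_res_basicOpen (Spec R).toRingedSpace (resΓ R U f)

variable (I : Ideal R)
  (hU : ∀ x : PrimeSpectrum R, x ∈ (show Opens (PrimeSpectrum R) from U) ↔ ¬ I ≤ x.asIdeal)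

include hU in
lemma cover : U ≤ ⨆ f : ↥I, W R U (f : R) := by
  intro x hx
  have hx' := (hU x).1 hx
  obtain ⟨f, hf, hfx⟩ := SetLike.not_le_iff_exists.1 hx'
  simp only [Opens.mem_iSup]
  refine ⟨⟨f, hf⟩, ?_⟩
  rw [W, basicOpen_resΓ]
  exact ⟨hx, hfx⟩

include hU in
/-- no `I`-power torsion in `Γ(U, 𝒪)` -/
lemma no_torsion (c : Γ(Spec R, U))
    (hc : ∀ f ∈ I, ∃ n : ℕ, resΓ R U f ^ n * c = 0) : c = 0 := by
  refine (Spec R).sheaf.eq_of_locally_eq' (fun f : ↥I => W R U (f : R)) U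
    (fun f => homOfLE (W_le R U f)) (cover R U I hU) c 0 (fun f => ?_)
  change ρ R (W_le R U f) c = ρ R (W_le R U f) 0
  rw [map_zero]
  obtain ⟨n, hn⟩ := hc f f.2
  have := congrArg (ρ R (W_le R U f)) hn
  rw [map_mul, map_pow, map_zero] at this
  exact ((isUnit_ρ R U f).pow n).mul_right_eq_zero.1 this

include hU in
/-- gluing: every `R`-semilinear map `I^n → Γ(U, 𝒪)` is multiplication by a section -/
lemma glue (n : ℕ) (φ : ↥(I ^ n) → Γ(Spec R, U))
    (hφ : ∀ (r : R) (a : ↥(I ^ n)), φ (r • a) = resΓ R U r * φ a) :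
    ∃ b : Γ(Spec R, U), ∀ a : ↥(I ^ n), φ a = resΓ R U (a : R) * b := by
  choose v hv using fun f : ↥I => (isUnit_ρ R U (f : R)).exists_right_inv
  let p : ↥I → ↥(I ^ n) := fun f => ⟨(f : R) ^ n, Ideal.pow_mem_pow f.2 n⟩
  let sf : ∀ f : ↥I, Γ(Spec R, W R U (f : R)) := fun f =>
    ρ R (W_le R U f) (φ (p f)) * v f ^ n
  have hcross : ∀ (a b : ↥(I ^ n)), resΓ R U (a : R) * φ b = resΓ R U (b : R) * φ a := by
    intro a b
    rw [← hφ, ← hφ]
    congr 1
    apply Subtype.ext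
    simp [mul_comm]
  have compat : TopCat.Presheaf.IsCompatible (Spec R).sheaf.1 (fun f : ↥I => W R U (f : R)) sf := by
    intro f g
    change ρ R (inf_le_left : W R U (f : R) ⊓ W R U (g : R) ≤ W R U (f : R)) (sf f) =
      ρ R (inf_le_right : W R U (f : R) ⊓ W R U (g : R) ≤ W R U (g : R)) (sf g)
    have hZ : W R U (f : R) ⊓ W R U (g : R) ≤ U := inf_le_left.trans (W_le R U f)
    simp only [sf, map_mul, map_pow, ρ_comp]
    have key := congrArg (ρ R hZ) (hcross (p g) (p f))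
    simp only [map_mul, map_pow, p] at key
    have h1 := congrArg (ρ R (inf_le_left : W R U (f : R) ⊓ W R U (g : R) ≤ W R U (f : R))) (hv f)
    have h2 := congrArg (ρ R (inf_le_right : W R U (f : R) ⊓ W R U (g : R) ≤ W R U (g : R))) (hv g)
    simp only [map_mul, map_one, ρ_comp] at h1 h2
    have h1n := congrArg (· ^ n) h1
    have h2n := congrArg (· ^ n) h2
    simp only [mul_pow, one_pow] at h1n h2n
    linear_combination (ρ R inf_le_left (v f) ^ n * ρ R inf_le_right (v g) ^ n) * key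
      - (ρ R hZ (φ (p f)) * ρ R inf_le_left (v f) ^ n) * h2n
      + (ρ R hZ (φ (p g)) * ρ R inf_le_right (v g) ^ n) * h1n
  obtain ⟨b, hb, -⟩ : ∃ b : Γ(Spec R, U), (∀ f : ↥I, ρ R (W_le R U f) b = sf f) ∧ _ :=
    (Spec R).sheaf.existsUnique_gluing' (fun f : ↥I => W R U (f : R)) U
    (fun f => homOfLE (W_le R U f)) (cover R U I hU) sf compat
  refine ⟨b, fun a => ?_⟩
  refine (Spec R).sheaf.eq_of_locally_eq' (fun f : ↥I => W R U (f : R)) U
    (fun f => homOfLE (W_le R U f)) (cover R U I hU) _ _ (fun f => ?_)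
  change ρ R (W_le R U f) (φ a) = ρ R (W_le R U f) (resΓ R U (a : R) * b)
  have hbf : ρ R (W_le R U f) b = sf f := hb f
  rw [map_mul, hbf]
  have key := congrArg (ρ R (W_le R U f)) (hcross a (p f))
  simp only [map_mul, map_pow, p] at key
  have h1n := congrArg (· ^ n) (hv f)
  simp only [mul_pow, one_pow] at h1n
  simp only [sf]
  linear_combination (-(v f ^ n)) * key - (ρ R (W_le R U f) (φ a)) * h1n

end

end Groth.Agent.H21.AF
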