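import Mathlib
import Groth.Agent.Lib.helper21.AF3
import Groth.Agent.Lib.helper21.LC8

/-!
# `cd(A, I) ≤ 1` implies `Spec A ∖ V(I)` is affine
-/

set_option autoImplicit false

namespace Groth.Agent.H21.AF

open CategoryTheory Opposite Limits AlgebraicGeometry TopologicalSpace
open Groth.Agent.H21.LC

universe u

theorem affine_of_cd (A : Type u) [CommRing A] [IsNoetherianRing A] (I : Ideal A)
    (hcd : ∀ (M : Type u) [AddCommGroup M] [Module A M],
      Subsingleton ((localCohomology I 2).obj (ModuleCat.of A M)))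
    (U : (Spec (CommRingCat.of A)).Opens)
    (hU : ∀ x : PrimeSpectrum A, x ∈ (show Opens (PrimeSpectrum A) from U) ↔ ¬ I ≤ x.asIdeal) :
    IsAffineOpen U := by
  let R : CommRingCat.{u} := CommRingCat.of A
  let _ : Algebra A Γ(Spec R, U) := (resΓ R U).toAlgebra
  have halg : ∀ (r : A) (c : Γ(Spec R, U)), r • c = resΓ R U r * c := fun r c => rfl
  have hB0 : ∀ c : Γ(Spec R, U), (∀ f ∈ I, ∃ n : ℕ, f ^ n • c = 0) → c = 0 := by
    intro c hc
    refine no_torsion R U I hU c (fun f hf => ?_)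
    obtain ⟨n, hn⟩ := hc f hf
    refine ⟨n, ?_⟩
    rw [← map_pow, ← halg]
    exact hn
  have hB1 : ∀ (n : ℕ) (φ : ↥(I ^ n) →ₗ[A] Γ(Spec R, U)),
      ∃ b : Γ(Spec R, U), ∀ a : ↥(I ^ n), φ a = (a : A) • b := by
    intro n φ
    obtain ⟨b, hb⟩ := glue R U I hU n φ (fun r a => by rw [map_smul, halg])
    exact ⟨b, fun a => by rw [halg]; exact hb a⟩
  have htop : I.map (algebraMap A Γ(Spec R, U)) = ⊤ := map_eq_top I hcd Γ(Spec R, U) hB0 hB1
  have hs : Ideal.span ((resΓ R U) '' (I : Set A)) = ⊤ := htop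
  refine isAffineOpen_of_isAffineOpen_basicOpen U _ hs ?_
  rintro _ ⟨f, hf, rfl⟩
  have hDU : (PrimeSpectrum.basicOpen f : (Spec R).Opens) ≤ U := by
    intro x hx
    refine (hU x).2 (fun hle => hx (hle hf))
  have hW : (Spec R).basicOpen (resΓ R U f) =
      (Spec R).basicOpen ((Scheme.ΓSpecIso R).inv.hom f) := by
    have := Scheme.basicOpen_res (Spec R) ((Scheme.ΓSpecIso R).inv.hom f)
      (homOfLE (le_top : U ≤ ⊤)).op
    refine this.trans (inf_eq_right.2 ?_)
    rw [basicOpen_eq_of_affine]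
    exact hDU
  rw [hW]
  exact (isAffineOpen_top (Spec R)).basicOpen _

theorem cd_zero_of_empty (A : Type u) [CommRing A] [IsNoetherianRing A] (I : Ideal A)
    (hI : ∀ x : PrimeSpectrum A, I ≤ x.asIdeal)
    (M : Type u) [AddCommGroup M] [Module A M] (i : ℕ) (hi : 0 < i) :
    Subsingleton ((localCohomology I i).obj (ModuleCat.of A M)) := by
  have hnil : I ≤ nilradical A := by
    rw [nilradical_eq_sInf]
    refine le_sInf (fun J hJ => hI ⟨J, hJ⟩)
  obtain ⟨n, hn⟩ := IsNoetherianRing.isNilpotent_nilradical A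
  have hIn : I ^ n = ⊥ := by
    rw [eq_bot_iff, ← Ideal.zero_eq_bot, ← hn]
    exact Ideal.pow_right_mono hnil n
  refine subsingleton_of_torsion I i hi (ModuleCat.of A M) (fun m => ⟨n, fun a ha => ?_⟩)
  rw [hIn] at ha
  rw [(Submodule.mem_bot A).1 ha, zero_smul]

end Groth.Agent.H21.AF
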