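import Mathlib
import Groth.Agent.Lib.helper21.BR8

universe u
set_option autoImplicit false
set_option linter.style.haveILetI false
open CategoryTheory Opposite Limits AlgebraicGeometry TopologicalSpace

namespace Groth.Agent.H21.BR

lemma exists_frac_generic' {X Y : Scheme.{u}} [IsIntegral X] [IsIntegral Y]
    (g : X ⟶ Y) [IsIso (g.stalkMap (genericPoint X))]
    (ξ : X) (t : X.presheaf.stalk ξ) :
    ∃ c s : Y.presheaf.stalk (g ξ), s ≠ 0 ∧
      (g.stalkMap ξ).hom s * t = (g.stalkMap ξ).hom c := by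
  have hηξ : genericPoint X ⤳ ξ := genericPoint_specializes ξ
  obtain ⟨u, hu⟩ := (ConcreteCategory.bijective_of_isIso
    (g.stalkMap (genericPoint X))).2 ((X.presheaf.stalkSpecializes hηξ).hom t)
  have hy'y : g (genericPoint X) ⤳ g ξ := g.base.hom.map_specializes hηξ
  obtain ⟨c, s, hsu, hsc⟩ := exists_frac_of_specializes hy'y u
  have h5 : ∀ a : Y.presheaf.stalk (g ξ),
      (X.presheaf.stalkSpecializes hηξ).hom ((g.stalkMap ξ).hom a) =
      (g.stalkMap (genericPoint X)).hom ((Y.presheaf.stalkSpecializes hy'y).hom a) :=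
    fun a => (Scheme.Hom.stalkSpecializes_stalkMap_apply g _ ξ hηξ a).symm
  refine ⟨c, s, ?_, ?_⟩
  · rintro rfl
    rw [map_zero] at hsu
    exact not_isUnit_zero hsu
  · apply stalkSpecializes_injective hηξ
    rw [map_mul, h5, h5, ← hsc, map_mul]
    congr 1
    exact hu.symm

theorem isIso_stalkMap_of_flat_birational {X Y : Scheme.{u}} [IsIntegral X] [IsIntegral Y]
    (g : X ⟶ Y) [Flat g] [IsIso (g.stalkMap (genericPoint X))] (ξ : X) :
    IsIso (g.stalkMap ξ) := by
  rw [ConcreteCategory.isIso_iff_bijective]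
  have hflat := Flat.stalkMap g ξ
  have hloc : IsLocalHom (g.stalkMap ξ).hom := g.toLRSHom.prop ξ
  algebraize [(g.stalkMap ξ).hom]
  have hff : Module.FaithfullyFlat (Y.presheaf.stalk (g ξ)) (X.presheaf.stalk ξ) :=
    @Module.FaithfullyFlat.of_flat_of_isLocalHom _ _ _ _ _ _ _ hflat hloc
  have hinj : Function.Injective (g.stalkMap ξ).hom :=
    FaithfulSMul.algebraMap_injective (Y.presheaf.stalk (g ξ)) (X.presheaf.stalk ξ)
  refine ⟨hinj, ?_⟩
  intro t
  obtain ⟨c, s, hs, hsc⟩ := exists_frac_generic' g ξ t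
  have hc : c ∈ (Ideal.span {s} : Ideal (Y.presheaf.stalk (g ξ))) := by
    rw [← Ideal.comap_map_eq_self_of_faithfullyFlat (B := X.presheaf.stalk ξ) (Ideal.span {s})]
    rw [Ideal.mem_comap, Ideal.map_span, Set.image_singleton, Ideal.mem_span_singleton']
    exact ⟨t, by rw [mul_comm]; exact hsc⟩
  obtain ⟨a, ha⟩ := Ideal.mem_span_singleton'.1 hc
  refine ⟨a, ?_⟩
  have hne : (g.stalkMap ξ).hom s ≠ 0 := fun h0 => hs (hinj (by rw [h0, map_zero]))
  apply mul_left_cancel₀ hne
  rw [hsc, ← ha, map_mul, mul_comm]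

end Groth.Agent.H21.BR
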