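import Mathlib
import Groth.Agent.Lib.helper21.BR9

universe u
set_option autoImplicit false
set_option linter.style.haveILetI false
open CategoryTheory Opposite Limits AlgebraicGeometry TopologicalSpace

namespace Groth.Agent.H21.BR

theorem app_bijective_of_stalk_iso {X' X : Scheme.{u}} [IsIntegral X'] (f : X' ⟶ X) [Surjective f]
    (hst : ∀ x', IsIso (f.stalkMap x')) (U : X.Opens) (hU : IsAffineOpen U) :
    Function.Bijective (f.app U).hom := by
  constructor
  · rw [injective_iff_map_eq_zero]
    intro a ha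
    refine TopCat.Presheaf.section_ext X.sheaf U _ _ ?_
    intro x hx
    obtain ⟨x', rfl⟩ := f.surjective x
    have h1 := Scheme.Hom.germ_stalkMap_apply f U x' hx a
    have ha' : (f.app U) a = 0 := ha
    rw [ha', map_zero] at h1
    have hinj := (ConcreteCategory.bijective_of_isIso (f.stalkMap x')).1
    change (X.presheaf.germ U (f x') hx) a = (X.presheaf.germ U (f x') hx) 0
    rw [map_zero]
    exact hinj (by rw [h1, map_zero])
  · intro b
    let s : Set Γ(X, U) := {a | ∃ c, (f.app U).hom c = (f.app U).hom a * b}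
    have hK : ∀ a ∈ Ideal.span s, a ∈ s := by
      intro a ha
      induction ha using Submodule.span_induction with
      | mem x hx => exact hx
      | zero => exact ⟨0, by simp⟩
      | add x y _ _ hx hy =>
        obtain ⟨c1, h1⟩ := hx
        obtain ⟨c2, h2⟩ := hy
        exact ⟨c1 + c2, by rw [map_add, map_add, add_mul, h1, h2]⟩
      | smul r x _ hx =>
        obtain ⟨c, h⟩ := hx
        exact ⟨r * c, by rw [smul_eq_mul, map_mul, map_mul, h, mul_assoc]⟩
    have htop : Ideal.span s = ⊤ := by
      rw [← hU.self_le_iSup_basicOpen_iff]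
      intro x hx
      obtain ⟨x', rfl⟩ := f.surjective x
      obtain ⟨u, hu⟩ := (ConcreteCategory.bijective_of_isIso (f.stalkMap x')).2
        (X'.presheaf.germ (f ⁻¹ᵁ U) x' hx b)
      letI : Algebra Γ(X, U) (X.presheaf.stalk (f x')) :=
        TopCat.Presheaf.algebra_section_stalk X.presheaf ⟨f x', hx⟩
      haveI : IsLocalization.AtPrime (X.presheaf.stalk (f x'))
          (hU.primeIdealOf ⟨f x', hx⟩).asIdeal := hU.isLocalization_stalk ⟨f x', hx⟩
      obtain ⟨⟨c, t⟩, hct⟩ := IsLocalization.surj (hU.primeIdealOf ⟨f x', hx⟩).asIdeal.primeCompl u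
      have hct' : u * X.presheaf.germ U (f x') hx t.1 = X.presheaf.germ U (f x') hx c := hct
      have hts : t.1 ∈ s := by
        refine ⟨c, ?_⟩
        apply germ_injective_of_isIntegral X' x' (U := f ⁻¹ᵁ U) hx
        have e1 := Scheme.Hom.germ_stalkMap_apply f U x' hx c
        have e2 := Scheme.Hom.germ_stalkMap_apply f U x' hx t.1
        change (X'.presheaf.germ (f ⁻¹ᵁ U) x' hx) ((f.app U) c) =
          (X'.presheaf.germ (f ⁻¹ᵁ U) x' hx) ((f.app U) t.1 * b)
        rw [← e1, map_mul, ← e2, ← hct', map_mul, mul_comm]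
        congr 1
      have hmem : f x' ∈ X.basicOpen t.1 := by
        have h1 : hU.primeIdealOf ⟨f x', hx⟩ ∈ hU.fromSpec ⁻¹ᵁ X.basicOpen t.1 := by
          rw [hU.fromSpec_preimage_basicOpen]
          exact t.2
        have h2 : hU.fromSpec (hU.primeIdealOf ⟨f x', hx⟩) ∈ X.basicOpen t.1 := h1
        rwa [hU.fromSpec_primeIdealOf] at h2
      exact TopologicalSpace.Opens.mem_iSup.2 ⟨⟨t.1, hts⟩, hmem⟩
    have h1 : (1 : Γ(X, U)) ∈ s := hK 1 (by rw [htop]; trivial)
    obtain ⟨c, hc⟩ := h1
    exact ⟨c, by rw [hc, map_one, one_mul]⟩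

theorem isIso_of_affine_of_stalk_iso {X' X : Scheme.{u}} [IsIntegral X'] (f : X' ⟶ X)
    [Surjective f] [IsAffineHom f]
    (hst : ∀ x', IsIso (f.stalkMap x')) : IsIso f := by
  refine (HasAffineProperty.iff_of_iSup_eq_top (P := MorphismProperty.isomorphisms Scheme)
    (fun i : X.affineOpens => i) (iSup_affineOpens_eq_top X)).2 (fun U => ⟨?_, ?_⟩)
  · exact U.2.preimage f
  · rw [morphismRestrict_appTop]
    have hV : IsAffineOpen (U.1.ι ''ᵁ ⊤) := by
      rw [Scheme.Opens.ι_image_top]
      exact U.2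
    haveI : IsIso (f.app (U.1.ι ''ᵁ ⊤)) := by
      rw [ConcreteCategory.isIso_iff_bijective]
      exact app_bijective_of_stalk_iso f hst _ hV
    haveI : IsIso (X'.presheaf.map
        (eqToHom (image_morphismRestrict_preimage f U.1 ⊤)).op) := by
      exact Functor.map_isIso _ _
    exact IsIso.comp_isIso' ‹_› ‹_›

end Groth.Agent.H21.BR
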