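import Mathlib
import Groth.Agent.Lib.helper21.LC12

universe u
set_option linter.unusedSectionVars false
set_option linter.style.haveILetI false
open CategoryTheory TensorProduct

namespace Groth.Agent.H21.Der

variable {A : Type u} [CommRing A]

/-- pair constructor for dual numbers -/
def mk' (a b : A) : TrivSqZeroExt A A := (a, b)

@[simp] lemma fst_mk' (a b : A) : (mk' a b).fst = a := rfl
@[simp] lemma snd_mk' (a b : A) : (mk' a b).snd = b := rfl

lemma mk'_eta (x : TrivSqZeroExt A A) : mk' x.fst x.snd = x := rfl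

lemma fst_mul' (x y : TrivSqZeroExt A A) : (x * y).fst = x.fst * y.fst := TrivSqZeroExt.fst_mul x y
lemma snd_mul' (x y : TrivSqZeroExt A A) : (x * y).snd = x.fst * y.snd + y.fst * x.snd := by
  rw [TrivSqZeroExt.snd_mul]
  simp [mul_comm]

/-- `σ : a ↦ a + θ(a) ε` into the dual numbers -/
def σ (θ : Derivation ℤ A A) : A →+* TrivSqZeroExt A A where
  toFun a := mk' a (θ a)
  map_one' := by
    apply TrivSqZeroExt.ext
    · rfl
    · change θ 1 = 0
      simp
  map_mul' a b := by
    apply TrivSqZeroExt.ext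
    · rw [fst_mul']; rfl
    · rw [snd_mul']
      change θ (a * b) = a * θ b + b * θ a
      rw [Derivation.leibniz]
      simp [smul_eq_mul]
  map_zero' := by
    apply TrivSqZeroExt.ext
    · rfl
    · change θ 0 = 0
      simp
  map_add' a b := by
    apply TrivSqZeroExt.ext
    · rfl
    · change θ (a + b) = θ a + θ b
      simp

@[simp] lemma σ_fst (θ : Derivation ℤ A A) (a : A) : (σ θ a).fst = a := rfl
@[simp] lemma σ_snd (θ : Derivation ℤ A A) (a : A) : (σ θ a).snd = θ a := rfl

/-- the dual numbers with the `σ`-twisted `A`-algebra structure -/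
def Bσ (_θ : Derivation ℤ A A) : Type u := TrivSqZeroExt A A

noncomputable instance (θ : Derivation ℤ A A) : CommRing (Bσ θ) :=
  inferInstanceAs (CommRing (TrivSqZeroExt A A))

noncomputable instance (θ : Derivation ℤ A A) : Algebra A (Bσ θ) := (σ θ).toAlgebra

lemma algebraMap_Bσ (θ : Derivation ℤ A A) (a : A) : algebraMap A (Bσ θ) a = σ θ a := rfl

lemma algebraMap_Bj (a : A) : algebraMap A (TrivSqZeroExt A A) a = mk' a 0 := rfl

instance : Module.Flat A (TrivSqZeroExt A A) :=
  inferInstanceAs (Module.Flat A (A × A))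

/-- identity coercions -/
def toT {θ : Derivation ℤ A A} (x : Bσ θ) : TrivSqZeroExt A A := x
def ofT (θ : Derivation ℤ A A) (x : TrivSqZeroExt A A) : Bσ θ := x

lemma smul_Bσ (θ : Derivation ℤ A A) (a : A) (x : Bσ θ) :
    a • x = ofT θ (σ θ a * toT x) := rfl

@[simp] lemma toT_ofT (θ : Derivation ℤ A A) (x : TrivSqZeroExt A A) : toT (ofT θ x) = x := rfl

lemma Bσ_ext {θ : Derivation ℤ A A} (x y : Bσ θ) (h1 : (toT x).fst = (toT y).fst)
    (h2 : (toT x).snd = (toT y).snd) : x = y :=
  TrivSqZeroExt.ext (x := toT x) (y := toT y) h1 h2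

/-- the `A`-linear identification of the two structures -/
noncomputable def sigE (θ : Derivation ℤ A A) : TrivSqZeroExt A A ≃ₗ[A] Bσ θ where
  toFun x := ofT θ (mk' x.fst (x.snd + θ x.fst))
  invFun y := mk' (toT y).fst ((toT y).snd - θ (toT y).fst)
  map_add' x y := by
    apply Bσ_ext
    · rfl
    · change (x + y).snd + θ (x + y).fst = (x.snd + θ x.fst) + (y.snd + θ y.fst)
      rw [TrivSqZeroExt.snd_add, TrivSqZeroExt.fst_add, map_add]
      abel
  map_smul' a x := by
    rw [RingHom.id_apply, smul_Bσ]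
    apply Bσ_ext
    · rw [toT_ofT, toT_ofT, toT_ofT, fst_mul']
      rfl
    · rw [toT_ofT, toT_ofT, toT_ofT, snd_mul']
      change (a • x).snd + θ (a • x).fst = a * (x.snd + θ x.fst) + x.fst * θ a
      rw [TrivSqZeroExt.snd_smul, TrivSqZeroExt.fst_smul, smul_eq_mul, smul_eq_mul,
        Derivation.leibniz]
      simp only [smul_eq_mul]
      ring
  left_inv x := by
    apply TrivSqZeroExt.ext
    · rfl
    · change x.snd + θ x.fst - θ x.fst = x.snd
      abel
  right_inv y := by
    apply Bσ_ext
    · rfl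
    · change (toT y).snd - θ (toT y).fst + θ (toT y).fst = (toT y).snd
      abel

instance (θ : Derivation ℤ A A) : Module.Flat A (Bσ θ) :=
  Module.Flat.of_linearEquiv (sigE θ).symm

/-- the two extensions of `I` have the same radical -/
lemma radical_map_eq (θ : Derivation ℤ A A) (I : Ideal A) :
    (I.map (σ θ)).radical = (I.map (algebraMap A (TrivSqZeroExt A A))).radical := by
  have key : ∀ a : A, σ θ a ^ 2 = mk' a 0 * mk' a (2 * θ a) ∧
      (mk' a 0 : TrivSqZeroExt A A) ^ 2 = σ θ a * mk' a (- θ a) := by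
    intro a
    constructor
    · apply TrivSqZeroExt.ext
      · rw [pow_two, fst_mul', fst_mul']; rfl
      · rw [pow_two, snd_mul', snd_mul']
        simp only [σ_fst, σ_snd, fst_mk', snd_mk']
        ring
    · apply TrivSqZeroExt.ext
      · rw [pow_two, fst_mul', fst_mul']; rfl
      · rw [pow_two, snd_mul', snd_mul']
        simp only [σ_fst, σ_snd, fst_mk', snd_mk']
        ring
  apply le_antisymm
  · rw [Ideal.radical_le_radical_iff, Ideal.map_le_iff_le_comap]
    intro a ha
    rw [Ideal.mem_comap]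
    refine ⟨2, ?_⟩
    rw [(key a).1]
    exact Ideal.mul_mem_right _ _ (Ideal.mem_map_of_mem _ ha)
  · rw [Ideal.radical_le_radical_iff, Ideal.map_le_iff_le_comap]
    intro a ha
    rw [Ideal.mem_comap]
    refine ⟨2, ?_⟩
    rw [algebraMap_Bj, (key a).2]
    exact Ideal.mul_mem_right _ _ (Ideal.mem_map_of_mem _ ha)

end Groth.Agent.H21.Der
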