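import Mathlib
import Groth.Agent.Lib.helper21.Der1

universe u
set_option linter.unusedSectionVars false
set_option linter.style.haveILetI false
open CategoryTheory TensorProduct

namespace Groth.Agent.H21.Der

open Groth.Agent.H21.LC
open Groth.Agent.Lib.helper6.TorBC (bc)

/-- flat base change for `H^i_I(A)` itself -/
noncomputable def bcSelf (A B : Type u) [CommRing A] [CommRing B] [Algebra A B] [Module.Flat A B]
    [IsNoetherianRing A] (I : Ideal A) (i : ℕ) :
    (B ⊗[A] (localCohomology I i).obj (ModuleCat.of A A)) ≃ₗ[B]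
      (localCohomology (I.map (algebraMap A B)) i).obj (ModuleCat.of B B) :=
  (bcEquiv A B I i (ModuleCat.of A A)).trans
    (((localCohomology (I.map (algebraMap A B)) i).mapIso
      (LinearEquiv.toModuleIso (TensorProduct.AlgebraTensorModule.rid A B B))).toLinearEquiv)

variable {A : Type u} [CommRing A] [IsNoetherianRing A]

instance : IsNoetherianRing (TrivSqZeroExt A A) :=
  isNoetherian_of_tower A (inferInstanceAs (IsNoetherian A (A × A)))

variable (θ : Derivation ℤ A A) (I : Ideal A) (i : ℕ)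

/-- the comparison for ideals with the same radical -/
noncomputable def mid :
    (localCohomology (I.map (σ θ)) i).obj (ModuleCat.of (TrivSqZeroExt A A) (TrivSqZeroExt A A))
      ≃ₗ[TrivSqZeroExt A A]
    (localCohomology (I.map (algebraMap A (TrivSqZeroExt A A))) i).obj
      (ModuleCat.of (TrivSqZeroExt A A) (TrivSqZeroExt A A)) :=
  ((localCohomology.isoOfSameRadical (radical_map_eq θ I) i).app
    (ModuleCat.of (TrivSqZeroExt A A) (TrivSqZeroExt A A))).toLinearEquiv

/-- the main comparison `B ⊗_σ H → B ⊗_j H` -/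
noncomputable def Ψ (z : Bσ θ ⊗[A] (localCohomology I i).obj (ModuleCat.of A A)) :
    TrivSqZeroExt A A ⊗[A] (localCohomology I i).obj (ModuleCat.of A A) :=
  (bcSelf A (TrivSqZeroExt A A) I i).symm (mid θ I i (bcSelf A (Bσ θ) I i z))

/-- its inverse -/
noncomputable def Ψinv (z : TrivSqZeroExt A A ⊗[A] (localCohomology I i).obj (ModuleCat.of A A)) :
    Bσ θ ⊗[A] (localCohomology I i).obj (ModuleCat.of A A) :=
  (bcSelf A (Bσ θ) I i).symm ((mid θ I i).symm (bcSelf A (TrivSqZeroExt A A) I i z))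

lemma Ψinv_Ψ (z) : Ψinv θ I i (Ψ θ I i z) = z := by
  unfold Ψ Ψinv
  rw [LinearEquiv.apply_symm_apply, LinearEquiv.symm_apply_apply]
  exact (bcSelf A (Bσ θ) I i).symm_apply_apply z

lemma Ψ_Ψinv (z) : Ψ θ I i (Ψinv θ I i z) = z := by
  unfold Ψ Ψinv
  have h1 : (bcSelf A (Bσ θ) I i) ((bcSelf A (Bσ θ) I i).symm
      ((mid θ I i).symm (bcSelf A (TrivSqZeroExt A A) I i z))) =
      (mid θ I i).symm (bcSelf A (TrivSqZeroExt A A) I i z) :=
    (bcSelf A (Bσ θ) I i).apply_symm_apply _
  rw [h1, LinearEquiv.apply_symm_apply, LinearEquiv.symm_apply_apply]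

lemma Ψ_add (z z') : Ψ θ I i (z + z') = Ψ θ I i z + Ψ θ I i z' := by
  unfold Ψ
  rw [map_add]
  have h1 : mid θ I i ((bcSelf A (Bσ θ) I i) z + (bcSelf A (Bσ θ) I i) z') =
      mid θ I i ((bcSelf A (Bσ θ) I i) z) + mid θ I i ((bcSelf A (Bσ θ) I i) z') :=
    (mid θ I i).map_add _ _
  rw [h1, map_add]

lemma Ψ_smul (b : TrivSqZeroExt A A) (z) : Ψ θ I i (ofT θ b • z) = b • Ψ θ I i z := by
  unfold Ψ
  rw [map_smul]
  have h1 : mid θ I i (ofT θ b • (bcSelf A (Bσ θ) I i) z) =
      b • mid θ I i ((bcSelf A (Bσ θ) I i) z) :=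
    (mid θ I i).map_smul b _
  rw [h1, map_smul]

end Groth.Agent.H21.Der
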