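import Mathlib
import Groth.Agent.Lib.helper21.Der2

universe u
set_option linter.unusedSectionVars false
set_option linter.style.haveILetI false
open CategoryTheory TensorProduct

namespace Groth.Agent.H21.Der

variable {A : Type u} [CommRing A] (θ : Derivation ℤ A A)
variable (H : Type u) [AddCommGroup H] [Module A H]

/-- first projection `B ⊗ H → H` -/
noncomputable def p₀ : TrivSqZeroExt A A ⊗[A] H →ₗ[A] H :=
  (TensorProduct.lid A H).toLinearMap ∘ₗ
    ((TrivSqZeroExt.fstHom A A A).toLinearMap).rTensor H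

/-- second projection `B ⊗ H → H` -/
noncomputable def p₁ : TrivSqZeroExt A A ⊗[A] H →ₗ[A] H :=
  (TensorProduct.lid A H).toLinearMap ∘ₗ (TrivSqZeroExt.sndHom A A).rTensor H

lemma p₀_tmul (b : TrivSqZeroExt A A) (ξ : H) : p₀ H (b ⊗ₜ ξ) = b.fst • ξ := by
  simp [p₀]

lemma p₁_tmul (b : TrivSqZeroExt A A) (ξ : H) : p₁ H (b ⊗ₜ ξ) = b.snd • ξ := by
  simp [p₁]

/-- `ε` -/
def eps : TrivSqZeroExt A A := mk' 0 1

lemma decomp_elt (b : TrivSqZeroExt A A) : b = b.fst • (1 : TrivSqZeroExt A A) + b.snd • eps := by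
  apply TrivSqZeroExt.ext
  · rw [TrivSqZeroExt.fst_add, TrivSqZeroExt.fst_smul, TrivSqZeroExt.fst_smul]
    change b.fst = b.fst • (1 : A) + b.snd • (0 : A)
    simp
  · rw [TrivSqZeroExt.snd_add, TrivSqZeroExt.snd_smul, TrivSqZeroExt.snd_smul]
    change b.snd = b.fst • (0 : A) + b.snd • (1 : A)
    simp

lemma decomp (z : TrivSqZeroExt A A ⊗[A] H) :
    z = (1 : TrivSqZeroExt A A) ⊗ₜ p₀ H z + (eps : TrivSqZeroExt A A) ⊗ₜ p₁ H z := by
  induction z using TensorProduct.induction_on with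
  | zero => simp
  | tmul b ξ =>
    rw [p₀_tmul, p₁_tmul, TensorProduct.tmul_smul, TensorProduct.tmul_smul,
      TensorProduct.smul_tmul', TensorProduct.smul_tmul', ← TensorProduct.add_tmul,
      ← decomp_elt]
  | add z z' h h' =>
    rw [map_add, map_add, TensorProduct.tmul_add, TensorProduct.tmul_add]
    nth_rewrite 1 [h, h']
    abel

lemma p₀_smul (b : TrivSqZeroExt A A) (z : TrivSqZeroExt A A ⊗[A] H) :
    p₀ H (b • z) = b.fst • p₀ H z := by
  induction z using TensorProduct.induction_on with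
  | zero => simp
  | tmul b' ξ =>
    rw [TensorProduct.smul_tmul', p₀_tmul, p₀_tmul, smul_eq_mul, fst_mul', mul_smul]
  | add z z' h h' =>
    rw [smul_add, map_add, map_add, h, h', smul_add]

lemma p₁_smul (b : TrivSqZeroExt A A) (z : TrivSqZeroExt A A ⊗[A] H) :
    p₁ H (b • z) = b.snd • p₀ H z + b.fst • p₁ H z := by
  induction z using TensorProduct.induction_on with
  | zero => simp
  | tmul b' ξ =>
    rw [TensorProduct.smul_tmul', p₁_tmul, p₁_tmul, p₀_tmul, smul_eq_mul, snd_mul', add_smul,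
      mul_smul, mul_smul, smul_comm b'.fst b.snd ξ, add_comm]
  | add z z' h h' =>
    rw [smul_add, map_add, map_add, map_add, h, h', smul_add, smul_add]
    abel

/-- first projection for the twisted structure -/
noncomputable def fstσ : Bσ θ →ₗ[A] A where
  toFun b := (toT b).fst
  map_add' x y := rfl
  map_smul' a x := by
    rw [smul_Bσ, toT_ofT, fst_mul']
    rfl

/-- `q₀ : B ⊗_σ H → H` -/
noncomputable def q₀ : Bσ θ ⊗[A] H →ₗ[A] H :=
  (TensorProduct.lid A H).toLinearMap ∘ₗ (fstσ θ).rTensor H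

lemma q₀_tmul (b : Bσ θ) (ξ : H) : q₀ θ H (b ⊗ₜ ξ) = (toT b).fst • ξ := by
  simp [q₀, fstσ]

lemma q₀_smul (b : TrivSqZeroExt A A) (z : Bσ θ ⊗[A] H) :
    q₀ θ H (ofT θ b • z) = b.fst • q₀ θ H z := by
  induction z using TensorProduct.induction_on with
  | zero => simp
  | tmul b' ξ =>
    have hfst : (toT (ofT θ b • b')).fst = b.fst * (toT b').fst := fst_mul' b (toT b')
    rw [TensorProduct.smul_tmul', q₀_tmul, q₀_tmul, hfst, mul_smul]
  | add z z' h h' =>
    rw [smul_add, map_add, map_add, h, h', smul_add]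

lemma decompσ (z : Bσ θ ⊗[A] H) :
    ∃ w : Bσ θ ⊗[A] H, z = (1 : Bσ θ) ⊗ₜ q₀ θ H z + ofT θ eps • w := by
  induction z using TensorProduct.induction_on with
  | zero => exact ⟨0, by simp⟩
  | tmul b ξ =>
    refine ⟨ofT θ (mk' ((toT b).snd - θ (toT b).fst) 0) ⊗ₜ ξ, ?_⟩
    have hb : b = (toT b).fst • (1 : Bσ θ) +
        ofT θ eps • ofT θ (mk' ((toT b).snd - θ (toT b).fst) 0) := by
      have h1 : (toT b).fst • (1 : Bσ θ) = ofT θ (σ θ (toT b).fst * 1) := smul_Bσ θ _ _
      have h2 : ofT θ eps • ofT θ (mk' ((toT b).snd - θ (toT b).fst) 0) =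
          ofT θ (eps * mk' ((toT b).snd - θ (toT b).fst) 0) := rfl
      rw [h1, h2]
      apply Bσ_ext
      · change (toT b).fst = ((σ θ (toT b).fst * 1 : TrivSqZeroExt A A) +
          eps * mk' ((toT b).snd - θ (toT b).fst) 0).fst
        rw [TrivSqZeroExt.fst_add, fst_mul', fst_mul']
        simp [eps]
      · change (toT b).snd = ((σ θ (toT b).fst * 1 : TrivSqZeroExt A A) +
          eps * mk' ((toT b).snd - θ (toT b).fst) 0).snd
        rw [TrivSqZeroExt.snd_add, snd_mul', snd_mul']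
        simp [eps]
    rw [q₀_tmul, TensorProduct.tmul_smul, TensorProduct.smul_tmul', TensorProduct.smul_tmul',
      ← TensorProduct.add_tmul, ← hb]
  | add z z' h h' =>
    obtain ⟨w, hw⟩ := h
    obtain ⟨w', hw'⟩ := h'
    refine ⟨w + w', ?_⟩
    rw [map_add, TensorProduct.tmul_add, smul_add]
    nth_rewrite 1 [hw, hw']
    abel

end Groth.Agent.H21.Der
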