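import Mathlib
import Groth.Agent.Lib.helper21.Der3

universe u
set_option linter.unusedSectionVars false
set_option linter.style.haveILetI false
open CategoryTheory TensorProduct

namespace Groth.Agent.H21.Der

variable {A : Type u} [CommRing A] [IsNoetherianRing A] (θ : Derivation ℤ A A) (I : Ideal A) (i : ℕ)

/-- `H^i_I(A)` -/
abbrev HHt (I : Ideal A) (i : ℕ) : Type u := (localCohomology I i).obj (ModuleCat.of A A)

/-- `Φ ξ = Ψ (1 ⊗ ξ)` -/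
noncomputable def Φ (ξ : HHt I i) : TrivSqZeroExt A A ⊗[A] HHt I i :=
  Ψ θ I i ((1 : Bσ θ) ⊗ₜ[A] ξ)

lemma Φ_add (ξ ξ' : HHt I i) : Φ θ I i (ξ + ξ') = Φ θ I i ξ + Φ θ I i ξ' := by
  unfold Φ
  rw [TensorProduct.tmul_add, Ψ_add]

lemma Φ_smul (a : A) (ξ : HHt I i) : Φ θ I i (a • ξ) = σ θ a • Φ θ I i ξ := by
  unfold Φ
  rw [← Ψ_smul]
  congr 1
  rw [TensorProduct.tmul_smul, TensorProduct.smul_tmul', TensorProduct.smul_tmul']
  congr 1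

theorem exists_derivation : ∃ D : HHt I i →+ HHt I i, ∀ (a : A) (ξ : HHt I i),
    D (a • ξ) = θ a • ξ + a • D ξ := by
  let φ₀ : HHt I i → HHt I i := fun ξ => p₀ _ (Φ θ I i ξ)
  let φ₁ : HHt I i → HHt I i := fun ξ => p₁ _ (Φ θ I i ξ)
  have φ₀_add : ∀ ξ ξ', φ₀ (ξ + ξ') = φ₀ ξ + φ₀ ξ' := fun ξ ξ' => by
    change p₀ _ (Φ θ I i (ξ + ξ')) = _
    rw [Φ_add, map_add]
  have φ₁_add : ∀ ξ ξ', φ₁ (ξ + ξ') = φ₁ ξ + φ₁ ξ' := fun ξ ξ' => by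
    change p₁ _ (Φ θ I i (ξ + ξ')) = _
    rw [Φ_add, map_add]
  have φ₀_smul : ∀ (a : A) ξ, φ₀ (a • ξ) = a • φ₀ ξ := fun a ξ => by
    change p₀ _ (Φ θ I i (a • ξ)) = _
    rw [Φ_smul, p₀_smul]
    rfl
  have φ₁_smul : ∀ (a : A) ξ, φ₁ (a • ξ) = θ a • φ₀ ξ + a • φ₁ ξ := fun a ξ => by
    change p₁ _ (Φ θ I i (a • ξ)) = _
    rw [Φ_smul, p₁_smul]
    rfl
  have φ₀_zero : φ₀ 0 = 0 := by
    have := φ₀_add 0 0
    rw [add_zero] at this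
    exact left_eq_add.mp this
  have hε : (eps : TrivSqZeroExt A A).fst = 0 := rfl
  have φ₀_surj : Function.Surjective φ₀ := by
    intro η
    obtain ⟨w, hw⟩ := decompσ θ _ (Ψinv θ I i ((1 : TrivSqZeroExt A A) ⊗ₜ[A] η))
    refine ⟨q₀ θ _ (Ψinv θ I i ((1 : TrivSqZeroExt A A) ⊗ₜ[A] η)), ?_⟩
    have h1 := congrArg (Ψ θ I i) hw
    rw [Ψ_Ψinv, Ψ_add, Ψ_smul] at h1
    have h2 := congrArg (p₀ _) h1
    rw [map_add, p₀_smul, hε, zero_smul, add_zero, p₀_tmul] at h2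
    change _ = φ₀ _ at h2
    rw [← h2]
    change (1 : A) • η = η
    rw [one_smul]
  have φ₀_inj : Function.Injective φ₀ := by
    intro ξ ξ' hξ
    have hsub : φ₀ (ξ + (-1 : A) • ξ') = 0 := by
      rw [φ₀_add, φ₀_smul, hξ]
      simp
    suffices h : ∀ ζ, φ₀ ζ = 0 → ζ = 0 by
      have := h _ hsub
      rw [neg_one_smul, add_neg_eq_zero] at this
      exact this
    intro ζ hζ
    have hdec := decomp _ (Φ θ I i ζ)
    change Φ θ I i ζ = (1 : TrivSqZeroExt A A) ⊗ₜ φ₀ ζ + (eps : TrivSqZeroExt A A) ⊗ₜ φ₁ ζ at hdec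
    rw [hζ, TensorProduct.tmul_zero, zero_add] at hdec
    have h3 : (eps : TrivSqZeroExt A A) ⊗ₜ[A] φ₁ ζ =
        (eps : TrivSqZeroExt A A) • ((1 : TrivSqZeroExt A A) ⊗ₜ[A] φ₁ ζ) := by
      rw [TensorProduct.smul_tmul', smul_eq_mul, mul_one]
    rw [h3] at hdec
    have h4 : Ψ θ I i (ofT θ eps • Ψinv θ I i ((1 : TrivSqZeroExt A A) ⊗ₜ[A] φ₁ ζ)) =
        Ψ θ I i ((1 : Bσ θ) ⊗ₜ[A] ζ) := by
      rw [Ψ_smul, Ψ_Ψinv, ← hdec]
      rfl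
    have h5 := congrArg (Ψinv θ I i) h4
    rw [Ψinv_Ψ, Ψinv_Ψ] at h5
    have h6 := congrArg (q₀ θ _) h5
    rw [q₀_smul, hε, zero_smul, q₀_tmul] at h6
    have h7 : (toT (1 : Bσ θ)).fst = (1 : A) := rfl
    rw [h7, one_smul] at h6
    exact h6.symm
  let e := Equiv.ofBijective φ₀ ⟨φ₀_inj, φ₀_surj⟩
  have einv_add : ∀ ξ ξ', e.symm (ξ + ξ') = e.symm ξ + e.symm ξ' := by
    intro ξ ξ'
    apply e.injective
    rw [Equiv.apply_symm_apply]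
    change _ = φ₀ _
    rw [φ₀_add]
    change _ = e (e.symm ξ) + e (e.symm ξ')
    rw [Equiv.apply_symm_apply, Equiv.apply_symm_apply]
  have einv_smul : ∀ (a : A) ξ, e.symm (a • ξ) = a • e.symm ξ := by
    intro a ξ
    apply e.injective
    rw [Equiv.apply_symm_apply]
    change _ = φ₀ _
    rw [φ₀_smul]
    change _ = a • e (e.symm ξ)
    rw [Equiv.apply_symm_apply]
  refine ⟨AddMonoidHom.mk' (fun ξ => φ₁ (e.symm ξ)) ?_, ?_⟩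
  · intro ξ ξ'
    change φ₁ (e.symm (ξ + ξ')) = φ₁ (e.symm ξ) + φ₁ (e.symm ξ')
    rw [einv_add, φ₁_add]
  · intro a ξ
    change φ₁ (e.symm (a • ξ)) = θ a • ξ + a • φ₁ (e.symm ξ)
    rw [einv_smul, φ₁_smul]
    change θ a • e (e.symm ξ) + _ = _
    rw [Equiv.apply_symm_apply]

end Groth.Agent.H21.Der
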