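import Mathlib
import Groth.Agent.Lib.helper21.ExtBC

set_option autoImplicit false

namespace Groth.Agent.H21.ExtBC

open CategoryTheory Abelian Limits TensorProduct

universe u

variable {R : Type u} [CommRing R] (S : Submonoid R)

lemma semiLin_loc : SemiLin (ModuleCat.localizedModuleFunctor.{u} S) := by
  intro a M N f
  ext : 1
  show (IsLocalizedModule.mapExtendScalars S (M.localizedModuleMkLinearMap S)
      (N.localizedModuleMkLinearMap S) (Localization S)) (a • f).hom =
    (algebraMap R (Localization S) a • (ModuleCat.localizedModuleFunctor.{u} S).map f).hom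
  rw [ModuleCat.hom_smul, ModuleCat.hom_smul, map_smul, ← algebraMap_smul (Localization S) a]
  rfl

lemma projective_loc (M : ModuleCat.{u} R) [Module.Projective R M] :
    Projective ((ModuleCat.localizedModuleFunctor.{u} S).obj M) := by
  rw [← IsProjective.iff_projective]
  show Module.Projective (Localization S) (M.localizedModule S)
  exact Module.projective_of_isLocalizedModule S (M.localizedModuleMkLinearMap S)

/-- degree zero -/
lemma κ_loc_zero_bijective (M : ModuleCat.{u} R)
    [Module.FinitePresentation R M] (N : ModuleCat.{u} R) :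
    Function.Bijective (κ (ModuleCat.localizedModuleFunctor.{u} S) (semiLin_loc S)
      M N 0) := by
  have hloc : IsLocalizedModule S (IsLocalizedModule.mapExtendScalars S
      (M.localizedModuleMkLinearMap S)
      (N.localizedModuleMkLinearMap S) (Localization S)) := inferInstance
  have hbc := (isLocalizedModule_iff_isBaseChange S (Localization S) _).mp hloc
  let eA : Ext M N 0 ≃ₗ[R] (M →ₗ[R] N) :=
    Ext.linearEquiv₀.trans ModuleCat.homLinearEquiv
  let eB : Ext ((ModuleCat.localizedModuleFunctor.{u} S).obj M)
      ((ModuleCat.localizedModuleFunctor.{u} S).obj N) 0 ≃ₗ[Localization S]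
      ((M.localizedModule S) →ₗ[Localization S] (N.localizedModule S)) :=
    Ext.linearEquiv₀.trans ModuleCat.homLinearEquiv
  have key : ∀ t, eB (κ (ModuleCat.localizedModuleFunctor.{u} S) (semiLin_loc S)
      M N 0 t) = hbc.equiv (LinearEquiv.lTensor (Localization S) eA t) := by
    intro t
    induction t using TensorProduct.induction_on with
    | zero => simp
    | tmul b x =>
      obtain ⟨g, rfl⟩ := (Ext.mk₀_bijective _ _).2 x
      rw [κ_tmul, map_smul, Ext.mapExactFunctor_mk₀, LinearEquiv.lTensor_tmul,
        IsBaseChange.equiv_tmul]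
      congr 1
      have h1 : eA (Ext.mk₀ g) = g.hom := by
        show (Ext.linearEquiv₀ (R := R) (Ext.mk₀ g)).hom = g.hom
        rw [← Ext.linearEquiv₀_symm_apply (R := R), LinearEquiv.apply_symm_apply]
      have h2 : eB (Ext.mk₀ ((ModuleCat.localizedModuleFunctor.{u} S).map g)) =
          ((ModuleCat.localizedModuleFunctor.{u} S).map g).hom := by
        show (Ext.linearEquiv₀ (R := Localization S)
          (Ext.mk₀ ((ModuleCat.localizedModuleFunctor.{u} S).map g))).hom = _
        rw [← Ext.linearEquiv₀_symm_apply (R := Localization S), LinearEquiv.apply_symm_apply]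
      rw [h1, h2]
      rfl
    | add t₁ t₂ h₁ h₂ => rw [map_add, map_add, map_add, map_add, h₁, h₂]
  have : (κ (ModuleCat.localizedModuleFunctor.{u} S) (semiLin_loc S) M N 0 :
      _ → _) = eB.symm ∘ hbc.equiv ∘ (LinearEquiv.lTensor (Localization S) eA) := by
    funext t
    simp only [Function.comp_apply]
    rw [← key t, LinearEquiv.symm_apply_apply]
  rw [this]
  exact eB.symm.bijective.comp (hbc.equiv.bijective.comp
    (LinearEquiv.lTensor (Localization S) eA).bijective)

/-- **Localization of `Ext`**: the canonical map
`S⁻¹R ⊗ Ext_R^n(M, N) → Ext_{S⁻¹R}^n(S⁻¹M, S⁻¹N)` is bijective (`R` Noetherian, `M` finite). -/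
theorem κ_loc_bijective [IsNoetherianRing R] (N : ModuleCat.{u} R) (n : ℕ) (M : Type u)
    [AddCommGroup M] [Module R M] [Module.Finite R M] :
    Function.Bijective (κ (ModuleCat.localizedModuleFunctor.{u} S) (semiLin_loc S)
      (ModuleCat.of R M) N n) :=
  κ_bijective (ModuleCat.localizedModuleFunctor.{u} S) (semiLin_loc S) N
    (fun m => projective_loc S (ModuleCat.of R (Fin m → R)))
    (fun M _ _ _ =>
      haveI : Module.FinitePresentation R (ModuleCat.of R M) :=
        Module.finitePresentation_of_finite R M
      κ_loc_zero_bijective S (ModuleCat.of R M) N) n M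

end Groth.Agent.H21.ExtBC
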