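import Mathlib
import Groth.Agent.Lib.helper21.ExtReg

set_option autoImplicit false

namespace Groth.Agent.H21.ExtKilled

open CategoryTheory Abelian

universe u

variable {A : Type u} [CommRing A]

/-- `M` is killed by `J` -/
def Killed (J : Ideal A) (M : ModuleCat.{u} A) : Prop := ∀ a ∈ J, ∀ m : M, a • m = 0

lemma Killed.mono {I J : Ideal A} (h : I ≤ J) {M : ModuleCat.{u} A} (hM : Killed J M) :
    Killed I M := fun a ha m => hM a (h ha) m

lemma killed_self (J : Ideal A) : Killed J (ModuleCat.of A (A ⧸ J)) := by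
  intro a ha m
  obtain ⟨m, rfl⟩ := Submodule.mkQ_surjective _ m
  rw [← map_smul, Submodule.mkQ_apply, Submodule.Quotient.mk_eq_zero, smul_eq_mul]
  exact Ideal.mul_mem_right _ _ ha

lemma killed_of_smul_top_eq_bot (J : Ideal A) (M : ModuleCat.{u} A)
    (h : J • (⊤ : Submodule A M) = ⊥) : Killed J M := by
  intro a ha m
  have : a • m ∈ J • (⊤ : Submodule A M) := Submodule.smul_mem_smul ha Submodule.mem_top
  rw [h] at this
  exact (Submodule.mem_bot A).mp this

/-- the map `A/J → M`, `1 ↦ m`. -/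
noncomputable def toKilled (J : Ideal A) (M : ModuleCat.{u} A) (hM : Killed J M) (m : M) :
    ModuleCat.of A (A ⧸ J) ⟶ M :=
  ModuleCat.ofHom (Submodule.liftQ J (LinearMap.toSpanSingleton A M m) (by
    intro a ha
    rw [LinearMap.mem_ker, LinearMap.toSpanSingleton_apply]
    exact hM a ha m))

lemma toKilled_one (J : Ideal A) (M : ModuleCat.{u} A) (hM : Killed J M) (m : M) :
    (toKilled J M hM m).hom (1 : A ⧸ J) = m := by
  change Submodule.liftQ J (LinearMap.toSpanSingleton A M m) _ (Submodule.Quotient.mk (1 : A)) = m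
  rw [Submodule.liftQ_apply, LinearMap.toSpanSingleton_apply, one_smul]

lemma hom_ext_quot {J : Ideal A} {M : ModuleCat.{u} A} (f g : ModuleCat.of A (A ⧸ J) ⟶ M)
    (h : f.hom (1 : A ⧸ J) = g.hom (1 : A ⧸ J)) :
    f = g := by
  apply ModuleCat.hom_ext
  apply LinearMap.ext
  intro b
  obtain ⟨b, rfl⟩ := Submodule.mkQ_surjective _ b
  have : Submodule.mkQ J b = b • (1 : A ⧸ J) := by
    change Submodule.Quotient.mk b = b • Submodule.Quotient.mk (1 : A)
    rw [← Submodule.Quotient.mk_smul, smul_eq_mul, mul_one]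
  rw [this, map_smul, map_smul, h]

lemma toKilled_add (J : Ideal A) (M : ModuleCat.{u} A) (hM : Killed J M) (m m' : M) :
    toKilled J M hM (m + m') = toKilled J M hM m + toKilled J M hM m' := by
  apply hom_ext_quot
  rw [ModuleCat.hom_add, LinearMap.add_apply, toKilled_one, toKilled_one, toKilled_one]

lemma toKilled_smul (J : Ideal A) (M : ModuleCat.{u} A) (hM : Killed J M) (a : A) (m : M) :
    toKilled J M hM (a • m) = a • toKilled J M hM m := by
  apply hom_ext_quot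
  rw [ModuleCat.hom_smul, LinearMap.smul_apply, toKilled_one, toKilled_one]

lemma toKilled_zero (J : Ideal A) (M : ModuleCat.{u} A) (hM : Killed J M) :
    toKilled J M hM 0 = 0 := by
  apply hom_ext_quot
  rw [toKilled_one, ModuleCat.hom_zero, LinearMap.zero_apply]

lemma toKilled_comp (J : Ideal A) (M M' : ModuleCat.{u} A) (hM : Killed J M)
    (hM' : Killed J M') (ψ : M ⟶ M') (m : M) :
    toKilled J M hM m ≫ ψ = toKilled J M' hM' (ψ.hom m) := by
  apply hom_ext_quot
  rw [ModuleCat.hom_comp, LinearMap.comp_apply, toKilled_one, toKilled_one]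

/-- A natural family of isomorphisms `Ext^i(A/J, M) ≃ M^ι` on modules killed by `J`. -/
structure NatFam (J : Ideal A) (i : ℕ) (ι : Type) where
  θ : ∀ (M : ModuleCat.{u} A), Killed J M →
    (Ext (ModuleCat.of A (A ⧸ J)) M i ≃ₗ[A] (ι → M))
  nat : ∀ (M M' : ModuleCat.{u} A) (hM : Killed J M) (hM' : Killed J M') (ψ : M ⟶ M')
    (z : Ext (ModuleCat.of A (A ⧸ J)) M i) (k : ι),
    θ M' hM' (z.comp (Ext.mk₀ ψ) (add_zero i)) k = ψ.hom (θ M hM z k)

/-- evaluation at `1`, for modules killed by `J` -/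
noncomputable def evalOne (J : Ideal A) (M : ModuleCat.{u} A) (hM : Killed J M) :
    (ModuleCat.of A (A ⧸ J) ⟶ M) ≃ₗ[A] M where
  toFun f := f.hom (1 : A ⧸ J)
  map_add' f g := by rw [ModuleCat.hom_add, LinearMap.add_apply]
  map_smul' a f := by rw [ModuleCat.hom_smul, LinearMap.smul_apply]; rfl
  invFun m := toKilled J M hM m
  left_inv f := by
    apply hom_ext_quot
    rw [toKilled_one]
  right_inv m := toKilled_one J M hM m

/-- degree `0`. -/
noncomputable def natFamZero (J : Ideal A) : NatFam J 0 Unit where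
  θ M hM := Ext.linearEquiv₀ ≪≫ₗ evalOne J M hM ≪≫ₗ (LinearEquiv.funUnique Unit A M).symm
  nat M M' hM hM' ψ z k := by
    obtain ⟨f, rfl⟩ : ∃ f, z = Ext.mk₀ f := ⟨_, (Ext.mk₀_linearEquiv₀_apply (R := A) z).symm⟩
    rw [Ext.mk₀_comp_mk₀]
    have h1 : ∀ (N : ModuleCat.{u} A) (g : ModuleCat.of A (A ⧸ J) ⟶ N),
        Ext.linearEquiv₀ (R := A) (Ext.mk₀ g) = g := by
      intro N g
      rw [← Ext.linearEquiv₀_symm_apply (R := A), LinearEquiv.apply_symm_apply]
    simp [h1, evalOne]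

/-- vanishing case -/
noncomputable def natFamOfSubsingleton (J : Ideal A) (i : ℕ)
    (h : ∀ M : ModuleCat.{u} A, Subsingleton (Ext (ModuleCat.of A (A ⧸ J)) M i)) :
    NatFam J i Empty where
  θ M _ :=
    haveI := h M
    { toFun := fun _ => 0
      map_add' := by intros; simp
      map_smul' := by intros; simp
      invFun := fun _ => 0
      left_inv := fun _ => Subsingleton.elim _ _
      right_inv := fun _ => Subsingleton.elim _ _ }
  nat M M' hM hM' ψ z k := k.elim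

/-- reindexing -/
noncomputable def NatFam.reindex {J : Ideal A} {i : ℕ} {ι ι' : Type} (F : NatFam J i ι)
    (e : ι ≃ ι') : NatFam J i ι' where
  θ M hM := F.θ M hM ≪≫ₗ LinearEquiv.funCongrLeft A M e.symm
  nat M M' hM hM' ψ z k := by
    simp [LinearEquiv.funCongrLeft, F.nat M M' hM hM' ψ z]


lemma smul_ext_eq_zero {X M : ModuleCat.{u} A} (x : A) (hx : ∀ m : M, x • m = 0) {k : ℕ}
    (z : Ext X M k) : x • z = 0 := by
  rw [Ext.smul_eq_comp_mk₀]
  have : x • 𝟙 M = 0 := by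
    apply ModuleCat.hom_ext
    apply LinearMap.ext
    intro m
    exact hx m
  rw [this, Ext.mk₀_zero, Ext.comp_zero]

section step

variable (I : Ideal A) (x : A) (i : ℕ) {ιa ιb : Type} [Fintype ιb]

/-- the section -/
noncomputable def sec (J : Ideal A) {X : ModuleCat.{u} A} {k : ℕ}
    (e : ιb → Ext X (ModuleCat.of A (A ⧸ J)) k) (M : ModuleCat.{u} A) (hM : Killed J M) :
    (ιb → M) →ₗ[A] Ext X M k where
  toFun v := ∑ j, (e j).comp (Ext.mk₀ (toKilled J M hM (v j))) (add_zero k)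
  map_add' v v' := by
    simp only [Pi.add_apply, toKilled_add, Ext.mk₀_add, Ext.comp_add, Finset.sum_add_distrib]
  map_smul' a v := by
    simp only [Pi.smul_apply, toKilled_smul, Ext.mk₀_smul, Ext.comp_smul, Finset.smul_sum,
      RingHom.id_apply]

lemma sec_comp (J : Ideal A) {X : ModuleCat.{u} A} {k : ℕ}
    (e : ιb → Ext X (ModuleCat.of A (A ⧸ J)) k) (M M' : ModuleCat.{u} A) (hM : Killed J M)
    (hM' : Killed J M') (ψ : M ⟶ M') (v : ιb → M) :
    (sec J e M hM v).comp (Ext.mk₀ ψ) (add_zero k) = sec J e M' hM' (fun j => ψ.hom (v j)) := by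
  have h := map_sum ((Ext.mk₀ ψ).postcompOfLinear A X (add_zero k))
    (fun j => (e j).comp (Ext.mk₀ (toKilled J M hM (v j))) (add_zero k)) Finset.univ
  simp only [Ext.postcompOfLinear, LinearMap.flip_apply, Ext.bilinearCompOfLinear_apply_apply]
    at h
  change (∑ j, (e j).comp (Ext.mk₀ (toKilled J M hM (v j))) (add_zero k)).comp _ _ = _
  rw [h]
  change _ = ∑ j, (e j).comp (Ext.mk₀ (toKilled J M' hM' (ψ.hom (v j)))) (add_zero k)
  apply Finset.sum_congr rfl
  intro j _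
  rw [Ext.comp_assoc_of_third_deg_zero, Ext.mk₀_comp_mk₀, toKilled_comp J M M' hM hM']

lemma precomp_sec (J : Ideal A) {X Y : ModuleCat.{u} A} {k : ℕ} (g : Y ⟶ X)
    (e : ιb → Ext X (ModuleCat.of A (A ⧸ J)) k) (M : ModuleCat.{u} A) (hM : Killed J M)
    (v : ιb → M) :
    (Ext.mk₀ g).comp (sec J e M hM v) (zero_add k) =
      sec J (fun j => (Ext.mk₀ g).comp (e j) (zero_add k)) M hM v := by
  have h := map_sum ((Ext.mk₀ g).precompOfLinear A M (zero_add k))
    (fun j => (e j).comp (Ext.mk₀ (toKilled J M hM (v j))) (add_zero k)) Finset.univ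
  simp only [Ext.precompOfLinear, Ext.bilinearCompOfLinear_apply_apply] at h
  change (Ext.mk₀ g).comp (∑ j, (e j).comp (Ext.mk₀ (toKilled J M hM (v j))) (add_zero k)) _ = _
  rw [h]
  change _ = ∑ j, ((Ext.mk₀ g).comp (e j) (zero_add k)).comp
    (Ext.mk₀ (toKilled J M hM (v j))) (add_zero k)
  apply Finset.sum_congr rfl
  intro j _
  rw [Ext.comp_assoc_of_third_deg_zero]

end step


theorem step (I : Ideal A) (x : A) (hx : IsSMulRegular (A ⧸ I) x) (i : ℕ) {ιa ιb : Type}
    [Fintype ιb] (Fa : NatFam I i ιa) (Fb : NatFam I (i + 1) ιb) :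
    Nonempty (NatFam (I ⊔ Ideal.span {x}) (i + 1) (ιa ⊕ ιb)) := by
  classical
  obtain ⟨w, hS⟩ := ExtReg.shortExact_quot I x hx
  have hIJ : I ≤ I ⊔ Ideal.span {x} := le_sup_left
  have hxJ : x ∈ I ⊔ Ideal.span {x} :=
    Submodule.mem_sup_right (Ideal.mem_span_singleton_self x)
  -- linear maps of the long exact sequence
  let δL : ∀ M : ModuleCat.{u} A, Ext (ModuleCat.of A (A ⧸ I)) M i →ₗ[A]
      Ext (ModuleCat.of A (A ⧸ (I ⊔ Ideal.span {x}))) M (i + 1) :=
    fun M => hS.extClass.precompOfLinear A M (add_comm 1 i)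
  let πL : ∀ M : ModuleCat.{u} A, Ext (ModuleCat.of A (A ⧸ (I ⊔ Ideal.span {x}))) M (i + 1) →ₗ[A]
      Ext (ModuleCat.of A (A ⧸ I)) M (i + 1) :=
    fun M => (Ext.mk₀ (ModuleCat.ofHom
      (Submodule.mapQ I (I ⊔ Ideal.span {x}) LinearMap.id le_sup_left))).precompOfLinear A M
        (zero_add (i + 1))
  have hδ_inj : ∀ (M : ModuleCat.{u} A) (_ : Killed (I ⊔ Ideal.span {x}) M)
      (z : Ext (ModuleCat.of A (A ⧸ I)) M i), δL M z = 0 → z = 0 := by
    intro M hM z hz
    obtain ⟨z₂, hz₂⟩ := Ext.contravariant_sequence_exact₁ hS M z (add_comm 1 i) hz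
    have hz₂' : (Ext.mk₀ (x • 𝟙 (ModuleCat.of A (A ⧸ I)))).comp z₂ (zero_add i) = z := hz₂
    rw [ExtReg.mk₀_smul_id_comp, smul_ext_eq_zero x (fun m => hM x hxJ m)] at hz₂'
    exact hz₂'.symm
  have hπ_surj : ∀ (M : ModuleCat.{u} A) (_ : Killed (I ⊔ Ideal.span {x}) M)
      (y : Ext (ModuleCat.of A (A ⧸ I)) M (i + 1)), ∃ w', πL M w' = y := by
    intro M hM y
    refine Ext.contravariant_sequence_exact₂ hS M y ?_
    change (Ext.mk₀ (x • 𝟙 (ModuleCat.of A (A ⧸ I)))).comp y (zero_add (i + 1)) = 0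
    rw [ExtReg.mk₀_smul_id_comp, smul_ext_eq_zero x (fun m => hM x hxJ m)]
  have hker : ∀ (M : ModuleCat.{u} A)
      (w' : Ext (ModuleCat.of A (A ⧸ (I ⊔ Ideal.span {x}))) M (i + 1)),
      πL M w' = 0 → ∃ z, δL M z = w' := by
    intro M w' hw'
    exact Ext.contravariant_sequence_exact₃ hS M w' hw' (add_comm 1 i)
  have hzero : ∀ (M : ModuleCat.{u} A) (z : Ext (ModuleCat.of A (A ⧸ I)) M i),
      πL M (δL M z) = 0 := by
    intro M z
    exact hS.comp_extClass_assoc z (add_comm 1 i)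
  -- the classes `e j`
  have hB : Killed (I ⊔ Ideal.span {x}) (ModuleCat.of A (A ⧸ (I ⊔ Ideal.span {x}))) :=
    killed_self _
  choose e he using fun j : ιb => hπ_surj _ hB
    ((Fb.θ _ (hB.mono hIJ)).symm (Pi.single j (1 : A ⧸ (I ⊔ Ideal.span {x}))))
  -- key computation
  have K1 : ∀ (M : ModuleCat.{u} A) (hM : Killed (I ⊔ Ideal.span {x}) M) (v : ιb → M),
      Fb.θ M (hM.mono hIJ) (πL M (sec _ e M hM v)) = v := by
    intro M hM v
    have h1 : πL M (sec _ e M hM v) = sec _ (fun j => πL _ (e j)) M hM v :=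
      precomp_sec _ _ e M hM v
    rw [h1]
    change Fb.θ M (hM.mono hIJ) (∑ j, (πL _ (e j)).comp
      (Ext.mk₀ (toKilled _ M hM (v j))) (add_zero (i + 1))) = v
    rw [map_sum]
    funext k
    rw [Finset.sum_apply]
    rw [Finset.sum_eq_single k]
    · rw [he k, Fb.nat _ M (hB.mono hIJ) (hM.mono hIJ), LinearEquiv.apply_symm_apply,
        Pi.single_eq_same, toKilled_one]
    · intro j _ hjk
      rw [he j, Fb.nat _ M (hB.mono hIJ) (hM.mono hIJ), LinearEquiv.apply_symm_apply,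
        Pi.single_eq_of_ne (Ne.symm hjk), map_zero]
    · intro h; exact (h (Finset.mem_univ k)).elim
  -- the comparison map
  let Θ : ∀ (M : ModuleCat.{u} A) (hM : Killed (I ⊔ Ideal.span {x}) M),
      ((ιa ⊕ ιb) → M) →ₗ[A] Ext (ModuleCat.of A (A ⧸ (I ⊔ Ideal.span {x}))) M (i + 1) :=
    fun M hM => (δL M) ∘ₗ (Fa.θ M (hM.mono hIJ)).symm.toLinearMap ∘ₗ
        LinearMap.funLeft A M Sum.inl + (sec _ e M hM) ∘ₗ LinearMap.funLeft A M Sum.inr
  have hΘ : ∀ (M : ModuleCat.{u} A) (hM : Killed (I ⊔ Ideal.span {x}) M) (f : (ιa ⊕ ιb) → M),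
      Θ M hM f = δL M ((Fa.θ M (hM.mono hIJ)).symm (f ∘ Sum.inl)) +
        sec _ e M hM (f ∘ Sum.inr) := fun M hM f => rfl
  have hΘπ : ∀ (M : ModuleCat.{u} A) (hM : Killed (I ⊔ Ideal.span {x}) M)
      (f : (ιa ⊕ ιb) → M), Fb.θ M (hM.mono hIJ) (πL M (Θ M hM f)) = f ∘ Sum.inr := by
    intro M hM f
    rw [hΘ, map_add, hzero, zero_add, K1]
  have hΘ_bij : ∀ (M : ModuleCat.{u} A) (hM : Killed (I ⊔ Ideal.span {x}) M),
      Function.Bijective (Θ M hM) := by
    intro M hM
    constructor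
    · rw [injective_iff_map_eq_zero]
      intro f hf
      have h2 : f ∘ Sum.inr = 0 := by
        rw [← hΘπ M hM f, hf, map_zero, map_zero]
      have h3 : f ∘ Sum.inl = 0 := by
        rw [hΘ, h2, map_zero, add_zero] at hf
        have := hδ_inj M hM _ hf
        exact (LinearEquiv.map_eq_zero_iff _).mp this
      funext k
      rcases k with k | k
      · exact congrFun h3 k
      · exact congrFun h2 k
    · intro w'
      set v := Fb.θ M (hM.mono hIJ) (πL M w') with hv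
      have h4 : πL M (w' - sec _ e M hM v) = 0 := by
        apply (Fb.θ M (hM.mono hIJ)).injective
        rw [map_sub, map_sub, K1, map_zero, sub_self]
      obtain ⟨z, hz⟩ := hker M _ h4
      refine ⟨Sum.elim (Fa.θ M (hM.mono hIJ) z) v, ?_⟩
      rw [hΘ]
      have h5 : (Sum.elim (Fa.θ M (hM.mono hIJ) z) v) ∘ Sum.inl = Fa.θ M (hM.mono hIJ) z := rfl
      have h6 : (Sum.elim (Fa.θ M (hM.mono hIJ) z) v) ∘ Sum.inr = v := rfl
      rw [h5, h6, LinearEquiv.symm_apply_apply, hz, sub_add_cancel]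
  -- naturality of Θ
  have hΘ_nat : ∀ (M M' : ModuleCat.{u} A) (hM : Killed (I ⊔ Ideal.span {x}) M)
      (hM' : Killed (I ⊔ Ideal.span {x}) M') (ψ : M ⟶ M') (f : (ιa ⊕ ιb) → M),
      (Θ M hM f).comp (Ext.mk₀ ψ) (add_zero (i + 1)) = Θ M' hM' (fun k => ψ.hom (f k)) := by
    intro M M' hM hM' ψ f
    rw [hΘ, hΘ, Ext.add_comp, sec_comp _ e M M' hM hM' ψ]
    congr 1
    change (hS.extClass.comp _ (add_comm 1 i)).comp _ _ = hS.extClass.comp _ (add_comm 1 i)
    rw [Ext.comp_assoc_of_third_deg_zero]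
    congr 1
    apply (Fa.θ M' (hM'.mono hIJ)).injective
    funext k
    rw [Fa.nat M M' (hM.mono hIJ) (hM'.mono hIJ), LinearEquiv.apply_symm_apply,
      LinearEquiv.apply_symm_apply]
    rfl
  refine ⟨{ θ := fun M hM => (LinearEquiv.ofBijective (Θ M hM) (hΘ_bij M hM)).symm
            nat := ?_ }⟩
  intro M M' hM hM' ψ z k
  obtain ⟨f, rfl⟩ := (hΘ_bij M hM).2 z
  rw [hΘ_nat M M' hM hM' ψ f]
  have h7 : ∀ (M : ModuleCat.{u} A) (hM : Killed (I ⊔ Ideal.span {x}) M) (f : (ιa ⊕ ιb) → M),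
      (LinearEquiv.ofBijective (Θ M hM) (hΘ_bij M hM)).symm (Θ M hM f) = f := by
    intro M hM f
    exact (LinearEquiv.ofBijective (Θ M hM) (hΘ_bij M hM)).symm_apply_apply f
  rw [h7, h7]


open RingTheory.Sequence in
theorem main (xs : List A) (hreg : IsWeaklyRegular A xs) (i : ℕ) :
    ∃ (ι : Type) (_ : Fintype ι), Fintype.card ι = xs.length.choose i ∧
      Nonempty (NatFam (Ideal.ofList xs) i ι) := by
  induction xs using List.reverseRecOn generalizing i with
  | nil =>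
    rcases i with _ | i
    · exact ⟨Unit, inferInstance, by simp, ⟨natFamZero _⟩⟩
    · refine ⟨Empty, inferInstance, by simp, ⟨natFamOfSubsingleton _ _ ?_⟩⟩
      intro M
      have e0 : (A ⧸ Ideal.ofList ([] : List A)) ≃ₗ[A] A :=
        Submodule.quotEquivOfEqBot _ (by simp)
      have hproj : Projective (ModuleCat.of A (A ⧸ Ideal.ofList ([] : List A))) :=
        Projective.of_iso e0.toModuleIso.symm
          (inferInstanceAs (Projective (ModuleCat.of A A)))
      exact ⟨fun a b => by rw [Ext.eq_zero_of_projective a, Ext.eq_zero_of_projective b]⟩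
  | append_singleton xs x ih =>
    rcases i with _ | i
    · exact ⟨Unit, inferInstance, by simp, ⟨natFamZero _⟩⟩
    · have hx := ExtReg.isSMulRegular_quot_of_append xs x hreg
      have hreg₁ : IsWeaklyRegular A xs := ((isWeaklyRegular_append_iff _ _ _).mp hreg).1
      obtain ⟨ιa, _, ha, ⟨Fa⟩⟩ := ih hreg₁ i
      obtain ⟨ιb, _, hb, ⟨Fb⟩⟩ := ih hreg₁ (i + 1)
      have hI : Ideal.ofList (xs ++ [x]) = Ideal.ofList xs ⊔ Ideal.span {x} := by
        rw [Ideal.ofList_append, Ideal.ofList_singleton]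
      have hl : (xs ++ [x]).length = xs.length + 1 := by simp
      rw [hI, hl]
      refine ⟨ιa ⊕ ιb, inferInstance, ?_, step _ x hx i Fa Fb⟩
      rw [Fintype.card_sum, ha, hb, Nat.choose_succ_succ]

open RingTheory.Sequence in
theorem main' (xs : List A) (hreg : IsWeaklyRegular A xs) (M : ModuleCat.{u} A)
    (hM : Ideal.ofList xs • (⊤ : Submodule A M) = ⊥) (i : ℕ) :
    Nonempty (Ext (ModuleCat.of A (A ⧸ Ideal.ofList xs)) M i ≃ₗ[A]
      (Fin (xs.length.choose i) → M)) := by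
  obtain ⟨ι, _, hc, ⟨F⟩⟩ := main xs hreg i
  exact ⟨F.θ M (killed_of_smul_top_eq_bot _ M hM) ≪≫ₗ
    LinearEquiv.funCongrLeft A M (Fintype.equivFinOfCardEq hc).symm⟩

end Groth.Agent.H21.ExtKilled
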