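import Mathlib
import Groth.Prelude.Def_ega3
import Groth.Agent.Lib.helper21.Kos5

/-!
# Koszul complexes: bottom cohomology and the long exact sequence for a regular element of the ideal
-/

set_option autoImplicit false

namespace Groth.Agent.H21.Kos

open CategoryTheory CategoryTheory.Limits CochainComplex HomComplex HomologicalComplex

universe v u

variable {A : Type u} [CommRing A]

open scoped Pointwise

/-- The submodule of elements killed by every element of the list. -/
def annSub (xs : List A) (M : Type u) [AddCommGroup M] [Module A M] : Submodule A M where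
  carrier := {m | ∀ x ∈ xs, x • m = 0}
  add_mem' := fun {a b} ha hb x hx => by rw [smul_add, ha x hx, hb x hx, add_zero]
  zero_mem' := fun x _ => smul_zero x
  smul_mem' := fun c m hm x hx => by rw [smul_comm, hm x hx, smul_zero]

lemma mem_annSub {xs : List A} {M : Type u} [AddCommGroup M] [Module A M] {m : M} :
    m ∈ annSub xs M ↔ ∀ x ∈ xs, x • m = 0 := Iff.rfl

noncomputable def torsionByCongr {X Y : Type u} [AddCommGroup X] [Module A X] [AddCommGroup Y]
    [Module A Y] (e : X ≃ₗ[A] Y) (f : A) :
    Submodule.torsionBy A X f ≃ₗ[A] Submodule.torsionBy A Y f :=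
  LinearEquiv.ofSubmodules e _ _ (by
    ext y
    simp only [Submodule.mem_map, Submodule.mem_torsionBy_iff]
    constructor
    · rintro ⟨x, hx, rfl⟩
      rw [← map_smul, hx, map_zero]
    · intro hy
      exact ⟨e.symm y, by rw [← map_smul, hy, map_zero], by simp⟩)

noncomputable def torsionByAnnSub (f : A) (fs : List A) (M : Type u) [AddCommGroup M]
    [Module A M] :
    Submodule.torsionBy A (annSub fs M) f ≃ₗ[A] annSub (f :: fs) M :=
  LinearEquiv.ofBijective
    (LinearMap.codRestrict (annSub (f :: fs) M)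
      ((annSub fs M).subtype ∘ₗ (Submodule.torsionBy A (annSub fs M) f).subtype)
      (by
        rintro ⟨⟨m, hm⟩, h⟩ x hx
        rw [Submodule.mem_torsionBy_iff] at h
        rcases List.mem_cons.1 hx with rfl | hx
        · exact congr(($h).1)
        · exact hm x hx))
    ⟨by
      rintro ⟨⟨m, hm⟩, h⟩ ⟨⟨m', hm'⟩, h'⟩ heq
      have : m = m' := congr(($heq).1)
      subst this
      rfl,
    by
      rintro ⟨m, hm⟩
      refine ⟨⟨⟨m, fun x hx => hm x (List.mem_cons_of_mem _ hx)⟩, ?_⟩, rfl⟩
      rw [Submodule.mem_torsionBy_iff]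
      exact Subtype.ext (hm f List.mem_cons_self)⟩

/-- Bottom Koszul cohomology: `H^{-r}(K(xs; M)) ≃ {m | xs m = 0}`. -/
theorem bottom_equiv (M : Type u) [AddCommGroup M] [Module A M] (xs : List A) :
    Nonempty ((CohIII.koszulCx (ModuleCat.of A M) xs).homology (-(xs.length : ℤ)) ≃ₗ[A]
      annSub xs M) := by
  induction xs with
  | nil =>
    have h0 : -((([] : List A).length : ℕ) : ℤ) = 0 := by simp
    rw [h0]
    refine ⟨(HomologicalComplex.singleObjHomologySelfIso (ComplexShape.up ℤ) 0
      (ModuleCat.of A M)).toLinearEquiv ≪≫ₗ ?_⟩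
    exact (LinearEquiv.ofTop _ (by ext m; simp [mem_annSub])).symm
  | cons f fs ih =>
    obtain ⟨e⟩ := ih
    obtain ⟨e'⟩ := cone_homology_of_isZero (CohIII.koszulCx (ModuleCat.of A M) fs) f
      (-(((f :: fs).length : ℕ) : ℤ)) (-(fs.length : ℤ))
      (by simp only [List.length_cons, Nat.cast_add, Nat.cast_one]; ring)
      (isZero_homology_of_lt _ _ _ (by simp))
    exact ⟨e' ≪≫ₗ torsionByCongr e f ≪≫ₗ torsionByAnnSub f fs M⟩

theorem les_regular_mem (M : Type u) [AddCommGroup M] [Module A M] (xs : List A) (a : A)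
    (ha : a ∈ Ideal.span {x | x ∈ xs}) (hreg : IsSMulRegular M a) (i j : ℤ) (hij : i + 1 = j) :
    (IsZero ((CohIII.koszulCx (ModuleCat.of A (QuotSMulTop a M)) xs).homology i) →
        IsZero ((CohIII.koszulCx (ModuleCat.of A M) xs).homology j)) ∧
      (IsZero ((CohIII.koszulCx (ModuleCat.of A M) xs).homology i) →
        Nonempty ((CohIII.koszulCx (ModuleCat.of A (QuotSMulTop a M)) xs).homology i ≅
          (CohIII.koszulCx (ModuleCat.of A M) xs).homology j)) := by
  have h := degSES_regular M a xs hreg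
  have hS := h.shortExact
  have hzero : ∀ k : ℤ, homologyMap (a • 𝟙 (CohIII.koszulCx (ModuleCat.of A M) xs)) k = 0 := by
    intro k
    obtain ⟨H⟩ := nullHomotopic_of_mem_span (ModuleCat.of A M) xs a ha
    rw [H.homologyMap_eq k, homologyMap_zero]
  have e₁ := hS.homology_exact₁ i j hij
  have e₂ := hS.homology_exact₂ i
  have e₃ := hS.homology_exact₃ i j hij
  have hepi : Epi (hS.δ i j hij) := e₁.epi_f_iff.2 (hzero j)
  constructor
  · intro hz
    exact IsZero.of_epi (hS.δ i j hij) hz
  · intro hz
    have hmono : Mono (hS.δ i j hij) := e₃.mono_g_iff.2 (hz.eq_of_src _ _)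
    have := isIso_of_mono_of_epi (hS.δ i j hij)
    exact ⟨asIso (hS.δ i j hij)⟩

end Groth.Agent.H21.Kos
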