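import Mathlib
import Groth.Prelude.Def_ega3
import Groth.Prelude.Def_CAlg
import Groth.Agent.Lib.helper21.Kos6
import Groth.Agent.Lib.helper9.Depth4

set_option autoImplicit false

namespace Groth.Agent.H21.Kos

open CategoryTheory CategoryTheory.Limits CochainComplex HomComplex HomologicalComplex
open Groth.Agent.Lib.helper9.Depth LocCoh

universe v u

variable {R : Type u} [CommRing R] [IsNoetherianRing R] [IsLocalRing R]

lemma span_smul_top_ne_top (xs : List R) (hxs : ∀ x ∈ xs, x ∈ IsLocalRing.maximalIdeal R)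
    (M : Type u) [AddCommGroup M] [Module R M] [Module.Finite R M] [Nontrivial M] :
    Ideal.span {x | x ∈ xs} • (⊤ : Submodule R M) ≠ ⊤ := by
  intro h
  apply maximalIdeal_smul_top_ne_top (R := R) M
  have h1 : Ideal.span {x | x ∈ xs} • (⊤ : Submodule R M) ≤
      IsLocalRing.maximalIdeal R • (⊤ : Submodule R M) :=
    Submodule.smul_mono_left (Ideal.span_le.2 hxs)
  exact eq_top_iff.2 (h.symm.le.trans h1)

lemma exists_ne_zero_annSub (xs : List R) (M : Type u) [AddCommGroup M] [Module R M]
    [Module.Finite R M] [Nontrivial M]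
    (h0 : idealDepth (Ideal.span {x | x ∈ xs}) M = 0) :
    ∃ m : M, m ≠ 0 ∧ m ∈ annSub xs M := by
  have hno : ∀ x ∈ Ideal.span {x | x ∈ xs}, ¬ IsSMulRegular M x := by
    intro x hx hreg
    have := length_le_idealDepth (I := Ideal.span {x | x ∈ xs}) (M := M) (rs := [x])
      ((RingTheory.Sequence.isWeaklyRegular_singleton_iff M x).mpr hreg) (by simpa using hx)
    rw [h0] at this
    simp at this
  have hexist : ∃ p ∈ associatedPrimes R M, Ideal.span {x | x ∈ xs} ≤ p := by
    rcases associatedPrimes.nonempty R M with ⟨Ia, hIa⟩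
    apply (Ideal.subset_union_prime_finite (associatedPrimes.finite R M) Ia Ia _).mp
    · rw [biUnion_associatedPrimes_eq_compl_regular R M]
      exact fun r hr ↦ hno r hr
    · exact fun I hin _ _ ↦ IsAssociatedPrime.isPrime hin
  obtain ⟨p, hp, hle⟩ := hexist
  obtain ⟨hprime, m, hm⟩ := isAssociatedPrime_iff.1 hp
  refine ⟨m, ?_, ?_⟩
  · rintro rfl
    apply hprime.ne_top
    rw [hm, eq_top_iff]
    intro r _
    rw [Submodule.mem_colon_singleton]
    simp
  · intro x hx
    have : x ∈ p := hle (Ideal.subset_span hx)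
    rw [hm, Submodule.mem_colon_singleton] at this
    simpa using this

theorem depth_sensitivity (xs : List R) (hxs : ∀ x ∈ xs, x ∈ IsLocalRing.maximalIdeal R) :
    ∀ (r : ℕ) (M : Type u) [AddCommGroup M] [Module R M] [Module.Finite R M] [Nontrivial M],
      idealDepth (Ideal.span {x | x ∈ xs}) M = r →
      (∀ j : ℤ, j < r →
        IsZero ((CohIII.koszulCx (ModuleCat.of R M) xs).homology (j - xs.length))) ∧
      ¬ IsZero ((CohIII.koszulCx (ModuleCat.of R M) xs).homology ((r : ℤ) - xs.length)) := by
  intro r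
  induction r with
  | zero =>
    intro M _ _ _ _ h0
    constructor
    · intro j hj
      exact isZero_homology_of_lt _ _ _ (by push_cast at hj; omega)
    · obtain ⟨m, hm0, hm⟩ := exists_ne_zero_annSub xs M (by simpa using h0)
      obtain ⟨e⟩ := bottom_equiv M xs
      have h1 : ((0 : ℕ) : ℤ) - (xs.length : ℤ) = -(xs.length : ℤ) := by simp
      rw [h1]
      intro hz
      have := ModuleCat.subsingleton_of_isZero hz
      apply hm0
      have h2 : e.symm ⟨m, hm⟩ = e.symm 0 := Subsingleton.elim _ _
      have h3 := e.symm.injective h2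
      exact congr(($h3).1)
  | succ r ih =>
    intro M _ _ _ _ hr
    have hIM := span_smul_top_ne_top xs hxs M
    have h1 : ((1 : ℕ) : ℕ∞) ≤ idealDepth (Ideal.span {x | x ∈ xs}) M := by
      rw [hr]
      exact_mod_cast Nat.succ_le_succ (Nat.zero_le r)
    obtain ⟨rs, hlen, hreg, hmem⟩ := (le_idealDepth_iff hIM 1).1 h1
    match rs, hlen with
    | [a], _ =>
      have ha : a ∈ Ideal.span {x | x ∈ xs} := hmem a (List.mem_singleton_self a)
      have hareg : IsSMulRegular M a := (RingTheory.Sequence.isWeaklyRegular_singleton_iff M a).1 hreg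
      haveI : Nontrivial (QuotSMulTop a M) := by
        by_contra h
        rw [not_nontrivial_iff_subsingleton] at h
        exact smul_top_quotSMulTop_ne_top ha hIM (Subsingleton.elim _ _)
      have hQ : idealDepth (Ideal.span {x | x ∈ xs}) (QuotSMulTop a M) = r := by
        have h2 := idealDepth_quotSMulTop_add_one hIM ha hareg
        rw [hr] at h2
        have h3 : ((r + 1 : ℕ) : ℕ∞) = (r : ℕ∞) + 1 := by push_cast; rfl
        rw [h3] at h2
        exact (ENat.add_left_injective_of_ne_top ENat.one_ne_top) h2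
      obtain ⟨ihz, ihnz⟩ := ih (QuotSMulTop a M) hQ
      have key := les_regular_mem M xs a ha hareg
      have hz : ∀ j : ℤ, j < ((r + 1 : ℕ) : ℤ) →
          IsZero ((CohIII.koszulCx (ModuleCat.of R M) xs).homology (j - xs.length)) := by
        intro j hj
        have h4 := ihz (j - 1) (by push_cast at hj ⊢; omega)
        exact (key (j - 1 - xs.length) (j - xs.length) (by ring)).1 h4
      refine ⟨hz, ?_⟩
      intro hzero
      obtain ⟨e⟩ := (key ((r : ℤ) - xs.length) (((r + 1 : ℕ) : ℤ) - xs.length)
        (by push_cast; ring)).2 (hz r (by push_cast; omega))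
      exact ihnz (IsZero.of_iso hzero e)

end Groth.Agent.H21.Kos
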