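import Mathlib
import Groth.Agent.Lib.helper21.ExtKilled
import Groth.Agent.S5671

set_option autoImplicit false

namespace Groth.Agent.H21.ExtRep

open CategoryTheory Abelian
open Groth.Agent.H21.ExtKilled

universe u

variable {A : Type u} [CommRing A]

/-- support dimension of a finite module killed by `J`. -/
lemma supportDim_le_of_killed (J : Ideal A) (N : Type u) [AddCommGroup N] [Module A N]
    [Module.Finite A N] (hN : ∀ a ∈ J, ∀ n : N, a • n = 0) :
    Module.supportDim A N ≤ ringKrullDim (A ⧸ J) := by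
  rw [Module.supportDim_eq_ringKrullDim_quotient_annihilator]
  have hle : J ≤ Module.annihilator A N := by
    intro a ha
    rw [Module.mem_annihilator]
    exact hN a ha
  exact ringKrullDim_le_of_surjective (Ideal.Quotient.factor hle)
    (Ideal.Quotient.factor_surjective hle)

/-- precomposition with an epi is injective on `Ext^p` when `Ext^{p-1}` of the kernel vanishes. -/
lemma precomp_injective {S : ShortComplex (ModuleCat.{u} A)} (hS : S.ShortExact)
    (Y : ModuleCat.{u} A) (p : ℕ)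
    (hvan : ∀ i, i + 1 = p → ∀ z : Ext S.X₁ Y i, z = 0) (z : Ext S.X₃ Y p)
    (hz : (Ext.mk₀ S.g).comp z (zero_add p) = 0) : z = 0 := by
  rcases p with _ | p
  · obtain ⟨f, rfl⟩ : ∃ f, z = Ext.mk₀ f := ⟨_, (Ext.mk₀_linearEquiv₀_apply (R := A) z).symm⟩
    rw [Ext.mk₀_comp_mk₀] at hz
    have h1 : S.g ≫ f = 0 := by
      have := congrArg (Ext.linearEquiv₀ (R := A)) hz
      rw [map_zero, ← Ext.linearEquiv₀_symm_apply (R := A), LinearEquiv.apply_symm_apply] at this
      exact this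
    have : Epi S.g := hS.epi_g
    have h2 : f = 0 := by
      rw [← cancel_epi S.g, h1, Limits.comp_zero]
    rw [h2, Ext.mk₀_zero]
  · obtain ⟨x₁, rfl⟩ := Ext.contravariant_sequence_exact₃ hS Y z hz (add_comm 1 p)
    rw [hvan p rfl x₁, Ext.comp_zero]


section free

variable (J : Ideal A) (k : ℕ)

/-- the free `A/J`-module of rank `k`, as an `A`-module -/
abbrev Fr : ModuleCat.{u} A := ModuleCat.of A (Fin k → A ⧸ J)

lemma killed_Fr : Killed J (Fr J k) := by
  intro a ha f
  funext j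
  exact killed_self J a ha (f j)

/-- projections -/
noncomputable def pr (j : Fin k) : Fr J k ⟶ ModuleCat.of A (A ⧸ J) :=
  ModuleCat.ofHom (LinearMap.proj j)

/-- inclusions -/
noncomputable def sg (j : Fin k) : ModuleCat.of A (A ⧸ J) ⟶ Fr J k :=
  ModuleCat.ofHom (LinearMap.single A (fun _ => A ⧸ J) j)

lemma sum_pr_sg : ∑ j, pr J k j ≫ sg J k j = 𝟙 (Fr J k) := by
  apply ModuleCat.hom_ext
  apply LinearMap.ext
  intro f
  rw [ModuleCat.hom_sum, LinearMap.sum_apply]
  funext i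
  rw [Finset.sum_apply]
  simp [pr, sg, Pi.single_apply]

lemma mk₀_sum {X Y : ModuleCat.{u} A} {ι : Type*} (s : Finset ι) (f : ι → (X ⟶ Y)) :
    Ext.mk₀ (∑ j ∈ s, f j) = ∑ j ∈ s, Ext.mk₀ (f j) :=
  map_sum (Ext.linearEquiv₀ (R := A) (X := X) (Y := Y)).symm f s

lemma sum_comp {X Y Z : ModuleCat.{u} A} {a b c : ℕ} (h : a + b = c) {ι : Type*} (s : Finset ι)
    (α : ι → Ext X Y a) (β : Ext Y Z b) :
    (∑ j ∈ s, α j).comp β h = ∑ j ∈ s, (α j).comp β h :=
  map_sum (β.postcompOfLinear A X h) α s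

lemma comp_sum {X Y Z : ModuleCat.{u} A} {a b c : ℕ} (h : a + b = c) {ι : Type*} (s : Finset ι)
    (α : Ext X Y a) (β : ι → Ext Y Z b) :
    α.comp (∑ j ∈ s, β j) h = ∑ j ∈ s, α.comp (β j) h :=
  map_sum (α.precompOfLinear A Z h) β s

lemma free_unique (Y : ModuleCat.{u} A) (p : ℕ) (ξ : Ext (Fr J k) Y p)
    (h : ∀ j, (Ext.mk₀ (sg J k j)).comp ξ (zero_add p) = 0) : ξ = 0 := by
  have h1 : ξ = (Ext.mk₀ (𝟙 (Fr J k))).comp ξ (zero_add p) := by simp
  rw [h1, ← sum_pr_sg, mk₀_sum, sum_comp]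
  apply Finset.sum_eq_zero
  intro j _
  rw [← Ext.mk₀_comp_mk₀, Ext.comp_assoc_of_second_deg_zero, h j, Ext.comp_zero]

lemma free_exists (Y : ModuleCat.{u} A) (p : ℕ)
    (g : (ModuleCat.of A (A ⧸ J) ⟶ Fr J k) →ₗ[A] Ext (ModuleCat.of A (A ⧸ J)) Y p) :
    ∃ ξ : Ext (Fr J k) Y p, ∀ u : ModuleCat.of A (A ⧸ J) ⟶ Fr J k,
      (Ext.mk₀ u).comp ξ (zero_add p) = g u := by
  refine ⟨∑ j, (Ext.mk₀ (pr J k j)).comp (g (sg J k j)) (zero_add p), ?_⟩
  intro u
  have hsurj : ∀ j, ∃ a : A, Submodule.Quotient.mk a = u.hom (1 : A ⧸ J) j :=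
    fun j => Submodule.Quotient.mk_surjective _ _
  choose a ha using hsurj
  have h1 : ∀ j, u ≫ pr J k j = a j • 𝟙 (ModuleCat.of A (A ⧸ J)) := by
    intro j
    apply hom_ext_quot
    rw [ModuleCat.hom_comp, LinearMap.comp_apply, ModuleCat.hom_smul, LinearMap.smul_apply]
    change u.hom (1 : A ⧸ J) j = a j • (1 : A ⧸ J)
    rw [← ha j]
    change _ = a j • Submodule.Quotient.mk (1 : A)
    rw [← Submodule.Quotient.mk_smul, smul_eq_mul, mul_one]
  have h2 : u = ∑ j, a j • sg J k j := by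
    apply hom_ext_quot
    rw [ModuleCat.hom_sum, LinearMap.sum_apply]
    funext i
    rw [Finset.sum_apply]
    simp only [ModuleCat.hom_smul, LinearMap.smul_apply, Pi.smul_apply]
    rw [Finset.sum_eq_single i]
    · change _ = a i • (Pi.single i (1 : A ⧸ J) : Fin k → A ⧸ J) i
      rw [Pi.single_eq_same, ← ha i]
      change _ = a i • Submodule.Quotient.mk (1 : A)
      rw [← Submodule.Quotient.mk_smul, smul_eq_mul, mul_one]
    · intro j _ hji
      change a j • (Pi.single j (1 : A ⧸ J) : Fin k → A ⧸ J) i = 0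
      rw [Pi.single_eq_of_ne (Ne.symm hji), smul_zero]
    · intro h; exact (h (Finset.mem_univ i)).elim
  rw [comp_sum]
  conv_rhs => rw [h2, map_sum]
  apply Finset.sum_congr rfl
  intro j _
  rw [← Ext.comp_assoc_of_second_deg_zero, Ext.mk₀_comp_mk₀, h1 j, ExtReg.mk₀_smul_id_comp,
    map_smul]

end free


section pres

variable (J : Ideal A)

/-- a finite module killed by `J` is a quotient of a free `A/J`-module -/
lemma exists_pres (M : ModuleCat.{u} A) [Module.Finite A M] (hM : Killed J M) :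
    ∃ (k : ℕ) (q : Fr J k ⟶ M), Function.Surjective q.hom ∧
      ∀ f : Fin k → A ⧸ J, toKilled J (Fr J k) (killed_Fr J k) f ≫ q = toKilled J M hM (q.hom f) := by
  obtain ⟨k, s, hs⟩ := Module.Finite.exists_fin (R := A) (M := M)
  refine ⟨k, ∑ j, pr J k j ≫ toKilled J M hM (s j), ?_, ?_⟩
  · intro m
    have hm : m ∈ Submodule.span A (Set.range s) := by rw [hs]; exact Submodule.mem_top
    obtain ⟨c, rfl⟩ := (Submodule.mem_span_range_iff_exists_fun A).mp hm
    refine ⟨fun j => Submodule.Quotient.mk (c j), ?_⟩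
    rw [ModuleCat.hom_sum, LinearMap.sum_apply]
    apply Finset.sum_congr rfl
    intro j _
    rw [ModuleCat.hom_comp, LinearMap.comp_apply]
    change (toKilled J M hM (s j)).hom (Submodule.Quotient.mk (c j)) = _
    have : (Submodule.Quotient.mk (c j) : A ⧸ J) = c j • (1 : A ⧸ J) := by
      change _ = c j • Submodule.Quotient.mk (1 : A)
      rw [← Submodule.Quotient.mk_smul, smul_eq_mul, mul_one]
    rw [this, map_smul, toKilled_one]
  · intro f
    exact toKilled_comp J _ M (killed_Fr J k) hM _ f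

end pres


/-- the kernel short exact sequence of a surjection -/
lemma kerSES {F M : ModuleCat.{u} A} (q : F ⟶ M) (hq : Function.Surjective q.hom) :
    ∃ (w : ModuleCat.ofHom (LinearMap.ker q.hom).subtype ≫ q = 0),
      (ShortComplex.mk _ _ w).ShortExact := by
  have hex : Function.Exact (LinearMap.ker q.hom).subtype q.hom := by
    intro f
    constructor
    · intro hf
      exact ⟨⟨f, hf⟩, rfl⟩
    · rintro ⟨⟨f, hf⟩, rfl⟩
      exact hf
  have w : ModuleCat.ofHom (LinearMap.ker q.hom).subtype ≫ q = 0 := by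
    apply ModuleCat.hom_ext
    apply LinearMap.ext
    intro f
    exact f.2
  exact ⟨w, ModuleCat.shortComplex_shortExact _ hex (Submodule.injective_subtype _) hq⟩

section main

variable [IsRegularLocalRing A] (p : ℕ) (J : Ideal A)
  (hJ : ringKrullDim (A ⧸ J) + p ≤ ringKrullDim A)

include hJ

lemma vanish (N : ModuleCat.{u} A) [Module.Finite A N] (hN : Killed J N) (i : ℕ) (hi : i < p)
    (z : Ext N (ModuleCat.of A A) i) : z = 0 := by
  have hdim : Module.supportDim A N + p ≤ ringKrullDim A :=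
    le_trans (add_le_add_left (supportDim_le_of_killed J N hN) _) hJ
  have := Groth.Agent.S5671.result A N p hdim i hi
  exact Subsingleton.elim _ _

lemma inj_q (M : ModuleCat.{u} A) [Module.Finite A M] (k : ℕ) (q : Fr J k ⟶ M)
    (hq : Function.Surjective q.hom) (z : Ext M (ModuleCat.of A A) p)
    (hz : (Ext.mk₀ q).comp z (zero_add p) = 0) : z = 0 := by
  obtain ⟨w, hS⟩ := kerSES q hq
  refine precomp_injective hS _ p ?_ z hz
  intro i hi z'
  have hK : Killed J (ModuleCat.of A (LinearMap.ker q.hom)) := by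
    intro a ha f
    apply Subtype.ext
    exact killed_Fr J k a ha f.1
  exact vanish p J hJ (ModuleCat.of A (LinearMap.ker q.hom)) hK i (by omega) z'

lemma exact_q (M : ModuleCat.{u} A) [Module.Finite A M] (k : ℕ) (q : Fr J k ⟶ M)
    (hq : Function.Surjective q.hom) (ξ : Ext (Fr J k) (ModuleCat.of A A) p)
    (h : ∀ f : Fin k → A ⧸ J, q.hom f = 0 →
      (Ext.mk₀ (toKilled J (Fr J k) (killed_Fr J k) f)).comp ξ (zero_add p) = 0) :
    ∃ η : Ext M (ModuleCat.of A A) p, (Ext.mk₀ q).comp η (zero_add p) = ξ := by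
  obtain ⟨w, hS⟩ := kerSES q hq
  have hK : Killed J (ModuleCat.of A (LinearMap.ker q.hom)) := by
    intro a ha f
    apply Subtype.ext
    exact killed_Fr J k a ha f.1
  refine Ext.contravariant_sequence_exact₂ hS _ ξ ?_
  obtain ⟨k', q', hq', hq'2⟩ := exists_pres J (ModuleCat.of A (LinearMap.ker q.hom)) hK
  apply inj_q p J hJ _ k' q' hq'
  apply free_unique
  intro j
  rw [← Ext.comp_assoc_of_second_deg_zero, ← Ext.comp_assoc_of_second_deg_zero,
    Ext.mk₀_comp_mk₀, Ext.mk₀_comp_mk₀]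
  have h3 : (sg J k' j ≫ q') ≫ ModuleCat.ofHom (LinearMap.ker q.hom).subtype =
      toKilled J (Fr J k) (killed_Fr J k)
        ((q'.hom (Pi.single j (1 : A ⧸ J)) : LinearMap.ker q.hom) : Fin k → A ⧸ J) := by
    apply hom_ext_quot
    rw [toKilled_one]
    rfl
  rw [h3]
  exact h _ (q'.hom (Pi.single j (1 : A ⧸ J)) : LinearMap.ker q.hom).2


theorem main (M : ModuleCat.{u} A) [Module.Finite A M] (hM : Killed J M) :
    Function.Injective (fun ξ : Ext M (ModuleCat.of A A) p =>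
      fun u : (A ⧸ J) →ₗ[A] M => (Ext.mk₀ (ModuleCat.ofHom u)).comp ξ (zero_add p)) ∧
    ∀ g : ((A ⧸ J) →ₗ[A] M) →ₗ[A] Ext (ModuleCat.of A (A ⧸ J)) (ModuleCat.of A A) p,
      ∃ ξ : Ext M (ModuleCat.of A A) p, ∀ u : (A ⧸ J) →ₗ[A] M,
        g u = (Ext.mk₀ (ModuleCat.ofHom u)).comp ξ (zero_add p) := by
  obtain ⟨k, q, hq, hq2⟩ := exists_pres J M hM
  constructor
  · intro ξ₁ ξ₂ h
    have h' : ∀ u : ModuleCat.of A (A ⧸ J) ⟶ M,
        (Ext.mk₀ u).comp (ξ₁ - ξ₂) (zero_add p) = 0 := by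
      intro u
      have h1 : (Ext.mk₀ u).comp ξ₁ (zero_add p) = (Ext.mk₀ u).comp ξ₂ (zero_add p) :=
        congrFun h u.hom
      have h2 := map_sub ((Ext.mk₀ u).precompOfLinear A (ModuleCat.of A A) (zero_add p)) ξ₁ ξ₂
      simp only [Ext.precompOfLinear, Ext.bilinearCompOfLinear_apply_apply] at h2
      rw [h2, h1, sub_self]
    rw [← sub_eq_zero]
    apply inj_q p J hJ M k q hq
    apply free_unique
    intro j
    rw [← Ext.comp_assoc_of_second_deg_zero, Ext.mk₀_comp_mk₀]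
    exact h' _
  · intro g
    let g' : (ModuleCat.of A (A ⧸ J) ⟶ Fr J k) →ₗ[A]
        Ext (ModuleCat.of A (A ⧸ J)) (ModuleCat.of A A) p :=
      g ∘ₗ (ModuleCat.homLinearEquiv (S := A)).toLinearMap ∘ₗ
        Linear.rightComp A (ModuleCat.of A (A ⧸ J)) q
    have hg' : ∀ u', g' u' = g (u' ≫ q).hom := fun u' => rfl
    obtain ⟨ξF, hξF⟩ := free_exists J k _ p g'
    obtain ⟨η, hη⟩ := exact_q p J hJ M k q hq ξF (by
      intro f hf
      rw [hξF, hg', hq2 f, hf, toKilled_zero]
      exact map_zero g)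
    refine ⟨η, fun u => ?_⟩
    obtain ⟨f, hf⟩ := hq (u (1 : A ⧸ J))
    have hu : ModuleCat.ofHom u = toKilled J (Fr J k) (killed_Fr J k) f ≫ q := by
      apply hom_ext_quot
      rw [hq2 f, toKilled_one, hf]
      rfl
    rw [hu, ← Ext.mk₀_comp_mk₀, Ext.comp_assoc_of_second_deg_zero, hη, hξF, hg', ← hu]
    rfl

end main

end Groth.Agent.H21.ExtRep
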