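import Mathlib
import Groth.Agent.Lib.helper21.ExtRep

set_option autoImplicit false
set_option linter.unusedSectionVars false

namespace Groth.Agent.H21.ExtRep2

open CategoryTheory Abelian
open Groth.Agent.H21.ExtKilled Groth.Agent.H21.ExtRep

universe u

variable {A : Type u} [CommRing A]

/-- vanishing of `Ext^{p-1}(N, Y)` for finite `N` supported in `V(J)` -/
def Van (J : Ideal A) (Y : ModuleCat.{u} A) (p : ℕ) : Prop :=
  ∀ (N : ModuleCat.{u} A), Module.Finite A N →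
    Module.support A N ⊆ PrimeSpectrum.zeroLocus (J : Set A) →
    ∀ i, i + 1 = p → ∀ z : Ext N Y i, z = 0

lemma support_subset_of_killed (J : Ideal A) (k : ℕ) (N : ModuleCat.{u} A)
    (hN : Killed (J ^ k) N) : Module.support A N ⊆ PrimeSpectrum.zeroLocus (J : Set A) := by
  intro q hq
  have h1 := Module.annihilator_le_of_mem_support hq
  rw [PrimeSpectrum.mem_zeroLocus]
  intro a ha
  have h2 : a ^ k ∈ Module.annihilator A N := by
    rw [Module.mem_annihilator]
    exact hN _ (Ideal.pow_mem_pow ha k)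
  exact q.2.mem_of_pow_mem k (h1 h2)

section main

variable (J : Ideal A) (k : ℕ) (Y : ModuleCat.{u} A) (p : ℕ) (hvan : Van J Y p)

include hvan

lemma inj_q (M : ModuleCat.{u} A) [Module.Finite A M] (r : ℕ) (q : Fr (J ^ k) r ⟶ M)
    (hq : Function.Surjective q.hom) [IsNoetherianRing A] (z : Ext M Y p)
    (hz : (Ext.mk₀ q).comp z (zero_add p) = 0) : z = 0 := by
  obtain ⟨w, hS⟩ := kerSES q hq
  refine precomp_injective hS _ p ?_ z hz
  intro i hi z'
  have hK : Killed (J ^ k) (ModuleCat.of A (LinearMap.ker q.hom)) := by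
    intro a ha f
    apply Subtype.ext
    exact killed_Fr (J ^ k) r a ha f.1
  have hfin : Module.Finite A (Fr (J ^ k) r) := inferInstance
  have hfinK : Module.Finite A (ModuleCat.of A (LinearMap.ker q.hom)) :=
    Module.Finite.of_injective (LinearMap.ker q.hom).subtype (Submodule.injective_subtype _)
  exact hvan _ hfinK (support_subset_of_killed J k _ hK) i hi z'

lemma exact_q [IsNoetherianRing A] (M : ModuleCat.{u} A) [Module.Finite A M] (r : ℕ)
    (q : Fr (J ^ k) r ⟶ M)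
    (hq : Function.Surjective q.hom) (ξ : Ext (Fr (J ^ k) r) Y p)
    (h : ∀ f : Fin r → A ⧸ J ^ k, q.hom f = 0 →
      (Ext.mk₀ (toKilled (J ^ k) (Fr (J ^ k) r) (killed_Fr (J ^ k) r) f)).comp ξ (zero_add p) = 0) :
    ∃ η : Ext M Y p, (Ext.mk₀ q).comp η (zero_add p) = ξ := by
  obtain ⟨w, hS⟩ := kerSES q hq
  have hK : Killed (J ^ k) (ModuleCat.of A (LinearMap.ker q.hom)) := by
    intro a ha f
    apply Subtype.ext
    exact killed_Fr (J ^ k) r a ha f.1
  have hfinK : Module.Finite A (ModuleCat.of A (LinearMap.ker q.hom)) :=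
    Module.Finite.of_injective (LinearMap.ker q.hom).subtype (Submodule.injective_subtype _)
  refine Ext.contravariant_sequence_exact₂ hS _ ξ ?_
  obtain ⟨k', q', hq', hq'2⟩ := exists_pres (J ^ k) (ModuleCat.of A (LinearMap.ker q.hom)) hK
  apply inj_q J k Y p hvan _ k' q' hq'
  apply free_unique
  intro j
  rw [← Ext.comp_assoc_of_second_deg_zero, ← Ext.comp_assoc_of_second_deg_zero,
    Ext.mk₀_comp_mk₀, Ext.mk₀_comp_mk₀]
  have h3 : (sg (J ^ k) k' j ≫ q') ≫ ModuleCat.ofHom (LinearMap.ker q.hom).subtype =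
      toKilled (J ^ k) (Fr (J ^ k) r) (killed_Fr (J ^ k) r)
        ((q'.hom (Pi.single j (1 : A ⧸ J ^ k)) : LinearMap.ker q.hom) : Fin r → A ⧸ J ^ k) := by
    apply hom_ext_quot
    rw [toKilled_one]
    rfl
  rw [h3]
  exact h _ (q'.hom (Pi.single j (1 : A ⧸ J ^ k)) : LinearMap.ker q.hom).2

theorem main [IsNoetherianRing A] (M : ModuleCat.{u} A) [Module.Finite A M]
    (hM : Killed (J ^ k) M) :
    Function.Injective (fun ξ : Ext M Y p =>
      fun u : (A ⧸ J ^ k) →ₗ[A] M => (Ext.mk₀ (ModuleCat.ofHom u)).comp ξ (zero_add p)) ∧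
    ∀ g : ((A ⧸ J ^ k) →ₗ[A] M) →ₗ[A] Ext (ModuleCat.of A (A ⧸ J ^ k)) Y p,
      ∃ ξ : Ext M Y p, ∀ u : (A ⧸ J ^ k) →ₗ[A] M,
        g u = (Ext.mk₀ (ModuleCat.ofHom u)).comp ξ (zero_add p) := by
  obtain ⟨r, q, hq, hq2⟩ := exists_pres (J ^ k) M hM
  constructor
  · intro ξ₁ ξ₂ h
    have h' : ∀ u : ModuleCat.of A (A ⧸ J ^ k) ⟶ M,
        (Ext.mk₀ u).comp (ξ₁ - ξ₂) (zero_add p) = 0 := by
      intro u
      have h1 : (Ext.mk₀ u).comp ξ₁ (zero_add p) = (Ext.mk₀ u).comp ξ₂ (zero_add p) :=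
        congrFun h u.hom
      have h2 := map_sub ((Ext.mk₀ u).precompOfLinear A Y (zero_add p)) ξ₁ ξ₂
      simp only [Ext.precompOfLinear, Ext.bilinearCompOfLinear_apply_apply] at h2
      rw [h2, h1, sub_self]
    rw [← sub_eq_zero]
    apply inj_q J k Y p hvan M r q hq
    apply free_unique
    intro j
    rw [← Ext.comp_assoc_of_second_deg_zero, Ext.mk₀_comp_mk₀]
    exact h' _
  · intro g
    let g' : (ModuleCat.of A (A ⧸ J ^ k) ⟶ Fr (J ^ k) r) →ₗ[A]
        Ext (ModuleCat.of A (A ⧸ J ^ k)) Y p :=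
      g ∘ₗ (ModuleCat.homLinearEquiv (S := A)).toLinearMap ∘ₗ
        Linear.rightComp A (ModuleCat.of A (A ⧸ J ^ k)) q
    have hg' : ∀ u', g' u' = g (u' ≫ q).hom := fun u' => rfl
    obtain ⟨ξF, hξF⟩ := free_exists (J ^ k) r _ p g'
    obtain ⟨η, hη⟩ := exact_q J k Y p hvan M r q hq ξF (by
      intro f hf
      rw [hξF, hg', hq2 f, hf, toKilled_zero]
      exact map_zero g)
    refine ⟨η, fun u => ?_⟩
    obtain ⟨f, hf⟩ := hq (u (1 : A ⧸ J ^ k))
    have hu : ModuleCat.ofHom u = toKilled (J ^ k) (Fr (J ^ k) r) (killed_Fr (J ^ k) r) f ≫ q := by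
      apply hom_ext_quot
      rw [hq2 f, toKilled_one, hf]
      rfl
    rw [hu, ← Ext.mk₀_comp_mk₀, Ext.comp_assoc_of_second_deg_zero, hη, hξF, hg', ← hu]
    rfl

end main

end Groth.Agent.H21.ExtRep2
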