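import Mathlib
import Groth.Agent.Lib.helper21.ExtRep2
import Groth.Agent.Lib.helper21.LC3
import Groth.Agent.Lib.helper8.GrLCC

set_option autoImplicit false
set_option linter.unusedSectionVars false

namespace Groth.Agent.H21.ExtRep2

open CategoryTheory Abelian
open Groth.Agent.H21.ExtKilled Groth.Agent.H21.ExtRep Groth.Agent.H21.LC

universe u

variable {A : Type u} [CommRing A] [IsNoetherianRing A]
variable (J : Ideal A) (Y : ModuleCat.{u} A) (p : ℕ) (hvan : Van J Y p)

include hvan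

lemma tr_surjective {m k : ℕ} (h : k ≤ m) : Function.Surjective (tr J h).hom := by
  intro x
  obtain ⟨a, rfl⟩ := Submodule.Quotient.mk_surjective _ x
  exact ⟨Submodule.Quotient.mk a, rfl⟩

lemma tr_comp_injective {m k : ℕ} (h : k ≤ m) (y : Ext (Q J k) Y p)
    (hy : (Ext.mk₀ (tr J h)).comp y (zero_add p) = 0) : y = 0 := by
  obtain ⟨w, hS⟩ := kerSES (tr J h) (tr_surjective J Y p hvan h)
  refine precomp_injective hS _ p ?_ y hy
  intro i hi z'
  have hK : Killed (J ^ m) (ModuleCat.of A (LinearMap.ker (tr J h).hom)) := by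
    intro a ha f
    apply Subtype.ext
    exact killed_self (J ^ m) a ha f.1
  have hfinK : Module.Finite A (ModuleCat.of A (LinearMap.ker (tr J h).hom)) :=
    Module.Finite.of_injective (LinearMap.ker (tr J h).hom).subtype
      (Submodule.injective_subtype _)
  exact hvan _ hfinK (support_subset_of_killed J m _ hK) i hi z'

lemma ιH_injective (k : ℕ) : Function.Injective (ιH J p k Y) := by
  rw [← LinearMap.ker_eq_bot, LinearMap.ker_eq_bot']
  intro y hy
  obtain ⟨m, h, hm⟩ := (ιH_eq_zero_iff J p k Y y).mp hy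
  exact tr_comp_injective J Y p hvan h y hm

lemma exists_of_killed (k : ℕ) (x : (localCohomology J p).obj Y)
    (hx : ∀ a ∈ J ^ k, a • x = 0) : ∃ y : Ext (Q J k) Y p, ιH J p k Y y = x := by
  obtain ⟨m₀, y₀, rfl⟩ := ιH_surj J p Y x
  -- move to a level m ≥ k
  obtain ⟨m, hkm, y, hy⟩ : ∃ (m : ℕ) (_ : k ≤ m) (y : Ext (Q J m) Y p),
      ιH J p m Y y = ιH J p m₀ Y y₀ :=
    ⟨max m₀ k, le_max_right _ _, (Ext.mk₀ (tr J (le_max_left m₀ k))).comp y₀ (zero_add p),
      ιH_tr J p _ Y y₀⟩
  rw [← hy] at hx ⊢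
  have hay : ∀ a ∈ J ^ k, a • y = 0 := by
    intro a ha
    apply ιH_injective J Y p hvan m
    rw [map_smul, hx a ha, map_zero]
  obtain ⟨w, hS⟩ := kerSES (tr J hkm) (tr_surjective J Y p hvan hkm)
  have hK : Killed (J ^ m) (ModuleCat.of A (LinearMap.ker (tr J hkm).hom)) := by
    intro a ha f
    apply Subtype.ext
    exact killed_self (J ^ m) a ha f.1
  have hfinK : Module.Finite A (ModuleCat.of A (LinearMap.ker (tr J hkm).hom)) :=
    Module.Finite.of_injective (LinearMap.ker (tr J hkm).hom).subtype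
      (Submodule.injective_subtype _)
  have hres : (Ext.mk₀ (ModuleCat.ofHom (LinearMap.ker (tr J hkm).hom).subtype)).comp y
      (zero_add p) = 0 := by
    obtain ⟨r, q, hq, -⟩ := exists_pres (J ^ m) (ModuleCat.of A (LinearMap.ker (tr J hkm).hom)) hK
    apply inj_q J m Y p hvan _ r q hq
    apply free_unique
    intro j
    rw [← Ext.comp_assoc_of_second_deg_zero, ← Ext.comp_assoc_of_second_deg_zero,
      Ext.mk₀_comp_mk₀, Ext.mk₀_comp_mk₀]
    -- the composite is multiplication by an element of J^k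
    set c : LinearMap.ker (tr J hkm).hom := q.hom (Pi.single j (1 : A ⧸ J ^ m)) with hc
    obtain ⟨a, ha⟩ := Submodule.Quotient.mk_surjective _ (c.1 : A ⧸ J ^ m)
    have haJ : a ∈ J ^ k := by
      have h0 : (tr J hkm).hom c.1 = 0 := c.2
      rw [← ha] at h0
      exact (Submodule.Quotient.mk_eq_zero _).mp h0
    have hcomp : (sg (J ^ m) r j ≫ q) ≫ ModuleCat.ofHom (LinearMap.ker (tr J hkm).hom).subtype =
        a • 𝟙 (Q J m) := by
      apply hom_ext_quot
      change (c.1 : A ⧸ J ^ m) = a • (1 : A ⧸ J ^ m)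
      rw [← ha]
      change _ = a • Submodule.Quotient.mk (1 : A)
      rw [← Submodule.Quotient.mk_smul, smul_eq_mul, mul_one]
    rw [hcomp, ExtReg.mk₀_smul_id_comp]
    exact hay a haJ
  obtain ⟨y', hy'⟩ := Ext.contravariant_sequence_exact₂ hS Y y hres
  refine ⟨y', ?_⟩
  rw [← hy']
  exact (ιH_tr J p hkm Y y').symm

end Groth.Agent.H21.ExtRep2
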