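import Mathlib
import Groth.Agent.Lib.helper21.ExtRep3

set_option autoImplicit false
set_option linter.unusedSectionVars false

namespace Groth.Agent.H21.ExtRep2

open CategoryTheory Abelian Opposite
open Groth.Agent.H21.ExtKilled Groth.Agent.H21.ExtRep Groth.Agent.H21.LC

universe u

variable {A : Type u} [CommRing A] [IsNoetherianRing A]

/-- the comparison `Ext^p(M, Y) → Hom(M, H^p_J(Y))` at level `k` -/
noncomputable def Xi (J : Ideal A) (Y : ModuleCat.{u} A) (p k : ℕ) (M : ModuleCat.{u} A)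
    (hM : Killed (J ^ k) M) : Ext M Y p →ₗ[A] (M →ₗ[A] (localCohomology J p).obj Y) where
  toFun ξ :=
    { toFun := fun x => ιH J p k Y ((Ext.mk₀ (toKilled (J ^ k) M hM x)).comp ξ (zero_add p))
      map_add' := fun x x' => by
        rw [toKilled_add, Ext.mk₀_add, Ext.add_comp, map_add]
      map_smul' := fun a x => by
        rw [toKilled_smul, Ext.mk₀_smul, Ext.smul_comp, map_smul, RingHom.id_apply] }
  map_add' ξ ξ' := by
    apply LinearMap.ext
    intro x
    change ιH J p k Y _ = ιH J p k Y _ + ιH J p k Y _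
    rw [Ext.comp_add, map_add]
  map_smul' a ξ := by
    apply LinearMap.ext
    intro x
    change ιH J p k Y _ = a • ιH J p k Y _
    rw [Ext.comp_smul, map_smul]

lemma Xi_apply (J : Ideal A) (Y : ModuleCat.{u} A) (p k : ℕ) (M : ModuleCat.{u} A)
    (hM : Killed (J ^ k) M) (ξ : Ext M Y p) (x : M) :
    Xi J Y p k M hM ξ x =
      ιH J p k Y ((Ext.mk₀ (toKilled (J ^ k) M hM x)).comp ξ (zero_add p)) := rfl

theorem Xi_bijective (J : Ideal A) (Y : ModuleCat.{u} A) (p k : ℕ) (hvan : Van J Y p)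
    (M : ModuleCat.{u} A) [Module.Finite A M] (hM : Killed (J ^ k) M) :
    Function.Bijective (Xi J Y p k M hM) := by
  obtain ⟨hinj, hsurj⟩ := main J k Y p hvan M hM
  have hu : ∀ u : (A ⧸ J ^ k) →ₗ[A] M,
      ModuleCat.ofHom u = toKilled (J ^ k) M hM (u (1 : A ⧸ J ^ k)) := by
    intro u
    apply hom_ext_quot
    rw [toKilled_one]
    rfl
  constructor
  · rw [← LinearMap.ker_eq_bot, LinearMap.ker_eq_bot']
    intro ξ hξ
    apply hinj
    funext u
    change (Ext.mk₀ (ModuleCat.ofHom u)).comp ξ (zero_add p) =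
      (Ext.mk₀ (ModuleCat.ofHom u)).comp 0 (zero_add p)
    rw [Ext.comp_zero, hu u]
    apply ιH_injective J Y p hvan k
    rw [map_zero]
    have := congrArg (fun f : M →ₗ[A] (localCohomology J p).obj Y => f (u (1 : A ⧸ J ^ k))) hξ
    exact this
  · intro ψ
    have hkill : ∀ x : M, ∀ a ∈ J ^ k, a • ψ x = 0 := by
      intro x a ha
      rw [← map_smul, hM a ha x, map_zero]
    let e := LinearEquiv.ofInjective (ιH J p k Y) (ιH_injective J Y p hvan k)
    let ψ' : M →ₗ[A] LinearMap.range (ιH J p k Y) :=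
      ψ.codRestrict _ (fun x => by
        obtain ⟨y, hy⟩ := exists_of_killed J Y p hvan k (ψ x) (hkill x)
        exact ⟨y, hy⟩)
    let g : ((A ⧸ J ^ k) →ₗ[A] M) →ₗ[A] Ext (ModuleCat.of A (A ⧸ J ^ k)) Y p :=
      e.symm.toLinearMap ∘ₗ ψ' ∘ₗ (LinearMap.applyₗ (1 : A ⧸ J ^ k))
    have hg : ∀ u : (A ⧸ J ^ k) →ₗ[A] M, ιH J p k Y (g u) = ψ (u (1 : A ⧸ J ^ k)) := by
      intro u
      have h1 : (e (g u) : (localCohomology J p).obj Y) = ιH J p k Y (g u) := rfl
      rw [← h1]
      change ((e (e.symm (ψ' _)) : LinearMap.range (ιH J p k Y)) :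
        (localCohomology J p).obj Y) = _
      rw [LinearEquiv.apply_symm_apply]
      rfl
    obtain ⟨ξ, hξ⟩ := hsurj g
    refine ⟨ξ, ?_⟩
    apply LinearMap.ext
    intro x
    rw [Xi_apply]
    have h2 := hξ (toKilled (J ^ k) M hM x).hom
    have h3 : ModuleCat.ofHom (toKilled (J ^ k) M hM x).hom = toKilled (J ^ k) M hM x := rfl
    rw [h3] at h2
    rw [← h2, hg, toKilled_one]

end Groth.Agent.H21.ExtRep2
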