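import Mathlib

universe u
set_option autoImplicit false
set_option linter.style.haveILetI false

namespace Groth.Agent.H21.FM

/-- kernel of a flat surjection is pure -/
lemma pure_of_flat_surjective {A B : Type*} [CommRing A] [CommRing B] (φ : A →+* B)
    (hflat : φ.Flat) (hsurj : Function.Surjective φ) (a : A) (ha : φ a = 0) :
    ∃ b : A, φ b = 0 ∧ a * b = a := by
  algebraize [φ]
  have hflat' : Module.Flat A B := hflat
  obtain ⟨k, c, y, h1, h2⟩ := Module.Flat.isTrivialRelation_of_sum_smul_eq_zero (R := A) (M := B)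
    (ι := Unit) (f := fun _ => a) (x := fun _ => (1 : B)) (by
      simp only [Finset.univ_unique, Finset.sum_singleton]
      rw [Algebra.smul_def, mul_one]
      exact ha)
  choose y' hy' using fun j => hsurj (y j)
  have h1' : (1 : B) = ∑ j, c () j • y j := h1 ()
  have h2' : ∀ j, a * c () j = 0 := fun j => by simpa using h2 j
  refine ⟨1 - ∑ j, c () j * y' j, ?_, ?_⟩
  · rw [map_sub, map_one, map_sum, sub_eq_zero]
    conv_lhs => rw [h1']
    refine Finset.sum_congr rfl fun j _ => ?_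
    rw [map_mul, hy', Algebra.smul_def]
    rfl
  · rw [mul_sub, mul_one, Finset.mul_sum]
    have : ∑ j, a * (c () j * y' j) = 0 := by
      refine Finset.sum_eq_zero fun j _ => ?_
      rw [← mul_assoc, h2', zero_mul]
    rw [this, sub_zero]

variable {A : Type*} [CommRing A]

lemma pure_finset (I : Ideal A) (hP : ∀ a ∈ I, ∃ b ∈ I, a * b = a) (F : Finset A)
    (hF : ∀ a ∈ F, a ∈ I) : ∃ c ∈ I, ∀ a ∈ F, a * c = a := by
  classical
  induction F using Finset.induction_on with
  | empty => exact ⟨0, I.zero_mem, by simp⟩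
  | insert x F hx ih =>
    obtain ⟨c, hc, hcF⟩ := ih (fun a ha => hF a (Finset.mem_insert_of_mem ha))
    obtain ⟨b, hb, hxb⟩ := hP x (hF x (Finset.mem_insert_self x F))
    refine ⟨b + c - b * c, I.sub_mem (I.add_mem hb hc) (I.mul_mem_left b hc), ?_⟩
    intro a ha
    rcases Finset.mem_insert.1 ha with rfl | ha
    · have : a * (b + c - b * c) = a * b + (a - a * b) * c := by ring
      rw [this, hxb, sub_self, zero_mul, add_zero]
    · have : a * (b + c - b * c) = a * c + (a - a * c) * b := by ring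
      rw [this, hcF a ha, sub_self, zero_mul, add_zero]

open PrimeSpectrum in
theorem isOpen_zeroLocus_of_pure (I : Ideal A) (hP : ∀ a ∈ I, ∃ b ∈ I, a * b = a)
    (Ω : Set (PrimeSpectrum A)) (hΩ : IsCompact Ω)
    (hO : IsOpen (Ω ∩ zeroLocus (I : Set A)))
    (hD : ∀ x : A, (∀ p ∈ Ω, ∃ t : A, t ∉ p.asIdeal ∧ t * x = 0) → x = 0) :
    IsOpen (zeroLocus (I : Set A)) := by
  classical
  -- step 1: T' = Ω \ V(I) compact
  have hT' : IsCompact (Ω \ (Ω ∩ zeroLocus (I : Set A))) := hΩ.diff hO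
  -- cover by basic opens
  have hcover : Ω \ (Ω ∩ zeroLocus (I : Set A)) ⊆ ⋃ a : I, (basicOpen (a : A) : Set (PrimeSpectrum A)) := by
    rintro p ⟨hpΩ, hp⟩
    have hp' : p ∉ zeroLocus (I : Set A) := fun h => hp ⟨hpΩ, h⟩
    rw [mem_zeroLocus, Set.not_subset] at hp'
    obtain ⟨a, haI, hap⟩ := hp'
    exact Set.mem_iUnion.2 ⟨⟨a, haI⟩, hap⟩
  obtain ⟨F, hF⟩ := hT'.elim_finite_subcover (fun a : I => (basicOpen (a : A) : Set (PrimeSpectrum A)))
    (fun a => (basicOpen (a : A)).2) hcover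
  obtain ⟨c, hcI, hc⟩ := pure_finset I hP (F.image (fun a : I => (a : A))) (by
    intro a ha
    obtain ⟨a', -, rfl⟩ := Finset.mem_image.1 ha
    exact a'.2)
  obtain ⟨e, heI, he⟩ := hP c hcI
  -- key property of e
  have hkey : ∀ a ∈ I, ∀ p ∈ Ω, ∃ t : A, t ∉ p.asIdeal ∧ t * (a * (1 - e)) = 0 := by
    intro a ha p hpΩ
    by_cases hp : p ∈ zeroLocus (I : Set A)
    · obtain ⟨b, hb, hab⟩ := hP a ha
      refine ⟨1 - b, ?_, ?_⟩
      · intro h
        have hbp : b ∈ p.asIdeal := hp hb
        have : (1 : A) ∈ p.asIdeal := by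
          have := p.asIdeal.add_mem h hbp
          simpa using this
        exact p.2.ne_top ((Ideal.eq_top_iff_one _).2 this)
      · have : (1 - b) * (a * (1 - e)) = (a - a * b) * (1 - e) := by ring
        rw [this, hab, sub_self, zero_mul]
    · have hpT : p ∈ Ω \ (Ω ∩ zeroLocus (I : Set A)) := ⟨hpΩ, fun h => hp h.2⟩
      obtain ⟨a', ha'F, hpa'⟩ := Set.mem_iUnion₂.1 (hF hpT)
      have hpa'' : (a' : A) ∉ p.asIdeal := hpa'
      have ha'c : (a' : A) * c = a' := hc _ (Finset.mem_image_of_mem _ ha'F)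
      refine ⟨c, ?_, ?_⟩
      · intro h
        exact hpa'' (by rw [← ha'c]; exact p.asIdeal.mul_mem_left _ h)
      · have : c * (a * (1 - e)) = a * (c - c * e) := by ring
        rw [this, he, sub_self, mul_zero]
  rw [isOpen_iff_forall_mem_open]
  intro p hp
  obtain ⟨b', hb'I, heb'⟩ := hP e heI
  -- b := 1 - b'
  have hbp : (1 - b') ∉ p.asIdeal := by
    intro h
    have hb'p : b' ∈ p.asIdeal := hp hb'I
    have : (1 : A) ∈ p.asIdeal := by
      have := p.asIdeal.add_mem h hb'p
      simpa using this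
    exact p.2.ne_top ((Ideal.eq_top_iff_one _).2 this)
  have hbe : (1 - b') * e = 0 := by
    have : (1 - b') * e = e - e * b' := by ring
    rw [this, heb', sub_self]
  have hann : ∀ a ∈ I, (1 - b') * a = 0 := by
    intro a ha
    apply hD
    intro q hq
    obtain ⟨t, htq, ht⟩ := hkey a ha q hq
    refine ⟨t, htq, ?_⟩
    have : t * ((1 - b') * a) = (1 - b') * (t * (a * (1 - e))) + t * a * ((1 - b') * e) := by ring
    rw [this, ht, hbe, mul_zero, mul_zero, add_zero]
  refine ⟨(basicOpen (1 - b') : Set (PrimeSpectrum A)), ?_, (basicOpen (1 - b')).2, hbp⟩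
  intro q hq a ha
  have hq' : (1 - b') ∉ q.asIdeal := hq
  have h0 : (1 - b') * a ∈ q.asIdeal := by rw [hann a ha]; exact q.asIdeal.zero_mem
  exact (q.2.mem_or_mem h0).resolve_left hq'

end Groth.Agent.H21.FM
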