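import Mathlib

universe u
set_option autoImplicit false
set_option linter.style.haveILetI false
open CategoryTheory Opposite Limits AlgebraicGeometry TopologicalSpace

namespace Groth.Agent.H21.FM

theorem mono_of_iso_over_dense {X S : Scheme.{u}} (f : X ⟶ S) [IsSeparated f] [Flat f]
    (U : S.Opens) [QuasiCompact U.ι] [IsSchemeTheoreticallyDominant U.ι] [IsIso (f ∣_ U)] :
    Mono f := by
  rw [← pullback.isIso_diagonal_iff]
  let π : pullback f f ⟶ S := pullback.fst f f ≫ f
  haveI : Flat π := by dsimp only [π]; infer_instance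
  let W : (pullback f f).Opens := π ⁻¹ᵁ U
  haveI hWdom : IsSchemeTheoreticallyDominant W.ι :=
    IsSchemeTheoreticallyDominant.of_isPullback (isPullback_morphismRestrict π U)
  have hpb := isPullback_morphismRestrict f U
  have hc1 : (W.ι ≫ pullback.fst f f) ≫ f = (π ∣_ U) ≫ U.ι := by
    rw [morphismRestrict_ι, Category.assoc]
  have hc2 : (W.ι ≫ pullback.snd f f) ≫ f = (π ∣_ U) ≫ U.ι := by
    rw [morphismRestrict_ι, Category.assoc, ← pullback.condition]
  have hq : W.ι ≫ pullback.fst f f = W.ι ≫ pullback.snd f f := by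
    have e1 : hpb.lift (π ∣_ U) (W.ι ≫ pullback.fst f f) hc1.symm =
        hpb.lift (π ∣_ U) (W.ι ≫ pullback.snd f f) hc2.symm := by
      rw [← cancel_mono (f ∣_ U), hpb.lift_fst, hpb.lift_fst]
    have e2 := congrArg (· ≫ (f ⁻¹ᵁ U).ι) e1
    simpa only [hpb.lift_snd] using e2
  have hfac : W.ι = (W.ι ≫ pullback.fst f f) ≫ pullback.diagonal f := by
    apply pullback.hom_ext
    · rw [Category.assoc, Category.assoc, pullback.diagonal_fst, Category.comp_id]
    · rw [Category.assoc, Category.assoc, pullback.diagonal_snd, Category.comp_id, hq]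
  rw [IsClosedImmersion.isIso_iff_ker_eq_bot, ← le_bot_iff]
  have h1 := Scheme.Hom.le_ker_comp (W.ι ≫ pullback.fst f f) (pullback.diagonal f)
  rw [← hfac, hWdom.ker_eq_bot] at h1
  exact h1

theorem isIso_stalkMap_of_flat_mono {X S : Scheme.{u}} (f : X ⟶ S) [Flat f] [Mono f] (x : X) :
    IsIso (f.stalkMap x) := by
  have hflat := Flat.stalkMap f x
  have hloc : IsLocalHom (f.stalkMap x).hom := f.toLRSHom.prop x
  have hff : (f.stalkMap x).hom.FaithfullyFlat := by
    algebraize [(f.stalkMap x).hom]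
    exact @Module.FaithfullyFlat.of_flat_of_isLocalHom _ _ _ _ _ _ _ hflat hloc
  obtain ⟨h1, h2⟩ := (flat_and_surjective_SpecMap_iff (f.stalkMap x)).2 hff
  haveI := h1
  haveI := h2
  have hfac : Spec.map (f.stalkMap x) ≫ S.fromSpecStalk (f x) = X.fromSpecStalk x ≫ f :=
    Scheme.SpecMap_stalkMap_fromSpecStalk f
  haveI : Mono (Spec.map (f.stalkMap x) ≫ S.fromSpecStalk (f x)) := by
    rw [hfac]; infer_instance
  haveI : Mono (Spec.map (f.stalkMap x)) := mono_of_mono _ (S.fromSpecStalk (f x))
  haveI : IsIso (Spec.map (f.stalkMap x)) := Flat.isIso_of_surjective_of_mono _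
  rw [ConcreteCategory.isIso_iff_bijective]
  exact (isIso_SpecMap_iff (f := f.stalkMap x)).1 inferInstance

end Groth.Agent.H21.FM
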