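import Mathlib

universe u
set_option autoImplicit false
set_option linter.style.haveILetI false
open CategoryTheory Opposite Limits AlgebraicGeometry TopologicalSpace

namespace Groth.Agent.H21.FM

lemma appLE_res_apply {X S : Scheme.{u}} (f : X ⟶ S) {V : S.Opens} {W W' : X.Opens}
    (e : W ≤ f ⁻¹ᵁ V) (h : W' ≤ W) (a : Γ(S, V)) :
    X.presheaf.map (homOfLE h).op (f.appLE V W e a) = f.appLE V W' (h.trans e) a := by
  rw [← CommRingCat.comp_apply, f.appLE_map]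

lemma res_appLE_apply {X S : Scheme.{u}} (f : X ⟶ S) {V V' : S.Opens} {W : X.Opens}
    (e : W ≤ f ⁻¹ᵁ V') (h : V' ≤ V) (a : Γ(S, V)) :
    f.appLE V' W e (S.presheaf.map (homOfLE h).op a) =
      f.appLE V W (e.trans (fun _ hy => h hy)) a := by
  rw [← CommRingCat.comp_apply, f.map_appLE]

lemma germ_appLE {X S : Scheme.{u}} (f : X ⟶ S) {V : S.Opens} {W : X.Opens}
    (e : W ≤ f ⁻¹ᵁ V) (x : X) (hx : x ∈ W) (a : Γ(S, V)) :
    X.presheaf.germ W x hx (f.appLE V W e a) =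
      (f.stalkMap x).hom (S.presheaf.germ V (f x) (e hx) a) := by
  rw [Scheme.Hom.germ_stalkMap_apply f V x (e hx) a]
  simp only [Scheme.Hom.appLE, CommRingCat.comp_apply]
  exact TopCat.Presheaf.germ_res_apply _ _ _ _ _

/-- one generator -/
lemma exists_lift_one {X S : Scheme.{u}} (f : X ⟶ S) (x : X)
    (hsurj : Function.Surjective (f.stalkMap x).hom) (V₀ : S.Opens) (W₀ : X.Opens)
    (hx₀ : x ∈ W₀) (e₀ : W₀ ≤ f ⁻¹ᵁ V₀) (b : Γ(X, W₀)) :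
    ∃ (V : S.Opens) (W : X.Opens) (_ : f x ∈ V) (_ : x ∈ W) (_ : V ≤ V₀) (hW : W ≤ W₀)
      (e : W ≤ f ⁻¹ᵁ V) (a : Γ(S, V)),
      f.appLE V W e a = X.presheaf.map (homOfLE hW).op b := by
  obtain ⟨u, hu⟩ := hsurj (X.presheaf.germ W₀ x hx₀ b)
  obtain ⟨V₁, hfx, a₁, rfl⟩ := TopCat.Presheaf.exists_germ_eq S.presheaf u
  let V : S.Opens := V₁ ⊓ V₀
  have hfxV : f x ∈ V := ⟨hfx, e₀ hx₀⟩
  let a : Γ(S, V) := S.presheaf.map (homOfLE (inf_le_left : V ≤ V₁)).op a₁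
  let W₁ : X.Opens := W₀ ⊓ f ⁻¹ᵁ V
  have hxW₁ : x ∈ W₁ := ⟨hx₀, hfxV⟩
  have e₁ : W₁ ≤ f ⁻¹ᵁ V := inf_le_right
  have hgerm : X.presheaf.germ W₁ x hxW₁ (f.appLE V W₁ e₁ a) =
      X.presheaf.germ W₀ x hx₀ b := by
    rw [germ_appLE, ← hu]
    congr 1
    exact TopCat.Presheaf.germ_res_apply _ _ _ _ _
  obtain ⟨W, hxW, iU, iV, hres⟩ := TopCat.Presheaf.germ_eq X.presheaf x hxW₁ hx₀ _ _ hgerm
  refine ⟨V, W, hfxV, hxW, inf_le_right, iV.le, iU.le.trans e₁, a, ?_⟩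
  rw [← appLE_res_apply f e₁ iU.le a]
  exact hres


set_option maxHeartbeats 1000000 in
theorem exists_closedImm_nhd {X S : Scheme.{u}} (f : X ⟶ S) [LocallyOfFiniteType f] (x : X)
    (hsurj : Function.Surjective (f.stalkMap x).hom) (O : X.Opens) (hxO : x ∈ O) :
    ∃ (V : S.Opens) (W : X.Opens) (_ : IsAffineOpen V) (_ : IsAffineOpen W) (e : W ≤ f ⁻¹ᵁ V),
      x ∈ W ∧ W ≤ O ∧ Function.Surjective (f.appLE V W e).hom := by
  classical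
  obtain ⟨_, ⟨V₀, hV₀, rfl⟩, hfxV₀, -⟩ :=
    S.isBasis_affineOpens.exists_subset_of_mem_open (Set.mem_univ (f x)) isOpen_univ
  obtain ⟨_, ⟨W₀, hW₀, rfl⟩, hxW₀, hW₀sub⟩ :=
    X.isBasis_affineOpens.exists_subset_of_mem_open
      (show x ∈ ((O ⊓ f ⁻¹ᵁ V₀ : X.Opens) : Set X) from ⟨hxO, hfxV₀⟩) (O ⊓ f ⁻¹ᵁ V₀).2
  have e₀ : W₀ ≤ f ⁻¹ᵁ V₀ := fun y hy => (hW₀sub hy).2
  have hW₀O : W₀ ≤ O := fun y hy => (hW₀sub hy).1
  have hft := f.finiteType_appLE hV₀ hW₀ e₀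
  algebraize [(f.appLE V₀ W₀ e₀).hom]
  obtain ⟨s, hs⟩ := (Algebra.FiniteType.out : (⊤ : Subalgebra Γ(S, V₀) Γ(X, W₀)).FG)
  choose V_ W_ hfxV_ hxW_ hV_le hW_le e_ a_ ha_ using
    fun b : Γ(X, W₀) => exists_lift_one f x hsurj V₀ W₀ hxW₀ e₀ b
  let V₁ : S.Opens := s.inf V_ ⊓ V₀
  have hfxV₁ : f x ∈ V₁ := by
    refine ⟨?_, hfxV₀⟩
    rw [Opens.coe_finset_inf, Finset.inf_set_eq_iInter]
    exact Set.mem_iInter₂.2 (fun b _ => hfxV_ b)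
  obtain ⟨_, ⟨V', hV', rfl⟩, hfxV', hV'sub⟩ :=
    S.isBasis_affineOpens.exists_subset_of_mem_open hfxV₁ V₁.2
  have hV'V₀ : V' ≤ V₀ := fun y hy => (hV'sub hy).2
  have hV'V_ : ∀ b ∈ s, V' ≤ V_ b := fun b hb y hy =>
    (Finset.inf_le hb : s.inf V_ ≤ V_ b) (hV'sub hy).1
  let W₁ : X.Opens := s.inf W_ ⊓ (W₀ ⊓ f ⁻¹ᵁ V')
  have hxW₁ : x ∈ W₁ := by
    refine ⟨?_, hxW₀, hfxV'⟩
    rw [Opens.coe_finset_inf, Finset.inf_set_eq_iInter]
    exact Set.mem_iInter₂.2 (fun b _ => hxW_ b)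
  obtain ⟨g', hg'le, hxg'⟩ := hW₀.exists_basicOpen_le (V := W₁) ⟨x, hxW₁⟩ hxW₀
  have hW'W₀ : X.basicOpen g' ≤ W₀ := X.basicOpen_le g'
  have hW'aff : IsAffineOpen (X.basicOpen g') := hW₀.basicOpen g'
  have e' : X.basicOpen g' ≤ f ⁻¹ᵁ V' := fun y hy => (hg'le hy).2.2
  have hW'W_ : ∀ b ∈ s, X.basicOpen g' ≤ W_ b := fun b hb y hy =>
    (Finset.inf_le hb : s.inf W_ ≤ W_ b) (hg'le hy).1
  have claimA : ∀ b : Γ(X, W₀), ∃ c : Γ(S, V'),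
      f.appLE V' (X.basicOpen g') e' c = X.presheaf.map (homOfLE hW'W₀).op b := by
    intro b
    have hb : b ∈ Algebra.adjoin Γ(S, V₀) (s : Set Γ(X, W₀)) := by rw [hs]; trivial
    induction hb using Algebra.adjoin_induction with
    | mem b hb =>
      refine ⟨S.presheaf.map (homOfLE (hV'V_ b hb)).op (a_ b), ?_⟩
      rw [res_appLE_apply f e' (hV'V_ b hb) (a_ b)]
      rw [← appLE_res_apply f (e_ b) (hW'W_ b hb) (a_ b), ha_ b]
      rw [← CommRingCat.comp_apply, ← Functor.map_comp]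
      rfl
    | algebraMap a =>
      refine ⟨S.presheaf.map (homOfLE hV'V₀).op a, ?_⟩
      rw [res_appLE_apply f e' hV'V₀ a]
      exact (appLE_res_apply f e₀ hW'W₀ a).symm
    | add b₁ b₂ _ _ h₁ h₂ =>
      obtain ⟨c₁, h₁⟩ := h₁
      obtain ⟨c₂, h₂⟩ := h₂
      exact ⟨c₁ + c₂, by rw [map_add, map_add, h₁, h₂]⟩
    | mul b₁ b₂ _ _ h₁ h₂ =>
      obtain ⟨c₁, h₁⟩ := h₁
      obtain ⟨c₂, h₂⟩ := h₂
      exact ⟨c₁ * c₂, by rw [map_mul, map_mul, h₁, h₂]⟩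
  obtain ⟨c₀, hc₀⟩ := claimA g'
  have hunit : IsUnit (f.appLE V' (X.basicOpen g') e' c₀) := by
    rw [hc₀]
    exact RingedSpace.isUnit_res_basicOpen _ g'
  have hV''aff : IsAffineOpen (S.basicOpen c₀) := hV'.basicOpen c₀
  have hV''V' : S.basicOpen c₀ ≤ V' := S.basicOpen_le c₀
  have e'' : X.basicOpen g' ≤ f ⁻¹ᵁ (S.basicOpen c₀) := by
    have h1 := Scheme.basicOpen_appLE f (X.basicOpen g') V' e' c₀
    rw [Scheme.basicOpen_of_isUnit _ hunit] at h1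
    intro y hy
    have : y ∈ X.basicOpen g' ⊓ f ⁻¹ᵁ S.basicOpen c₀ := h1 ▸ hy
    exact this.2
  refine ⟨S.basicOpen c₀, X.basicOpen g', hV''aff, hW'aff, e'', hxg', hW'W₀.trans hW₀O, ?_⟩
  intro z
  haveI := hW₀.isLocalization_basicOpen g'
  obtain ⟨⟨b, ⟨_, n, rfl⟩⟩, hbz⟩ := IsLocalization.surj (Submonoid.powers g') z
  obtain ⟨c, hc⟩ := claimA b
  have hunit'' : IsUnit (S.presheaf.map (homOfLE hV''V').op c₀) :=
    RingedSpace.isUnit_res_basicOpen _ c₀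
  obtain ⟨d, hd⟩ := hunit''.exists_right_inv
  refine ⟨S.presheaf.map (homOfLE hV''V').op c * d ^ n, ?_⟩
  have h1 : f.appLE (S.basicOpen c₀) (X.basicOpen g') e'' (S.presheaf.map (homOfLE hV''V').op c) =
      X.presheaf.map (homOfLE hW'W₀).op b := by
    rw [res_appLE_apply f e'' hV''V' c]; exact hc
  have h2 : f.appLE (S.basicOpen c₀) (X.basicOpen g') e'' (S.presheaf.map (homOfLE hV''V').op c₀) =
      X.presheaf.map (homOfLE hW'W₀).op g' := by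
    rw [res_appLE_apply f e'' hV''V' c₀]; exact hc₀
  have h3 : X.presheaf.map (homOfLE hW'W₀).op g' *
      f.appLE (S.basicOpen c₀) (X.basicOpen g') e'' d = 1 := by
    rw [← h2, ← map_mul, hd, map_one]
  have hbz' : z * (X.presheaf.map (homOfLE hW'W₀).op g') ^ n =
      X.presheaf.map (homOfLE hW'W₀).op b := by
    rw [← map_pow]
    exact hbz
  change (f.appLE (S.basicOpen c₀) (X.basicOpen g') e'') (_ * _) = z
  rw [map_mul, map_pow, h1, ← hbz', mul_assoc, ← mul_pow, h3, one_pow, mul_one]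

end Groth.Agent.H21.FM
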