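import Mathlib
import Groth.Agent.Lib.helper21.FM1

universe u
set_option autoImplicit false
set_option linter.style.haveILetI false
open CategoryTheory Opposite Limits AlgebraicGeometry TopologicalSpace

namespace Groth.Agent.H21.FM

lemma isOpenMap_over {X S : Scheme.{u}} (f : X ⟶ S) (U : S.Opens) [IsIso (f ∣_ U)]
    (T : Set X) (hT : IsOpen T) (hTU : T ⊆ f ⁻¹' (U : Set S)) : IsOpen (f '' T) := by
  haveI : IsOpenImmersion ((f ⁻¹ᵁ U).ι ≫ f) := by
    rw [← morphismRestrict_ι]; infer_instance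
  have h1 : IsOpen (((f ⁻¹ᵁ U).ι ≫ f) '' ((f ⁻¹ᵁ U).ι ⁻¹' T)) :=
    ((f ⁻¹ᵁ U).ι ≫ f).isOpenEmbedding.isOpenMap _ (hT.preimage (f ⁻¹ᵁ U).ι.continuous)
  convert h1 using 1
  ext y
  constructor
  · rintro ⟨t, ht, rfl⟩
    exact ⟨⟨t, hTU ht⟩, ht, rfl⟩
  · rintro ⟨t, ht, rfl⟩
    exact ⟨(f ⁻¹ᵁ U).ι t, ht, rfl⟩

lemma germ_eq_zero_of_mul {S : Scheme.{u}} {V : S.Opens} (hV : IsAffineOpen V) (y : S)
    (hy : y ∈ V) (a t : Γ(S, V)) (ht : t ∉ (hV.primeIdealOf ⟨y, hy⟩).asIdeal) (hta : t * a = 0) :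
    S.presheaf.germ V y hy a = 0 := by
  have hmem : y ∈ S.basicOpen t := by
    have h1 : hV.primeIdealOf ⟨y, hy⟩ ∈ hV.fromSpec ⁻¹ᵁ S.basicOpen t := by
      rw [hV.fromSpec_preimage_basicOpen]
      exact ht
    have h2 : hV.fromSpec (hV.primeIdealOf ⟨y, hy⟩) ∈ S.basicOpen t := h1
    rwa [hV.fromSpec_primeIdealOf] at h2
  have hu : IsUnit (S.presheaf.germ V y hy t) := (S.mem_basicOpen t y hy).1 hmem
  have h0 : S.presheaf.germ V y hy t * S.presheaf.germ V y hy a = 0 := by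
    rw [← map_mul, hta, map_zero]
  exact (hu.mul_right_eq_zero).1 h0

theorem isOpen_image_of_closedImm {X S : Scheme.{u}} (f : X ⟶ S) [Flat f]
    (U : S.Opens) [QuasiCompact U.ι] [IsSchemeTheoreticallyDominant U.ι] [IsIso (f ∣_ U)]
    (V : S.Opens) (W : X.Opens) (hV : IsAffineOpen V) (hW : IsAffineOpen W) (e : W ≤ f ⁻¹ᵁ V)
    (hsurj : Function.Surjective (f.appLE V W e).hom) : IsOpen (f '' (W : Set X)) := by
  set φ : Γ(S, V) →+* Γ(X, W) := (f.appLE V W e).hom with hφ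
  have hfac : ∀ q : Spec Γ(X, W), hV.fromSpec (Spec.map (f.appLE V W e) q) = f (hW.fromSpec q) := by
    intro q
    have := IsAffineOpen.SpecMap_appLE_fromSpec f hV hW e
    rw [← Scheme.Hom.comp_apply, this, Scheme.Hom.comp_apply]
  have hinjV : Function.Injective hV.fromSpec := hV.fromSpec.isOpenEmbedding.injective
  -- zero locus = range
  have hrange : PrimeSpectrum.zeroLocus ((RingHom.ker φ : Ideal Γ(S, V)) : Set Γ(S, V)) =
      Set.range (Spec.map (f.appLE V W e)) := by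
    rw [← range_comap_of_surjective _ φ hsurj]
    rfl
  -- image description
  have himage : f '' (W : Set X) = hV.fromSpec ''
      (PrimeSpectrum.zeroLocus ((RingHom.ker φ : Ideal Γ(S, V)) : Set Γ(S, V))) := by
    rw [hrange]
    ext y
    constructor
    · rintro ⟨w, hw, rfl⟩
      have : w ∈ Set.range hW.fromSpec := by rw [hW.range_fromSpec]; exact hw
      obtain ⟨q, rfl⟩ := this
      exact ⟨_, ⟨q, rfl⟩, hfac q⟩
    · rintro ⟨_, ⟨q, rfl⟩, rfl⟩
      refine ⟨hW.fromSpec q, ?_, (hfac q).symm⟩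
      have : hW.fromSpec q ∈ Set.range hW.fromSpec := ⟨q, rfl⟩
      rw [hW.range_fromSpec] at this
      exact this
  rw [himage]
  apply hV.fromSpec.isOpenEmbedding.isOpenMap
  -- apply ring lemma
  have hP : ∀ a ∈ RingHom.ker φ, ∃ b ∈ RingHom.ker φ, a * b = a := by
    intro a ha
    obtain ⟨b, hb, hab⟩ := pure_of_flat_surjective φ (f.flat_appLE hV hW e) hsurj a ha
    exact ⟨b, hb, hab⟩
  let Ω : Set (PrimeSpectrum Γ(S, V)) := hV.fromSpec ⁻¹' (U : Set S)
  have hΩ : IsCompact Ω := by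
    have h1 : IsCompact ((U.ι ⁻¹ᵁ V : U.toScheme.Opens) : Set U) :=
      U.ι.isCompact_preimage hV.isCompact
    have h2 : IsCompact (U.ι '' ((U.ι ⁻¹ᵁ V : U.toScheme.Opens) : Set U)) :=
      h1.image U.ι.continuous
    have h3 : U.ι '' ((U.ι ⁻¹ᵁ V : U.toScheme.Opens) : Set U) = (U : Set S) ∩ V := by
      ext y
      constructor
      · rintro ⟨t, ht, rfl⟩
        exact ⟨t.2, ht⟩
      · rintro ⟨hyU, hyV⟩
        exact ⟨⟨y, hyU⟩, hyV, rfl⟩
    rw [h3] at h2
    have h4 : Ω = hV.fromSpec ⁻¹' ((U : Set S) ∩ V) := by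
      ext p
      constructor
      · intro hp
        refine ⟨hp, ?_⟩
        have : hV.fromSpec p ∈ Set.range hV.fromSpec := ⟨p, rfl⟩
        rw [hV.range_fromSpec] at this
        exact this
      · intro hp
        exact hp.1
    rw [h4]
    refine (hV.fromSpec.isOpenEmbedding.isInducing.isCompact_preimage_iff ?_).2 h2
    rw [hV.range_fromSpec]
    exact Set.inter_subset_right
  have hO : IsOpen (Ω ∩ PrimeSpectrum.zeroLocus ((RingHom.ker φ : Ideal Γ(S, V)) : Set Γ(S, V))) := by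
    have h1 : IsOpen (f '' ((W : Set X) ∩ f ⁻¹' (U : Set S))) :=
      isOpenMap_over f U _ (W.2.inter (U.2.preimage f.continuous)) Set.inter_subset_right
    have h2 : Ω ∩ PrimeSpectrum.zeroLocus ((RingHom.ker φ : Ideal Γ(S, V)) : Set Γ(S, V)) =
        hV.fromSpec ⁻¹' (f '' ((W : Set X) ∩ f ⁻¹' (U : Set S))) := by
      rw [hrange]
      ext p
      constructor
      · rintro ⟨hpΩ, q, rfl⟩
        refine ⟨hW.fromSpec q, ⟨?_, ?_⟩, (hfac q).symm⟩
        · have : hW.fromSpec q ∈ Set.range hW.fromSpec := ⟨q, rfl⟩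
          rw [hW.range_fromSpec] at this
          exact this
        · show f (hW.fromSpec q) ∈ U
          rw [← hfac q]
          exact hpΩ
      · rintro ⟨w, ⟨hwW, hwU⟩, hwp⟩
        have : w ∈ Set.range hW.fromSpec := by rw [hW.range_fromSpec]; exact hwW
        obtain ⟨q, rfl⟩ := this
        have hpq : p = Spec.map (f.appLE V W e) q := by
          apply hinjV
          rw [hfac q]
          exact hwp.symm
        refine ⟨?_, q, hpq.symm⟩
        show hV.fromSpec p ∈ U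
        rw [← hwp]
        exact hwU
    rw [h2]
    exact h1.preimage hV.fromSpec.continuous
  have hD : ∀ a : Γ(S, V), (∀ p ∈ Ω, ∃ t : Γ(S, V), t ∉ p.asIdeal ∧ t * a = 0) → a = 0 := by
    intro a ha
    apply U.ι.app_injective V
    rw [map_zero]
    refine TopCat.Presheaf.section_ext U.toScheme.sheaf (U.ι ⁻¹ᵁ V) _ _ ?_
    intro y hy
    have hyV : U.ι y ∈ V := hy
    have hpΩ : hV.primeIdealOf ⟨U.ι y, hyV⟩ ∈ Ω := by
      show hV.fromSpec (hV.primeIdealOf ⟨U.ι y, hyV⟩) ∈ U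
      rw [hV.fromSpec_primeIdealOf]
      exact y.2
    obtain ⟨t, ht, hta⟩ := ha _ hpΩ
    have h0 := germ_eq_zero_of_mul hV (U.ι y) hyV a t ht hta
    have h1 := Scheme.Hom.germ_stalkMap_apply U.ι V y hyV a
    rw [h0, map_zero] at h1
    change (U.toScheme.presheaf.germ (U.ι ⁻¹ᵁ V) y hy) ((U.ι.app V) a) =
      (U.toScheme.presheaf.germ (U.ι ⁻¹ᵁ V) y hy) 0
    rw [map_zero]
    exact h1.symm
  exact isOpen_zeroLocus_of_pure (RingHom.ker φ) hP Ω hΩ hO hD

end Groth.Agent.H21.FM
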