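import Mathlib

universe u
set_option autoImplicit false
set_option linter.style.haveILetI false
open CategoryTheory Opposite Limits AlgebraicGeometry TopologicalSpace IsLocalRing

namespace Groth.Agent.H21.FS

variable {Z X : Scheme.{u}} (g : Z ⟶ X)

/-- the comparison map from the stalk of the pushforward -/
noncomputable def phi (x : X) (z : Z) (hz : g.base z = x) :
    (g.base _* Z.presheaf).stalk x ⟶ Z.presheaf.stalk z :=
  ((g.base _* Z.presheaf).stalkCongr (Inseparable.of_eq hz)).inv ≫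
    TopCat.Presheaf.stalkPushforward CommRingCat g.base Z.presheaf z

lemma phi_germ (x : X) (z : Z) (hz : g.base z = x) (U : X.Opens) (hx : x ∈ U)
    (b : Γ(Z, g ⁻¹ᵁ U)) :
    (phi g x z hz).hom ((g.base _* Z.presheaf).germ U x hx b) =
      Z.presheaf.germ (g ⁻¹ᵁ U) z (show g.base z ∈ U from hz ▸ hx) b := by
  subst hz
  have h1 : (g.base _* Z.presheaf).germ U (g.base z) hx ≫ phi g (g.base z) z rfl =
      Z.presheaf.germ (g ⁻¹ᵁ U) z hx := by
    unfold phi
    have e1 : ((g.base _* Z.presheaf).stalkCongr (Inseparable.of_eq (rfl : g.base z = g.base z))).inv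
        = 𝟙 _ := by
      simp [TopCat.Presheaf.stalkCongr]
    rw [e1, Category.id_comp]
    exact TopCat.Presheaf.stalkPushforward_germ _ g.base Z.presheaf U z hx
  exact congrArg (fun f => f.hom b) h1

/-- germs of functions invertible near `x` are units in the stalk of the pushforward -/
lemma isUnit_germ_app {V : X.Opens} (x : X) (hxV : x ∈ V) (s : Γ(X, V)) (hs : x ∈ X.basicOpen s) :
    IsUnit ((g.base _* Z.presheaf).germ V x hxV (g.app V s)) := by
  have hle : X.basicOpen s ≤ V := X.basicOpen_le s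
  have hu : IsUnit (X.presheaf.map (homOfLE hle).op s) := RingedSpace.isUnit_res_basicOpen _ s
  have hu2 : IsUnit (g.app (X.basicOpen s) (X.presheaf.map (homOfLE hle).op s)) := hu.map _
  have hnat : g.app (X.basicOpen s) (X.presheaf.map (homOfLE hle).op s) =
      (g.base _* Z.presheaf).map (homOfLE hle).op (g.app V s) := by
    have := g.naturality (homOfLE hle).op
    exact congrArg (fun f => f.hom s) this
  rw [hnat] at hu2
  have hu3 := hu2.map ((g.base _* Z.presheaf).germ (X.basicOpen s) x hs).hom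
  have hres : ((g.base _* Z.presheaf).germ (X.basicOpen s) x hs).hom
      ((g.base _* Z.presheaf).map (homOfLE hle).op (g.app V s)) =
      (g.base _* Z.presheaf).germ V x hxV (g.app V s) :=
    TopCat.Presheaf.germ_res_apply _ _ _ _ _
  rw [hres] at hu3
  exact hu3


lemma exists_frac [IsAffineHom g] {V : X.Opens} (hV : IsAffineOpen V) (x : X) (hxV : x ∈ V)
    (c : (g.base _* Z.presheaf).stalk x) :
    ∃ (s : Γ(X, V)) (b : Γ(Z, g ⁻¹ᵁ V)), x ∈ X.basicOpen s ∧
      c * (g.base _* Z.presheaf).germ V x hxV (g.app V s) =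
        (g.base _* Z.presheaf).germ V x hxV b := by
  obtain ⟨V', hxV', b', rfl⟩ := TopCat.Presheaf.exists_germ_eq (g.base _* Z.presheaf) c
  obtain ⟨s, hsle, hxs⟩ := hV.exists_basicOpen_le (V := V') ⟨x, hxV'⟩ hxV
  have hleV : X.basicOpen s ≤ V := X.basicOpen_le s
  have hW : IsAffineOpen (g ⁻¹ᵁ V) := hV.preimage g
  let i : g ⁻¹ᵁ (X.basicOpen s) ⟶ g ⁻¹ᵁ V := (Opens.map g.base).map (homOfLE hleV)
  have hloc := hW.isLocalization_of_eq_basicOpen (g.app V s) i (Scheme.preimage_basicOpen g s)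
  letI := (Z.presheaf.map i.op).hom.toAlgebra
  let b'' : Γ(Z, g ⁻¹ᵁ (X.basicOpen s)) := (g.base _* Z.presheaf).map (homOfLE hsle).op b'
  obtain ⟨⟨b, ⟨_, n, rfl⟩⟩, hb⟩ := IsLocalization.surj (Submonoid.powers (g.app V s)) b''
  have hb' : b'' * (Z.presheaf.map i.op) ((g.app V s) ^ n) = (Z.presheaf.map i.op) b := hb
  have hg1 : ((g.base _* Z.presheaf).germ (X.basicOpen s) x hxs).hom b'' =
      (g.base _* Z.presheaf).germ V' x hxV' b' :=
    TopCat.Presheaf.germ_res_apply _ _ _ _ _
  have hg2 : ∀ y : Γ(Z, g ⁻¹ᵁ V), ((g.base _* Z.presheaf).germ (X.basicOpen s) x hxs).hom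
      ((Z.presheaf.map i.op) y) = (g.base _* Z.presheaf).germ V x hxV y := fun y =>
    TopCat.Presheaf.germ_res_apply (g.base _* Z.presheaf) (homOfLE hleV) x hxs y
  have h3 := congrArg ((g.base _* Z.presheaf).germ (X.basicOpen s) x hxs).hom hb'
  rw [map_mul, hg1, hg2, hg2] at h3
  refine ⟨s ^ (n + 1), (g.app V s) * b, ?_, ?_⟩
  · rw [Scheme.basicOpen_pow _ _ (Nat.succ_pos n)]
    exact hxs
  · rw [map_pow, pow_succ, map_mul, map_mul, ← mul_assoc, h3, mul_comm]

end Groth.Agent.H21.FS
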