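import Mathlib
import Groth.Agent.Lib.helper21.FS1

universe u
set_option autoImplicit false
set_option linter.style.haveILetI false
open CategoryTheory Opposite Limits AlgebraicGeometry TopologicalSpace IsLocalRing

namespace Groth.Agent.H21.FS

variable {Z X : Scheme.{u}} (g : Z ⟶ X)

lemma mem_basicOpen_of_notMem {V : X.Opens} (hV : IsAffineOpen V) (x : X) (hxV : x ∈ V)
    (s : Γ(X, V)) (hs : s ∉ (hV.primeIdealOf ⟨x, hxV⟩).asIdeal) : x ∈ X.basicOpen s := by
  have h1 : hV.primeIdealOf ⟨x, hxV⟩ ∈ hV.fromSpec ⁻¹ᵁ X.basicOpen s := by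
    rw [hV.fromSpec_preimage_basicOpen]
    exact hs
  have h2 : hV.fromSpec (hV.primeIdealOf ⟨x, hxV⟩) ∈ X.basicOpen s := h1
  rwa [hV.fromSpec_primeIdealOf] at h2

set_option maxHeartbeats 1000000 in
theorem main [IsFinite g] (x : X) :
    Set.BijOn (fun z : {z : Z // g.base z = x} =>
        Ideal.comap (phi g x z.1 z.2).hom (maximalIdeal (Z.presheaf.stalk z.1)))
      Set.univ {I : Ideal ((g.base _* Z.presheaf).stalk x) | I.IsMaximal} := by
  obtain ⟨_, ⟨V, hV, rfl⟩, hxV, -⟩ :=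
    X.isBasis_affineOpens.exists_subset_of_mem_open (Set.mem_univ x) isOpen_univ
  have hW : IsAffineOpen (g ⁻¹ᵁ V) := hV.preimage g
  have hfin := IsFinite.finite_app g V hV
  algebraize [(g.app V).hom]
  haveI : Algebra.IsIntegral Γ(X, V) Γ(Z, g ⁻¹ᵁ V) := Algebra.IsIntegral.of_finite _ _
  have hzW : ∀ z : Z, g.base z = x → z ∈ g ⁻¹ᵁ V := fun z hz => by
    show g.base z ∈ V
    rw [hz]; exact hxV
  -- membership in prime ideal of z
  have hmem : ∀ (z : Z) (hz : z ∈ g ⁻¹ᵁ V) (b : Γ(Z, g ⁻¹ᵁ V)),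
      b ∈ (hW.primeIdealOf ⟨z, hz⟩).asIdeal ↔
        Z.presheaf.germ (g ⁻¹ᵁ V) z hz b ∈ maximalIdeal (Z.presheaf.stalk z) := by
    intro z hz b
    rw [hW.primeIdealOf_eq_map_closedPoint]
    rfl
  have hF2 : ∀ (z : Z) (hz : g.base z = x),
      Ideal.comap ((g.base _* Z.presheaf).germ V x hxV).hom
        (Ideal.comap (phi g x z hz).hom (maximalIdeal (Z.presheaf.stalk z))) =
      (hW.primeIdealOf ⟨z, hzW z hz⟩).asIdeal := by
    intro z hz
    ext b
    rw [Ideal.mem_comap, Ideal.mem_comap, hmem z (hzW z hz) b]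
    have := phi_germ g x z hz V hxV b
    rw [show ((g.base _* Z.presheaf).germ V x hxV).hom b =
      (g.base _* Z.presheaf).germ V x hxV b from rfl, this]
  have hover : ∀ (z : Z) (hz : g.base z = x),
      Ideal.comap (algebraMap Γ(X, V) Γ(Z, g ⁻¹ᵁ V)) (hW.primeIdealOf ⟨z, hzW z hz⟩).asIdeal =
        (hV.primeIdealOf ⟨x, hxV⟩).asIdeal := by
    intro z hz
    have h1 := IsAffineOpen.comap_primeIdealOf_appLE (f := g) V hV (g ⁻¹ᵁ V) hW le_rfl (hzW z hz)
    have h2 : (⟨g z, le_rfl (a := g ⁻¹ᵁ V) (hzW z hz)⟩ : V) = ⟨x, hxV⟩ := Subtype.ext hz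
    rw [h2, Scheme.Hom.appLE_eq_app] at h1
    exact congrArg PrimeSpectrum.asIdeal h1
  have hpt : ∀ (z z' : Z) (hz : z ∈ g ⁻¹ᵁ V) (hz' : z' ∈ g ⁻¹ᵁ V),
      (hW.primeIdealOf ⟨z, hz⟩).asIdeal = (hW.primeIdealOf ⟨z', hz'⟩).asIdeal → z = z' := by
    intro z z' hz hz' h
    have h1 : hW.primeIdealOf ⟨z, hz⟩ = hW.primeIdealOf ⟨z', hz'⟩ := PrimeSpectrum.ext h
    have h2 := congrArg hW.fromSpec h1
    rwa [hW.fromSpec_primeIdealOf, hW.fromSpec_primeIdealOf] at h2
  have hPne : ∀ (z : Z) (hz : g.base z = x),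
      Ideal.comap (phi g x z hz).hom (maximalIdeal (Z.presheaf.stalk z)) ≠ ⊤ :=
    fun z hz => Ideal.comap_ne_top _ (maximalIdeal.isMaximal _).ne_top
  -- surjectivity
  have hS : ∀ M : Ideal ((g.base _* Z.presheaf).stalk x), M.IsMaximal →
      ∃ (z : Z) (hz : g.base z = x),
        Ideal.comap (phi g x z hz).hom (maximalIdeal (Z.presheaf.stalk z)) = M := by
    intro M hM
    haveI := hM.isPrime
    let q : Ideal Γ(Z, g ⁻¹ᵁ V) := Ideal.comap ((g.base _* Z.presheaf).germ V x hxV).hom M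
    haveI : q.IsPrime := Ideal.comap_isPrime _ M
    haveI : (hV.primeIdealOf ⟨x, hxV⟩).asIdeal.IsPrime := (hV.primeIdealOf ⟨x, hxV⟩).2
    have hqp : q.comap (algebraMap Γ(X, V) Γ(Z, g ⁻¹ᵁ V)) ≤ (hV.primeIdealOf ⟨x, hxV⟩).asIdeal := by
      intro s hs
      by_contra hsp
      have hxs := mem_basicOpen_of_notMem hV x hxV s hsp
      have hu := isUnit_germ_app g x hxV s hxs
      have hs' : (g.base _* Z.presheaf).germ V x hxV (g.app V s) ∈ M := hs
      exact hM.ne_top (Ideal.eq_top_of_isUnit_mem _ hs' hu)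
    obtain ⟨q', hqq', hq'prime, hq'p⟩ :=
      Ideal.exists_ideal_over_prime_of_isIntegral_of_isPrime
        (hV.primeIdealOf ⟨x, hxV⟩).asIdeal q hqp
    let z : Z := hW.fromSpec ⟨q', hq'prime⟩
    have hzW' : z ∈ g ⁻¹ᵁ V := by
      have : z ∈ Set.range hW.fromSpec := ⟨_, rfl⟩
      rw [hW.range_fromSpec] at this
      exact this
    have hprime_z : hW.primeIdealOf ⟨z, hzW'⟩ = ⟨q', hq'prime⟩ := by
      apply hW.fromSpec.isOpenEmbedding.injective
      rw [hW.fromSpec_primeIdealOf]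
    have hgz : g.base z = x := by
      have h1 := IsAffineOpen.comap_primeIdealOf_appLE (f := g) V hV (g ⁻¹ᵁ V) hW le_rfl hzW'
      rw [Scheme.Hom.appLE_eq_app, hprime_z] at h1
      have h2 : hV.primeIdealOf ⟨g z, hzW'⟩ = hV.primeIdealOf ⟨x, hxV⟩ := by
        rw [← h1]
        exact PrimeSpectrum.ext hq'p
      have h3 := congrArg hV.fromSpec h2
      rwa [hV.fromSpec_primeIdealOf, hV.fromSpec_primeIdealOf] at h3
    refine ⟨z, hgz, ?_⟩
    have hle : M ≤ Ideal.comap (phi g x z hgz).hom (maximalIdeal (Z.presheaf.stalk z)) := by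
      intro c hc
      obtain ⟨s, b, hxs, hcb⟩ := exists_frac g hV x hxV c
      have hbM : (g.base _* Z.presheaf).germ V x hxV b ∈ M := by
        rw [← hcb]
        exact M.mul_mem_right _ hc
      have hbq' : b ∈ q' := hqq' hbM
      have hbz : b ∈ (hW.primeIdealOf ⟨z, hzW'⟩).asIdeal := by rw [hprime_z]; exact hbq'
      have h1 : (phi g x z hgz).hom ((g.base _* Z.presheaf).germ V x hxV b) ∈
          maximalIdeal (Z.presheaf.stalk z) := by
        rw [phi_germ]
        exact (hmem z hzW' b).1 hbz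
      have h2 : IsUnit ((phi g x z hgz).hom ((g.base _* Z.presheaf).germ V x hxV (g.app V s))) :=
        (isUnit_germ_app g x hxV s hxs).map _
      have h3 : (phi g x z hgz).hom c *
          (phi g x z hgz).hom ((g.base _* Z.presheaf).germ V x hxV (g.app V s)) ∈
          maximalIdeal (Z.presheaf.stalk z) := by
        rw [← map_mul, hcb]
        exact h1
      rw [Ideal.mem_comap]
      rcases (maximalIdeal.isMaximal _).isPrime.mem_or_mem h3 with h4 | h4
      · exact h4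
      · exact absurd h2 ((mem_maximalIdeal _).1 h4)
    exact (hM.eq_of_le (hPne z hgz) hle).symm
  refine ⟨?_, ?_, ?_⟩
  · -- maps to maximal
    rintro ⟨z, hz⟩ -
    show (Ideal.comap (phi g x z hz).hom (maximalIdeal (Z.presheaf.stalk z))).IsMaximal
    obtain ⟨M, hM, hPM⟩ := Ideal.exists_le_maximal _ (hPne z hz)
    obtain ⟨z', hz', hz'M⟩ := hS M hM
    have hq : (hW.primeIdealOf ⟨z, hzW z hz⟩).asIdeal ≤ (hW.primeIdealOf ⟨z', hzW z' hz'⟩).asIdeal := by
      rw [← hF2 z hz, ← hF2 z' hz', hz'M]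
      exact Ideal.comap_mono hPM
    have heq : (hW.primeIdealOf ⟨z, hzW z hz⟩).asIdeal = (hW.primeIdealOf ⟨z', hzW z' hz'⟩).asIdeal := by
      by_contra hne
      have hlt := lt_of_le_of_ne hq hne
      haveI : (hW.primeIdealOf ⟨z, hzW z hz⟩).asIdeal.IsPrime := (hW.primeIdealOf _).2
      have h5 := Ideal.IsIntegral.comap_lt_comap (R := Γ(X, V)) hlt
      rw [hover z hz, hover z' hz'] at h5
      exact lt_irrefl _ h5
    have hzz' : z = z' := hpt z z' _ _ heq
    subst hzz'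
    rw [hz'M]
    exact hM
  · -- injective
    rintro ⟨z, hz⟩ - ⟨z', hz'⟩ - h
    have h' : Ideal.comap (phi g x z hz).hom (maximalIdeal (Z.presheaf.stalk z)) =
        Ideal.comap (phi g x z' hz').hom (maximalIdeal (Z.presheaf.stalk z')) := h
    have h2 : (hW.primeIdealOf ⟨z, hzW z hz⟩).asIdeal = (hW.primeIdealOf ⟨z', hzW z' hz'⟩).asIdeal := by
      rw [← hF2 z hz, ← hF2 z' hz', h']
    exact Subtype.ext (hpt z z' _ _ h2)
  · -- surjective
    intro M hM
    obtain ⟨z, hz, hzM⟩ := hS M hM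
    exact ⟨⟨z, hz⟩, Set.mem_univ _, hzM⟩

end Groth.Agent.H21.FS
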