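import Mathlib
import Groth.Agent.Lib.helper21.AF3

/-!
# `R → Γ(Spec R ∖ V(J), 𝒪)` is bijective when `R` is `J`-closed
-/

set_option autoImplicit false

namespace Groth.Agent.H21.PS

open CategoryTheory Opposite Limits AlgebraicGeometry TopologicalSpace
open Groth.Agent.H21.LC Groth.Agent.H21.AF

universe u

theorem resΓ_bijective (R : CommRingCat.{u}) [IsNoetherianRing R] (U : (Spec R).Opens)
    (J : Ideal R)
    (hU : ∀ x : PrimeSpectrum R, x ∈ (show Opens (PrimeSpectrum R) from U) ↔ ¬ J ≤ x.asIdeal)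
    (hB0 : ∀ c : R, (∀ f ∈ J, ∃ n : ℕ, f ^ n * c = 0) → c = 0)
    (hB1 : ∀ (n : ℕ) (φ : ↥(J ^ n) →ₗ[R] R), ∃ b : R, ∀ a : ↥(J ^ n), φ a = (a : R) * b) :
    Function.Bijective (resΓ R U) := by
  obtain ⟨I', hI', h2, h3⟩ := open_facts R U
  have hJI : ∀ f ∈ J, ∃ k : ℕ, f ^ k ∈ I' := by
    have hle : J ≤ I'.radical := by
      rw [← PrimeSpectrum.zeroLocus_subset_zeroLocus_iff]
      intro x hx
      by_contra hJx
      exact ((hI' x).1 ((hU x).2 hJx)) hx
    exact fun f hf => hle hf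
  have hinj : Function.Injective (resΓ R U) := by
    rw [injective_iff_map_eq_zero]
    intro a ha
    refine hB0 a (fun f hf => ?_)
    obtain ⟨k, hk⟩ := hJI f hf
    obtain ⟨n, hn⟩ := h2 _ hk a ha
    exact ⟨k * n, by rw [pow_mul]; exact hn⟩
  refine ⟨hinj, fun c => ?_⟩
  let K : Ideal R :=
    { carrier := {g | ∃ a, resΓ R U g * c = resΓ R U a}
      add_mem' := by
        rintro g g' ⟨a, ha⟩ ⟨a', ha'⟩
        exact ⟨a + a', by rw [map_add, add_mul, ha, ha', map_add]⟩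
      zero_mem' := ⟨0, by simp⟩
      smul_mem' := by
        rintro r g ⟨a, ha⟩
        exact ⟨r * a, by rw [smul_eq_mul, map_mul, mul_assoc, ha, map_mul]⟩ }
  have hK : J ≤ K.radical := by
    intro f hf
    obtain ⟨k, hk⟩ := hJI f hf
    obtain ⟨n, a, hn⟩ := h3 _ hk c
    refine ⟨k * n, a, ?_⟩
    rw [pow_mul, map_pow]
    exact hn
  obtain ⟨N, hN⟩ := Ideal.exists_pow_le_of_le_radical_of_fg hK (IsNoetherian.noetherian J)
  have hex : ∀ g : ↥(J ^ N), ∃ a, resΓ R U (g : R) * c = resΓ R U a := fun g => hN g.2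
  choose a ha using hex
  let φ : ↥(J ^ N) →ₗ[R] R :=
    { toFun := a
      map_add' := by
        intro g g'
        apply hinj
        rw [map_add, ← ha, ← ha, ← ha]
        simp [add_mul]
      map_smul' := by
        intro r g
        apply hinj
        rw [RingHom.id_apply, smul_eq_mul, map_mul, ← ha, ← ha]
        simp [mul_assoc] }
  obtain ⟨b, hb⟩ := hB1 N φ
  refine ⟨b, ?_⟩
  have hz : c - resΓ R U b = 0 := by
    refine no_torsion R U J hU _ (fun f hf => ⟨N, ?_⟩)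
    have h1 := ha ⟨f ^ N, Ideal.pow_mem_pow hf N⟩
    have h2 : a ⟨f ^ N, Ideal.pow_mem_pow hf N⟩ = f ^ N * b := hb ⟨f ^ N, Ideal.pow_mem_pow hf N⟩
    rw [h2, map_mul, map_pow] at h1
    rw [mul_sub, h1, sub_self]
  exact (sub_eq_zero.1 hz).symm

end Groth.Agent.H21.PS
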