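import Mathlib
import Groth.Agent.Lib.helper21.PS1

universe u
set_option autoImplicit false
set_option linter.unusedSectionVars false
set_option linter.style.haveILetI false
open CategoryTheory Opposite Limits AlgebraicGeometry TopologicalSpace

namespace Groth.Agent.H21.HQ

open Groth.Agent.H21.LC Groth.Agent.H21.AF

/-- scheme→algebra bridge for an arbitrary open of a Noetherian affine scheme -/
theorem open_facts' (A : CommRingCat.{u}) (U : (Spec A).Opens)
    (hUc : IsCompact (U : Set (Spec A))) :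
    ∃ (I : Ideal A),
      (∀ x : PrimeSpectrum A, x ∈ (show TopologicalSpace.Opens (PrimeSpectrum A) from U) ↔
        ¬ I ≤ x.asIdeal) ∧
      (∀ f ∈ I, ∀ a, resΓ A U a = 0 → ∃ n : ℕ, f ^ n * a = 0) ∧
      (∀ f ∈ I, ∀ c : Γ(Spec A, U), ∃ (n : ℕ) (a : A), resΓ A U f ^ n * c = resΓ A U a) := by
  have hUqs : IsQuasiSeparated (U : Set (Spec A)) :=
    IsQuasiSeparated.of_quasiSeparatedSpace _
  let e := Scheme.ΓSpecIso A
  let ι : Γ(Spec A, ⊤) →+* Γ(Spec A, U) := ((Spec A).presheaf.map (homOfLE le_top).op).hom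
  let φ : A →+* Γ(Spec A, U) := resΓ A U
  have hφ : φ = ι.comp e.inv.hom := rfl
  have hb : ∀ f : A, (Spec A).basicOpen (φ f) = U ⊓ (Spec A).basicOpen (e.inv.hom f) := by
    intro f
    exact Scheme.basicOpen_res (Spec A) (e.inv.hom f) (homOfLE (le_top : U ≤ ⊤)).op
  let U' : TopologicalSpace.Opens (PrimeSpectrum A) := U
  let I : Ideal A := PrimeSpectrum.vanishingIdeal ((U' : Set (PrimeSpectrum A))ᶜ)
  have hI : ∀ x : PrimeSpectrum A, x ∈ (U' : Set (PrimeSpectrum A)) ↔ ¬ I ≤ x.asIdeal := by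
    intro x
    have hcl : IsClosed ((U' : Set (PrimeSpectrum A))ᶜ) := U'.2.isClosed_compl
    have hz : PrimeSpectrum.zeroLocus (I : Set A) = (U' : Set (PrimeSpectrum A))ᶜ := by
      rw [PrimeSpectrum.zeroLocus_vanishingIdeal_eq_closure, hcl.closure_eq]
    rw [← not_iff_not, not_not]
    change x ∉ (U' : Set (PrimeSpectrum A)) ↔ (I : Set A) ⊆ x.asIdeal
    rw [← PrimeSpectrum.mem_zeroLocus, hz]
    rfl
  have hDU : ∀ f ∈ I, (PrimeSpectrum.basicOpen f : (Spec A).Opens) ≤ U := by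
    intro f hf x hx
    refine (hI x).mpr ?_
    intro hle
    exact hx (hle hf)
  have hV : ∀ f ∈ I, (Spec A).basicOpen (φ f) = (Spec A).basicOpen (e.inv.hom f) := by
    intro f hf
    rw [hb f]
    apply inf_eq_right.mpr
    rw [basicOpen_eq_of_affine]
    exact hDU f hf
  -- the two localization facts
  have key : ∀ f ∈ I, ∃ (ρU : Γ(Spec A, U) →+* Γ(Spec A, (Spec A).basicOpen (φ f)))
      (ρT : Γ(Spec A, ⊤) →+* Γ(Spec A, (Spec A).basicOpen (φ f))),
      (∀ g, ρT g = ρU (ι g)) ∧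
      (∀ c, ρU c = 0 → ∃ n : ℕ, φ f ^ n * c = 0) ∧
      (∀ g, ρT g = 0 → ∃ n : ℕ, e.inv.hom f ^ n * g = 0) ∧
      (∀ s, ∃ (n : ℕ) (g : Γ(Spec A, ⊤)), s * ρT (e.inv.hom f) ^ n = ρT g) := by
    intro f hf
    have LU := isLocalization_basicOpen_of_qcqs hUc hUqs (φ f)
    have LT := (isAffineOpen_top (Spec A)).isLocalization_of_eq_basicOpen (e.inv.hom f)
      (homOfLE le_top : (Spec A).basicOpen (φ f) ⟶ ⊤) (hV f hf)
    refine ⟨((Spec A).presheaf.map (homOfLE ((Spec A).basicOpen_le (φ f))).op).hom,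
      ((Spec A).presheaf.map (homOfLE le_top : (Spec A).basicOpen (φ f) ⟶ ⊤).op).hom, ?_, ?_, ?_, ?_⟩
    · intro g
      change _ = ((Spec A).presheaf.map (homOfLE le_top).op ≫
        (Spec A).presheaf.map (homOfLE ((Spec A).basicOpen_le (φ f))).op).hom g
      rw [← Functor.map_comp]
      rfl
    · exact (away_facts _ (φ f) LU).1
    · exact (away_facts _ (e.inv.hom f) LT).1
    · exact (away_facts _ (e.inv.hom f) LT).2
  have einj : Function.Injective e.inv.hom := by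
    intro a b hab
    have := congrArg e.hom.hom hab
    simpa using this
  refine ⟨I, hI, ?_, ?_⟩
  · intro f hf a ha
    obtain ⟨ρU, ρT, hc, -, hT, -⟩ := key f hf
    have h0 : ρT (e.inv.hom a) = 0 := by
      rw [hc]
      change ρU (φ a) = 0
      rw [show φ a = 0 from ha, map_zero]
    obtain ⟨n, hn⟩ := hT _ h0
    refine ⟨n, einj ?_⟩
    rw [map_mul, map_pow, hn, map_zero]
  · intro f hf c
    obtain ⟨ρU, ρT, hc, hUU, -, hS⟩ := key f hf
    obtain ⟨n, g, hg⟩ := hS (ρU c)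
    obtain ⟨a, rfl⟩ : ∃ a, e.inv.hom a = g := ⟨e.hom.hom g, by simp⟩
    have h0 : ρU (φ f ^ n * c - φ a) = 0 := by
      rw [map_sub, map_mul, map_pow]
      have h1 : ρU (φ f) = ρT (e.inv.hom f) := (hc _).symm
      have h2 : ρU (φ a) = ρT (e.inv.hom a) := (hc _).symm
      rw [h1, h2, ← hg]
      ring
    obtain ⟨m, hm⟩ := hUU _ h0
    refine ⟨m + n, f ^ m * a, ?_⟩
    change φ f ^ (m + n) * c = φ (f ^ m * a)
    rw [map_mul, map_pow, pow_add]
    linear_combination hm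


theorem resΓ_bijective' (R : CommRingCat.{u}) (U : (Spec R).Opens)
    (hUc : IsCompact (U : Set (Spec R))) (J : Ideal R) (hJ : J.FG)
    (hU : ∀ x : PrimeSpectrum R, x ∈ (show Opens (PrimeSpectrum R) from U) ↔ ¬ J ≤ x.asIdeal)
    (hB0 : ∀ c : R, (∀ f ∈ J, ∃ n : ℕ, f ^ n * c = 0) → c = 0)
    (hB1 : ∀ (n : ℕ) (φ : ↥(J ^ n) →ₗ[R] R), ∃ b : R, ∀ a : ↥(J ^ n), φ a = (a : R) * b) :
    Function.Bijective (resΓ R U) := by
  obtain ⟨I', hI', h2, h3⟩ := open_facts' R U hUc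
  have hJI : ∀ f ∈ J, ∃ k : ℕ, f ^ k ∈ I' := by
    have hle : J ≤ I'.radical := by
      rw [← PrimeSpectrum.zeroLocus_subset_zeroLocus_iff]
      intro x hx
      by_contra hJx
      exact ((hI' x).1 ((hU x).2 hJx)) hx
    exact fun f hf => hle hf
  have hinj : Function.Injective (resΓ R U) := by
    rw [injective_iff_map_eq_zero]
    intro a ha
    refine hB0 a (fun f hf => ?_)
    obtain ⟨k, hk⟩ := hJI f hf
    obtain ⟨n, hn⟩ := h2 _ hk a ha
    exact ⟨k * n, by rw [pow_mul]; exact hn⟩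
  refine ⟨hinj, fun c => ?_⟩
  let K : Ideal R :=
    { carrier := {g | ∃ a, resΓ R U g * c = resΓ R U a}
      add_mem' := by
        rintro g g' ⟨a, ha⟩ ⟨a', ha'⟩
        exact ⟨a + a', by rw [map_add, add_mul, ha, ha', map_add]⟩
      zero_mem' := ⟨0, by simp⟩
      smul_mem' := by
        rintro r g ⟨a, ha⟩
        exact ⟨r * a, by rw [smul_eq_mul, map_mul, mul_assoc, ha, map_mul]⟩ }
  have hK : J ≤ K.radical := by
    intro f hf
    obtain ⟨k, hk⟩ := hJI f hf
    obtain ⟨n, a, hn⟩ := h3 _ hk c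
    refine ⟨k * n, a, ?_⟩
    rw [pow_mul, map_pow]
    exact hn
  obtain ⟨N, hN⟩ := Ideal.exists_pow_le_of_le_radical_of_fg hK hJ
  have hex : ∀ g : ↥(J ^ N), ∃ a, resΓ R U (g : R) * c = resΓ R U a := fun g => hN g.2
  choose a ha using hex
  let φ : ↥(J ^ N) →ₗ[R] R :=
    { toFun := a
      map_add' := by
        intro g g'
        apply hinj
        rw [map_add, ← ha, ← ha, ← ha]
        simp [add_mul]
      map_smul' := by
        intro r g
        apply hinj
        rw [RingHom.id_apply, smul_eq_mul, map_mul, ← ha, ← ha]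
        simp [mul_assoc] }
  obtain ⟨b, hb⟩ := hB1 N φ
  refine ⟨b, ?_⟩
  have hz : c - resΓ R U b = 0 := by
    refine no_torsion R U J hU _ (fun f hf => ⟨N, ?_⟩)
    have h1 := ha ⟨f ^ N, Ideal.pow_mem_pow hf N⟩
    have h2 : a ⟨f ^ N, Ideal.pow_mem_pow hf N⟩ = f ^ N * b := hb ⟨f ^ N, Ideal.pow_mem_pow hf N⟩
    rw [h2, map_mul, map_pow] at h1
    rw [mul_sub, h1, sub_self]
  exact (sub_eq_zero.1 hz).symm


end Groth.Agent.H21.HQ
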