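import Mathlib

universe u
set_option autoImplicit false
set_option linter.style.haveILetI false

namespace Groth.Agent.H21.HQ

/-- elementary form of a weakly regular sequence `[a, b]` on a commutative ring -/
def RegPair (A : Type*) [CommRing A] (a b : A) : Prop :=
  (∀ x : A, a * x = 0 → x = 0) ∧ (∀ x y : A, b * x = a * y → ∃ y' : A, x = a * y')

lemma RegPair.pow_right {A : Type*} [CommRing A] {a b : A} (h : RegPair A a b) (l : ℕ) :
    RegPair A a (b ^ l) := by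
  refine ⟨h.1, ?_⟩
  induction l with
  | zero => intro x y hxy; exact ⟨y, by simpa using hxy⟩
  | succ l ih =>
    intro x y hxy
    have h1 : b * (b ^ l * x) = a * y := by rw [← hxy]; ring
    obtain ⟨y', hy'⟩ := h.2 _ _ h1
    exact ih x y' hy'

lemma RegPair.pow_left {A : Type*} [CommRing A] {a b : A} (h : RegPair A a b) (k : ℕ) :
    RegPair A (a ^ k) b := by
  have h1 : ∀ k : ℕ, ∀ x : A, a ^ k * x = 0 → x = 0 := by
    intro k
    induction k with
    | zero => intro x hx; simpa using hx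
    | succ k ih =>
      intro x hx
      apply ih
      apply h.1
      rw [← hx]; ring
  refine ⟨h1 k, ?_⟩
  induction k with
  | zero => intro x y _; exact ⟨x, by simp⟩
  | succ k ih =>
    intro x y hxy
    have e1 : b * x = a * (a ^ k * y) := by rw [hxy]; ring
    obtain ⟨x', rfl⟩ := h.2 _ _ e1
    have e2 : a * (b * x' - a ^ k * y) = 0 := by
      have : a * (b * x') = a * (a ^ k * y) := by rw [← e1]; ring
      rw [mul_sub, this, sub_self]
    have e3 : b * x' = a ^ k * y := sub_eq_zero.1 (h.1 _ e2)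
    obtain ⟨y'', rfl⟩ := ih x' y e3
    exact ⟨y'', by ring⟩

lemma RegPair.pow {A : Type*} [CommRing A] {a b : A} (h : RegPair A a b) (k l : ℕ) :
    RegPair A (a ^ k) (b ^ l) := (h.pow_left k).pow_right l

/-- data at a prime: a localization with a regular pair of non-units -/
def HasRegPairAt (R : Type u) [CommRing R] (p : Ideal R) [p.IsPrime] : Prop :=
  ∃ (A : Type u) (_ : CommRing A) (_ : Algebra R A) (_ : IsLocalization.AtPrime A p) (a b : A),
    ¬ IsUnit a ∧ ¬ IsUnit b ∧ RegPair A a b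

/-- a non-unit of the localization at a minimal prime over `T` has a power in `T·A`, written with
explicit numerator and denominator. -/
lemma exists_pow_mul_eq {R : Type u} [CommRing R] (A : Type u) [CommRing A] [Algebra R A]
    (p : Ideal R) [p.IsPrime] [IsLocalization.AtPrime A p] (T : Ideal R)
    (hp : p ∈ T.minimalPrimes) (a : A) (ha : ¬ IsUnit a) :
    ∃ (k : ℕ) (t : R) (s : R), t ∈ T ∧ s ∉ p ∧ a ^ k * algebraMap R A s = algebraMap R A t := by
  haveI : IsLocalRing A := IsLocalization.AtPrime.isLocalRing A p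
  have h1 : a ∈ IsLocalRing.maximalIdeal A := (IsLocalRing.mem_maximalIdeal a).2 ha
  rw [← IsLocalization.AtPrime.map_eq_maximalIdeal p A,
    ← IsLocalization.AtPrime.radical_map_of_mem_minimalPrimes (A := A) p T hp] at h1
  obtain ⟨k, hk⟩ := h1
  obtain ⟨⟨t, s⟩, hts⟩ := (IsLocalization.mem_map_algebraMap_iff p.primeCompl A).1 hk
  exact ⟨k, t.1, s.1, t.2, s.2, hts⟩

theorem B0_of_regPair (R : Type u) [CommRing R] (J : Ideal R)
    (h : ∀ (p : Ideal R) [p.IsPrime], J ≤ p → HasRegPairAt R p) :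
    ∀ c : R, (∀ f ∈ J, ∃ n : ℕ, f ^ n * c = 0) → c = 0 := by
  intro c hc
  by_contra hc0
  let T : Ideal R := Ideal.torsionOf R R c
  have hT : T ≠ ⊤ := by
    intro hT
    have : (1 : R) ∈ T := hT ▸ Submodule.mem_top
    rw [Ideal.mem_torsionOf_iff] at this
    exact hc0 (by simpa using this)
  obtain ⟨p, hp⟩ := Ideal.nonempty_minimalPrimes hT
  haveI : p.IsPrime := hp.1.1
  have hJp : J ≤ p := by
    intro f hf
    obtain ⟨n, hn⟩ := hc f hf
    have : f ^ n ∈ T := by rw [Ideal.mem_torsionOf_iff]; simpa using hn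
    exact Ideal.IsPrime.mem_of_pow_mem inferInstance n (hp.1.2 this)
  obtain ⟨A, _, _, _, a, b, ha, -, hab⟩ := h p hJp
  obtain ⟨k, t, s, ht, hs, hts⟩ := exists_pow_mul_eq A p T hp a ha
  have h1 : a ^ k * (algebraMap R A s * algebraMap R A c) = 0 := by
    rw [← mul_assoc, hts, ← map_mul]
    have : t * c = 0 := by
      have := (Ideal.mem_torsionOf_iff c t).1 ht
      simpa using this
    rw [this, map_zero]
  have h2 := (hab.pow_left k).1 _ h1
  rw [← map_mul, IsLocalization.map_eq_zero_iff p.primeCompl] at h2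
  obtain ⟨u, hu⟩ := h2
  have h3 : (u : R) * s ∈ T := by
    rw [Ideal.mem_torsionOf_iff]
    simpa [mul_assoc] using hu
  rcases Ideal.IsPrime.mem_or_mem inferInstance (hp.1.2 h3) with h4 | h4
  · exact u.2 h4
  · exact hs h4

theorem B1_of_regPair (R : Type u) [CommRing R] (J : Ideal R) (hJ : J.FG)
    (h : ∀ (p : Ideal R) [p.IsPrime], J ≤ p → HasRegPairAt R p) :
    ∀ (n : ℕ) (φ : ↥(J ^ n) →ₗ[R] R), ∃ b : R, ∀ a : ↥(J ^ n), φ a = (a : R) * b := by
  intro n φ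
  have hB0 := B0_of_regPair R J h
  let D : Ideal R :=
    { carrier := {r | ∃ w : R, ∀ x : ↥(J ^ n), r * φ x = (x : R) * w}
      add_mem' := by
        rintro r r' ⟨w, hw⟩ ⟨w', hw'⟩
        exact ⟨w + w', fun x => by rw [add_mul, hw, hw', mul_add]⟩
      zero_mem' := ⟨0, fun x => by simp⟩
      smul_mem' := by
        rintro r r' ⟨w, hw⟩
        exact ⟨r * w, fun x => by rw [smul_eq_mul, mul_assoc, hw]; ring⟩ }
  have hDmem : ∀ r : R, r ∈ D ↔ ∃ w : R, ∀ x : ↥(J ^ n), r * φ x = (x : R) * w := fun r => Iff.rfl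
  suffices hD : D = ⊤ by
    have h1 : (1 : R) ∈ D := hD ▸ Submodule.mem_top
    obtain ⟨w, hw⟩ := (hDmem 1).1 h1
    exact ⟨w, fun x => by simpa using hw x⟩
  by_contra hD
  obtain ⟨p, hp⟩ := Ideal.nonempty_minimalPrimes hD
  haveI : p.IsPrime := hp.1.1
  have hJD : J ^ n ≤ D := by
    intro r hr
    refine (hDmem r).2 ⟨φ ⟨r, hr⟩, fun x => ?_⟩
    have e : r • x = (x : R) • (⟨r, hr⟩ : ↥(J ^ n)) := Subtype.ext (by simp [mul_comm])
    have := congrArg φ e
    rw [map_smul, map_smul, smul_eq_mul, smul_eq_mul] at this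
    exact this
  have hJp : J ≤ p := by
    intro f hf
    have : f ^ n ∈ p := hp.1.2 (hJD (Ideal.pow_mem_pow hf n))
    exact Ideal.IsPrime.mem_of_pow_mem inferInstance n this
  obtain ⟨A, _, _, _, a, b, ha, hb, hab⟩ := h p hJp
  obtain ⟨k, d₁, s₁, hd₁, hs₁, e₁⟩ := exists_pow_mul_eq A p D hp a ha
  obtain ⟨l, d₂, s₂, hd₂, hs₂, e₂⟩ := exists_pow_mul_eq A p D hp b hb
  obtain ⟨w₁, hw₁⟩ := (hDmem d₁).1 hd₁
  obtain ⟨w₂, hw₂⟩ := (hDmem d₂).1 hd₂
  -- d₂ w₁ = d₁ w₂
  have hz : d₂ * w₁ - d₁ * w₂ = 0 := by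
    apply hB0
    intro f hf
    refine ⟨n, ?_⟩
    have h1 := hw₁ ⟨f ^ n, Ideal.pow_mem_pow hf n⟩
    have h2 := hw₂ ⟨f ^ n, Ideal.pow_mem_pow hf n⟩
    simp only at h1 h2
    linear_combination (-d₂) * h1 + d₁ * h2
  have hz' : d₂ * w₁ = d₁ * w₂ := sub_eq_zero.1 hz
  let ι := algebraMap R A
  have e3 : b ^ l * ι (s₂ * w₁) = a ^ k * ι (s₁ * w₂) := by
    rw [map_mul, map_mul, ← mul_assoc, ← mul_assoc, e₂, e₁, ← map_mul, ← map_mul, hz']
  obtain ⟨y', hy'⟩ := (hab.pow k l).2 _ _ e3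
  obtain ⟨⟨y₀, s₃⟩, hy₀⟩ := IsLocalization.surj p.primeCompl y'
  simp only at hy₀
  -- ι (s₁ s₃ s₂ w₁) = ι (d₁ y₀)
  have e4 : ι (s₁ * s₃ * (s₂ * w₁)) = ι (d₁ * y₀) := by
    rw [map_mul, hy', map_mul ι d₁, ← hy₀, ← e₁, map_mul]
    ring
  rw [IsLocalization.eq_iff_exists p.primeCompl] at e4
  obtain ⟨u, hu⟩ := e4
  -- ι d₁ is regular
  have hreg : ∀ z : A, ι d₁ * z = 0 → z = 0 := by
    intro z hz
    rw [← e₁] at hz
    have h1 : a ^ k * (ι s₁ * z) = 0 := by rw [← hz]; ring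
    have h2 := (hab.pow_left k).1 _ h1
    have hu1 : IsUnit (ι s₁) := IsLocalization.map_units A (⟨s₁, hs₁⟩ : p.primeCompl)
    exact (hu1.mul_right_eq_zero).1 h2
  let r₀ : R := u * (s₁ * s₃ * s₂)
  have hr₀ : r₀ ∉ p := by
    intro hmem
    rcases Ideal.IsPrime.mem_or_mem inferInstance hmem with h1 | h1
    · exact u.2 h1
    · rcases Ideal.IsPrime.mem_or_mem inferInstance h1 with h2 | h2
      · rcases Ideal.IsPrime.mem_or_mem inferInstance h2 with h3 | h3
        · exact hs₁ h3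
        · exact s₃.2 h3
      · exact hs₂ h2
  have key : ∀ x : ↥(J ^ n), d₁ * (r₀ * φ x - (x : R) * (u * y₀)) = 0 := by
    intro x
    have h1 := hw₁ x
    linear_combination r₀ * h1 + (x : R) * hu
  have key2 : ∀ x : ↥(J ^ n), ∃ v : R, v ∉ p ∧ v * (r₀ * φ x - (x : R) * (u * y₀)) = 0 := by
    intro x
    have h1 : ι d₁ * ι (r₀ * φ x - (x : R) * (u * y₀)) = 0 := by
      rw [← map_mul, key x, map_zero]
    have h2 := hreg _ h1
    rw [IsLocalization.map_eq_zero_iff p.primeCompl] at h2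
    obtain ⟨v, hv⟩ := h2
    exact ⟨v, v.2, hv⟩
  -- uniform v by finite generation
  obtain ⟨S, hS⟩ := (hJ.pow : (J ^ n).FG)
  have hSmem : ∀ s ∈ S, s ∈ J ^ n := fun s hs => hS ▸ Submodule.subset_span hs
  have key3 : ∀ s : S, ∃ v : R, v ∉ p ∧
      v * (r₀ * φ ⟨s.1, hSmem s.1 s.2⟩ - (s.1 : R) * (u * y₀)) = 0 :=
    fun s => key2 ⟨s.1, hSmem s.1 s.2⟩
  choose v hv1 hv2 using key3
  let V : R := ∏ s : S, v s
  have hV : V ∉ p := by
    intro hmem
    obtain ⟨s, -, hs⟩ := (Ideal.IsPrime.prod_mem_iff).1 hmem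
    exact hv1 s hs
  let Ψ : ↥(J ^ n) →ₗ[R] R := (V * r₀) • φ - (V * (u * y₀)) • (J ^ n).subtype
  have hΨ : ∀ x : ↥(J ^ n), Ψ x = V * (r₀ * φ x - (x : R) * (u * y₀)) := by
    intro x
    simp only [Ψ, LinearMap.sub_apply, LinearMap.smul_apply, Submodule.subtype_apply, smul_eq_mul]
    ring
  have hΨS : ∀ s : S, Ψ ⟨s.1, hSmem s.1 s.2⟩ = 0 := by
    intro s
    rw [hΨ]
    obtain ⟨c, hc⟩ : v s ∣ V := Finset.dvd_prod_of_mem _ (Finset.mem_univ s)
    rw [hc, mul_comm (v s) c, mul_assoc, hv2 s, mul_zero]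
  have hΨ0 : ∀ (x : R) (hx : x ∈ Submodule.span R (S : Set R)), ∀ hx' : x ∈ J ^ n,
      Ψ ⟨x, hx'⟩ = 0 := by
    intro x hx
    induction hx using Submodule.span_induction with
    | mem x hxS => intro hx'; exact hΨS ⟨x, hxS⟩
    | zero => intro hx'; exact map_zero Ψ
    | add x y hx hy ihx ihy =>
      intro hx'
      have hx1 : x ∈ J ^ n := hS ▸ hx
      have hy1 : y ∈ J ^ n := hS ▸ hy
      have : (⟨x + y, hx'⟩ : ↥(J ^ n)) = ⟨x, hx1⟩ + ⟨y, hy1⟩ := rfl
      rw [this, map_add, ihx hx1, ihy hy1, add_zero]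
    | smul r x hx ih =>
      intro hx'
      have hx1 : x ∈ J ^ n := hS ▸ hx
      have : (⟨r • x, hx'⟩ : ↥(J ^ n)) = r • ⟨x, hx1⟩ := rfl
      rw [this, map_smul, ih hx1, smul_zero]
  have hfin : V * r₀ ∈ D := by
    refine (hDmem _).2 ⟨V * (u * y₀), fun x => ?_⟩
    have h1 := hΨ0 x.1 (by change (x : R) ∈ Ideal.span (S : Set R); rw [hS]; exact x.2) x.2
    rw [hΨ] at h1
    linear_combination h1
  rcases Ideal.IsPrime.mem_or_mem inferInstance (hp.1.2 hfin) with h1 | h1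
  · exact hV h1
  · exact hr₀ h1

end Groth.Agent.H21.HQ
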