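import Mathlib
import Groth.Agent.Lib.helper21.HQ1
import Groth.Agent.Lib.helper21.HQ2
import Groth.Agent.Lib.helper9.Glue2

universe u
set_option autoImplicit false
set_option linter.style.haveILetI false
open CategoryTheory Opposite Limits AlgebraicGeometry TopologicalSpace

namespace Groth.Agent.H21.HQ

open Groth.Agent.H21.LC Groth.Agent.Lib.helper9.Glue

lemma regPair_of_isWeaklyRegular {A : Type*} [CommRing A] {a b : A}
    (h : RingTheory.Sequence.IsWeaklyRegular A [a, b]) : RegPair A a b := by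
  rw [RingTheory.Sequence.isWeaklyRegular_cons_iff] at h
  obtain ⟨h1, h2⟩ := h
  rw [RingTheory.Sequence.isWeaklyRegular_cons_iff] at h2
  obtain ⟨h2, -⟩ := h2
  constructor
  · intro x hx
    apply h1
    simpa using hx
  · intro x y hxy
    have e : b • (Submodule.Quotient.mk x : QuotSMulTop a A) = b • 0 := by
      rw [smul_zero, ← Submodule.Quotient.mk_smul, Submodule.Quotient.mk_eq_zero,
        Submodule.mem_smul_pointwise_iff_exists]
      exact ⟨y, Submodule.mem_top, by simpa using hxy.symm⟩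
    have e2 := h2 e
    rw [Submodule.Quotient.mk_eq_zero, Submodule.mem_smul_pointwise_iff_exists] at e2
    obtain ⟨y', -, hy'⟩ := e2
    exact ⟨y', by simpa using hy'.symm⟩

/-- the pointwise hypothesis -/
def HasRegPairOutside (X : Scheme.{u}) (U : X.Opens) : Prop :=
  ∀ z : X, z ∉ U → ∃ a b : X.presheaf.stalk z,
    a ∈ IsLocalRing.maximalIdeal (X.presheaf.stalk z) ∧
    b ∈ IsLocalRing.maximalIdeal (X.presheaf.stalk z) ∧
    RingTheory.Sequence.IsWeaklyRegular (X.presheaf.stalk z) [a, b]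

theorem res_bijective_of_isAffineOpen {X : Scheme.{u}} {W : X.Opens} (hW : IsAffineOpen W)
    (U : X.Opens) (hUc : IsCompact ((W ⊓ U : X.Opens) : Set X)) (hZ : HasRegPairOutside X U) :
    Function.Bijective (X.presheaf.map (homOfLE (inf_le_left : W ⊓ U ≤ W)).op) := by
  set f := hW.fromSpec with hf
  set U' : (Spec Γ(X, W)).Opens := f ⁻¹ᵁ U with hU'
  have h1 : f ''ᵁ (⊤ : (Spec Γ(X, W)).Opens) = W := by
    rw [Scheme.Hom.image_top_eq_opensRange, hW.opensRange_fromSpec]
  have h2 : f ''ᵁ U' = W ⊓ U := by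
    rw [hU', Scheme.Hom.image_preimage_eq_opensRange_inf, hW.opensRange_fromSpec]
  have hle : f ''ᵁ U' ≤ f ''ᵁ (⊤ : (Spec Γ(X, W)).Opens) := f.image_mono le_top
  rw [← bijective_map_congr X.presheaf h1 h2 hle inf_le_left]
  -- compactness of U'
  have hU'c : IsCompact (U' : Set (Spec Γ(X, W))) := by
    rw [f.isOpenEmbedding.isInducing.isCompact_iff]
    have : (f '' (U' : Set (Spec Γ(X, W)))) = ((f ''ᵁ U' : X.Opens) : Set X) := rfl
    rw [this, h2]
    exact hUc
  let U'' : Opens (PrimeSpectrum Γ(X, W)) := U'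
  obtain ⟨J, hJ, hJU⟩ := PrimeSpectrum.isCompact_isOpen_iff_ideal.1
    (⟨hU'c, U''.2⟩ : IsCompact (U'' : Set (PrimeSpectrum Γ(X, W))) ∧
      IsOpen (U'' : Set (PrimeSpectrum Γ(X, W))))
  have hUJ : ∀ x : PrimeSpectrum Γ(X, W),
      x ∈ (show Opens (PrimeSpectrum Γ(X, W)) from U') ↔ ¬ J ≤ x.asIdeal := by
    intro x
    have : x ∈ (show Opens (PrimeSpectrum Γ(X, W)) from U') ↔
        x ∈ (PrimeSpectrum.zeroLocus (J : Set Γ(X, W)))ᶜ := by
      rw [hJU]; rfl
    rw [this, Set.mem_compl_iff, PrimeSpectrum.mem_zeroLocus]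
    rfl
  have hreg : ∀ (p : Ideal Γ(X, W)) [p.IsPrime], J ≤ p → HasRegPairAt Γ(X, W) p := by
    intro p _ hJp
    let q : PrimeSpectrum Γ(X, W) := ⟨p, inferInstance⟩
    have hqU : q ∉ U' := fun hq => ((hUJ q).1 hq) hJp
    have hq : hW.fromSpec q ∈ W := by
      have : hW.fromSpec q ∈ hW.fromSpec.opensRange := ⟨q, rfl⟩
      rwa [hW.opensRange_fromSpec] at this
    obtain ⟨a, b, ha, hb, hab⟩ := hZ (hW.fromSpec q) hqU
    letI : Algebra Γ(X, W) (X.presheaf.stalk (hW.fromSpec q)) :=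
      TopCat.Presheaf.algebra_section_stalk X.presheaf ⟨hW.fromSpec q, hq⟩
    haveI : IsLocalization.AtPrime (X.presheaf.stalk (hW.fromSpec q)) q.asIdeal :=
      hW.isLocalization_stalk' q hq
    exact ⟨X.presheaf.stalk (hW.fromSpec q), inferInstance, inferInstance, inferInstance, a, b,
      (IsLocalRing.mem_maximalIdeal a).1 ha, (IsLocalRing.mem_maximalIdeal b).1 hb,
      regPair_of_isWeaklyRegular hab⟩
  have hcore := resΓ_bijective' Γ(X, W) U' hU'c J hJ hUJ
    (B0_of_regPair Γ(X, W) J hreg) (B1_of_regPair Γ(X, W) J hJ hreg)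
  have hbij' : Function.Bijective
      ((Spec Γ(X, W)).presheaf.map (homOfLE (le_top : U' ≤ ⊤)).op) := by
    have e : ((Spec Γ(X, W)).presheaf.map (homOfLE (le_top : U' ≤ ⊤)).op).hom =
        (resΓ Γ(X, W) U').comp (Scheme.ΓSpecIso Γ(X, W)).hom.hom := by
      ext x
      simp [resΓ]
    change Function.Bijective ((Spec Γ(X, W)).presheaf.map (homOfLE (le_top : U' ≤ ⊤)).op).hom
    rw [e, RingHom.coe_comp]
    exact hcore.comp (ConcreteCategory.bijective_of_isIso (Scheme.ΓSpecIso Γ(X, W)).hom)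
  have hnat := f.appIso_hom_naturality (homOfLE (le_top : U' ≤ ⊤)).op
  have hcomp : X.presheaf.map (homOfLE hle).op =
      (f.appIso ⊤).hom ≫ (Spec Γ(X, W)).presheaf.map (homOfLE (le_top : U' ≤ ⊤)).op ≫
        (f.appIso U').inv := by
    rw [← Category.assoc, ← hnat, Category.assoc, Iso.hom_inv_id, Category.comp_id]
    rfl
  rw [hcomp]
  have b1 : Function.Bijective (f.appIso ⊤).hom :=
    ConcreteCategory.bijective_of_isIso _
  have b2 : Function.Bijective (f.appIso U').inv :=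
    ConcreteCategory.bijective_of_isIso _
  simp only [CommRingCat.hom_comp, RingHom.coe_comp]
  exact (b2.comp hbij').comp b1

theorem res_bijective {X : Scheme.{u}} (U : X.Opens) [QuasiCompact U.ι]
    (hZ : HasRegPairOutside X U) (V : X.Opens) :
    Function.Bijective (X.presheaf.map (homOfLE (inf_le_left : V ⊓ U ≤ V)).op) := by
  refine resInf_bijective_of_basis X.sheaf U X.affineOpens X.isBasis_affineOpens ?_ V
  intro W hW
  refine res_bijective_of_isAffineOpen hW U ?_ hZ
  have hc : IsCompact (U.ι ⁻¹' (W : Set X)) :=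
    QuasiCompact.isCompact_preimage (f := U.ι) _ W.2 hW.isCompact
  have := hc.image U.ι.continuous
  rw [Set.image_preimage_eq_inter_range, Scheme.Opens.range_ι] at this
  exact this

theorem homOfLE_appTop_bijective_of_res {Y : Scheme.{u}} (V : Y.Opens) (O : Y.Opens)
    (hbij : Function.Bijective (Y.presheaf.map (homOfLE (inf_le_left : O ⊓ V ≤ O)).op)) :
    Function.Bijective (Y.homOfLE (inf_le_left : O ⊓ V ≤ O)).appTop.hom := by
  rw [Scheme.Hom.appTop, Scheme.homOfLE_app]
  have h1 : O = O.ι ''ᵁ ⊤ := by rw [Scheme.Opens.ι_image_top]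
  have h2 : O ⊓ V = (O ⊓ V).ι ''ᵁ (Y.homOfLE (inf_le_left : O ⊓ V ≤ O) ⁻¹ᵁ ⊤) := by
    rw [Scheme.Hom.preimage_top, Scheme.Opens.ι_image_top]
  exact (bijective_map_congr Y.presheaf h1 h2 inf_le_left _).mp hbij

end Groth.Agent.H21.HQ
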