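import Mathlib

set_option autoImplicit false
open TensorProduct MvPolynomial

namespace Groth.Agent.H21.JQ
universe u
variable {A R : Type u} [CommRing A] [CommRing R] [Algebra A R] {ι : Type u} [Fintype ι]

/-- The Jouanolou equation `∑ rᵢ xᵢ - 1`. -/
noncomputable def eqn (r : ι → A) : MvPolynomial (Option ι) A :=
  ∑ i, C (r i) * X (some i) - 1

/-- The Jouanolou ring (with one extra free variable). -/
abbrev B (r : ι → A) := MvPolynomial (Option ι) A ⧸ Ideal.span {eqn r}

lemma sum_eq_one (r : ι → A) :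
    ∑ i, (Ideal.Quotient.mk (Ideal.span {eqn r}) (C (r i))) *
      (Ideal.Quotient.mk (Ideal.span {eqn r}) (X (some i))) = 1 := by
  have h : Ideal.Quotient.mk (Ideal.span {eqn r}) (∑ i, C (r i) * X (some i) - 1) = 0 :=
    Ideal.Quotient.eq_zero_iff_mem.mpr (Ideal.subset_span rfl)
  rw [map_sub, map_sum, map_one, sub_eq_zero] at h
  simpa only [map_mul] using h

variable (r : ι → A) (a : ι → R)

/-- `F = ∑ rⱼ wⱼ`. -/
noncomputable def F : MvPolynomial ι R := ∑ j, C (algebraMap A R (r j)) * X j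

/-- images of the variables. -/
noncomputable def v : Option ι → MvPolynomial ι R :=
  fun o => o.elim (F r) (fun i => C (a i) + X i - F r * C (a i))

lemma aeval_eqn (h : ∑ i, algebraMap A R (r i) * a i = 1) :
    aeval (v r a) (eqn r) = 0 := by
  have hS : ∑ i, C (algebraMap A R (r i)) * C (a i) = (1 : MvPolynomial ι R) := by
    simp_rw [← map_mul]
    rw [← map_sum, h, map_one]
  have : ∑ i, C (algebraMap A R (r i)) * (C (a i) + X i - F r * C (a i)) =
      ∑ i, C (algebraMap A R (r i)) * C (a i) + F r -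
        F r * ∑ i, C (algebraMap A R (r i)) * C (a i) := by
    rw [Finset.mul_sum, F, ← Finset.sum_add_distrib, ← Finset.sum_sub_distrib]
    refine Finset.sum_congr rfl fun i _ => ?_
    ring
  simp only [eqn, map_sub, map_sum, map_mul, aeval_C, aeval_X, map_one, v, Option.elim_some,
    MvPolynomial.algebraMap_apply, IsScalarTower.algebraMap_apply A R (MvPolynomial ι R),
    Algebra.algebraMap_self, RingHom.id_apply]
  rw [this, hS]
  ring

noncomputable def phi0 (h : ∑ i, algebraMap A R (r i) * a i = 1) :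
    B r →ₐ[A] MvPolynomial ι R :=
  Ideal.Quotient.liftₐ _ (aeval (v r a)) (by
    intro x hx
    obtain ⟨c, rfl⟩ := Ideal.mem_span_singleton'.mp hx
    rw [map_mul, aeval_eqn r a h, mul_zero])

noncomputable def Phi (h : ∑ i, algebraMap A R (r i) * a i = 1) :
    R ⊗[A] B r →ₐ[R] MvPolynomial ι R :=
  Algebra.TensorProduct.lift (Algebra.ofId R _) (phi0 r a h) (fun _ _ => Commute.all _ _)

noncomputable def w : ι → R ⊗[A] B r := fun i =>
  (1 : R) ⊗ₜ[A] (Ideal.Quotient.mk _ (X (some i))) - a i ⊗ₜ[A] (1 : B r) +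
    a i ⊗ₜ[A] (Ideal.Quotient.mk _ (X none))

noncomputable def Psi : MvPolynomial ι R →ₐ[R] R ⊗[A] B r := aeval (w r a)

lemma Psi_F (h : ∑ i, algebraMap A R (r i) * a i = 1) :
    Psi r a (F r) = (1 : R) ⊗ₜ[A] (Ideal.Quotient.mk _ (X none) : B r) := by
  have e1 : ∀ j, (algebraMap A R (r j)) ⊗ₜ[A] (1 : B r) =
      (1 : R) ⊗ₜ[A] (Ideal.Quotient.mk _ (C (r j)) : B r) := by
    intro j
    rw [Algebra.algebraMap_eq_smul_one, TensorProduct.smul_tmul]
    congr 1
    exact (Algebra.algebraMap_eq_smul_one (r j)).symm.trans rfl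
  have e2 : ∀ j, Psi r a (C (algebraMap A R (r j)) * X j) =
      (1 : R) ⊗ₜ[A] ((Ideal.Quotient.mk _ (C (r j)) : B r) * Ideal.Quotient.mk _ (X (some j)))
        - (algebraMap A R (r j) * a j) ⊗ₜ[A] (1 : B r)
        + (algebraMap A R (r j) * a j) ⊗ₜ[A] (Ideal.Quotient.mk _ (X none) : B r) := by
    intro j
    have : Psi r a (C (algebraMap A R (r j))) = (algebraMap A R (r j)) ⊗ₜ[A] (1 : B r) := by
      simp [Psi, Algebra.TensorProduct.algebraMap_apply]
    have p1 : (algebraMap A R (r j)) ⊗ₜ[A] (1 : B r) *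
        ((1 : R) ⊗ₜ[A] (Ideal.Quotient.mk _ (X (some j)) : B r)) =
        (1 : R) ⊗ₜ[A] ((Ideal.Quotient.mk _ (C (r j)) : B r) * Ideal.Quotient.mk _ (X (some j))) := by
      rw [e1 j, Algebra.TensorProduct.tmul_mul_tmul, one_mul]
    have p2 : (algebraMap A R (r j)) ⊗ₜ[A] (1 : B r) * (a j ⊗ₜ[A] (1 : B r)) =
        (algebraMap A R (r j) * a j) ⊗ₜ[A] (1 : B r) := by
      rw [Algebra.TensorProduct.tmul_mul_tmul, mul_one]
    have p3 : (algebraMap A R (r j)) ⊗ₜ[A] (1 : B r) *
        (a j ⊗ₜ[A] (Ideal.Quotient.mk _ (X none) : B r)) =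
        (algebraMap A R (r j) * a j) ⊗ₜ[A] (Ideal.Quotient.mk _ (X none) : B r) := by
      rw [Algebra.TensorProduct.tmul_mul_tmul, one_mul]
    rw [map_mul, this, Psi, aeval_X, w, ← p1, ← p2, ← p3]
    ring
  rw [F, map_sum]
  simp_rw [e2]
  rw [Finset.sum_add_distrib, Finset.sum_sub_distrib, ← TensorProduct.tmul_sum,
    ← TensorProduct.sum_tmul, ← TensorProduct.sum_tmul, sum_eq_one, h]
  abel

lemma Phi_Psi (h : ∑ i, algebraMap A R (r i) * a i = 1) :
    (Phi r a h).comp (Psi r a) = AlgHom.id R _ := by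
  refine MvPolynomial.algHom_ext fun i => ?_
  simp only [AlgHom.comp_apply, Psi, aeval_X, w, map_add, map_sub, Phi,
    Algebra.TensorProduct.lift_tmul, map_one, one_mul, mul_one, phi0, AlgHom.id_apply]
  simp only [Ideal.Quotient.liftₐ_apply, Ideal.Quotient.lift_mk, AlgHom.coe_toRingHom, aeval_X,
    v, Option.elim_some, Option.elim_none, Algebra.ofId_apply, MvPolynomial.algebraMap_eq]
  ring

lemma Psi_Phi (h : ∑ i, algebraMap A R (r i) * a i = 1) :
    (Psi r a).comp (Phi r a h) = AlgHom.id R _ := by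
  refine Algebra.TensorProduct.ext (by ext) ?_
  refine Ideal.Quotient.algHom_ext _ ?_
  refine MvPolynomial.algHom_ext fun o => ?_
  have hPhi : ∀ o, Phi r a h ((1 : R) ⊗ₜ[A] (Ideal.Quotient.mk _ (X o) : B r)) = v r a o := by
    intro o
    simp [Phi, phi0]
  rcases o with _ | i
  · simp only [AlgHom.comp_apply, AlgHom.coe_restrictScalars', AlgHom.id_apply,
      Algebra.TensorProduct.includeRight_apply, Ideal.Quotient.mkₐ_eq_mk]
    rw [hPhi, v, Option.elim_none, Psi_F r a h]
  · simp only [AlgHom.comp_apply, AlgHom.coe_restrictScalars', AlgHom.id_apply,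
      Algebra.TensorProduct.includeRight_apply, Ideal.Quotient.mkₐ_eq_mk]
    rw [hPhi, v, Option.elim_some, map_sub, map_add, map_mul, Psi_F r a h]
    have : Psi r a (C (a i)) = a i ⊗ₜ[A] (1 : B r) := by
      simp [Psi, Algebra.TensorProduct.algebraMap_apply]
    rw [this, Psi, aeval_X, w, Algebra.TensorProduct.tmul_mul_tmul, one_mul, mul_one]
    abel

/-- The base change of the Jouanolou ring to an algebra where the `rᵢ` generate the unit ideal
is a polynomial ring. -/
noncomputable def equiv (h : ∑ i, algebraMap A R (r i) * a i = 1) :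
    R ⊗[A] B r ≃ₐ[R] MvPolynomial ι R :=
  AlgEquiv.ofAlgHom (Phi r a h) (Psi r a) (Phi_Psi r a h) (Psi_Phi r a h)

end Groth.Agent.H21.JQ
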