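import Groth.Agent.Lib.helper21.JQ1

set_option autoImplicit false
open CategoryTheory CategoryTheory.Limits AlgebraicGeometry TensorProduct MvPolynomial

namespace Groth.Agent.H21.JQ
universe u

lemma isPullback_of_comp_mono {C : Type*} [Category C] {P X Y W Z : C} {fst : P ⟶ X} {snd : P ⟶ Y}
    {f : X ⟶ W} {g : Y ⟶ W} (i : W ⟶ Z) [Mono i] (h1 : IsPullback fst snd (f ≫ i) (g ≫ i)) :
    IsPullback fst snd f g := by
  have w : fst ≫ f = snd ≫ g := (cancel_mono i).mp (by simpa using h1.w)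
  refine ⟨⟨w⟩, ⟨PullbackCone.IsLimit.mk _
    (fun s => h1.lift s.fst s.snd (by rw [← Category.assoc, s.condition, Category.assoc]))
    (fun s => h1.lift_fst _ _ _) (fun s => h1.lift_snd _ _ _)
    (fun s m hm1 hm2 => h1.hom_ext (hm1.trans (h1.lift_fst _ _ _).symm)
      (hm2.trans (h1.lift_snd _ _ _).symm))⟩⟩

theorem main (X : Scheme.{u}) [X.IsQuasiAffine] :
    ∃ (n : ℕ) (T : Scheme.{u}) (_ : IsAffine T) (p : T ⟶ X),
      ∀ (X' : Scheme.{u}) [IsAffine X'] (g : X' ⟶ X),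
        ∃ e : Limits.pullback g p ≅ 𝔸(ULift.{u} (Fin n); X'),
          e.hom ≫ (𝔸(ULift.{u} (Fin n); X') ↘ X') = Limits.pullback.fst g p := by
  have hco : IsCompact (Set.range X.toSpecΓ.base) ∧ IsOpen (Set.range X.toSpecΓ.base) :=
    ⟨isCompact_range X.toSpecΓ.continuous, X.toSpecΓ.isOpenEmbedding.isOpen_range⟩
  obtain ⟨t, ht⟩ := PrimeSpectrum.isCompact_isOpen_iff.mp hco
  let r : ULift.{u} (Fin t.card) → Γ(X, ⊤) := fun i => (t.equivFin.symm i.down).1
  have hr : ∀ i, r i ∈ (t : Set Γ(X, ⊤)) := fun i => (t.equivFin.symm i.down).2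
  have hr' : ∀ x ∈ t, ∃ i, r i = x := fun x hx => ⟨⟨t.equivFin ⟨x, hx⟩⟩, by simp [r]⟩
  let β : Γ(X, ⊤) ⟶ CommRingCat.of (B r) := CommRingCat.ofHom (algebraMap Γ(X, ⊤) (B r))
  have hrange : Set.range (Spec.map β).base ⊆ Set.range X.toSpecΓ.base := by
    rintro _ ⟨q, rfl⟩
    rw [← ht]
    intro hq
    have h1 : (1 : B r) ∈ q.asIdeal := by
      rw [← sum_eq_one r]
      refine Ideal.sum_mem _ fun i _ => Ideal.mul_mem_right _ _ ?_
      exact hq (hr i)
    exact q.isPrime.ne_top ((Ideal.eq_top_iff_one _).mpr h1)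
  let p : Spec (CommRingCat.of (B r)) ⟶ X := IsOpenImmersion.lift X.toSpecΓ (Spec.map β) hrange
  have hp : p ≫ X.toSpecΓ = Spec.map β := IsOpenImmersion.lift_fac _ _ _
  refine ⟨t.card, Spec (CommRingCat.of (B r)), inferInstance, p, ?_⟩
  intro X' _ g
  letI : Algebra Γ(X, ⊤) Γ(X', ⊤) := g.appTop.hom.toAlgebra
  have hgj : g ≫ X.toSpecΓ = X'.toSpecΓ ≫ Spec.map g.appTop := Scheme.toSpecΓ_naturality g
  -- unimodularity
  have hspan : Ideal.span (Set.range fun i => algebraMap Γ(X, ⊤) Γ(X', ⊤) (r i)) = ⊤ := by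
    rw [← PrimeSpectrum.zeroLocus_empty_iff_eq_top, PrimeSpectrum.zeroLocus_span]
    ext q
    simp only [Set.mem_empty_iff_false, iff_false]
    intro hq
    obtain ⟨x', rfl⟩ : ∃ x', X'.toSpecΓ.base x' = q := X'.toSpecΓ.surjective q
    have h2 : (Spec.map g.appTop).base (X'.toSpecΓ.base x') ∈ Set.range X.toSpecΓ.base := by
      refine ⟨g.base x', ?_⟩
      have := congr($(hgj).base x')
      simpa using this
    rw [← ht] at h2
    apply h2
    intro x hx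
    obtain ⟨i, rfl⟩ := hr' x hx
    exact hq ⟨i, rfl⟩
  obtain ⟨c, hc⟩ := (Ideal.mem_span_range_iff_exists_fun (R := Γ(X', ⊤))).mp
    (hspan ▸ Submodule.mem_top : (1 : Γ(X', ⊤)) ∈ _)
  have h : ∑ i, algebraMap Γ(X, ⊤) Γ(X', ⊤) (r i) * c i = 1 := by
    rw [← hc]; exact Finset.sum_congr rfl fun i _ => mul_comm _ _
  let E := equiv r c h
  -- the pullback square of affine schemes
  have S0 := isPullback_SpecMap_of_isPushout _ _ _ _
    (CommRingCat.isPushout_tensorProduct Γ(X, ⊤) Γ(X', ⊤) (B r))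
  let e₁ : Spec (CommRingCat.of (Γ(X', ⊤) ⊗[Γ(X, ⊤)] B r)) ≅ 𝔸(ULift.{u} (Fin t.card); X') :=
    Scheme.Spec.mapIso E.toRingEquiv.toCommRingCatIso.op.symm ≪≫
      (AffineSpace.isoOfIsAffine _ X').symm
  have h1 : IsPullback (𝔸(ULift.{u} (Fin t.card); X') ↘ X')
      (e₁.inv ≫ Spec.map (CommRingCat.ofHom
        (Algebra.TensorProduct.includeRight (R := Γ(X, ⊤)) (A := Γ(X', ⊤)) (B := B r)).toRingHom))
      (g ≫ X.toSpecΓ) (p ≫ X.toSpecΓ) := by
    refine S0.of_iso e₁ X'.isoSpec.symm (Iso.refl _) (Iso.refl _) ?_ ?_ ?_ ?_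
    · have hE : CommRingCat.ofHom (C : Γ(X', ⊤) →+* MvPolynomial (ULift.{u} (Fin t.card)) Γ(X', ⊤)) ≫
          E.toRingEquiv.toCommRingCatIso.inv =
          CommRingCat.ofHom (R := Γ(X', ⊤)) (S := Γ(X', ⊤) ⊗[Γ(X, ⊤)] B r)
            (Algebra.TensorProduct.includeLeftRingHom) := by
        ext x
        show E.symm (C x) = x ⊗ₜ 1
        exact (E.symm.commutes x).trans rfl
      simp only [Iso.symm_hom, Iso.trans_hom, Functor.mapIso_hom, Iso.op_inv, Iso.symm_hom,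
        Scheme.Spec_map, Quiver.Hom.unop_op, Category.assoc, e₁]
      rw [AffineSpace.isoOfIsAffine_inv_over, ← Spec.map_comp_assoc, hE]
    · simp
    · rw [hgj, Iso.symm_hom, Scheme.isoSpec_inv_toSpecΓ_assoc, Iso.refl_hom, Category.comp_id]
      congr 1
    · simpa using hp.symm
  have h3 := isPullback_of_comp_mono _ h1
  exact ⟨h3.isoPullback.symm, h3.isoPullback_inv_fst⟩

end Groth.Agent.H21.JQ
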