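import Mathlib
import Groth.Prelude.Def_ega3
import Groth.Agent.Lib.helper21.Kos6

/-!
# Explicit natural connecting map of a mapping cone, with long exact sequence and naturality.
-/

set_option autoImplicit false

namespace Groth.Agent.H21.Kos

open CategoryTheory CategoryTheory.Limits CochainComplex HomComplex HomologicalComplex

universe v u

section coneδ

variable {C : Type u} [Category.{v} C] [Abelian C]

/-- explicit connecting map `H^{n₀}(cone φ) ⟶ H^{n₁}(F)`. -/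
noncomputable def coneδ {F G : CochainComplex C ℤ} (φ : F ⟶ G) (n₀ n₁ : ℤ) (h : n₀ + 1 = n₁) :
    (mappingCone φ).homology n₀ ⟶ F.homology n₁ :=
  (HomotopyCategory.homologyFunctorFactors C (ComplexShape.up ℤ) n₀).inv.app _ ≫
    (HomotopyCategory.homologyFunctor C (ComplexShape.up ℤ) 0).homologySequenceδ
      (mappingCone.triangleh φ) n₀ n₁ h ≫
    (HomotopyCategory.homologyFunctorFactors C (ComplexShape.up ℤ) n₁).hom.app _

theorem coneδ_les {F G : CochainComplex C ℤ} (φ : F ⟶ G) (n₀ n₁ : ℤ) (h : n₀ + 1 = n₁) :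
      ∃ (w₁ : homologyMap φ n₀ ≫ homologyMap (mappingCone.inr φ) n₀ = 0)
        (w₂ : homologyMap (mappingCone.inr φ) n₀ ≫ coneδ φ n₀ n₁ h = 0)
        (w₃ : coneδ φ n₀ n₁ h ≫ homologyMap φ n₁ = 0),
        (ShortComplex.mk _ _ w₁).Exact ∧ (ShortComplex.mk _ _ w₂).Exact ∧
          (ShortComplex.mk _ _ w₃).Exact := by
  let H := HomotopyCategory.homologyFunctor C (ComplexShape.up ℤ) 0
  let T := mappingCone.triangleh φ
  have hT : T ∈ distTriang _ := HomotopyCategory.mappingCone_triangleh_distinguished φ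
  let e := HomotopyCategory.homologyFunctorFactors C (ComplexShape.up ℤ)
  have e2 := H.homologySequence_exact₂ T hT n₀
  have e3 := H.homologySequence_exact₃ T hT n₀ n₁ h
  have e1 := H.homologySequence_exact₁ T hT n₀ n₁ h
  have nat₁ : ∀ n, (H.shift n).map T.mor₁ ≫ (e n).hom.app G = (e n).hom.app F ≫ homologyMap φ n :=
    fun n => (e n).hom.naturality φ
  have nat₂ : ∀ n, (H.shift n).map T.mor₂ ≫ (e n).hom.app (mappingCone φ) =
      (e n).hom.app G ≫ homologyMap (mappingCone.inr φ) n :=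
    fun n => (e n).hom.naturality (mappingCone.inr φ)
  have hδ : H.homologySequenceδ T n₀ n₁ h ≫ (e n₁).hom.app F =
      (e n₀).hom.app (mappingCone φ) ≫ coneδ φ n₀ n₁ h := by
    simp only [coneδ]
    exact ((e n₀).hom_inv_id_app_assoc (mappingCone φ) _).symm
  obtain ⟨w₁, h₁⟩ := transport_exact _ _ _ e2 ((e n₀).app F) ((e n₀).app G)
    ((e n₀).app (mappingCone φ)) (homologyMap φ n₀) (homologyMap (mappingCone.inr φ) n₀)
    (nat₁ n₀) (nat₂ n₀)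
  obtain ⟨w₂, h₂⟩ := transport_exact _ _ _ e3 ((e n₀).app G)
    ((e n₀).app (mappingCone φ)) ((e n₁).app F) (homologyMap (mappingCone.inr φ) n₀)
    (coneδ φ n₀ n₁ h) (nat₂ n₀) hδ
  obtain ⟨w₃, h₃⟩ := transport_exact _ _ _ e1
    ((e n₀).app (mappingCone φ)) ((e n₁).app F) ((e n₁).app G) (coneδ φ n₀ n₁ h)
    (homologyMap φ n₁) hδ (nat₁ n₁)
  exact ⟨w₁, w₂, w₃, h₁, h₂, h₃⟩

lemma comm_aux {X₁ X₂ Y₁ Y₂ Z₁ Z₂ W₁ W₂ : C} (m : X₁ ⟶ X₂) (i₁ : X₁ ⟶ Y₁) (i₂ : X₂ ⟶ Y₂)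
    (t₃ : Y₁ ⟶ Y₂) (d₁ : Y₁ ⟶ Z₁) (d₂ : Y₂ ⟶ Z₂) (t₁ : Z₁ ⟶ Z₂) (j₁ : Z₁ ⟶ W₁) (j₂ : Z₂ ⟶ W₂)
    (a : W₁ ⟶ W₂) (h1 : m ≫ i₂ = i₁ ≫ t₃) (h2 : t₃ ≫ d₂ = d₁ ≫ t₁) (h3 : t₁ ≫ j₂ = j₁ ≫ a) :
    m ≫ i₂ ≫ d₂ ≫ j₂ = (i₁ ≫ d₁ ≫ j₁) ≫ a := by
  rw [reassoc_of% h1, reassoc_of% h2, h3]
  simp

lemma coneδ_naturality {K₁ L₁ K₂ L₂ : CochainComplex C ℤ} (φ₁ : K₁ ⟶ L₁) (φ₂ : K₂ ⟶ L₂)
    (a : K₁ ⟶ K₂) (b : L₁ ⟶ L₂) (comm : φ₁ ≫ b = a ≫ φ₂) (n₀ n₁ : ℤ) (h : n₀ + 1 = n₁) :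
    homologyMap (mappingCone.map φ₁ φ₂ a b comm) n₀ ≫ coneδ φ₂ n₀ n₁ h =
      coneδ φ₁ n₀ n₁ h ≫ homologyMap a n₁ := by
  let H := HomotopyCategory.homologyFunctor C (ComplexShape.up ℤ) 0
  let e := HomotopyCategory.homologyFunctorFactors C (ComplexShape.up ℤ)
  let τ : mappingCone.triangleh φ₁ ⟶ mappingCone.triangleh φ₂ :=
    (HomotopyCategory.quotient C (ComplexShape.up ℤ)).mapTriangle.map
      (mappingCone.triangleMap φ₁ φ₂ a b comm)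
  have hn := H.homologySequenceδ_naturality _ _ τ n₀ n₁ h
  have nat₃ : (H.shift n₀).map τ.hom₃ ≫ (e n₀).hom.app (mappingCone φ₂) =
      (e n₀).hom.app (mappingCone φ₁) ≫ homologyMap (mappingCone.map φ₁ φ₂ a b comm) n₀ :=
    (e n₀).hom.naturality (mappingCone.map φ₁ φ₂ a b comm)
  have nat₁ : (H.shift n₁).map τ.hom₁ ≫ (e n₁).hom.app K₂ =
      (e n₁).hom.app K₁ ≫ homologyMap a n₁ :=
    (e n₁).hom.naturality a
  have nat₃' : homologyMap (mappingCone.map φ₁ φ₂ a b comm) n₀ ≫ (e n₀).inv.app (mappingCone φ₂) =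
      (e n₀).inv.app (mappingCone φ₁) ≫ (H.shift n₀).map τ.hom₃ :=
    (e n₀).inv.naturality (mappingCone.map φ₁ φ₂ a b comm)
  exact comm_aux _ _ _ _ _ _ _ _ _ _ nat₃' hn nat₁

end coneδ

end Groth.Agent.H21.Kos
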