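import Mathlib
import Groth.Prelude.Def_ega3
import Groth.Agent.Lib.helper21.Kos9

/-!
# Transition maps of Koszul complexes of powers, module-level cone sequence, bottom cohomology map.
-/

set_option autoImplicit false

namespace Groth.Agent.H21.Kos

open CategoryTheory CategoryTheory.Limits CochainComplex HomComplex HomologicalComplex

universe u

section general
variable {C : Type*} [Category C] [Preadditive C] [HasBinaryBiproducts C]
  {K₁ L₁ K₂ L₂ : CochainComplex C ℤ} (φ₁ : K₁ ⟶ L₁) (φ₂ : K₂ ⟶ L₂)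
  (a : K₁ ⟶ K₂) (b : L₁ ⟶ L₂) (comm : φ₁ ≫ b = a ≫ φ₂)

@[reassoc]
lemma inr_map : mappingCone.inr φ₁ ≫ mappingCone.map φ₁ φ₂ a b comm = b ≫ mappingCone.inr φ₂ := by
  ext i
  exact inr_map_f φ₁ φ₂ a b comm i

end general

variable {A : Type u} [CommRing A]

lemma koszulTrans_cons (M : ModuleCat.{u} A) (n m : ℕ) (h : n ≤ m) (f : A) (fs : List A) :
    CohIII.koszulTrans M n m h (f :: fs) =
      mappingCone.map (f ^ n • 𝟙 (CohIII.koszulCx M (fs.map (· ^ n))))
        (f ^ m • 𝟙 (CohIII.koszulCx M (fs.map (· ^ m)))) (CohIII.koszulTrans M n m h fs)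
        (f ^ (m - n) • CohIII.koszulTrans M n m h fs) (by
          simp only [Linear.smul_comp, Linear.comp_smul, Category.id_comp, Category.comp_id,
            smul_smul, ← pow_add, Nat.sub_add_cancel h]) := rfl

lemma koszulTrans_refl (M : ModuleCat.{u} A) (n : ℕ) (fs : List A) :
    CohIII.koszulTrans M n n le_rfl fs = 𝟙 _ := by
  induction fs with
  | nil => rfl
  | cons f fs ih =>
    rw [koszulTrans_cons]
    have hb : f ^ (n - n) • CohIII.koszulTrans M n n le_rfl fs = 𝟙 _ := by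
      rw [Nat.sub_self, pow_zero, one_smul, ih]
    rw [map_congr _ _ ih hb]
    exact mappingCone.map_id _

lemma koszulTrans_comp (M : ModuleCat.{u} A) (n m k : ℕ) (h : n ≤ m) (h' : m ≤ k) (fs : List A) :
    CohIII.koszulTrans M n m h fs ≫ CohIII.koszulTrans M m k h' fs =
      CohIII.koszulTrans M n k (h.trans h') fs := by
  induction fs with
  | nil => exact Category.id_comp _
  | cons f fs ih =>
    rw [koszulTrans_cons, koszulTrans_cons, koszulTrans_cons]
    have hb : (f ^ (m - n) • CohIII.koszulTrans M n m h fs) ≫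
        (f ^ (k - m) • CohIII.koszulTrans M m k h' fs) =
        f ^ (k - n) • CohIII.koszulTrans M n k (h.trans h') fs := by
      rw [Linear.smul_comp, Linear.comp_smul, smul_smul, ih, ← pow_add]
      congr 2
      omega
    exact (mappingCone.map_comp _ _ _ _ _ _ _ _ _).symm.trans (map_congr _ _ ih hb _)

section les

lemma exists_inr_of_coneδ_eq_zero (K : CochainComplex (ModuleCat.{u} A) ℤ) (f : A) (n₀ n₁ : ℤ)
    (h : n₀ + 1 = n₁) (y : (mappingCone (f • 𝟙 K)).homology n₀)
    (hy : coneδ (f • 𝟙 K) n₀ n₁ h y = 0) :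
    ∃ w, homologyMap (mappingCone.inr (f • 𝟙 K)) n₀ w = y := by
  obtain ⟨w₁, w₂, w₃, e₁, e₂, e₃⟩ := coneδ_les (f • 𝟙 K) n₀ n₁ h
  have key : LinearMap.range (homologyMap (mappingCone.inr (f • 𝟙 K)) n₀).hom =
      LinearMap.ker (coneδ (f • 𝟙 K) n₀ n₁ h).hom := e₂.moduleCat_range_eq_ker
  have : y ∈ LinearMap.ker (coneδ (f • 𝟙 K) n₀ n₁ h).hom := hy
  rw [← key] at this
  exact this

lemma inr_eq_zero_iff (K : CochainComplex (ModuleCat.{u} A) ℤ) (f : A) (n₀ n₁ : ℤ)
    (h : n₀ + 1 = n₁) (w : K.homology n₀) :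
    homologyMap (mappingCone.inr (f • 𝟙 K)) n₀ w = 0 ↔ ∃ u : K.homology n₀, f • u = w := by
  obtain ⟨w₁, w₂, w₃, e₁, e₂, e₃⟩ := coneδ_les (f • 𝟙 K) n₀ n₁ h
  have key : LinearMap.range (homologyMap (f • 𝟙 K) n₀).hom =
      LinearMap.ker (homologyMap (mappingCone.inr (f • 𝟙 K)) n₀).hom := e₁.moduleCat_range_eq_ker
  rw [homologyMap_smul_id] at key
  have : w ∈ LinearMap.ker (homologyMap (mappingCone.inr (f • 𝟙 K)) n₀).hom ↔
      homologyMap (mappingCone.inr (f • 𝟙 K)) n₀ w = 0 := Iff.rfl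
  rw [← this, ← key]
  rfl

lemma exists_coneδ_iff (K : CochainComplex (ModuleCat.{u} A) ℤ) (f : A) (n₀ n₁ : ℤ)
    (h : n₀ + 1 = n₁) (z : K.homology n₁) :
    (∃ y, coneδ (f • 𝟙 K) n₀ n₁ h y = z) ↔ f • z = 0 := by
  obtain ⟨w₁, w₂, w₃, e₁, e₂, e₃⟩ := coneδ_les (f • 𝟙 K) n₀ n₁ h
  have key : LinearMap.range (coneδ (f • 𝟙 K) n₀ n₁ h).hom =
      LinearMap.ker (homologyMap (f • 𝟙 K) n₁).hom := e₃.moduleCat_range_eq_ker
  rw [homologyMap_smul_id] at key
  have : z ∈ LinearMap.range (coneδ (f • 𝟙 K) n₀ n₁ h).hom ↔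
      ∃ y, coneδ (f • 𝟙 K) n₀ n₁ h y = z := Iff.rfl
  rw [← this, key]
  rfl

lemma coneδ_injective (K : CochainComplex (ModuleCat.{u} A) ℤ) (f : A) (n₀ n₁ : ℤ)
    (h : n₀ + 1 = n₁) (hz : IsZero (K.homology n₀)) :
    Function.Injective (coneδ (f • 𝟙 K) n₀ n₁ h) := by
  rw [injective_iff_map_eq_zero]
  intro y hy
  obtain ⟨w, rfl⟩ := exists_inr_of_coneδ_eq_zero K f n₀ n₁ h y hy
  have := ModuleCat.subsingleton_of_isZero hz
  rw [Subsingleton.elim w 0, map_zero]

end les

/-- The canonical map from bottom Koszul cohomology to the module. -/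
noncomputable def iotaK (M : ModuleCat.{u} A) : ∀ (fs : List A) (d : ℤ), d + fs.length = 0 →
    ((CohIII.koszulCx M fs).homology d ⟶ M)
  | [], d, hd => by
      obtain rfl : d = 0 := by simpa using hd
      exact (HomologicalComplex.singleObjHomologySelfIso (ComplexShape.up ℤ) 0 M).hom
  | f :: fs, d, hd => coneδ (f • 𝟙 (CohIII.koszulCx M fs)) d (d + 1) rfl ≫
      iotaK M fs (d + 1) (by
        simp only [List.length_cons, Nat.cast_add, Nat.cast_one] at hd; omega)

lemma iotaK_nil (M : ModuleCat.{u} A) (hd : (0 : ℤ) + ([] : List A).length = 0) :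
    iotaK M [] 0 hd =
      (HomologicalComplex.singleObjHomologySelfIso (ComplexShape.up ℤ) 0 M).hom := rfl

lemma iotaK_cons (M : ModuleCat.{u} A) (f : A) (fs : List A) (d : ℤ)
    (hd : d + (f :: fs).length = 0) :
    iotaK M (f :: fs) d hd = coneδ (f • 𝟙 (CohIII.koszulCx M fs)) d (d + 1) rfl ≫
      iotaK M fs (d + 1) (by
        simp only [List.length_cons, Nat.cast_add, Nat.cast_one] at hd; omega) := rfl

lemma iotaK_injective (M : ModuleCat.{u} A) : ∀ (fs : List A) (d : ℤ) (hd : d + fs.length = 0),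
    Function.Injective (iotaK M fs d hd)
  | [], d, hd => by
    obtain rfl : d = 0 := by simpa using hd
    rw [iotaK_nil]
    exact (ConcreteCategory.bijective_of_isIso _).1
  | f :: fs, d, hd => by
    rw [iotaK_cons]
    have h1 := iotaK_injective M fs (d + 1) (by
        simp only [List.length_cons, Nat.cast_add, Nat.cast_one] at hd; omega)
    have h2 := coneδ_injective (CohIII.koszulCx M fs) f d (d + 1) rfl
      (isZero_homology_of_lt M fs d (by
        simp only [List.length_cons, Nat.cast_add, Nat.cast_one] at hd; omega))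
    intro x y hxy
    exact h2 (h1 hxy)

lemma range_iotaK (M : ModuleCat.{u} A) : ∀ (fs : List A) (d : ℤ) (hd : d + fs.length = 0) (m : M),
    (∃ x, iotaK M fs d hd x = m) ↔ m ∈ annSub fs M
  | [], d, hd, m => by
    obtain rfl : d = 0 := by simpa using hd
    rw [iotaK_nil]
    constructor
    · intro _ x hx
      simp at hx
    · intro _
      refine ⟨(HomologicalComplex.singleObjHomologySelfIso (ComplexShape.up ℤ) 0 M).inv m, ?_⟩
      exact ConcreteCategory.congr_hom
        (HomologicalComplex.singleObjHomologySelfIso (ComplexShape.up ℤ) 0 M).inv_hom_id m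
  | f :: fs, d, hd, m => by
    have hd' : d + 1 + (fs.length : ℤ) = 0 := by
      simp only [List.length_cons, Nat.cast_add, Nat.cast_one] at hd; omega
    have ih := range_iotaK M fs (d + 1) hd'
    rw [iotaK_cons]
    constructor
    · rintro ⟨x, rfl⟩ g hg
      set z := coneδ (f • 𝟙 (CohIII.koszulCx M fs)) d (d + 1) rfl x with hz
      have hfz : f • z = 0 := (exists_coneδ_iff _ f d (d + 1) rfl z).1 ⟨x, rfl⟩
      change g • iotaK M fs (d + 1) hd' z = 0
      rcases List.mem_cons.1 hg with rfl | hg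
      · rw [← map_smul, hfz, map_zero]
      · exact (ih _).1 ⟨z, rfl⟩ g hg
    · intro hm
      have hm' : m ∈ annSub fs M := fun g hg => hm g (List.mem_cons_of_mem _ hg)
      obtain ⟨z, rfl⟩ := (ih m).2 hm'
      have hfz : f • z = 0 := by
        apply iotaK_injective M fs (d + 1) hd'
        rw [map_smul, map_zero]
        exact hm f List.mem_cons_self
      obtain ⟨y, hy⟩ := (exists_coneδ_iff _ f d (d + 1) rfl z).2 hfz
      exact ⟨y, by rw [← hy]; rfl⟩

lemma iotaK_trans (M : ModuleCat.{u} A) (n m : ℕ) (h : n ≤ m) : ∀ (fs : List A) (d : ℤ)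
    (hn : d + (fs.map (· ^ n)).length = 0) (hm : d + (fs.map (· ^ m)).length = 0),
    homologyMap (CohIII.koszulTrans M n m h fs) d ≫ iotaK M (fs.map (· ^ m)) d hm =
      iotaK M (fs.map (· ^ n)) d hn
  | [], d, hn, hm => by
    have : CohIII.koszulTrans M n m h [] = 𝟙 _ := rfl
    rw [this, homologyMap_id]
    exact Category.id_comp _
  | f :: fs, d, hn, hm => by
    have hn' : d + 1 + ((fs.map (· ^ n)).length : ℤ) = 0 := by
      simp only [List.map_cons, List.length_cons, Nat.cast_add, Nat.cast_one] at hn; omega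
    have hm' : d + 1 + ((fs.map (· ^ m)).length : ℤ) = 0 := by
      simp only [List.map_cons, List.length_cons, Nat.cast_add, Nat.cast_one] at hm; omega
    have ih := iotaK_trans M n m h fs (d + 1) hn' hm'
    rw [koszulTrans_cons]
    change homologyMap (mappingCone.map _ _ _ _ _) d ≫
      (coneδ (f ^ m • 𝟙 (CohIII.koszulCx M (fs.map (· ^ m)))) d (d + 1) rfl ≫
        iotaK M (fs.map (· ^ m)) (d + 1) hm') =
      coneδ (f ^ n • 𝟙 (CohIII.koszulCx M (fs.map (· ^ n)))) d (d + 1) rfl ≫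
        iotaK M (fs.map (· ^ n)) (d + 1) hn'
    rw [← Category.assoc, coneδ_naturality, Category.assoc, ih]

lemma iotaK_kmap {M N : ModuleCat.{u} A} (g : M ⟶ N) : ∀ (fs : List A) (d : ℤ)
    (hd : d + fs.length = 0),
    homologyMap (kmap g fs) d ≫ iotaK N fs d hd = iotaK M fs d hd ≫ g
  | [], d, hd => by
    obtain rfl : d = 0 := by simpa using hd
    rw [iotaK_nil, iotaK_nil]
    exact HomologicalComplex.singleObjHomologySelfIso_hom_naturality _ _ _
  | f :: fs, d, hd => by
    have hd' : d + 1 + (fs.length : ℤ) = 0 := by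
      simp only [List.length_cons, Nat.cast_add, Nat.cast_one] at hd; omega
    have ih := iotaK_kmap g fs (d + 1) hd'
    rw [iotaK_cons, iotaK_cons]
    change homologyMap (mappingCone.map _ _ _ _ _) d ≫ _ = _
    rw [← Category.assoc, coneδ_naturality, Category.assoc, ih]
    exact (Category.assoc _ _ _).symm

end Groth.Agent.H21.Kos
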