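import Mathlib
import Groth.Prelude.Def_ega3
import Groth.Agent.Lib.helper21.Kos10
import Groth.Agent.Lib.helper17.ExtCechInj

/-!
# Direct-limit Koszul cohomology vanishes on injective modules over a Noetherian ring.
-/

set_option autoImplicit false

namespace Groth.Agent.H21.Kos

open CategoryTheory CategoryTheory.Limits CochainComplex HomComplex HomologicalComplex

universe u

variable {A : Type u} [CommRing A]

lemma smul_eq_zero_of_mem_span (xs : List A) (E : Type u) [AddCommGroup E] [Module A E] (t : E)
    (ht : t ∈ annSub xs E) (a : A) (ha : a ∈ Ideal.span {x | x ∈ xs}) : a • t = 0 := by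
  have hle : Ideal.span {x | x ∈ xs} ≤ LinearMap.ker (LinearMap.toSpanSingleton A E t) := by
    rw [Ideal.span_le]
    intro x hx
    exact ht x hx
  exact hle ha

theorem exists_trans_eq_zero [IsNoetherianRing A] (E : Type u) [AddCommGroup E] [Module A E]
    [Module.Injective A E] :
    ∀ (fs : List A) (d : ℤ), 0 < d + fs.length → ∀ (n : ℕ)
      (x : (CohIII.koszulCx (ModuleCat.of A E) (fs.map (· ^ n))).homology d),
      ∃ (m : ℕ) (h : n ≤ m),
        homologyMap (CohIII.koszulTrans (ModuleCat.of A E) n m h fs) d x = 0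
  | [], d, hd, n, x => by
    have hz := isZero_homology_of_pos (ModuleCat.of A E) (([] : List A).map (· ^ n)) d
      (by simpa using hd)
    have := ModuleCat.subsingleton_of_isZero hz
    exact ⟨n, le_rfl, Subsingleton.elim _ _⟩
  | f :: fs, d, hd, n, x => by
    have hd1 : 0 < d + 1 + (fs.length : ℤ) := by
      simp only [List.length_cons, Nat.cast_add, Nat.cast_one] at hd; omega
    have IH := exists_trans_eq_zero E fs
    obtain ⟨m, hnm, hz⟩ := IH (d + 1) hd1 n
      (coneδ (f ^ n • 𝟙 (CohIII.koszulCx (ModuleCat.of A E) (fs.map (· ^ n)))) d (d + 1) rfl x)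
    have hx' : coneδ (f ^ m • 𝟙 (CohIII.koszulCx (ModuleCat.of A E) (fs.map (· ^ m)))) d (d + 1) rfl
        (homologyMap (CohIII.koszulTrans (ModuleCat.of A E) n m hnm (f :: fs)) d x) = 0 := by
      have nat := ConcreteCategory.congr_hom (coneδ_naturality
        (f ^ n • 𝟙 (CohIII.koszulCx (ModuleCat.of A E) (fs.map (· ^ n))))
        (f ^ m • 𝟙 (CohIII.koszulCx (ModuleCat.of A E) (fs.map (· ^ m))))
        (CohIII.koszulTrans (ModuleCat.of A E) n m hnm fs)
        (f ^ (m - n) • CohIII.koszulTrans (ModuleCat.of A E) n m hnm fs) (by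
          simp only [Linear.smul_comp, Linear.comp_smul, Category.id_comp, Category.comp_id,
            smul_smul, ← pow_add, Nat.sub_add_cancel hnm]) d (d + 1) rfl) x
      rw [ModuleCat.comp_apply, ModuleCat.comp_apply] at nat
      exact nat.trans hz
    obtain ⟨w, hw⟩ := exists_inr_of_coneδ_eq_zero _ (f ^ m) d (d + 1) rfl _ hx'
    have claim : ∃ (m' : ℕ) (hm' : m ≤ m')
        (u : (CohIII.koszulCx (ModuleCat.of A E) (fs.map (· ^ m'))).homology d),
        f ^ (m' - m) • homologyMap (CohIII.koszulTrans (ModuleCat.of A E) m m' hm' fs) d w =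
          f ^ m' • u := by
      by_cases hd0 : 0 < d + (fs.length : ℤ)
      · obtain ⟨m', hm', hw0⟩ := IH d hd0 m w
        exact ⟨m', hm', 0, by rw [hw0, smul_zero, smul_zero]⟩
      · have hd0' : d + (fs.length : ℤ) = 0 := by
          simp only [List.length_cons, Nat.cast_add, Nat.cast_one] at hd; omega
        have hdm : ∀ k : ℕ, d + ((fs.map (· ^ k)).length : ℤ) = 0 := fun k => by
          rw [List.length_map]; exact hd0'
        set t : E := iotaK (ModuleCat.of A E) (fs.map (· ^ m)) d (hdm m) w with ht_def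
        have ht : t ∈ annSub (fs.map (· ^ m)) E :=
          (range_iotaK (ModuleCat.of A E) (fs.map (· ^ m)) d (hdm m) t).1 ⟨w, rfl⟩
        obtain ⟨t', ht', N, hN⟩ := Groth.Agent.Lib.helper17.ExtCechInj.exists_div_of_injective E
          (Ideal.span {x | x ∈ fs.map (· ^ m)}) f t
          (fun a ha => smul_eq_zero_of_mem_span _ E t ht a ha) m
        have ht'' : t' ∈ annSub (fs.map (· ^ (N + m))) E := by
          intro g' hg'
          obtain ⟨g, hg, rfl⟩ := List.mem_map.1 hg'
          show g ^ (N + m) • t' = 0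
          rw [pow_add, mul_smul, ht' (g ^ m) (Ideal.subset_span (List.mem_map.2 ⟨g, hg, rfl⟩)),
            smul_zero]
        obtain ⟨u, hu⟩ := (range_iotaK (ModuleCat.of A E) (fs.map (· ^ (N + m))) d
          (hdm (N + m)) t').2 ht''
        refine ⟨N + m, Nat.le_add_left _ _, u, ?_⟩
        apply iotaK_injective (ModuleCat.of A E) (fs.map (· ^ (N + m))) d (hdm (N + m))
        have h1 := ConcreteCategory.congr_hom (iotaK_trans (ModuleCat.of A E) m (N + m)
          (Nat.le_add_left _ _) fs d (hdm m) (hdm (N + m))) w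
        rw [ModuleCat.comp_apply] at h1
        rw [map_smul, map_smul, h1, hu, Nat.add_sub_cancel]
        rw [smul_sub, sub_eq_zero] at hN
        rw [pow_add, mul_smul, hN]
    obtain ⟨m', hm', u, hu⟩ := claim
    refine ⟨m', hnm.trans hm', ?_⟩
    rw [← koszulTrans_comp (ModuleCat.of A E) n m m' hnm hm' (f :: fs), homologyMap_comp,
      ModuleCat.comp_apply, ← hw]
    have nat2 : homologyMap (mappingCone.inr
          (f ^ m • 𝟙 (CohIII.koszulCx (ModuleCat.of A E) (fs.map (· ^ m))))) d ≫
        homologyMap (mappingCone.map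
          (f ^ m • 𝟙 (CohIII.koszulCx (ModuleCat.of A E) (fs.map (· ^ m))))
          (f ^ m' • 𝟙 (CohIII.koszulCx (ModuleCat.of A E) (fs.map (· ^ m'))))
          (CohIII.koszulTrans (ModuleCat.of A E) m m' hm' fs)
          (f ^ (m' - m) • CohIII.koszulTrans (ModuleCat.of A E) m m' hm' fs) (by
            simp only [Linear.smul_comp, Linear.comp_smul, Category.id_comp, Category.comp_id,
              smul_smul, ← pow_add, Nat.sub_add_cancel hm'])) d =
        homologyMap (f ^ (m' - m) • CohIII.koszulTrans (ModuleCat.of A E) m m' hm' fs) d ≫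
          homologyMap (mappingCone.inr
            (f ^ m' • 𝟙 (CohIII.koszulCx (ModuleCat.of A E) (fs.map (· ^ m'))))) d := by
      rw [← homologyMap_comp, ← homologyMap_comp, inr_map]
    have nat3 := ConcreteCategory.congr_hom nat2 w
    rw [ModuleCat.comp_apply, ModuleCat.comp_apply] at nat3
    have fin : homologyMap (mappingCone.inr
          (f ^ m' • 𝟙 (CohIII.koszulCx (ModuleCat.of A E) (fs.map (· ^ m'))))) d
        (homologyMap (f ^ (m' - m) • CohIII.koszulTrans (ModuleCat.of A E) m m' hm' fs) d w) = 0 := by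
      rw [homologyMap_smul', inr_eq_zero_iff _ (f ^ m') d (d + 1) rfl]
      exact ⟨u, hu.symm⟩
    exact nat3.trans fin

theorem subsingleton_koszulHLim [IsNoetherianRing A] (fs : List A) (E : Type u) [AddCommGroup E]
    [Module A E] [Module.Injective A E] (i : ℕ) (hi : 0 < i) :
    Subsingleton (CohIII.koszulHLim fs (ModuleCat.of A E) i) := by
  refine ⟨fun a b => ?_⟩
  have key : ∀ z : CohIII.koszulHLim fs (ModuleCat.of A E) i, z = 0 := by
    intro z
    obtain ⟨n, x, rfl⟩ := Module.DirectLimit.exists_of z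
    obtain ⟨m, hnm, hx⟩ := exists_trans_eq_zero E fs ((i : ℤ) - fs.length)
      (by have : (0 : ℤ) < i := by exact_mod_cast hi
          omega) n x
    have h2 := Module.DirectLimit.of_f (R := A) (ι := ℕ)
      (G := fun n => (CohIII.koszulHPow fs (ModuleCat.of A E) i n : Type u))
      (f := fun n m h => (homologyMap (CohIII.koszulTrans (ModuleCat.of A E) n m h fs)
        ((i : ℤ) - fs.length)).hom) (hij := hnm) (x := x)
    refine h2.symm.trans ?_
    have hx2 : (homologyMap (CohIII.koszulTrans (ModuleCat.of A E) n m hnm fs)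
        ((i : ℤ) - fs.length)).hom x = 0 := hx
    rw [hx2, map_zero]
    rfl
  rw [key a, key b]

end Groth.Agent.H21.Kos
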