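import Mathlib
import Groth.Prelude.Def_ega3
import Groth.Agent.Lib.helper21.Kos11

/-!
# Direct-limit Koszul cohomology as a δ-functor: functoriality, long exact sequence, degree 0.
-/

set_option autoImplicit false

namespace Groth.Agent.H21.Kos

open CategoryTheory CategoryTheory.Limits CochainComplex HomComplex HomologicalComplex

universe u

variable {A : Type u} [CommRing A]

/-- exactness of direct limits over `ℕ`. -/
lemma dl_exact {G₁ G₂ G₃ : ℕ → Type u} [∀ n, AddCommGroup (G₁ n)] [∀ n, Module A (G₁ n)]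
    [∀ n, AddCommGroup (G₂ n)] [∀ n, Module A (G₂ n)] [∀ n, AddCommGroup (G₃ n)]
    [∀ n, Module A (G₃ n)]
    (f₁ : ∀ i j, i ≤ j → G₁ i →ₗ[A] G₁ j) (f₂ : ∀ i j, i ≤ j → G₂ i →ₗ[A] G₂ j)
    (f₃ : ∀ i j, i ≤ j → G₃ i →ₗ[A] G₃ j) [DirectedSystem G₃ (f₃ · · ·)]
    (a : ∀ n, G₁ n →ₗ[A] G₂ n) (b : ∀ n, G₂ n →ₗ[A] G₃ n)
    (ha : ∀ i j h, a j ∘ₗ f₁ i j h = f₂ i j h ∘ₗ a i)
    (hb : ∀ i j h, b j ∘ₗ f₂ i j h = f₃ i j h ∘ₗ b i)
    (hex : ∀ n, Function.Exact (a n) (b n)) :
    Function.Exact (Module.DirectLimit.map (f := f₁) (f' := f₂) a ha)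
      (Module.DirectLimit.map (f := f₂) (f' := f₃) b hb) := by
  intro y
  constructor
  · intro hy
    obtain ⟨n, yn, rfl⟩ := Module.DirectLimit.exists_of y
    rw [Module.DirectLimit.map_apply_of] at hy
    obtain ⟨m, hnm, hm⟩ := Module.DirectLimit.of.zero_exact hy
    have h1 : b m (f₂ n m hnm yn) = 0 := by
      have := LinearMap.congr_fun (hb n m hnm) yn
      simp only [LinearMap.coe_comp, Function.comp_apply] at this
      rw [this, hm]
    obtain ⟨x, hx⟩ := (hex m _).1 h1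
    refine ⟨Module.DirectLimit.of A ℕ G₁ f₁ m x, ?_⟩
    rw [Module.DirectLimit.map_apply_of, hx, Module.DirectLimit.of_f]
  · rintro ⟨x, rfl⟩
    obtain ⟨n, xn, rfl⟩ := Module.DirectLimit.exists_of x
    rw [Module.DirectLimit.map_apply_of, Module.DirectLimit.map_apply_of,
      (hex n).apply_apply_eq_zero, map_zero]

lemma kmap_cons {M N : ModuleCat.{u} A} (g : M ⟶ N) (f : A) (fs : List A) :
    kmap g (f :: fs) = mappingCone.map (f • 𝟙 (CohIII.koszulCx M fs)) (f • 𝟙 (CohIII.koszulCx N fs))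
      (kmap g fs) (kmap g fs) (by simp [Linear.smul_comp, Linear.comp_smul]) := rfl

lemma kmap_trans {M N : ModuleCat.{u} A} (g : M ⟶ N) (n m : ℕ) (h : n ≤ m) : ∀ fs : List A,
    CohIII.koszulTrans M n m h fs ≫ kmap g (fs.map (· ^ m)) =
      kmap g (fs.map (· ^ n)) ≫ CohIII.koszulTrans N n m h fs
  | [] => (Category.id_comp _).trans (Category.comp_id _).symm
  | f :: fs => by
    have ih := kmap_trans g n m h fs
    have hb : (f ^ (m - n) • CohIII.koszulTrans M n m h fs) ≫ kmap g (fs.map (· ^ m)) =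
        kmap g (fs.map (· ^ n)) ≫ (f ^ (m - n) • CohIII.koszulTrans N n m h fs) := by
      rw [Linear.smul_comp, Linear.comp_smul, ih]
    rw [koszulTrans_cons, koszulTrans_cons]
    exact ((mappingCone.map_comp _ _ _ _ _ _ _ _ _).symm.trans (map_congr _ _ ih hb _)).trans
      (mappingCone.map_comp _ _ _ _ _ _ _ _ _)

section system

variable (fs : List A)

/-- stages of the direct system -/
abbrev Gp (M : ModuleCat.{u} A) (p : ℕ) (n : ℕ) : Type u := (CohIII.koszulHPow fs M p n : Type u)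

/-- transition maps -/
noncomputable abbrev Fp (M : ModuleCat.{u} A) (p : ℕ) (n m : ℕ) (h : n ≤ m) :
    Gp fs M p n →ₗ[A] Gp fs M p m :=
  (homologyMap (CohIII.koszulTrans M n m h fs) ((p : ℤ) - fs.length)).hom

instance (M : ModuleCat.{u} A) (p : ℕ) : DirectedSystem (Gp fs M p) (Fp fs M p · · ·) where
  map_self n x := by
    show (homologyMap (CohIII.koszulTrans M n n le_rfl fs) ((p : ℤ) - fs.length)).hom x = x
    rw [koszulTrans_refl, homologyMap_id]
    rfl
  map_map k j i hij hjk x := by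
    show (homologyMap (CohIII.koszulTrans M j k hjk fs) ((p : ℤ) - fs.length)).hom
      ((homologyMap (CohIII.koszulTrans M i j hij fs) ((p : ℤ) - fs.length)).hom x) =
      (homologyMap (CohIII.koszulTrans M i k (hij.trans hjk) fs) ((p : ℤ) - fs.length)).hom x
    rw [← koszulTrans_comp M i j k hij hjk fs, homologyMap_comp]
    rfl

/-- functoriality of the stages in the module. -/
noncomputable abbrev Gmap {M N : ModuleCat.{u} A} (g : M ⟶ N) (p : ℕ) (n : ℕ) :
    Gp fs M p n →ₗ[A] Gp fs N p n :=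
  (homologyMap (kmap g (fs.map (· ^ n))) ((p : ℤ) - fs.length)).hom

lemma Gmap_comm {M N : ModuleCat.{u} A} (g : M ⟶ N) (p : ℕ) (i j : ℕ) (h : i ≤ j) :
    Gmap fs g p j ∘ₗ Fp fs M p i j h = Fp fs N p i j h ∘ₗ Gmap fs g p i := by
  have := congr((homologyMap $(kmap_trans g i j h fs) ((p : ℤ) - fs.length)).hom)
  rw [homologyMap_comp, homologyMap_comp] at this
  exact this

/-- the limit map. -/
noncomputable def Tmap {M N : ModuleCat.{u} A} (g : M ⟶ N) (p : ℕ) :
    Module.DirectLimit (Gp fs M p) (Fp fs M p) →ₗ[A] Module.DirectLimit (Gp fs N p) (Fp fs N p) :=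
  Module.DirectLimit.map (Gmap fs g p) (Gmap_comm fs g p)

section LES

variable {S : ShortComplex (ModuleCat.{u} A)} (hS : S.ShortExact)

include hS in
lemma degSES_of_shortExact (xs : List A) : DegSES (kmap S.f xs) (kmap S.g xs) :=
  degSES_kmap S.f S.g ((ModuleCat.mono_iff_injective _).1 hS.mono_f)
    ((ShortComplex.ShortExact.moduleCat_exact_iff_function_exact S).1 hS.exact)
    ((ModuleCat.epi_iff_surjective _).1 hS.epi_g) xs

/-- the short complex of Koszul complexes at stage `n`. -/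
noncomputable def SCn (n : ℕ) : ShortComplex (CochainComplex (ModuleCat.{u} A) ℤ) :=
  ShortComplex.mk (kmap S.f (fs.map (· ^ n))) (kmap S.g (fs.map (· ^ n)))
    (degSES_of_shortExact hS _).comp_eq_zero

lemma SCn_shortExact (n : ℕ) : (SCn fs hS n).ShortExact :=
  (degSES_of_shortExact hS _).shortExact

/-- transition morphism of short complexes. -/
noncomputable def SCmap (n m : ℕ) (h : n ≤ m) : SCn fs hS n ⟶ SCn fs hS m where
  τ₁ := CohIII.koszulTrans S.X₁ n m h fs
  τ₂ := CohIII.koszulTrans S.X₂ n m h fs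
  τ₃ := CohIII.koszulTrans S.X₃ n m h fs
  comm₁₂ := kmap_trans S.f n m h fs
  comm₂₃ := kmap_trans S.g n m h fs

lemma deg_rel (p : ℕ) : (ComplexShape.up ℤ).Rel ((p : ℤ) - fs.length) (((p + 1 : ℕ) : ℤ) - fs.length) := by
  show _ + 1 = _
  push_cast
  ring

/-- connecting map at stage `n`. -/
noncomputable def Gδ (p : ℕ) (n : ℕ) : Gp fs S.X₃ p n →ₗ[A] Gp fs S.X₁ (p + 1) n :=
  ((SCn_shortExact fs hS n).δ ((p : ℤ) - fs.length) (((p + 1 : ℕ) : ℤ) - fs.length)
    (deg_rel fs p)).hom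

lemma Gδ_comm (p : ℕ) (i j : ℕ) (h : i ≤ j) :
    Gδ fs hS p j ∘ₗ Fp fs S.X₃ p i j h = Fp fs S.X₁ (p + 1) i j h ∘ₗ Gδ fs hS p i := by
  have := HomologicalComplex.HomologySequence.δ_naturality (SCmap fs hS i j h)
    (SCn_shortExact fs hS i) (SCn_shortExact fs hS j) ((p : ℤ) - fs.length)
    (((p + 1 : ℕ) : ℤ) - fs.length) (deg_rel fs p)
  exact congr(($this).hom).symm

/-- limit connecting map. -/
noncomputable def Tδ (p : ℕ) :
    Module.DirectLimit (Gp fs S.X₃ p) (Fp fs S.X₃ p) →ₗ[A]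
      Module.DirectLimit (Gp fs S.X₁ (p + 1)) (Fp fs S.X₁ (p + 1)) :=
  Module.DirectLimit.map (Gδ fs hS p) (Gδ_comm fs hS p)

lemma exact_g_δ (p : ℕ) : Function.Exact (Tmap fs S.g p) (Tδ fs hS p) := by
  apply dl_exact
  intro n
  have := (SCn_shortExact fs hS n).homology_exact₃ ((p : ℤ) - fs.length)
    (((p + 1 : ℕ) : ℤ) - fs.length) (deg_rel fs p)
  exact (ShortComplex.ShortExact.moduleCat_exact_iff_function_exact _).1 this

lemma exact_δ_f (p : ℕ) : Function.Exact (Tδ fs hS p) (Tmap fs S.f (p + 1)) := by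
  apply dl_exact
  intro n
  have := (SCn_shortExact fs hS n).homology_exact₁ ((p : ℤ) - fs.length)
    (((p + 1 : ℕ) : ℤ) - fs.length) (deg_rel fs p)
  exact (ShortComplex.ShortExact.moduleCat_exact_iff_function_exact _).1 this

end LES

end system

end Groth.Agent.H21.Kos
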