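import Mathlib
import Groth.Prelude.Def_ega3
import Groth.Agent.Lib.helper21.Kos12
import Groth.Agent.Lib.helper21.CE6

/-!
# Direct-limit Koszul cohomology is local cohomology (Noetherian ring).
-/

set_option autoImplicit false

namespace Groth.Agent.H21.Kos

open CategoryTheory CategoryTheory.Limits CochainComplex HomComplex HomologicalComplex
open Groth.Agent.Lib.helper17.ExtCechH0
open Groth.Agent.H21.LC

universe u

variable {A : Type u} [CommRing A]

section zero

variable (fs : List A) (M : ModuleCat.{u} A)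

lemma deg_zero (n : ℕ) :
    (((0 : ℕ) : ℤ) - (fs.length : ℤ)) + ((fs.map (· ^ n)).length : ℤ) = 0 := by simp

/-- the map `T⁰(M) → M`. -/
noncomputable def ιL : Module.DirectLimit (Gp fs M 0) (Fp fs M 0) →ₗ[A] M :=
  Module.DirectLimit.lift A ℕ _ _
    (fun n => (iotaK M (fs.map (· ^ n)) (((0 : ℕ) : ℤ) - fs.length) (deg_zero fs n)).hom)
    (fun i j hij x =>
      ConcreteCategory.congr_hom (iotaK_trans M i j hij fs _ (deg_zero fs i) (deg_zero fs j)) x)

lemma ιL_of (n : ℕ) (x : Gp fs M 0 n) :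
    ιL fs M (Module.DirectLimit.of A ℕ (Gp fs M 0) (Fp fs M 0) n x) =
      iotaK M (fs.map (· ^ n)) (((0 : ℕ) : ℤ) - fs.length) (deg_zero fs n) x :=
  Module.DirectLimit.lift_of _ _ _

lemma ιL_injective : Function.Injective (ιL fs M) :=
  Module.DirectLimit.lift_injective _ _ (fun n => iotaK_injective M _ _ _)

lemma exists_uniform_pow (m : M) : ∀ l : List A, (∀ g ∈ l, ∃ n : ℕ, g ^ n • m = 0) →
    ∃ n : ℕ, ∀ g ∈ l, g ^ n • m = 0
  | [], _ => ⟨0, by simp⟩
  | a :: l, h => by
    obtain ⟨n, hn⟩ := exists_uniform_pow m l (fun g hg => h g (List.mem_cons_of_mem _ hg))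
    obtain ⟨k, hk⟩ := h a List.mem_cons_self
    refine ⟨n + k, fun g hg => ?_⟩
    rcases List.mem_cons.1 hg with rfl | hg
    · rw [pow_add, mul_smul, hk, smul_zero]
    · rw [add_comm, pow_add, mul_smul, hn g hg, smul_zero]

lemma range_ιL :
    LinearMap.range (ιL fs M) = DRing.torsionSub (Ideal.span {x : A | x ∈ fs}) M := by
  ext m
  rw [mem_torsionSub_span_iff]
  constructor
  · rintro ⟨z, rfl⟩
    obtain ⟨n, x, rfl⟩ := Module.DirectLimit.exists_of z
    rw [ιL_of]
    have := (range_iotaK M (fs.map (· ^ n)) _ (deg_zero fs n) _).1 ⟨x, rfl⟩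
    intro g hg
    exact ⟨n, this (g ^ n) (List.mem_map.2 ⟨g, hg, rfl⟩)⟩
  · intro h
    obtain ⟨n, hn⟩ := exists_uniform_pow M m fs h
    have hm : m ∈ annSub (fs.map (· ^ n)) M := by
      intro g' hg'
      obtain ⟨g, hg, rfl⟩ := List.mem_map.1 hg'
      exact hn g hg
    obtain ⟨x, hx⟩ := (range_iotaK M (fs.map (· ^ n)) _ (deg_zero fs n) m).2 hm
    exact ⟨Module.DirectLimit.of A ℕ (Gp fs M 0) (Fp fs M 0) n x, by rw [ιL_of, hx]⟩

lemma ιL_map {M N : ModuleCat.{u} A} (g : M ⟶ N)
    (z : Module.DirectLimit (Gp fs M 0) (Fp fs M 0)) :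
    ιL fs N (Tmap fs g 0 z) = g.hom (ιL fs M z) := by
  obtain ⟨n, x, rfl⟩ := Module.DirectLimit.exists_of z
  rw [Tmap, Module.DirectLimit.map_apply_of, ιL_of, ιL_of]
  exact ConcreteCategory.congr_hom (iotaK_kmap g (fs.map (· ^ n)) _ (deg_zero fs n)) x

end zero

lemma subsingleton_of_injective [IsNoetherianRing A] (fs : List A) (E : ModuleCat.{u} A)
    [Injective E] (i : ℕ) (hi : 0 < i) :
    Subsingleton (Module.DirectLimit (Gp fs E i) (Fp fs E i)) := by
  haveI : Module.Injective A E := Module.injective_module_of_injective_object A E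
  exact subsingleton_koszulHLim fs E i hi

theorem main [IsNoetherianRing A] (fs : List A) : ∀ (i : ℕ) (M : ModuleCat.{u} A),
    Nonempty (Module.DirectLimit (Gp fs M i) (Fp fs M i) ≃ₗ[A]
      (localCohomology (Ideal.span {x : A | x ∈ fs}) i).obj M)
  | 0, M => ⟨((LinearEquiv.ofInjective (ιL fs M) (ιL_injective fs M)).trans
      (LinearEquiv.ofEq _ _ (range_ιL fs M))).trans (H0Equiv _ M).symm⟩
  | 1, M => by
    have hS := injSES_shortExact M
    have hsub := subsingleton_of_injective fs (injSES M).X₂ 1 Nat.one_pos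
    exact Groth.Agent.H21.CE.nonempty_equiv_of_cokernels (R := A) (injSES M).g.hom
      (ιL fs (injSES M).X₂) (ιL fs (injSES M).X₃)
      (Tmap fs (injSES M).g 0) (Tδ fs hS 0)
      (toM _ (injSES M).X₂) (toM _ (injSES M).X₃)
      ((localCohomology (Ideal.span {x : A | x ∈ fs}) 0).map (injSES M).g).hom
      (Groth.Agent.H21.LC.δ (Ideal.span {x : A | x ∈ fs}) hS 0)
      (ιL_injective fs _) (toM_injective _ _)
      ((range_ιL fs _).trans (range_toM _ _).symm)
      ((range_ιL fs _).trans (range_toM _ _).symm)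
      (fun a => ιL_map fs (injSES M).g a)
      (fun a => toM_map _ (injSES M).g a)
      (exact_g_δ fs hS 0)
      (fun c => (exact_δ_f fs hS 0 c).1 (Subsingleton.elim _ _))
      (exact₃ _ hS 0)
      (δ_surjective_of_injective hS _ 0)
  | (i + 2), M => by
    have hS := injSES_shortExact M
    have hsub1 := subsingleton_of_injective fs (injSES M).X₂ (i + 1) (Nat.succ_pos _)
    have hsub2 := subsingleton_of_injective fs (injSES M).X₂ (i + 1 + 1) (Nat.succ_pos _)
    obtain ⟨e0⟩ := main fs (i + 1) (injSES M).X₃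
    have hbij : Function.Bijective (Tδ fs hS (i + 1)) := by
      constructor
      · rw [injective_iff_map_eq_zero]
        intro x hx
        obtain ⟨y, rfl⟩ := (exact_g_δ fs hS (i + 1) x).1 hx
        rw [Subsingleton.elim y 0, map_zero]
      · intro c
        exact (exact_δ_f fs hS (i + 1) c).1 (Subsingleton.elim _ _)
    have e1 := LinearEquiv.ofBijective _ hbij
    have e2 := LinearEquiv.ofBijective
      (Groth.Agent.H21.LC.δ (Ideal.span {x : A | x ∈ fs}) hS (i + 1))
      ⟨δ_injective_succ hS _ i, δ_surjective_of_injective hS _ (i + 1)⟩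
    exact ⟨(e1.symm.trans e0).trans e2⟩

theorem koszulHLim_equiv [IsNoetherianRing A] (fs : List A) (M : Type u) [AddCommGroup M]
    [Module A M] (i : ℕ) :
    Nonempty ((localCohomology (Ideal.span {a : A | a ∈ fs}) i).obj (ModuleCat.of A M) ≃ₗ[A]
      CohIII.koszulHLim fs (ModuleCat.of A M) i) := by
  obtain ⟨e⟩ := main fs i (ModuleCat.of A M)
  exact ⟨e.symm⟩

end Groth.Agent.H21.Kos
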