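import Mathlib
import Groth.Prelude.Def_ega3
import Groth.Agent.Lib.helper21.Kos6

set_option autoImplicit false

namespace Groth.Agent.H21.Kos

open CategoryTheory CategoryTheory.Limits CochainComplex HomComplex HomologicalComplex

universe v u

variable {A : Type u} [CommRing A]

open scoped Pointwise

lemma finite_of_iso {X Y : ModuleCat.{u} A} (e : X ≅ Y) [Module.Finite A X] : Module.Finite A Y :=
  Module.Finite.equiv e.toLinearEquiv

lemma finite_X [IsNoetherianRing A] (M : Type u) [AddCommGroup M] [Module A M] [Module.Finite A M]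
    (fs : List A) (i : ℤ) : Module.Finite A ((CohIII.koszulCx (ModuleCat.of A M) fs).X i) := by
  induction fs generalizing i with
  | nil =>
    by_cases hi : i = 0
    · subst hi
      have : Module.Finite A (ModuleCat.of A M) := inferInstanceAs (Module.Finite A M)
      exact finite_of_iso (HomologicalComplex.singleObjXSelf (ComplexShape.up ℤ) 0
        (ModuleCat.of A M)).symm
    · have : Subsingleton ((CohIII.koszulCx (ModuleCat.of A M) []).X i) :=
        ModuleCat.subsingleton_of_isZero
          (isZero_single_obj_X (ComplexShape.up ℤ) 0 (ModuleCat.of A M) i hi)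
      infer_instance
  | cons f fs ih =>
    have h1 := ih (i + 1)
    have h2 := ih i
    -- the cone in degree i is generated by the images of inl and inr
    let K := CohIII.koszulCx (ModuleCat.of A M) fs
    let φ : K ⟶ K := f • 𝟙 K
    let g : (K.X (i + 1) × K.X i) →ₗ[A] (mappingCone φ).X i :=
      LinearMap.coprod ((mappingCone.inl φ).v (i + 1) i (by omega)).hom
        ((mappingCone.inr φ).f i).hom
    have hg : Function.Surjective g := by
      intro x
      refine ⟨((mappingCone.fst φ).1.v i (i + 1) rfl x, (mappingCone.snd φ).v i i (add_zero i) x), ?_⟩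
      exact (cone_decomp φ i x).symm
    exact Module.Finite.of_surjective g hg

lemma finite_homology [IsNoetherianRing A] (K : CochainComplex (ModuleCat.{u} A) ℤ) (i : ℤ)
    [Module.Finite A (K.X i)] : Module.Finite A (K.homology i) := by
  have : IsNoetherian A (K.X i) := isNoetherian_of_isNoetherianRing_of_finite A _
  have h1 : Module.Finite A (K.cycles i) :=
    Module.Finite.of_injective (K.iCycles i).hom
      ((ModuleCat.mono_iff_injective _).1 inferInstance)
  exact Module.Finite.of_surjective (K.homologyπ i).hom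
    ((ModuleCat.epi_iff_surjective _).1 inferInstance)



/-- If `f` is in the Jacobson radical, the cone of `f` on `K` is acyclic in degree `i` and
`H^i(K)` is finite, then `H^i(K) = 0`. -/
lemma isZero_homology_of_cone (K : CochainComplex (ModuleCat.{u} A) ℤ) (f : A)
    (hf : f ∈ (⊥ : Ideal A).jacobson) (i : ℤ) [Module.Finite A (K.homology i)]
    (hz : IsZero ((mappingCone (f • 𝟙 K)).homology i)) : IsZero (K.homology i) := by
  obtain ⟨δ, w₁, w₂, w₃, e₁, e₂, e₃⟩ := cone_les (f • 𝟙 K) i (i + 1) rfl
  have r₁ := e₁.moduleCat_range_eq_ker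
  dsimp at r₁
  have hk : LinearMap.ker (homologyMap (mappingCone.inr (f • 𝟙 K)) i).hom = ⊤ := by
    rw [hz.eq_of_tgt (homologyMap (mappingCone.inr (f • 𝟙 K)) i) 0]
    simp
  have htop : f • (⊤ : Submodule A (K.homology i)) = ⊤ := by
    rw [← range_smul_id, ← homologyMap_smul_id, ← hk]
    exact r₁
  have hbot : (⊤ : Submodule A (K.homology i)) = ⊥ := by
    refine Submodule.eq_bot_of_le_smul_of_le_jacobson_bot (Ideal.span {f}) ⊤ Module.Finite.fg_top
      ?_ ?_
    · rw [Submodule.ideal_span_singleton_smul, htop]
    · rw [Ideal.span_le]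
      rintro _ rfl
      exact hf
  rw [ModuleCat.isZero_iff_subsingleton]
  exact (Submodule.subsingleton_iff A).1 (subsingleton_of_bot_eq_top hbot.symm)

lemma injective_smul_of_cone (K : CochainComplex (ModuleCat.{u} A) ℤ) (f : A) (i j : ℤ)
    (hij : i + 1 = j) (hz : IsZero ((mappingCone (f • 𝟙 K)).homology i)) :
    IsSMulRegular (K.homology j) f := by
  obtain ⟨δ, w₁, w₂, w₃, e₁, e₂, e₃⟩ := cone_les (f • 𝟙 K) i j hij
  have hδ : δ = 0 := hz.eq_of_src _ _
  subst hδ
  have r₃ := e₃.moduleCat_range_eq_ker
  dsimp at r₃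
  have hk : LinearMap.ker (homologyMap (f • 𝟙 K) j).hom = ⊥ := by
    rw [← r₃]
    simp
  rw [homologyMap_smul_id, ker_smul_id] at hk
  intro x y hxy
  have : x - y ∈ Submodule.torsionBy A (K.homology j) f := by
    rw [Submodule.mem_torsionBy_iff, smul_sub, sub_eq_zero]
    exact hxy
  rw [hk, Submodule.mem_bot, sub_eq_zero] at this
  exact this

theorem weaklyRegular_reverse_of_acyclic [IsNoetherianRing A] (M : Type u) [AddCommGroup M]
    [Module A M] [Module.Finite A M] (xs : List A)
    (hxs : ∀ x ∈ xs, x ∈ (⊥ : Ideal A).jacobson)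
    (hz : ∀ i : ℤ, i < 0 → IsZero ((CohIII.koszulCx (ModuleCat.of A M) xs).homology i)) :
    RingTheory.Sequence.IsWeaklyRegular M xs.reverse := by
  induction xs with
  | nil => exact RingTheory.Sequence.IsWeaklyRegular.nil A M
  | cons f fs ih =>
    have hf : f ∈ (⊥ : Ideal A).jacobson := hxs f List.mem_cons_self
    have hz' : ∀ i : ℤ, i < 0 →
        IsZero ((CohIII.koszulCx (ModuleCat.of A M) fs).homology i) := by
      intro i hi
      have := finite_X M fs i
      have := finite_homology (CohIII.koszulCx (ModuleCat.of A M) fs) i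
      exact isZero_homology_of_cone _ f hf i (hz i hi)
    have h1 := ih (fun x hx => hxs x (List.mem_cons_of_mem _ hx)) hz'
    rw [List.reverse_cons, RingTheory.Sequence.isWeaklyRegular_append_iff]
    refine ⟨h1, ?_⟩
    rw [RingTheory.Sequence.isWeaklyRegular_singleton_iff]
    have h2 := injective_smul_of_cone (CohIII.koszulCx (ModuleCat.of A M) fs) f (-1) 0 (by norm_num)
      (hz (-1) (by norm_num))
    obtain ⟨e⟩ := h0_equiv M fs
    have h3 : Ideal.ofList fs.reverse = Ideal.ofList fs := by
      unfold Ideal.ofList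
      congr 1
      ext x
      simp
    rw [h3]
    exact (e.isSMulRegular_congr f).1 h2

end Groth.Agent.H21.Kos
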