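import Mathlib
import Groth.Prelude.Def_DerCA

universe u
set_option linter.unusedSectionVars false
set_option linter.style.haveILetI false
open CategoryTheory Opposite Limits

namespace Groth.Agent.H21.LC

/-- Mittag-Leffler construction of a compatible family. -/
lemma exists_family {X : ℕ → Type*} (T : ∀ n m, n ≤ m → X m → X n)
    (T_refl : ∀ n x, T n n le_rfl x = x)
    (T_comp : ∀ n m k (h : n ≤ m) (h' : m ≤ k) x, T n m h (T m k h' x) = T n k (h.trans h') x)
    (E : ∀ n, Set (X n))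
    (hE : ∀ n, ∀ y ∈ E n, ∃ z ∈ E (n + 1), T n (n + 1) (Nat.le_succ n) z = y)
    (n₀ : ℕ) (y : X n₀) (hy : y ∈ E n₀) :
    ∃ f : ∀ n, X n, f n₀ = y ∧ ∀ n m (h : n ≤ m), T n m h (f m) = f n := by
  classical
  let g : ∀ t, {z : X (n₀ + t) // z ∈ E (n₀ + t)} := fun t =>
    Nat.rec (motive := fun t => {z : X (n₀ + t) // z ∈ E (n₀ + t)}) ⟨y, hy⟩
      (fun t z => ⟨(hE (n₀ + t) z.1 z.2).choose, (hE (n₀ + t) z.1 z.2).choose_spec.1⟩) t
  have hg : ∀ t, T (n₀ + t) (n₀ + t + 1) (Nat.le_succ _) (g (t + 1)).1 = (g t).1 := fun t =>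
    (hE (n₀ + t) (g t).1 (g t).2).choose_spec.2
  have hg' : ∀ t s (h : t ≤ s), T (n₀ + t) (n₀ + s) (by omega) (g s).1 = (g t).1 := by
    intro t s h
    induction s, h using Nat.le_induction with
    | base => exact T_refl _ _
    | succ s hs ih =>
      rw [← ih, ← hg s, T_comp]
      rfl
  have hind : ∀ n t s (ht : n ≤ n₀ + t) (hs : n ≤ n₀ + s), t ≤ s →
      T n _ ht (g t).1 = T n _ hs (g s).1 := by
    intro n t s ht hs hts
    rw [← hg' t s hts, T_comp]
  have hind' : ∀ n t s (ht : n ≤ n₀ + t) (hs : n ≤ n₀ + s),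
      T n _ ht (g t).1 = T n _ hs (g s).1 := by
    intro n t s ht hs
    rcases le_total t s with h | h
    · exact hind n t s ht hs h
    · exact (hind n s t hs ht h).symm
  refine ⟨fun n => T n (n₀ + n) (by omega) (g n).1, ?_, ?_⟩
  · have := hind' n₀ n₀ 0 (by omega) (by omega)
    change T n₀ (n₀ + n₀) _ (g n₀).1 = y
    rw [this]
    exact T_refl _ _
  · intro n m h
    rw [T_comp]
    exact hind' n m n _ _

variable {A : Type u} [CommRing A]

theorem isEssConstant_of_isArtinian (X : ℕᵒᵖ ⥤ ModuleCat.{u} A) (B : ModuleCat.{u} A)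
    [IsArtinian A B] (hX : ∀ n : ℕ, IsArtinian A (X.obj (op n)))
    (c : (Functor.const ℕᵒᵖ).obj B ⟶ X)
    (hinj : ∀ x : B, (∀ n : ℕᵒᵖ, c.app n x = 0) → x = 0)
    (hsurj : ∀ y : (∀ n : ℕ, X.obj (op n)),
      (∀ (n m : ℕ) (h : n ≤ m), X.map (homOfLE h).op (y m) = y n) →
      ∃ x : B, ∀ n : ℕ, c.app (op n) x = y n) :
    DerCA.IsEssConstant X B c := by
  classical
  -- transition maps
  let T : ∀ n m : ℕ, n ≤ m → (X.obj (op m) →ₗ[A] X.obj (op n)) :=
    fun n m h => (X.map (homOfLE h).op).hom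
  have T_refl : ∀ n x, T n n le_rfl x = x := by
    intro n x
    have : (homOfLE (le_refl n)).op = 𝟙 (op n) := Subsingleton.elim _ _
    simp only [T, this, X.map_id]
    rfl
  have T_comp : ∀ n m k (h : n ≤ m) (h' : m ≤ k) x,
      T n m h (T m k h' x) = T n k (h.trans h') x := by
    intro n m k h h' x
    have : (homOfLE (h.trans h')).op = (homOfLE h').op ≫ (homOfLE h).op :=
      Subsingleton.elim _ _
    simp only [T, this, X.map_comp]
    rfl
  have c_compat : ∀ n m (h : n ≤ m) (x : B), T n m h (c.app (op m) x) = c.app (op n) x := by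
    intro n m h x
    have := c.naturality (homOfLE h).op
    simp only [Functor.const_obj_obj, Functor.const_obj_map, Category.id_comp] at this
    rw [this]
    rfl
  -- stabilisation of images
  have hstab : ∀ n : ℕ, ∃ κ : ℕ, n ≤ κ ∧ ∀ k (hk : κ ≤ k) (h : n ≤ k) (h' : n ≤ κ),
      LinearMap.range (T n k h) = LinearMap.range (T n κ h') := by
    intro n
    haveI := hX n
    let f : ℕ →o (Submodule A (X.obj (op n)))ᵒᵈ :=
      { toFun := fun t => OrderDual.toDual (LinearMap.range (T n (n + t) (by omega)))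
        monotone' := by
          intro t s hts
          change LinearMap.range (T n (n + s) _) ≤ LinearMap.range (T n (n + t) _)
          rintro _ ⟨z, rfl⟩
          refine ⟨T (n + t) (n + s) (by omega) z, ?_⟩
          rw [T_comp] }
    obtain ⟨t₀, ht₀⟩ := IsArtinian.monotone_stabilizes f
    refine ⟨n + t₀, by omega, ?_⟩
    intro k hk h h'
    obtain ⟨s, rfl⟩ : ∃ s, k = n + s := ⟨k - n, by omega⟩
    have := ht₀ s (by omega)
    exact (congrArg OrderDual.ofDual this).symm
  choose κ hκ1 hκ2 using hstab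
  let E : ∀ n : ℕ, Submodule A (X.obj (op n)) := fun n => LinearMap.range (T n (κ n) (hκ1 n))
  have hE_eq : ∀ n k (hk : κ n ≤ k), LinearMap.range (T n k ((hκ1 n).trans hk)) = E n :=
    fun n k hk => hκ2 n k hk _ _
  have hc_mem : ∀ n (x : B), c.app (op n) x ∈ E n := by
    intro n x
    exact ⟨c.app (op (κ n)) x, c_compat _ _ _ _⟩
  have hE_surj : ∀ n, ∀ y ∈ (E n : Set (X.obj (op n))),
      ∃ z ∈ (E (n + 1) : Set (X.obj (op (n + 1)))), T n (n + 1) (Nat.le_succ n) z = y := by
    intro n y hy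
    have hk1 : κ n ≤ max (κ n) (κ (n + 1)) := le_max_left _ _
    have hk2 : κ (n + 1) ≤ max (κ n) (κ (n + 1)) := le_max_right _ _
    have hy' : y ∈ LinearMap.range (T n _ ((hκ1 n).trans hk1)) := by
      rw [hE_eq n _ hk1]; exact hy
    obtain ⟨z, rfl⟩ := hy'
    refine ⟨T (n + 1) _ ((hκ1 (n + 1)).trans hk2) z, ?_, ?_⟩
    · change _ ∈ E (n + 1)
      rw [← hE_eq (n + 1) _ hk2]
      exact ⟨z, rfl⟩
    · rw [T_comp]
  have hE_range : ∀ n, ∀ y ∈ E n, ∃ x : B, c.app (op n) x = y := by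
    intro n y hy
    obtain ⟨f, hf1, hf2⟩ := exists_family (X := fun n => X.obj (op n))
      (fun n m h => T n m h) T_refl T_comp (fun n => (E n : Set (X.obj (op n)))) hE_surj n y hy
    obtain ⟨x, hx⟩ := hsurj f hf2
    exact ⟨x, by rw [hx, hf1]⟩
  -- kernels
  have hker : ∃ n₀ : ℕ, Function.Injective (c.app (op n₀)).hom := by
    let f : ℕ →o (Submodule A B)ᵒᵈ :=
      { toFun := fun t => OrderDual.toDual (LinearMap.ker (c.app (op t)).hom)
        monotone' := by
          intro t s hts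
          change LinearMap.ker (c.app (op s)).hom ≤ LinearMap.ker (c.app (op t)).hom
          intro x hx
          rw [LinearMap.mem_ker] at hx ⊢
          have := c_compat t s hts x
          rw [← this]
          change T t s hts ((c.app (op s)).hom x) = 0
          rw [hx, map_zero] }
    obtain ⟨n₀, hn₀⟩ := IsArtinian.monotone_stabilizes f
    refine ⟨n₀, ?_⟩
    rw [← LinearMap.ker_eq_bot, eq_bot_iff]
    intro x hx
    rw [Submodule.mem_bot]
    apply hinj
    intro m
    obtain ⟨m, rfl⟩ : ∃ m', m = op m' := ⟨m.unop, rfl⟩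
    rcases le_total n₀ m with h | h
    · have := congrArg OrderDual.ofDual (hn₀ m h)
      change LinearMap.ker (c.app (op n₀)).hom = LinearMap.ker (c.app (op m)).hom at this
      rw [this] at hx
      exact hx
    · have := c_compat m n₀ h x
      rw [← this]
      change T m n₀ h ((c.app (op n₀)).hom x) = 0
      rw [LinearMap.mem_ker.mp hx, map_zero]
  obtain ⟨n₀, hn₀⟩ := hker
  -- the retraction
  have hs_ex : ∀ z : X.obj (op (κ n₀)), ∃ a : B, c.app (op n₀) a = T n₀ (κ n₀) (hκ1 n₀) z :=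
    fun z => hE_range n₀ _ ⟨z, rfl⟩
  choose s₀ hs₀ using hs_ex
  let s : X.obj (op (κ n₀)) →ₗ[A] B :=
    { toFun := s₀
      map_add' := by
        intro z w
        apply hn₀
        change c.app (op n₀) _ = c.app (op n₀) _
        rw [map_add, hs₀, hs₀, hs₀, map_add]
      map_smul' := by
        intro r z
        apply hn₀
        change c.app (op n₀) _ = c.app (op n₀) _
        rw [map_smul, hs₀, hs₀, map_smul, RingHom.id_apply] }
  refine ⟨κ n₀, ModuleCat.ofHom s, ?_, ?_⟩
  · ext x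
    apply hn₀
    change c.app (op n₀) (s₀ (c.app (op (κ n₀)) x)) = c.app (op n₀) x
    rw [hs₀, c_compat]
  · intro j
    have hj' : j ≤ max j n₀ := le_max_left _ _
    have hn' : n₀ ≤ max j n₀ := le_max_right _ _
    obtain ⟨k, hk1, hk2⟩ : ∃ k, κ n₀ ≤ k ∧ κ (max j n₀) ≤ k :=
      ⟨max (κ n₀) (κ (max j n₀)), le_max_left _ _, le_max_right _ _⟩
    refine ⟨k, hk1, hj'.trans ((hκ1 _).trans hk2), ?_⟩
    apply ModuleCat.hom_ext
    apply LinearMap.ext
    intro z
    change T j k _ z = c.app (op j) (s₀ (T (κ n₀) k hk1 z))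
    set a := s₀ (T (κ n₀) k hk1 z) with ha
    have h1 : c.app (op n₀) a = T n₀ k ((hκ1 n₀).trans hk1) z := by
      rw [ha, hs₀, T_comp]
    have h2 : T (max j n₀) k ((hκ1 _).trans hk2) z ∈ E (max j n₀) := by
      rw [← hE_eq _ k hk2]; exact ⟨z, rfl⟩
    obtain ⟨a', ha'⟩ := hE_range _ _ h2
    have h3 : a' = a := by
      apply hn₀
      change c.app (op n₀) a' = c.app (op n₀) a
      rw [h1, ← c_compat n₀ (max j n₀) hn' a', ha', T_comp]
    rw [h3] at ha'
    rw [← c_compat j (max j n₀) hj' a, ha', T_comp]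

end Groth.Agent.H21.LC
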