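import Mathlib
import Groth.Agent.Lib.helper21.LC4

universe u
set_option linter.unusedSectionVars false
set_option linter.style.haveILetI false
open CategoryTheory Opposite Limits Abelian TensorProduct

namespace Groth.Agent.H21.LC

variable {R : Type u} [CommRing R]

/-! ### linearity of local cohomology on morphisms -/

lemma H_map_add (I : Ideal R) (i : ℕ) {M N : ModuleCat.{u} R} (f g : M ⟶ N) :
    (localCohomology I i).map (f + g) = (localCohomology I i).map f + (localCohomology I i).map g := by
  refine ModuleCat.hom_ext (LinearMap.ext fun x => ?_)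
  obtain ⟨n, y, rfl⟩ := ιH_surj I i M x
  change ((localCohomology I i).map (f + g)).hom _ =
    ((localCohomology I i).map f).hom _ + ((localCohomology I i).map g).hom _
  rw [map_ιH, map_ιH, map_ιH, Ext.mk₀_add, Ext.comp_add, map_add]

lemma H_map_smul (I : Ideal R) (i : ℕ) {M N : ModuleCat.{u} R} (r : R) (f : M ⟶ N) :
    (localCohomology I i).map (r • f) = r • (localCohomology I i).map f := by
  refine ModuleCat.hom_ext (LinearMap.ext fun x => ?_)
  obtain ⟨n, y, rfl⟩ := ιH_surj I i M x
  change ((localCohomology I i).map (r • f)).hom _ = r • ((localCohomology I i).map f).hom _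
  rw [map_ιH, map_ιH, Ext.mk₀_smul, Ext.comp_smul, map_smul]

lemma H_map_zero (I : Ideal R) (i : ℕ) {M N : ModuleCat.{u} R} :
    (localCohomology I i).map (0 : M ⟶ N) = 0 := by
  have := H_map_smul I i (0 : R) (0 : M ⟶ N)
  rwa [zero_smul, zero_smul] at this

/-! ### the comparison map `wθ` -/

/-- the map `R ⟶ M` sending `1` to `m`. -/
noncomputable def wρ (M : ModuleCat.{u} R) (m : M) : ModuleCat.of R R ⟶ M :=
  ModuleCat.ofHom (LinearMap.toSpanSingleton R M m)

lemma wρ_add (M : ModuleCat.{u} R) (m m' : M) : wρ M (m + m') = wρ M m + wρ M m' := by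
  refine ModuleCat.hom_ext (LinearMap.ext fun r => ?_)
  change r • (m + m') = r • m + r • m'
  rw [smul_add]

lemma wρ_smul (M : ModuleCat.{u} R) (r : R) (m : M) : wρ M (r • m) = r • wρ M m := by
  refine ModuleCat.hom_ext (LinearMap.ext fun s => ?_)
  change s • (r • m) = r • (s • m)
  rw [smul_comm]

lemma wρ_comp {M N : ModuleCat.{u} R} (g : M ⟶ N) (m : M) : wρ M m ≫ g = wρ N (g m) := by
  refine ModuleCat.hom_ext (LinearMap.ext fun s => ?_)
  change g (s • m) = s • g m
  rw [map_smul]

lemma wρ_self (r : R) : wρ (ModuleCat.of R R) r = r • 𝟙 (ModuleCat.of R R) := by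
  refine ModuleCat.hom_ext (LinearMap.ext fun s => ?_)
  change s • r = r • s
  rw [smul_eq_mul, smul_eq_mul, mul_comm]

/-- the natural comparison `H^i_I(R) ⊗ M ⟶ H^i_I(M)`. -/
noncomputable def wθ (I : Ideal R) (i : ℕ) (M : ModuleCat.{u} R) :
    ((localCohomology I i).obj (ModuleCat.of R R)) ⊗[R] M →ₗ[R] (localCohomology I i).obj M :=
  TensorProduct.lift
    (LinearMap.mk₂ R (fun x m => ((localCohomology I i).map (wρ M m)).hom x)
      (fun x x' m => map_add _ x x')
      (fun r x m => map_smul _ r x)
      (fun x m m' => by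
        change ((localCohomology I i).map (wρ M (m + m'))).hom x = _
        rw [wρ_add, H_map_add]; rfl)
      (fun r x m => by
        change ((localCohomology I i).map (wρ M (r • m))).hom x = _
        rw [wρ_smul, H_map_smul]; rfl))

lemma wθ_tmul (I : Ideal R) (i : ℕ) (M : ModuleCat.{u} R)
    (x : (localCohomology I i).obj (ModuleCat.of R R)) (m : M) :
    wθ I i M (x ⊗ₜ m) = ((localCohomology I i).map (wρ M m)).hom x := rfl

lemma wθ_natural (I : Ideal R) (i : ℕ) {M N : ModuleCat.{u} R} (g : M ⟶ N)
    (z : ((localCohomology I i).obj (ModuleCat.of R R)) ⊗[R] M) :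
    ((localCohomology I i).map g).hom (wθ I i M z) = wθ I i N (LinearMap.lTensor _ g.hom z) := by
  induction z using TensorProduct.induction_on with
  | zero => simp
  | tmul x m =>
    rw [wθ_tmul, LinearMap.lTensor_tmul, wθ_tmul]
    change ((localCohomology I i).map (wρ M m) ≫ (localCohomology I i).map g).hom x = _
    rw [← Functor.map_comp, wρ_comp]
  | add z z' hz hz' => rw [map_add, map_add, map_add, map_add, hz, hz']

lemma wθ_self_bijective (I : Ideal R) (i : ℕ) :
    Function.Bijective (wθ I i (ModuleCat.of R R)) := by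
  have : wθ I i (ModuleCat.of R R) =
      (TensorProduct.rid R ((localCohomology I i).obj (ModuleCat.of R R))).toLinearMap := by
    apply TensorProduct.ext'
    intro x r
    rw [wθ_tmul, wρ_self, H_map_smul, CategoryTheory.Functor.map_id]
    change r • x = _
    simp
  rw [this]
  exact (TensorProduct.rid R _).bijective

end Groth.Agent.H21.LC
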