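import Mathlib
import Groth.Agent.Lib.helper21.LC57
import Groth.Agent.Lib.helper21.LC21

universe u
set_option linter.unusedSectionVars false
set_option linter.style.haveILetI false
set_option linter.unusedTactic false
open CategoryTheory Opposite Limits Abelian TensorProduct

namespace Groth.Agent.H21.LC

variable {R : Type u} [CommRing R]

/-! ### right exactness -/

/-- if `H^{i+1}_I` vanishes on all modules then `H^i_I` preserves surjections. -/
lemma H_map_surjective (I : Ideal R) (i : ℕ)
    (hv : ∀ K : ModuleCat.{u} R, Subsingleton ((localCohomology I (i + 1)).obj K))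
    {M N : ModuleCat.{u} R} (g : M ⟶ N) (hg : Function.Surjective g.hom) :
    Function.Surjective ((localCohomology I i).map g).hom := by
  intro y
  have hS := LinearMap.shortExact_shortComplexKer hg
  have hex := exact₃ I hS i
  haveI := hv (g.hom.shortComplexKer).X₁
  have h0 : δ I hS i y = 0 := Subsingleton.elim _ _
  obtain ⟨x, hx⟩ := (hex y).mp h0
  exact ⟨x, hx⟩

/-- right exactness of `H^i_I` when `H^{i+1}_I` vanishes. -/
lemma H_exact (I : Ideal R) (i : ℕ)
    (hv : ∀ K : ModuleCat.{u} R, Subsingleton ((localCohomology I (i + 1)).obj K))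
    {M' M N : ModuleCat.{u} R} (f : M' ⟶ M) (g : M ⟶ N) (hg : Function.Surjective g.hom)
    (hfg : LinearMap.range f.hom = LinearMap.ker g.hom)
    (y : (localCohomology I i).obj M) (hy : ((localCohomology I i).map g).hom y = 0) :
    ∃ y', ((localCohomology I i).map f).hom y' = y := by
  have hS := LinearMap.shortExact_shortComplexKer hg
  obtain ⟨yK, hyK⟩ := (exact₂ I hS i y).mp hy
  -- `f` factors through the kernel
  let f' : M' ⟶ (g.hom.shortComplexKer).X₁ :=
    ModuleCat.ofHom (LinearMap.codRestrict (LinearMap.ker g.hom) f.hom (fun x => by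
      rw [← hfg]; exact LinearMap.mem_range_self _ x))
  have hf' : Function.Surjective f'.hom := by
    rintro ⟨k, hk⟩
    rw [← hfg] at hk
    obtain ⟨x, rfl⟩ := hk
    exact ⟨x, rfl⟩
  have hcomp : f' ≫ (g.hom.shortComplexKer).f = f := by
    refine ModuleCat.hom_ext (LinearMap.ext fun x => ?_)
    rfl
  obtain ⟨y', hy'⟩ := H_map_surjective I i hv f' hf' yK
  refine ⟨y', ?_⟩
  rw [← hcomp, Functor.map_comp, ← hyK, ← hy']
  rfl

/-! ### the four lemma step -/

lemma wθ_bijective_of_exact (I : Ideal R) (i : ℕ)
    (hv : ∀ K : ModuleCat.{u} R, Subsingleton ((localCohomology I (i + 1)).obj K))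
    {M' M N : ModuleCat.{u} R} (f : M' ⟶ M) (g : M ⟶ N) (hg : Function.Surjective g.hom)
    (hfg : LinearMap.range f.hom = LinearMap.ker g.hom)
    (h' : Function.Surjective (wθ I i M')) (h : Function.Bijective (wθ I i M)) :
    Function.Bijective (wθ I i N) := by
  constructor
  · rw [injective_iff_map_eq_zero]
    intro w hw
    obtain ⟨z, rfl⟩ := LinearMap.lTensor_surjective _ hg w
    rw [← wθ_natural] at hw
    obtain ⟨y', hy'⟩ := H_exact I i hv f g hg hfg _ hw
    obtain ⟨z', rfl⟩ := h' y'
    rw [wθ_natural] at hy'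
    have hz : LinearMap.lTensor _ f.hom z' = z := h.1 hy'
    rw [← hz, ← LinearMap.comp_apply, ← LinearMap.lTensor_comp]
    have hgf : g.hom ∘ₗ f.hom = 0 := by
      ext x
      have : f.hom x ∈ LinearMap.ker g.hom := by rw [← hfg]; exact LinearMap.mem_range_self _ x
      exact this
    rw [hgf, LinearMap.lTensor_zero, LinearMap.zero_apply]
  · intro y
    obtain ⟨y₁, rfl⟩ := H_map_surjective I i hv g hg y
    obtain ⟨z, rfl⟩ := h.2 y₁
    exact ⟨_, (wθ_natural I i g z).symm⟩

/-! ### invariance under isomorphism, zero module, products -/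

lemma wθ_bijective_of_iso (I : Ideal R) (i : ℕ) {M N : ModuleCat.{u} R} (e : M ≅ N)
    (h : Function.Bijective (wθ I i M)) : Function.Bijective (wθ I i N) := by
  have hcomp : ∀ w, wθ I i N w = ((localCohomology I i).map e.hom).hom
      (wθ I i M (LinearMap.lTensor _ e.inv.hom w)) := by
    intro w
    rw [wθ_natural]
    have h3 : LinearMap.lTensor ((localCohomology I i).obj (ModuleCat.of R R)) e.hom.hom
        (LinearMap.lTensor _ e.inv.hom w) = w := by
      rw [← LinearMap.comp_apply, ← LinearMap.lTensor_comp]
      have : e.hom.hom ∘ₗ e.inv.hom = LinearMap.id := by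
        rw [← ModuleCat.hom_comp, e.inv_hom_id]; rfl
      rw [this, LinearMap.lTensor_id, LinearMap.id_apply]
    rw [h3]
  have hbij1 : Function.Bijective ((localCohomology I i).map e.hom).hom :=
    (ConcreteCategory.isIso_iff_bijective _).mp inferInstance
  have hbij2 : Function.Bijective (LinearMap.lTensor
      ((localCohomology I i).obj (ModuleCat.of R R)) e.inv.hom) := by
    have : LinearMap.lTensor ((localCohomology I i).obj (ModuleCat.of R R)) e.inv.hom =
        (TensorProduct.congr (LinearEquiv.refl R _) e.symm.toLinearEquiv).toLinearMap := by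
      apply TensorProduct.ext'
      intro x n
      rfl
    rw [this]
    exact LinearEquiv.bijective _
  have : (wθ I i N : _ → _) = ((localCohomology I i).map e.hom).hom ∘ (wθ I i M) ∘
      (LinearMap.lTensor _ e.inv.hom) := funext hcomp
  rw [this]
  exact hbij1.comp (h.comp hbij2)

lemma wθ_bijective_of_subsingleton (I : Ideal R) (i : ℕ) (M : ModuleCat.{u} R) [Subsingleton M] :
    Function.Bijective (wθ I i M) := by
  haveI : Subsingleton ((localCohomology I i).obj M) := subsingleton_of_subsingleton _ _ _
  haveI : Subsingleton (((localCohomology I i).obj (ModuleCat.of R R)) ⊗[R] M) := by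
    refine ⟨fun a b => ?_⟩
    have h0 : ∀ z : ((localCohomology I i).obj (ModuleCat.of R R)) ⊗[R] M, z = 0 := by
      intro z
      induction z using TensorProduct.induction_on with
      | zero => rfl
      | tmul x m => rw [Subsingleton.elim m 0, TensorProduct.tmul_zero]
      | add z z' hz hz' => rw [hz, hz', add_zero]
    rw [h0 a, h0 b]
  exact ⟨fun a b _ => Subsingleton.elim a b, fun y => ⟨0, Subsingleton.elim _ _⟩⟩

lemma wθ_bijective_prod (I : Ideal R) (i : ℕ) (A B : Type u) [AddCommGroup A] [Module R A]
    [AddCommGroup B] [Module R B]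
    (hA : Function.Bijective (wθ I i (ModuleCat.of R A)))
    (hB : Function.Bijective (wθ I i (ModuleCat.of R B))) :
    Function.Bijective (wθ I i (ModuleCat.of R (A × B))) := by
  let iA : ModuleCat.of R A ⟶ ModuleCat.of R (A × B) := ModuleCat.ofHom (LinearMap.inl R A B)
  let iB : ModuleCat.of R B ⟶ ModuleCat.of R (A × B) := ModuleCat.ofHom (LinearMap.inr R A B)
  let pA : ModuleCat.of R (A × B) ⟶ ModuleCat.of R A := ModuleCat.ofHom (LinearMap.fst R A B)
  let pB : ModuleCat.of R (A × B) ⟶ ModuleCat.of R B := ModuleCat.ofHom (LinearMap.snd R A B)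
  have hid : pA ≫ iA + pB ≫ iB = 𝟙 (ModuleCat.of R (A × B)) := by
    refine ModuleCat.hom_ext (LinearMap.ext fun x => ?_)
    change ((x.1, (0 : B)) : A × B) + ((0 : A), x.2) = x
    ext <;> simp
  have hidT : ∀ y : (localCohomology I i).obj (ModuleCat.of R (A × B)),
      y = ((localCohomology I i).map iA).hom (((localCohomology I i).map pA).hom y) +
        ((localCohomology I i).map iB).hom (((localCohomology I i).map pB).hom y) := by
    intro y
    have h1 := congrArg (fun φ => ((localCohomology I i).map φ).hom y) hid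
    simp only [H_map_add, Functor.map_comp, CategoryTheory.Functor.map_id] at h1
    exact h1.symm
  have hidL : ∀ z : ((localCohomology I i).obj (ModuleCat.of R R)) ⊗[R] (A × B),
      z = LinearMap.lTensor _ iA.hom (LinearMap.lTensor _ pA.hom z) +
        LinearMap.lTensor _ iB.hom (LinearMap.lTensor _ pB.hom z) := by
    intro z
    rw [← LinearMap.comp_apply, ← LinearMap.comp_apply, ← LinearMap.lTensor_comp,
      ← LinearMap.lTensor_comp, ← LinearMap.add_apply, ← LinearMap.lTensor_add]
    have : iA.hom ∘ₗ pA.hom + iB.hom ∘ₗ pB.hom = LinearMap.id := by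
      have := congrArg ModuleCat.Hom.hom hid
      exact this
    rw [this, LinearMap.lTensor_id, LinearMap.id_apply]
  constructor
  · rw [injective_iff_map_eq_zero]
    intro z hz
    have h1 : LinearMap.lTensor _ pA.hom z = 0 := by
      apply hA.1
      rw [← wθ_natural, hz, map_zero, map_zero]
    have h2 : LinearMap.lTensor _ pB.hom z = 0 := by
      apply hB.1
      rw [← wθ_natural, hz, map_zero, map_zero]
    rw [hidL z, h1, h2, map_zero, map_zero, add_zero]
  · intro y
    obtain ⟨a, ha⟩ := hA.2 (((localCohomology I i).map pA).hom y)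
    obtain ⟨b, hb⟩ := hB.2 (((localCohomology I i).map pB).hom y)
    refine ⟨LinearMap.lTensor _ iA.hom a + LinearMap.lTensor _ iB.hom b, ?_⟩
    rw [map_add, ← wθ_natural, ← wθ_natural, ha, hb]
    exact (hidT y).symm

end Groth.Agent.H21.LC
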