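import Mathlib
import Groth.Agent.Lib.helper21.LC58

universe u
set_option linter.unusedSectionVars false
set_option linter.style.haveILetI false
set_option linter.unusedTactic false
open CategoryTheory Opposite Limits Abelian TensorProduct

namespace Groth.Agent.H21.LC

variable {R : Type u} [CommRing R]

lemma wθ_bijective_fin (I : Ideal R) (i : ℕ) (n : ℕ) :
    Function.Bijective (wθ I i (ModuleCat.of R (Fin n → R))) := by
  induction n with
  | zero =>
    haveI : Subsingleton (ModuleCat.of R (Fin 0 → R)) :=
      inferInstanceAs (Subsingleton (Fin 0 → R))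
    exact wθ_bijective_of_subsingleton I i _
  | succ n ih =>
    have h1 := wθ_bijective_prod I i R (Fin n → R) (wθ_self_bijective I i) ih
    exact wθ_bijective_of_iso I i
      (Fin.consLinearEquiv R (fun _ : Fin (n + 1) => R)).toModuleIso h1

/-- `θ` is bijective on finitely generated modules over a Noetherian ring, if `H^{i+1}_I = 0`. -/
theorem wθ_bijective_of_finite [IsNoetherianRing R] (I : Ideal R) (i : ℕ)
    (hv : ∀ K : ModuleCat.{u} R, Subsingleton ((localCohomology I (i + 1)).obj K))
    (M : ModuleCat.{u} R) [Module.Finite R M] : Function.Bijective (wθ I i M) := by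
  haveI : Module.FinitePresentation R M := Module.finitePresentation_of_finite R M
  obtain ⟨n, m, f, g, hf, hgf⟩ := Module.FinitePresentation.exists_fin' R M
  refine wθ_bijective_of_exact I i hv (ModuleCat.ofHom g) (ModuleCat.ofHom f) hf ?_
    (wθ_bijective_fin I i m).2 (wθ_bijective_fin I i n)
  exact (LinearMap.exact_iff.mp hgf).symm

end Groth.Agent.H21.LC
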