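import Mathlib
import Groth.Agent.Lib.helper21.LC59
import Groth.Agent.Lib.helper21.LC46

universe u
set_option linter.unusedSectionVars false
set_option linter.style.haveILetI false
set_option linter.unusedTactic false
open CategoryTheory Opposite Limits Abelian TensorProduct

namespace Groth.Agent.H21.LC

variable {R : Type u} [CommRing R]

/-! ### a module is the directed colimit of its finitely generated submodules -/

/-- finitely generated submodules. -/
abbrev FGSub (M : ModuleCat.{u} R) : Type u := {N : Submodule R M // N.FG}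

instance (M : ModuleCat.{u} R) : IsDirected (FGSub M) (· ≤ ·) :=
  ⟨fun a b => ⟨⟨a.1 ⊔ b.1, a.2.sup b.2⟩, le_sup_left, le_sup_right⟩⟩

instance (M : ModuleCat.{u} R) : Nonempty (FGSub M) := ⟨⟨⊥, Submodule.fg_bot⟩⟩

/-- the diagram of finitely generated submodules. -/
noncomputable def fgFunctor (M : ModuleCat.{u} R) : FGSub M ⥤ ModuleCat.{u} R where
  obj N := ModuleCat.of R N.1
  map h := ModuleCat.ofHom (Submodule.inclusion (leOfHom h))
  map_id N := by
    refine ModuleCat.hom_ext (LinearMap.ext fun x => ?_)
    rfl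
  map_comp f g := by
    refine ModuleCat.hom_ext (LinearMap.ext fun x => ?_)
    rfl

/-- the cocone of inclusions. -/
noncomputable def fgCocone (M : ModuleCat.{u} R) : Cocone (fgFunctor M) where
  pt := M
  ι :=
    { app := fun N => ModuleCat.ofHom N.1.subtype
      naturality := fun N N' f => by
        refine ModuleCat.hom_ext (LinearMap.ext fun x => ?_)
        rfl }

/-- the span of one element, as a finitely generated submodule. -/
def spanFG (M : ModuleCat.{u} R) (m : M) : FGSub M :=
  ⟨Submodule.span R {m}, Submodule.fg_span_singleton m⟩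

lemma cocone_apply_eq (M : ModuleCat.{u} R) (s : Cocone (fgFunctor M)) (N N' : FGSub M)
    (m : M) (hm : m ∈ N.1) (hm' : m ∈ N'.1) :
    (s.ι.app N).hom ⟨m, hm⟩ = (s.ι.app N').hom ⟨m, hm'⟩ := by
  have key : ∀ (N N' : FGSub M) (h : N ≤ N') (hm : m ∈ N.1),
      (s.ι.app N).hom ⟨m, hm⟩ = (s.ι.app N').hom ⟨m, h hm⟩ := by
    intro N N' h hm
    have := s.w (homOfLE h)
    rw [← this]
    rfl
  rw [key N ⟨N.1 ⊔ N'.1, N.2.sup N'.2⟩ le_sup_left hm,
    key N' ⟨N.1 ⊔ N'.1, N.2.sup N'.2⟩ le_sup_right hm']

/-- the colimit property. -/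
noncomputable def fgIsColimit (M : ModuleCat.{u} R) : IsColimit (fgCocone M) where
  desc s := ModuleCat.ofHom
    { toFun := fun m => (s.ι.app (spanFG M m)).hom ⟨m, Submodule.mem_span_singleton_self m⟩
      map_add' := by
        intro m m'
        let N : FGSub M := ⟨Submodule.span R {m} ⊔ Submodule.span R {m'},
          (Submodule.fg_span_singleton m).sup (Submodule.fg_span_singleton m')⟩
        have hm : m ∈ N.1 := Submodule.mem_sup_left (Submodule.mem_span_singleton_self m)
        have hm' : m' ∈ N.1 := Submodule.mem_sup_right (Submodule.mem_span_singleton_self m')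
        rw [cocone_apply_eq M s (spanFG M (m + m')) N (m + m') _ (N.1.add_mem hm hm'),
          cocone_apply_eq M s (spanFG M m) N m _ hm,
          cocone_apply_eq M s (spanFG M m') N m' _ hm', ← map_add]
        rfl
      map_smul' := by
        intro r m
        have hm : r • m ∈ (spanFG M m).1 :=
          Submodule.smul_mem _ r (Submodule.mem_span_singleton_self m)
        rw [cocone_apply_eq M s (spanFG M (r • m)) (spanFG M m) (r • m) _ hm, RingHom.id_apply,
          ← map_smul]
        rfl }
  fac s N := by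
    refine ModuleCat.hom_ext (LinearMap.ext fun x => ?_)
    change (s.ι.app (spanFG M x.1)).hom ⟨x.1, _⟩ = (s.ι.app N).hom x
    rw [cocone_apply_eq M s (spanFG M x.1) N x.1 _ x.2]
    rfl
  uniq s m hm := by
    refine ModuleCat.hom_ext (LinearMap.ext fun x => ?_)
    have := congrArg (fun φ => φ.hom (⟨x, Submodule.mem_span_singleton_self x⟩ :
      (spanFG M x).1)) (hm (spanFG M x))
    exact this

/-! ### tensor products and finitely generated submodules -/

lemma exists_fg_tensor (X : Type u) [AddCommGroup X] [Module R X] (M : ModuleCat.{u} R)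
    (z : X ⊗[R] M) : ∃ (N : FGSub M) (zN : X ⊗[R] N.1), LinearMap.lTensor X N.1.subtype zN = z := by
  induction z using TensorProduct.induction_on with
  | zero => exact ⟨⟨⊥, Submodule.fg_bot⟩, 0, map_zero _⟩
  | tmul x m =>
    exact ⟨spanFG M m, x ⊗ₜ ⟨m, Submodule.mem_span_singleton_self m⟩, rfl⟩
  | add z z' hz hz' =>
    obtain ⟨N, zN, rfl⟩ := hz
    obtain ⟨N', zN', rfl⟩ := hz'
    refine ⟨⟨N.1 ⊔ N'.1, N.2.sup N'.2⟩,
      LinearMap.lTensor X (Submodule.inclusion le_sup_left) zN +
        LinearMap.lTensor X (Submodule.inclusion le_sup_right) zN', ?_⟩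
    rw [map_add, ← LinearMap.comp_apply, ← LinearMap.comp_apply, ← LinearMap.lTensor_comp,
      ← LinearMap.lTensor_comp]
    rfl

lemma lTensor_comp_apply' (X : Type u) [AddCommGroup X] [Module R X]
    {A B C : Type u} [AddCommGroup A] [Module R A] [AddCommGroup B] [Module R B]
    [AddCommGroup C] [Module R C] (f : A →ₗ[R] B) (g : B →ₗ[R] C) (h : A →ₗ[R] C)
    (hh : g ∘ₗ f = h) (z : X ⊗[R] A) :
    LinearMap.lTensor X h z = LinearMap.lTensor X g (LinearMap.lTensor X f z) := by
  subst hh
  rw [LinearMap.lTensor_comp]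
  rfl

/-- Watts: if `H^{i+1}_I` vanishes on all modules then `H^i_I(M) ≅ H^i_I(R) ⊗ M` for all `M`. -/
theorem wθ_bijective [IsNoetherianRing R] (I : Ideal R) (i : ℕ)
    (hv : ∀ K : ModuleCat.{u} R, Subsingleton ((localCohomology I (i + 1)).obj K))
    (M : ModuleCat.{u} R) : Function.Bijective (wθ I i M) := by
  haveI := preservesColimitsOfShape_localCohomology I i (FGSub M)
  have hc : IsColimit ((localCohomology I i).mapCocone (fgCocone M)) :=
    isColimitOfPreserves _ (fgIsColimit M)
  have hfin : ∀ N : FGSub M, Function.Bijective (wθ I i (ModuleCat.of R N.1)) := by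
    intro N
    haveI : Module.Finite R (ModuleCat.of R N.1) := Module.Finite.iff_fg.mpr N.2
    exact wθ_bijective_of_finite I i hv _
  constructor
  · rw [injective_iff_map_eq_zero]
    intro z hz
    obtain ⟨N, zN, rfl⟩ := exists_fg_tensor _ M z
    have h1 := wθ_natural I i ((fgCocone M).ι.app N) zN
    change _ = wθ I i M (LinearMap.lTensor _ N.1.subtype zN) at h1
    rw [hz] at h1
    obtain ⟨N', hNN', h2⟩ := Groth.Agent.Lib.helper20.FiltColim.exists_map_eq_zero
      (fgFunctor M ⋙ localCohomology I i) _ hc N (wθ I i _ zN) h1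
    have h3 := wθ_natural I i ((fgFunctor M).map (homOfLE hNN')) zN
    have h4 : wθ I i ((fgFunctor M).obj N')
        (LinearMap.lTensor _ ((fgFunctor M).map (homOfLE hNN')).hom zN) = 0 := by
      rw [← h3]; exact h2
    have h5 := (hfin N').1 (h4.trans (map_zero _).symm)
    have h6 : LinearMap.lTensor ((localCohomology I i).obj (ModuleCat.of R R)) N.1.subtype zN =
        LinearMap.lTensor _ N'.1.subtype
          (LinearMap.lTensor _ ((fgFunctor M).map (homOfLE hNN')).hom zN) :=
      lTensor_comp_apply' (R := R) (↑((localCohomology I i).obj (ModuleCat.of R R)))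
        (A := N.1) (B := N'.1) (C := M)
        (Submodule.inclusion hNN') N'.1.subtype N.1.subtype rfl zN
    rw [h6, h5, map_zero]
  · intro y
    obtain ⟨N, yN, hy⟩ := Groth.Agent.Lib.helper20.FiltColim.exists_rep
      (fgFunctor M ⋙ localCohomology I i) _ hc y
    obtain ⟨zN, rfl⟩ := (hfin N).2 yN
    refine ⟨LinearMap.lTensor _ N.1.subtype zN, ?_⟩
    have h1 := wθ_natural I i ((fgCocone M).ι.app N) zN
    rw [← hy]
    exact h1.symm

end Groth.Agent.H21.LC
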