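import Mathlib
import Groth.Agent.Lib.helper21.LC60
import Groth.Agent.Lib.helper21.LC49

universe u
set_option linter.unusedSectionVars false
open CategoryTheory Opposite Limits Abelian TensorProduct MonoidalCategory

namespace Groth.Agent.H21.LC

variable {R : Type u} [CommRing R]

/-- Watts as a natural isomorphism `H^i_I(R) ⊗ - ≅ H^i_I`. -/
noncomputable def wattsIso [IsNoetherianRing R] (I : Ideal R) (i : ℕ)
    (hv : ∀ K : ModuleCat.{u} R, Subsingleton ((localCohomology I (i + 1)).obj K)) :
    tensorLeft ((localCohomology I i).obj (ModuleCat.of R R)) ≅ localCohomology I i :=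
  NatIso.ofComponents
    (fun M => (LinearEquiv.ofBijective (wθ I i M) (wθ_bijective I i hv M)).toModuleIso)
    (by
      intro M N f
      apply ModuleCat.hom_ext; apply LinearMap.ext; intro z
      exact (wθ_natural I i f z).symm)

/-- the top local cohomology functor is a left adjoint. -/
noncomputable def wattsAdj [IsNoetherianRing R] (I : Ideal R) (i : ℕ)
    (hv : ∀ K : ModuleCat.{u} R, Subsingleton ((localCohomology I (i + 1)).obj K)) :
    localCohomology I i ⊣ ihom ((localCohomology I i).obj (ModuleCat.of R R)) :=
  (ihom.adjunction _).ofNatIsoLeft (wattsIso I i hv)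

/-- vanishing above the number of generators up to radical. -/
theorem subsingleton_of_le_radical_span [IsNoetherianRing R] (J : Ideal R) (d : ℕ) (u : Fin d → R)
    (hu : ∀ i, u i ∈ J) (hJ : J ≤ (Ideal.span (Set.range u)).radical)
    (K : ModuleCat.{u} R) (j : ℕ) (hj : d < j) :
    Subsingleton ((localCohomology J j).obj K) := by
  have hrad : J.radical = (listIdeal (List.ofFn u)).radical := by
    have h0 : listIdeal (List.ofFn u) = Ideal.span (Set.range u) := by
      unfold listIdeal
      congr 1
      ext y
      simp [List.mem_ofFn]
    rw [h0]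
    apply le_antisymm
    · exact (Ideal.radical_le_radical_iff).mpr hJ
    · apply Ideal.radical_mono
      rw [Ideal.span_le]
      rintro _ ⟨i, rfl⟩
      exact hu i
  have h1 := (list_vanishing (List.ofFn u)).1 K j (by simpa using hj)
  exact (((localCohomology.isoOfSameRadical hrad j).app K).toLinearEquiv.toEquiv).subsingleton

end Groth.Agent.H21.LC
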