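import Mathlib

namespace Groth.Agent.H21.LC
open IsLocalRing TensorProduct

/-- For a flat `R`-algebra `S`, a prime `p` of `R` and `t ∉ p`: `t s ∈ pS ⇒ s ∈ pS`. -/
theorem mem_map_of_mul_mem_of_flat {R S : Type*} [CommRing R] [CommRing S] [Algebra R S]
    [Module.Flat R S] (p : Ideal R) [p.IsPrime] {t : R} (ht : t ∉ p) {s : S}
    (h : algebraMap R S t * s ∈ p.map (algebraMap R S)) : s ∈ p.map (algebraMap R S) := by
  let e := TensorProduct.tensorQuotEquivQuotSMul S p
  let f : (R ⧸ p) →ₗ[R] (R ⧸ p) := LinearMap.lsmul R (R ⧸ p) t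
  have hf : Function.Injective f := by
    rw [← LinearMap.ker_eq_bot, LinearMap.ker_eq_bot']
    intro a ha
    obtain ⟨a, rfl⟩ := Ideal.Quotient.mk_surjective a
    have : (Ideal.Quotient.mk p) (t * a) = 0 := by
      simpa [f, Algebra.smul_def] using ha
    rw [Ideal.Quotient.eq_zero_iff_mem] at this ⊢
    exact (Ideal.IsPrime.mem_or_mem ‹_› this).resolve_left ht
  have hinj := Module.Flat.lTensor_preserves_injective_linearMap (M := S) f hf
  have hfl : ∀ z, f.lTensor S z = t • z := by
    intro z
    induction z with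
    | zero => simp
    | tmul a b => simp [f]
    | add a b ha hb => rw [map_add, ha, hb, smul_add]
  have hmem : s ∈ (p • ⊤ : Submodule R S) ↔ s ∈ p.map (algebraMap R S) := by
    rw [Ideal.smul_top_eq_map]; rfl
  have hmem' : algebraMap R S t * s ∈ (p • ⊤ : Submodule R S) := by
    rw [Ideal.smul_top_eq_map]; exact h
  rw [← hmem, ← Submodule.Quotient.mk_eq_zero]
  apply e.symm.injective
  apply hinj
  rw [map_zero, map_zero, hfl, ← map_smul, ← Submodule.Quotient.mk_smul]
  have h0 : (Submodule.Quotient.mk (t • s) : S ⧸ (p • ⊤ : Submodule R S)) = 0 := by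
    rw [Submodule.Quotient.mk_eq_zero, show t • s = algebraMap R S t * s from Algebra.smul_def t s]
    exact hmem'
  rw [h0, map_zero]

/-- A Noetherian local ring whose maximal ideal is generated by a regular element is a DVR. -/
theorem dvr_of_maximalIdeal_eq_span_regular (A : Type*) [CommRing A] [IsLocalRing A]
    [IsNoetherianRing A] (π : A) (hπ : maximalIdeal A = Ideal.span {π})
    (hreg : IsSMulRegular A π) :
    ∃ _ : IsDomain A, IsDiscreteValuationRing A := by
  have hpow : ∀ n, (maximalIdeal A) ^ n = Ideal.span {π ^ n} := by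
    intro n; rw [hπ, Ideal.span_singleton_pow]
  have hregn : ∀ n, IsSMulRegular A (π ^ n) := fun n => hreg.pow n
  have hne : ∀ n, π ^ n ≠ 0 := by
    intro n h0
    have h1 : (π ^ n) • (1 : A) = (π ^ n) • (0 : A) := by simp [h0]
    exact one_ne_zero (hregn n h1)
  have key : ∀ a : A, a ≠ 0 → ∃ n u, IsUnit u ∧ a = u * π ^ n := by
    intro a ha
    have hK := Ideal.iInf_pow_eq_bot_of_isLocalRing (maximalIdeal A)
      (maximalIdeal.isMaximal A).ne_top
    have hex : ∃ n, a ∉ (maximalIdeal A) ^ n := by
      by_contra hcon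
      push Not at hcon
      apply ha
      have : a ∈ ⨅ i, (maximalIdeal A) ^ i := by
        rw [Ideal.mem_iInf]; exact hcon
      rw [hK] at this; simpa using this
    classical
    have hn : a ∉ (maximalIdeal A) ^ (Nat.find hex) := Nat.find_spec hex
    have hn0 : Nat.find hex ≠ 0 := by
      intro h0; rw [h0, pow_zero, Ideal.one_eq_top] at hn; exact hn Submodule.mem_top
    obtain ⟨k, hk⟩ := Nat.exists_eq_succ_of_ne_zero hn0
    have hk' : a ∈ (maximalIdeal A) ^ k := by
      by_contra hc; exact Nat.find_min hex (by omega : k < Nat.find hex) hc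
    rw [hpow, Ideal.mem_span_singleton'] at hk'
    obtain ⟨c, hc⟩ := hk'
    refine ⟨k, c, ?_, hc.symm⟩
    by_contra hcu
    have hcm : c ∈ maximalIdeal A := (mem_maximalIdeal c).mpr hcu
    rw [hπ, Ideal.mem_span_singleton'] at hcm
    obtain ⟨d, hd⟩ := hcm
    apply hn
    rw [hk, hpow, Ideal.mem_span_singleton']
    exact ⟨d, by rw [← hc, ← hd, pow_succ]; ring⟩
  haveI : NoZeroDivisors A := ⟨fun {a b} hab => by
    by_contra hcon
    push Not at hcon
    obtain ⟨n, u, hu, rfl⟩ := key a hcon.1
    obtain ⟨m, v, hv, rfl⟩ := key b hcon.2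
    have h1 : (u * v) * π ^ (n + m) = 0 := by rw [← hab, pow_add]; ring
    exact hne _ ((hu.mul hv).mul_right_eq_zero.mp h1)⟩
  haveI hdom : IsDomain A := NoZeroDivisors.to_isDomain A
  refine ⟨hdom, ?_⟩
  have hnf : ¬ IsField A := by
    rw [IsLocalRing.isField_iff_maximalIdeal_eq]
    intro h0
    have : π ∈ maximalIdeal A := by rw [hπ]; exact Ideal.mem_span_singleton_self π
    rw [h0] at this
    exact hne 1 (by simpa using this)
  have hprin : (maximalIdeal A).IsPrincipal := ⟨⟨π, hπ⟩⟩
  exact ((IsDiscreteValuationRing.TFAE A hnf).out 0 4).mpr hprin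

theorem dvr_at_ass_of_flat {R S : Type*} [CommRing R] [CommRing S] [Algebra R S]
    [Module.Flat R S] [IsNoetherianRing S] (p : Ideal R) [p.IsPrime]
    [IsDomain (Localization.AtPrime p)] [IsDiscreteValuationRing (Localization.AtPrime p)]
    (hp : IsReduced (S ⧸ p.map (algebraMap R S)))
    (q : Ideal S) [q.IsPrime]
    (hq : q ∈ associatedPrimes S (S ⧸ p.map (algebraMap R S))) :
    ∃ _ : IsDomain (Localization.AtPrime q),
      IsDiscreteValuationRing (Localization.AtPrime q) := by
  obtain ⟨_, x, hx⟩ := (isAssociatedPrime_iff.mp hq)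
  obtain ⟨x, rfl⟩ := Ideal.Quotient.mk_surjective x
  have hqx : ∀ y, y ∈ q ↔ y * x ∈ p.map (algebraMap R S) := by
    intro y
    rw [hx, Submodule.mem_colon_singleton, Submodule.mem_bot, ← Ideal.Quotient.eq_zero_iff_mem,
      map_mul]
    rfl
  have hxq : x ∉ q := by
    intro hxq
    have h1 : x * x ∈ p.map (algebraMap R S) := (hqx x).mp hxq
    have h2 : x ∈ p.map (algebraMap R S) := by
      have hn : IsNilpotent (Ideal.Quotient.mk (p.map (algebraMap R S)) x) :=
        ⟨2, by rw [← map_pow, pow_two, Ideal.Quotient.eq_zero_iff_mem]; exact h1⟩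
      have := hn.eq_zero
      rwa [Ideal.Quotient.eq_zero_iff_mem] at this
    have h3 : (1 : S) ∈ q := (hqx 1).mpr (by simpa using h2)
    exact (Ideal.IsPrime.ne_top ‹_›) ((Ideal.eq_top_iff_one _).mpr h3)
  have hpq : p.map (algebraMap R S) ≤ q := by
    intro y hy; exact (hqx y).mpr (Ideal.mul_mem_right _ _ hy)
  have hcomap : p = q.comap (algebraMap R S) := by
    apply le_antisymm
    · exact Ideal.map_le_iff_le_comap.mp hpq
    · intro t ht
      by_contra htp
      have h1 : algebraMap R S t * x ∈ p.map (algebraMap R S) := (hqx _).mp ht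
      exact hxq (hpq (mem_map_of_mul_mem_of_flat p htp h1))
  let φ := Localization.localRingHom p q (algebraMap R S) hcomap
  have hφ : φ.Flat := RingHom.Flat.localRingHom (f := algebraMap R S)
    (by rw [RingHom.flat_algebraMap_iff]; infer_instance) q p hcomap
  obtain ⟨ϖ, hϖ⟩ := IsDiscreteValuationRing.exists_irreducible (Localization.AtPrime p)
  have hmax : maximalIdeal (Localization.AtPrime p) = Ideal.span {ϖ} :=
    (IsDiscreteValuationRing.irreducible_iff_uniformizer _).mp hϖ
  have hreg : IsSMulRegular (Localization.AtPrime q) (φ ϖ) := by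
    letI : Algebra (Localization.AtPrime p) (Localization.AtPrime q) := φ.toAlgebra
    haveI : Module.Flat (Localization.AtPrime p) (Localization.AtPrime q) := hφ
    have h0 : IsSMulRegular (Localization.AtPrime p) ϖ :=
      (isRegular_of_ne_zero hϖ.ne_zero).isSMulRegular
    exact h0.of_flat
  apply dvr_of_maximalIdeal_eq_span_regular _ (φ ϖ) ?_ hreg
  rw [← Localization.AtPrime.map_eq_maximalIdeal]
  apply le_antisymm
  · rw [Ideal.map_le_iff_le_comap]
    intro y hy
    rw [Ideal.mem_comap]
    have hunit : IsUnit (algebraMap S (Localization.AtPrime q) x) :=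
      IsLocalization.map_units _ (⟨x, hxq⟩ : q.primeCompl)
    have h1 : algebraMap S (Localization.AtPrime q) (y * x) ∈ Ideal.span {φ ϖ} := by
      have hle : p.map (algebraMap R S) ≤
          (Ideal.span {φ ϖ}).comap (algebraMap S (Localization.AtPrime q)) := by
        rw [Ideal.map_le_iff_le_comap]
        intro z hz
        rw [Ideal.mem_comap, Ideal.mem_comap, ← Localization.localRingHom_to_map p q _ hcomap]
        have hzm : algebraMap R (Localization.AtPrime p) z ∈
            maximalIdeal (Localization.AtPrime p) := by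
          rw [← Localization.AtPrime.map_eq_maximalIdeal]; exact Ideal.mem_map_of_mem _ hz
        rw [hmax, Ideal.mem_span_singleton'] at hzm
        obtain ⟨c, hc⟩ := hzm
        rw [← hc, map_mul]
        exact Ideal.mul_mem_left _ _ (Ideal.mem_span_singleton_self _)
      exact hle ((hqx y).mp hy)
    rw [map_mul] at h1
    exact (Ideal.mul_unit_mem_iff_mem _ hunit).mp h1
  · rw [Ideal.span_singleton_le_iff_mem, Localization.AtPrime.map_eq_maximalIdeal]
    haveI : IsLocalHom φ := Localization.isLocalHom_localRingHom p q (algebraMap R S) hcomap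
    exact (mem_maximalIdeal _).mpr (fun hu => hϖ.not_isUnit (isUnit_of_map_unit φ ϖ hu))

end Groth.Agent.H21.LC
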