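import Mathlib
import Groth.Agent.Lib.helper21.LC63

namespace Groth.Agent.H21.LC
open IsLocalRing TensorProduct

/-- For a flat `R`-algebra `S`, an ideal `I` of `R` and `t` regular mod `I`:
`t s ∈ IS ⇒ s ∈ IS`. -/
theorem mem_map_of_mul_mem_of_flat' {R S : Type*} [CommRing R] [CommRing S] [Algebra R S]
    [Module.Flat R S] (I : Ideal R) {t : R} (ht : ∀ r, t * r ∈ I → r ∈ I) {s : S}
    (h : algebraMap R S t * s ∈ I.map (algebraMap R S)) : s ∈ I.map (algebraMap R S) := by
  let e := TensorProduct.tensorQuotEquivQuotSMul S I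
  let f : (R ⧸ I) →ₗ[R] (R ⧸ I) := LinearMap.lsmul R (R ⧸ I) t
  have hf : Function.Injective f := by
    rw [← LinearMap.ker_eq_bot, LinearMap.ker_eq_bot']
    intro a ha
    obtain ⟨a, rfl⟩ := Ideal.Quotient.mk_surjective a
    have : (Ideal.Quotient.mk I) (t * a) = 0 := by
      simpa [f, Algebra.smul_def] using ha
    rw [Ideal.Quotient.eq_zero_iff_mem] at this ⊢
    exact ht a this
  have hinj := Module.Flat.lTensor_preserves_injective_linearMap (M := S) f hf
  have hfl : ∀ z, f.lTensor S z = t • z := by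
    intro z
    induction z with
    | zero => simp
    | tmul a b => simp [f]
    | add a b ha hb => rw [map_add, ha, hb, smul_add]
  have hmem : s ∈ (I • ⊤ : Submodule R S) ↔ s ∈ I.map (algebraMap R S) := by
    rw [Ideal.smul_top_eq_map]; rfl
  have hmem' : algebraMap R S t * s ∈ (I • ⊤ : Submodule R S) := by
    rw [Ideal.smul_top_eq_map]; exact h
  rw [← hmem, ← Submodule.Quotient.mk_eq_zero]
  apply e.symm.injective
  apply hinj
  rw [map_zero, map_zero, hfl, ← map_smul, ← Submodule.Quotient.mk_smul]
  have h0 : (Submodule.Quotient.mk (t • s) : S ⧸ (I • ⊤ : Submodule R S)) = 0 := by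
    rw [Submodule.Quotient.mk_eq_zero, show t • s = algebraMap R S t * s from Algebra.smul_def t s]
    exact hmem'
  rw [h0, map_zero]

/-- Contraction of an associated prime of `S/xS` is an associated prime of `R/xR`
(flat `S`, no embedded primes). -/
theorem comap_mem_associatedPrimes_of_flat {R S : Type*} [CommRing R] [CommRing S] [Algebra R S]
    [Module.Flat R S] [IsNoetherianRing R] [IsNoetherianRing S] (x : R)
    (hemb : ∀ p ∈ associatedPrimes R (R ⧸ Ideal.span {x}), p ∈ (Ideal.span {x}).minimalPrimes)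
    (q : Ideal S)
    (hq : q ∈ associatedPrimes S (S ⧸ (Ideal.span {x}).map (algebraMap R S))) :
    q.comap (algebraMap R S) ∈ associatedPrimes R (R ⧸ Ideal.span {x}) := by
  obtain ⟨hqp, z, hz⟩ := (isAssociatedPrime_iff.mp hq)
  obtain ⟨z, rfl⟩ := Ideal.Quotient.mk_surjective z
  have hqz : ∀ y, y ∈ q ↔ y * z ∈ (Ideal.span {x}).map (algebraMap R S) := by
    intro y
    rw [hz, Submodule.mem_colon_singleton, Submodule.mem_bot, ← Ideal.Quotient.eq_zero_iff_mem,
      map_mul]
    rfl
  have hz0 : z ∉ (Ideal.span {x}).map (algebraMap R S) := by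
    intro hz0
    have h3 : (1 : S) ∈ q := (hqz 1).mpr (by simpa using hz0)
    exact hqp.ne_top ((Ideal.eq_top_iff_one _).mpr h3)
  haveI : (q.comap (algebraMap R S)).IsPrime := Ideal.comap_isPrime _ _
  have hxp : Ideal.span {x} ≤ q.comap (algebraMap R S) := by
    rw [Ideal.span_singleton_le_iff_mem, Ideal.mem_comap, hqz]
    exact Ideal.mul_mem_right _ _ (Ideal.mem_map_of_mem _ (Ideal.mem_span_singleton_self x))
  by_contra hp
  have hnle : ∀ P ∈ associatedPrimes R (R ⧸ Ideal.span {x}),
      ¬ q.comap (algebraMap R S) ≤ P := by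
    intro P hP hle
    have hmin := hemb P hP
    have : P ≤ q.comap (algebraMap R S) := hmin.2 ⟨inferInstance, hxp⟩ hle
    exact hp (le_antisymm hle this ▸ hP)
  have hav : ¬ ((q.comap (algebraMap R S) : Set R) ⊆
      ⋃ P ∈ associatedPrimes R (R ⧸ Ideal.span {x}), (id P : Ideal R)) := by
    rw [Ideal.subset_union_prime_finite (associatedPrimes.finite R _) (f := id) ⊥ ⊥
      (fun P hP _ _ => hP.1)]
    rintro ⟨P, hP, hle⟩
    exact hnle P hP hle
  rw [Set.not_subset] at hav
  obtain ⟨t, htp, htn⟩ := hav
  have htreg : ∀ r, t * r ∈ Ideal.span {x} → r ∈ Ideal.span {x} := by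
    intro r hr
    by_contra hrn
    have hne : (Ideal.Quotient.mk (Ideal.span {x}) r) ≠ 0 := by
      rwa [Ne, Ideal.Quotient.eq_zero_iff_mem]
    obtain ⟨P, hP, hle⟩ := exists_le_isAssociatedPrime_of_isNoetherianRing R _ hne
    apply htn
    simp only [Set.mem_iUnion]
    refine ⟨P, hP, hle ?_⟩
    rw [Submodule.mem_colon_singleton, Submodule.mem_bot]
    change (Ideal.Quotient.mk _ t) * (Ideal.Quotient.mk _ r) = 0
    rw [← map_mul, Ideal.Quotient.eq_zero_iff_mem]; exact hr
  exact hz0 (mem_map_of_mul_mem_of_flat' _ htreg ((hqz _).mp htp))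

/-- If `R_p` is a DVR, `S` flat over the domain `R` with `S/pS` reduced, then nilpotents of `S`
lie in `xS` locally at `p`. -/
theorem exists_mul_mem_of_isNilpotent {R S : Type*} [CommRing R] [IsDomain R] [CommRing S]
    [Algebra R S] [Module.Flat R S] (p : Ideal R) [p.IsPrime]
    [IsDiscreteValuationRing (Localization.AtPrime p)] (x : R) (hx : x ≠ 0)
    (hred : IsReduced (S ⧸ p.map (algebraMap R S))) (y : S) (hy : IsNilpotent y) :
    ∃ t ∉ p, algebraMap R S t * y ∈ (Ideal.span {x}).map (algebraMap R S) := by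
  have hinjA : Function.Injective (algebraMap R (Localization.AtPrime p)) :=
    IsLocalization.injective (Localization.AtPrime p) p.primeCompl_le_nonZeroDivisors
  obtain ⟨ϖ, hϖ⟩ := IsDiscreteValuationRing.exists_irreducible (Localization.AtPrime p)
  obtain ⟨a, s, rfl⟩ := IsLocalization.exists_mk'_eq p.primeCompl ϖ
  have hs_unit : IsUnit (algebraMap R (Localization.AtPrime p) s) :=
    IsLocalization.map_units (Localization.AtPrime p) s
  have ha_eq : algebraMap R (Localization.AtPrime p) a =
      IsLocalization.mk' (Localization.AtPrime p) a s * algebraMap R (Localization.AtPrime p) s :=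
    (IsLocalization.mk'_spec (Localization.AtPrime p) a s).symm
  have hπirr : Irreducible (algebraMap R (Localization.AtPrime p) a) := by
    rw [ha_eq]; exact (irreducible_mul_isUnit hs_unit).mpr hϖ
  have hmax : maximalIdeal (Localization.AtPrime p) =
      Ideal.span {algebraMap R (Localization.AtPrime p) a} :=
    (IsDiscreteValuationRing.irreducible_iff_uniformizer _).mp hπirr
  have ha0 : a ≠ 0 := fun h => hπirr.ne_zero (by rw [h, map_zero])
  have P1 : ∀ z ∈ p, ∃ t ∉ p, ∃ r, t * z = a * r := by
    intro z hz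
    have hzm : algebraMap R (Localization.AtPrime p) z ∈ maximalIdeal (Localization.AtPrime p) := by
      rw [← Localization.AtPrime.map_eq_maximalIdeal]; exact Ideal.mem_map_of_mem _ hz
    rw [hmax, Ideal.mem_span_singleton'] at hzm
    obtain ⟨c, hc⟩ := hzm
    obtain ⟨r, t, rfl⟩ := IsLocalization.exists_mk'_eq p.primeCompl c
    refine ⟨t, t.2, r, hinjA ?_⟩
    rw [map_mul, map_mul, ← hc, ← IsLocalization.mk'_spec (Localization.AtPrime p) r t]
    ring
  have P2 : ∃ e, ∃ t ∉ p, ∃ r, t * a ^ e = x * r := by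
    have hx0 : algebraMap R (Localization.AtPrime p) x ≠ 0 := by
      rwa [Ne, map_eq_zero_iff _ hinjA]
    obtain ⟨n, u, hu⟩ := IsDiscreteValuationRing.eq_unit_mul_pow_irreducible hx0 hπirr
    obtain ⟨r, t, hrt⟩ := IsLocalization.exists_mk'_eq p.primeCompl
      ((↑u⁻¹ : Localization.AtPrime p))
    refine ⟨n, t, t.2, r, hinjA ?_⟩
    have h1 : (u : Localization.AtPrime p) * ↑u⁻¹ = 1 := Units.mul_inv u
    have h2 := IsLocalization.mk'_spec (Localization.AtPrime p) r t
    rw [hrt] at h2
    rw [map_mul, map_mul, map_pow, hu, ← h2]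
    linear_combination (-(algebraMap R (Localization.AtPrime p) t *
      (algebraMap R (Localization.AtPrime p) a) ^ n)) * h1
  have hregS : IsSMulRegular S (algebraMap R S a) :=
    IsSMulRegular.of_flat (S := S) (IsRegular.of_ne_zero ha0).isSMulRegular
  have hcancel : ∀ n (w : S), (algebraMap R S a) ^ n * w = 0 → w = 0 := by
    intro n w h
    exact (hregS.pow n) (by simpa using h)
  let L : Ideal S :=
    { carrier := {z | ∃ t ∉ p, ∃ w, algebraMap R S t * z = algebraMap R S a * w}
      add_mem' := by
        rintro z1 z2 ⟨t1, h1, w1, e1⟩ ⟨t2, h2, w2, e2⟩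
        refine ⟨t1 * t2, p.primeCompl.mul_mem h1 h2,
          algebraMap R S t2 * w1 + algebraMap R S t1 * w2, ?_⟩
        rw [map_mul]
        linear_combination (algebraMap R S t2) * e1 + (algebraMap R S t1) * e2
      zero_mem' := ⟨1, p.primeCompl.one_mem, 0, by simp⟩
      smul_mem' := by
        rintro c z ⟨t, h, w, e⟩
        refine ⟨t, h, c * w, ?_⟩
        rw [smul_eq_mul]
        linear_combination c * e }
  have hpL : p.map (algebraMap R S) ≤ L := by
    rw [Ideal.map_le_iff_le_comap]
    intro z hz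
    obtain ⟨t, ht, r, e⟩ := P1 z hz
    exact ⟨t, ht, algebraMap R S r, by rw [← map_mul, ← map_mul, e]⟩
  have claim : ∀ n, ∃ t ∉ p, ∃ z, algebraMap R S t * y = (algebraMap R S a) ^ n * z := by
    intro n
    induction n with
    | zero => exact ⟨1, p.primeCompl.one_mem, y, by simp⟩
    | succ n ih =>
      obtain ⟨t, ht, z, e⟩ := ih
      have hz : IsNilpotent z := by
        obtain ⟨k, hk⟩ := hy
        refine ⟨k, hcancel (n * k) _ ?_⟩
        rw [pow_mul, ← mul_pow, ← e, mul_pow, hk, mul_zero]
      have hzp : z ∈ p.map (algebraMap R S) := by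
        rw [← Ideal.Quotient.eq_zero_iff_mem]
        exact (hz.map (Ideal.Quotient.mk _)).eq_zero
      obtain ⟨t', ht', w, e'⟩ := hpL hzp
      refine ⟨t' * t, p.primeCompl.mul_mem ht' ht, w, ?_⟩
      rw [map_mul, pow_succ]
      linear_combination (algebraMap R S t') * e + (algebraMap R S a) ^ n * e'
  obtain ⟨e, t', ht', r, he⟩ := P2
  obtain ⟨t, ht, z, hz⟩ := claim e
  refine ⟨t' * t, p.primeCompl.mul_mem ht' ht, ?_⟩
  have hfin : algebraMap R S (t' * t) * y = algebraMap R S x * (algebraMap R S r * z) := by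
    have he' := congrArg (algebraMap R S) he
    simp only [map_mul, map_pow] at he'
    rw [map_mul]
    linear_combination (algebraMap R S t') * hz + z * he'
  rw [hfin]
  exact Ideal.mul_mem_right _ _ (Ideal.mem_map_of_mem _ (Ideal.mem_span_singleton_self x))

/-- A regular local ring `R_p`, `p` minimal over a nonzero principal ideal of a Noetherian
domain, is a DVR. -/
theorem dvr_of_regular_of_minimal {R : Type*} [CommRing R] [IsDomain R] [IsNoetherianRing R]
    (x : R) (hx : x ≠ 0) (p : Ideal R) [p.IsPrime] (hp : p ∈ (Ideal.span {x}).minimalPrimes)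
    [IsRegularLocalRing (Localization.AtPrime p)] :
    IsDiscreteValuationRing (Localization.AtPrime p) := by
  have hinjA : Function.Injective (algebraMap R (Localization.AtPrime p)) :=
    IsLocalization.injective (Localization.AtPrime p) p.primeCompl_le_nonZeroDivisors
  have hht : p.height ≤ 1 :=
    Ideal.height_le_one_of_isPrincipal_of_mem_minimalPrimes (Ideal.span {x}) p hp
  have hdim : ringKrullDim (Localization.AtPrime p) = p.height :=
    IsLocalization.AtPrime.ringKrullDim_eq_height p (Localization.AtPrime p)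
  have hreg := IsRegularLocalRing.spanFinrank_maximalIdeal (R := Localization.AtPrime p)
  have hxm : algebraMap R (Localization.AtPrime p) x ∈ maximalIdeal (Localization.AtPrime p) := by
    rw [← Localization.AtPrime.map_eq_maximalIdeal]
    exact Ideal.mem_map_of_mem _ (hp.1.2 (Ideal.mem_span_singleton_self x))
  have hx0 : algebraMap R (Localization.AtPrime p) x ≠ 0 := by
    rwa [Ne, map_eq_zero_iff _ hinjA]
  have hne : maximalIdeal (Localization.AtPrime p) ≠ ⊥ := by
    intro h; rw [h] at hxm; exact hx0 (by simpa using hxm)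
  have hfg : (maximalIdeal (Localization.AtPrime p)).FG := IsNoetherian.noetherian _
  have hle1 : (maximalIdeal (Localization.AtPrime p)).spanFinrank ≤ 1 := by
    have : ((maximalIdeal (Localization.AtPrime p)).spanFinrank : WithBot ℕ∞) ≤ 1 := by
      rw [hreg, hdim]; exact_mod_cast hht
    exact_mod_cast this
  have hne0 : (maximalIdeal (Localization.AtPrime p)).spanFinrank ≠ 0 := by
    rw [Ne, Submodule.spanFinrank_eq_zero_iff_eq_bot hfg]; exact hne
  have h1 : (maximalIdeal (Localization.AtPrime p)).spanFinrank = 1 := by omega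
  have hprin : (maximalIdeal (Localization.AtPrime p)).IsPrincipal :=
    ((Submodule.spanFinrank_eq_one_iff _).mp h1).1
  have hnf : ¬ IsField (Localization.AtPrime p) := by
    rw [IsLocalRing.isField_iff_maximalIdeal_eq]; exact hne
  exact ((IsDiscreteValuationRing.TFAE (Localization.AtPrime p) hnf).out 0 4).mpr hprin

theorem isReduced_of_flat_of_hausdorff {R S : Type*} [CommRing R] [IsDomain R]
    [IsNoetherianRing R] [CommRing S] [Algebra R S] [Module.Flat R S] [IsNoetherianRing S]
    (x : R) (hx : x ≠ 0)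
    (hemb : ∀ p ∈ associatedPrimes R (R ⧸ Ideal.span {x}), p ∈ (Ideal.span {x}).minimalPrimes)
    (hdvr : ∀ p ∈ associatedPrimes R (R ⧸ Ideal.span {x}), ∀ (_ : p.IsPrime),
      IsDiscreteValuationRing (Localization.AtPrime p) ∧
        IsReduced (S ⧸ p.map (algebraMap R S)))
    (hH : ∀ y : S, (∀ n, y ∈ (Ideal.span {x ^ n}).map (algebraMap R S)) → y = 0) :
    IsReduced S := by
  have key : ∀ y : S, IsNilpotent y → y ∈ (Ideal.span {x}).map (algebraMap R S) := by
    intro y hy
    by_contra hyn
    have hne : (Ideal.Quotient.mk ((Ideal.span {x}).map (algebraMap R S)) y) ≠ 0 := by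
      rwa [Ne, Ideal.Quotient.eq_zero_iff_mem]
    obtain ⟨q, hq, hle⟩ := exists_le_isAssociatedPrime_of_isNoetherianRing S _ hne
    have hpA := comap_mem_associatedPrimes_of_flat x hemb q hq
    haveI : q.IsPrime := hq.isPrime
    haveI : (q.comap (algebraMap R S)).IsPrime := Ideal.comap_isPrime _ _
    obtain ⟨hd, hr⟩ := hdvr _ hpA inferInstance
    obtain ⟨t, ht, hty⟩ := exists_mul_mem_of_isNilpotent (q.comap (algebraMap R S)) x hx hr y hy
    apply ht
    rw [Ideal.mem_comap]
    apply hle
    rw [Submodule.mem_colon_singleton, Submodule.mem_bot]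
    change (Ideal.Quotient.mk _ (algebraMap R S t)) * (Ideal.Quotient.mk _ y) = 0
    rw [← map_mul, Ideal.Quotient.eq_zero_iff_mem]; exact hty
  have hregS : IsSMulRegular S (algebraMap R S x) :=
    IsSMulRegular.of_flat (S := S) (IsRegular.of_ne_zero hx).isSMulRegular
  have hmap : ∀ n, (Ideal.span {x ^ n}).map (algebraMap R S) =
      Ideal.span {(algebraMap R S x) ^ n} := by
    intro n; rw [Ideal.map_span, Set.image_singleton, map_pow]
  have claim : ∀ n (y : S), IsNilpotent y → y ∈ (Ideal.span {x ^ n}).map (algebraMap R S) := by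
    intro n
    induction n with
    | zero => intro y _; rw [pow_zero, Ideal.span_singleton_one, Ideal.map_top]; trivial
    | succ n ih =>
      intro y hy
      have h1 := key y hy
      rw [← pow_one x, hmap, pow_one, Ideal.mem_span_singleton'] at h1
      obtain ⟨y', rfl⟩ := h1
      have hy' : IsNilpotent y' := by
        obtain ⟨k, hk⟩ := hy
        refine ⟨k, (hregS.pow k) ?_⟩
        simp only [smul_eq_mul, mul_zero]
        rw [← hk, mul_pow, mul_comm]
      have h2 := ih y' hy'
      rw [hmap, Ideal.mem_span_singleton'] at h2 ⊢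
      obtain ⟨w, rfl⟩ := h2
      exact ⟨w, by ring⟩
  exact ⟨fun y hy => hH y (fun n => claim n y hy)⟩

end Groth.Agent.H21.LC
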