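import Mathlib

/-!
# Left resolutions from syzygy data without projectivity (generic abelian category)
-/

set_option autoImplicit false

namespace Groth.Agent.H21

open CategoryTheory CategoryTheory.Limits

universe v u

/-- Data of objects `X n`, projective covers `π n : F n ↠ X n` and monos `ι n : X (n+1) ↪ F n`
identifying `X (n+1)` with the kernel of `π n`. -/
structure SyzData0 (C : Type u) [Category.{v} C] [Abelian C] where
  X : ℕ → C
  F : ℕ → C
  π : ∀ n, F n ⟶ X n
  ι : ∀ n, X (n + 1) ⟶ F n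
  w : ∀ n, ι n ≫ π n = 0
  exact : ∀ n, (ShortComplex.mk (ι n) (π n) (w n)).Exact
  epi : ∀ n, Epi (π n)
  mono : ∀ n, Mono (ι n)

namespace SyzData0

variable {C : Type u} [Category.{v} C] [Abelian C] (D : SyzData0 C)

attribute [instance] SyzData0.epi SyzData0.mono

/-- The differential. -/
noncomputable def d (n : ℕ) : D.F (n + 1) ⟶ D.F n := D.π (n + 1) ≫ D.ι n

lemma d_comp_d (n : ℕ) : D.d (n + 1) ≫ D.d n = 0 := by
  simp only [d, Category.assoc]
  rw [reassoc_of% (D.w (n + 1))]
  simp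

lemma d_comp_π : D.d 0 ≫ D.π 0 = 0 := by
  simp only [d, Category.assoc, D.w, comp_zero]

/-- The chain complex. -/
noncomputable def complex : ChainComplex C ℕ := ChainComplex.of D.F D.d D.d_comp_d

@[simp] lemma complex_X (n : ℕ) : D.complex.X n = D.F n := rfl

@[simp] lemma complex_d (n : ℕ) : D.complex.d (n + 1) n = D.d n := by
  simp [complex]

lemma exact_d_π : (ShortComplex.mk (D.d 0) (D.π 0) D.d_comp_π).Exact := by
  let α : ShortComplex.mk (D.d 0) (D.π 0) D.d_comp_π ⟶ ShortComplex.mk (D.ι 0) (D.π 0) (D.w 0) :=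
    { τ₁ := D.π 1
      τ₂ := 𝟙 _
      τ₃ := 𝟙 _
      comm₁₂ := by simp [d]
      comm₂₃ := by simp }
  have : Epi α.τ₁ := by dsimp [α]; infer_instance
  have : IsIso α.τ₂ := by dsimp [α]; infer_instance
  have : Mono α.τ₃ := by dsimp [α]; infer_instance
  rw [ShortComplex.exact_iff_of_epi_of_isIso_of_mono α]
  exact D.exact 0

lemma ι_comp_d (n : ℕ) : D.ι (n + 1) ≫ D.d n = 0 := by
  simp only [d]
  rw [reassoc_of% (D.w (n + 1))]
  simp

lemma exact_ι_d (n : ℕ) : (ShortComplex.mk (D.ι (n + 1)) (D.d n) (D.ι_comp_d n)).Exact := by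
  let α : ShortComplex.mk (D.ι (n + 1)) (D.π (n + 1)) (D.w (n + 1)) ⟶
      ShortComplex.mk (D.ι (n + 1)) (D.d n) (D.ι_comp_d n) :=
    { τ₁ := 𝟙 _
      τ₂ := 𝟙 _
      τ₃ := D.ι n
      comm₁₂ := by simp
      comm₂₃ := by simp [d] }
  have : Epi α.τ₁ := by dsimp [α]; infer_instance
  have : IsIso α.τ₂ := by dsimp [α]; infer_instance
  have : Mono α.τ₃ := by dsimp [α]; infer_instance
  rw [← ShortComplex.exact_iff_of_epi_of_isIso_of_mono α]
  exact D.exact (n + 1)

lemma exact_d_d (n : ℕ) : (ShortComplex.mk (D.d (n + 1)) (D.d n) (D.d_comp_d n)).Exact := by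
  let α : ShortComplex.mk (D.d (n + 1)) (D.d n) (D.d_comp_d n) ⟶
      ShortComplex.mk (D.ι (n + 1)) (D.d n) (D.ι_comp_d n) :=
    { τ₁ := D.π (n + 2)
      τ₂ := 𝟙 _
      τ₃ := 𝟙 _
      comm₁₂ := by simp [d]
      comm₂₃ := by simp }
  have : Epi α.τ₁ := by dsimp [α]; infer_instance
  have : IsIso α.τ₂ := by dsimp [α]; infer_instance
  have : Mono α.τ₃ := by dsimp [α]; infer_instance
  rw [ShortComplex.exact_iff_of_epi_of_isIso_of_mono α]
  exact D.exact_ι_d n

lemma complex_exactAt_succ (n : ℕ) : D.complex.ExactAt (n + 1) := by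
  rw [HomologicalComplex.exactAt_iff' _ (n + 1 + 1) (n + 1) n (by simp) (by simp)]
  refine ShortComplex.exact_of_iso ?_ (D.exact_d_d n)
  exact ShortComplex.isoMk (Iso.refl _) (Iso.refl _) (Iso.refl _)
    (by simp [HomologicalComplex.sc', HomologicalComplex.shortComplexFunctor'])
    (by simp [HomologicalComplex.sc', HomologicalComplex.shortComplexFunctor'])

/-- The augmentation. -/
noncomputable def aug : D.complex ⟶ (ChainComplex.single₀ C).obj (D.X 0) :=
  (ChainComplex.toSingle₀Equiv _ _).symm ⟨D.π 0, by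
    rw [complex_d]; exact D.d_comp_π⟩

@[simp] lemma aug_f_zero : D.aug.f 0 = D.π 0 :=
  ChainComplex.toSingle₀Equiv_symm_apply_f_zero _ _

lemma quasiIso_aug : QuasiIso D.aug :=
  ⟨fun n => by
    cases n
    · rw [ChainComplex.quasiIsoAt₀_iff, ShortComplex.quasiIso_iff_of_zeros' _ rfl rfl rfl]
      refine (ShortComplex.exact_and_epi_g_iff_of_iso ?_).2 ⟨D.exact_d_π, D.epi 0⟩
      exact ShortComplex.isoMk (Iso.refl _) (Iso.refl _) (Iso.refl _)
        (by dsimp; erw [Category.id_comp, Category.comp_id]; simp)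
        (by dsimp; erw [Category.id_comp, Category.comp_id]; simp)
    · rw [quasiIsoAt_iff_exactAt']
      · apply complex_exactAt_succ
      · apply ChainComplex.exactAt_succ_single_obj⟩

end SyzData0

end Groth.Agent.H21
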