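import Mathlib
import Groth.Prelude.Def_Wider
import Groth.Agent.Lib.helper21.SyzRes2

universe u
set_option linter.unusedSectionVars false
set_option linter.style.haveILetI false
open CategoryTheory
open scoped Classical

namespace Groth.Agent.H21.LC

variable {R : Type u} [CommRing R] (I : Ideal R)

/-- exponent killing an element -/
noncomputable def ptExp {N : Type u} [AddCommGroup N] [Module R N]
    (hN : LocCoh.IsPowerTorsion I N) (x : N) : ℕ := Classical.choose (hN x)

lemma ptExp_spec {N : Type u} [AddCommGroup N] [Module R N]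
    (hN : LocCoh.IsPowerTorsion I N) (x : N) : ∀ a ∈ I ^ ptExp I hN x, a • x = 0 :=
  Classical.choose_spec (hN x)

/-- the cover `⨁_{x ∈ N} R/I^{n(x)} → N` -/
noncomputable def ptCover {N : Type u} [AddCommGroup N] [Module R N]
    (hN : LocCoh.IsPowerTorsion I N) :
    (DirectSum N fun x => R ⧸ I ^ ptExp I hN x) →ₗ[R] N :=
  DirectSum.toModule R N N (fun x =>
    Submodule.liftQ (I ^ ptExp I hN x) (LinearMap.toSpanSingleton R N x) (by
      intro a ha
      rw [LinearMap.mem_ker, LinearMap.toSpanSingleton_apply]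
      exact ptExp_spec I hN x a ha))

lemma ptCover_surjective {N : Type u} [AddCommGroup N] [Module R N]
    (hN : LocCoh.IsPowerTorsion I N) : Function.Surjective (ptCover I hN) := by
  intro x
  refine ⟨DirectSum.lof R N (fun x => R ⧸ I ^ ptExp I hN x) x (Submodule.Quotient.mk 1), ?_⟩
  rw [ptCover, DirectSum.toModule_lof, Submodule.liftQ_apply, LinearMap.toSpanSingleton_apply,
    one_smul]

lemma isPowerTorsion_directSum {ι : Type u} (n : ι → ℕ) :
    LocCoh.IsPowerTorsion I (DirectSum ι fun j => R ⧸ I ^ n j) := by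
  classical
  intro m
  induction m using DirectSum.induction_on with
  | zero => exact ⟨0, fun a _ => smul_zero a⟩
  | of j y =>
    refine ⟨n j, fun a ha => ?_⟩
    obtain ⟨r, rfl⟩ := Submodule.Quotient.mk_surjective _ y
    rw [← DirectSum.of_smul, ← Submodule.Quotient.mk_smul]
    have : a • r ∈ I ^ n j := by
      rw [smul_eq_mul]; exact Ideal.mul_mem_right _ _ ha
    rw [(Submodule.Quotient.mk_eq_zero _).mpr this, map_zero]
  | add x y hx hy =>
    obtain ⟨k, hk⟩ := hx
    obtain ⟨k', hk'⟩ := hy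
    refine ⟨k + k', fun a ha => ?_⟩
    rw [smul_add, hk a (Ideal.pow_le_pow_right (Nat.le_add_right k k') ha),
      hk' a (Ideal.pow_le_pow_right (Nat.le_add_left k' k) ha), add_zero]

lemma isPowerTorsion_submodule {N : Type u} [AddCommGroup N] [Module R N]
    (hN : LocCoh.IsPowerTorsion I N) (K : Submodule R N) : LocCoh.IsPowerTorsion I K := by
  intro m
  obtain ⟨k, hk⟩ := hN m.1
  exact ⟨k, fun a ha => Subtype.ext (by simpa using hk a ha)⟩

/-- power-torsion modules -/
structure PT (I : Ideal R) where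
  N : ModuleCat.{u} R
  h : LocCoh.IsPowerTorsion I N

namespace PT
variable {I}

noncomputable def F (P : PT I) : ModuleCat.{u} R :=
  ModuleCat.of R (DirectSum P.N fun x => R ⧸ I ^ ptExp I P.h x)

noncomputable def π (P : PT I) : P.F ⟶ P.N := ModuleCat.ofHom (ptCover I P.h)

noncomputable def K (P : PT I) : PT I :=
  ⟨ModuleCat.of R (LinearMap.ker (ptCover I P.h)),
    isPowerTorsion_submodule I (isPowerTorsion_directSum I _) _⟩

noncomputable def ι (P : PT I) : P.K.N ⟶ P.F :=
  ModuleCat.ofHom (LinearMap.ker (ptCover I P.h)).subtype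

lemma w (P : PT I) : P.ι ≫ P.π = 0 := by
  ext x
  exact x.2

lemma exact (P : PT I) : (ShortComplex.mk P.ι P.π P.w).Exact := by
  rw [ShortComplex.moduleCat_exact_iff]
  intro x hx
  exact ⟨⟨x, hx⟩, rfl⟩

instance epi_π (P : PT I) : Epi P.π := (ModuleCat.epi_iff_surjective _).mpr (ptCover_surjective I P.h)

instance mono_ι (P : PT I) : Mono P.ι := (ModuleCat.mono_iff_injective _).mpr Subtype.val_injective

noncomputable def iter (P : PT I) : ℕ → PT I
  | 0 => P
  | n + 1 => (iter P n).K

noncomputable def syz (P : PT I) : Groth.Agent.H21.SyzData0 (ModuleCat.{u} R) where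
  X n := (P.iter n).N
  F n := (P.iter n).F
  π n := (P.iter n).π
  ι n := (P.iter n).ι
  w n := (P.iter n).w
  exact n := (P.iter n).exact
  epi n := epi_π (P.iter n)
  mono n := mono_ι (P.iter n)

end PT

theorem torsion_resolution (M : Type u) [AddCommGroup M] [Module R M]
    (hM : LocCoh.IsPowerTorsion I M) :
    ∃ (K : ChainComplex (ModuleCat.{u} R) ℕ)
      (π : K ⟶ (ChainComplex.single₀ (ModuleCat.{u} R)).obj (ModuleCat.of R M)),
      QuasiIso π ∧ ∀ i : ℕ, ∃ (ι : Type u) (n : ι → ℕ),
        Nonempty (K.X i ≅ ModuleCat.of R (DirectSum ι fun j => R ⧸ I ^ n j)) := by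
  let P : PT I := ⟨ModuleCat.of R M, hM⟩
  refine ⟨P.syz.complex, P.syz.aug, P.syz.quasiIso_aug, fun i => ?_⟩
  exact ⟨(P.iter i).N, fun x => ptExp I (P.iter i).h x, ⟨Iso.refl _⟩⟩

end Groth.Agent.H21.LC
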