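import Mathlib
import Groth.Agent.S2082
import Groth.Agent.Lib.helper17.FlatCM
import Groth.Agent.Lib.helper6.RegNormal
import Groth.Agent.Lib.helper5.RegLoc

set_option autoImplicit false
open IsLocalRing

namespace Groth.Agent.H21.MF
universe u

/-- going down for `A → B` when `B` is a localization of its `A`-integral elements. -/
lemma hasGoingDown_of_frac {A B : Type u} [CommRing A] [CommRing B] [Algebra A B] [IsDomain B]
    [IsDomain A] [IsIntegrallyClosed A]
    (hinj : Function.Injective (algebraMap A B))
    (hloc : ∀ b : B, ∃ d t : B, IsIntegral A d ∧ IsIntegral A t ∧ IsUnit t ∧ b * t = d) :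
    Algebra.HasGoingDown A B := by
  let D : Subalgebra A B := integralClosure A B
  haveI : FaithfulSMul A D := by
    rw [faithfulSMul_iff_algebraMap_injective]
    intro a a' h
    apply hinj
    have := congrArg (Subtype.val) h
    exact this
  haveI : Algebra.IsIntegral A D := inferInstance
  haveI : Algebra.HasGoingDown A D := inferInstance
  let M : Submonoid D := Submonoid.comap (algebraMap D B).toMonoidHom (IsUnit.submonoid B)
  haveI : IsLocalization M B := by
    refine ⟨fun m => m.2, ?_, ?_⟩
    · intro b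
      obtain ⟨d, t, hd, ht, htu, hbt⟩ := hloc b
      exact ⟨(⟨d, hd⟩, ⟨⟨t, ht⟩, htu⟩), hbt⟩
    · intro a b hab
      exact ⟨1, by rw [Subtype.ext hab]⟩
  haveI : Module.Flat D B := IsLocalization.flat B M
  haveI : Algebra.HasGoingDown D B := inferInstance
  exact Algebra.HasGoingDown.trans A D B

theorem flat_of_frac {A B : Type u} [CommRing A] [CommRing B] [Algebra A B]
    [IsRegularLocalRing A] [IsRegularLocalRing B] [IsLocalHom (algebraMap A B)]
    (hinj : Function.Injective (algebraMap A B))
    (hloc : ∀ b : B, ∃ d t : B, IsIntegral A d ∧ IsIntegral A t ∧ IsUnit t ∧ b * t = d) :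
    Module.Flat A B := by
  haveI : IsDomain A := Groth.Agent.H5.RegLoc.isDomain A
  haveI : IsDomain B := Groth.Agent.H5.RegLoc.isDomain B
  haveI : IsIntegrallyClosed A := Groth.Agent.Lib.helper6.RegNormal.isIntegrallyClosed A
  haveI : LocCoh.IsCohenMacaulayLocalRing B := Groth.Agent.Lib.helper17.FlatCM.isCM_of_regular B
  haveI : Algebra.HasGoingDown A B := hasGoingDown_of_frac hinj hloc
  have hLH : IsLocalHom (algebraMap A B) := inferInstance
  have hcomap : (maximalIdeal B).comap (algebraMap A B) = maximalIdeal A :=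
    ((IsLocalRing.local_hom_TFAE (algebraMap A B)).out 0 4).mp hLH
  haveI : (maximalIdeal B).LiesOver (maximalIdeal A) := ⟨hcomap.symm⟩
  have h1 := Ideal.height_eq_height_add_of_liesOver_of_hasGoingDown (maximalIdeal A) (maximalIdeal B)
  refine Groth.Agent.S2082.result ?_
  set I := (maximalIdeal A).map (algebraMap A B) with hI
  have hIle : I ≤ maximalIdeal B := by
    rw [hI, Ideal.map_le_iff_le_comap]
    exact hcomap.ge
  haveI : Nontrivial (B ⧸ I) :=
    Ideal.Quotient.nontrivial_iff.mpr (fun h => (maximalIdeal.isMaximal B).ne_top (top_le_iff.mp (h ▸ hIle)))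
  haveI : IsLocalRing (B ⧸ I) := IsLocalRing.of_surjective' (Ideal.Quotient.mk I) Ideal.Quotient.mk_surjective
  have hmax : ((maximalIdeal B).map (Ideal.Quotient.mk I)).IsMaximal :=
    Ideal.IsMaximal.map_of_surjective_of_ker_le Ideal.Quotient.mk_surjective
      (by rw [Ideal.mk_ker]; exact hIle)
  have h2 : (maximalIdeal B).map (Ideal.Quotient.mk I) = maximalIdeal (B ⧸ I) :=
    IsLocalRing.eq_maximalIdeal hmax
  rw [h2] at h1
  rw [← IsLocalRing.maximalIdeal_height_eq_ringKrullDim, ← IsLocalRing.maximalIdeal_height_eq_ringKrullDim,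
    ← IsLocalRing.maximalIdeal_height_eq_ringKrullDim, h1]
  push_cast
  rfl

end Groth.Agent.H21.MF
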