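import Groth.Agent.Lib.helper21.MF1

set_option autoImplicit false
open CategoryTheory AlgebraicGeometry TopologicalSpace IsLocalRing

namespace Groth.Agent.H21.MF
universe u

/-- a point with no proper generization has closure an irreducible component -/
lemma closure_mem_irreducibleComponents {T : Type*} [TopologicalSpace T] [QuasiSober T] (ξ : T)
    (h : ∀ x', x' ⤳ ξ → x' = ξ) : closure {ξ} ∈ irreducibleComponents T := by
  refine ⟨isIrreducible_singleton.closure, fun s hs hle => ?_⟩
  have hs' : IsIrreducible (closure s) := hs.closure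
  obtain ⟨g, hg⟩ := QuasiSober.sober hs' isClosed_closure
  have hgξ : g ⤳ ξ := by
    rw [specializes_iff_mem_closure, hg.def]
    exact subset_closure (hle (subset_closure rfl))
  have := h g hgξ
  subst this
  exact subset_closure.trans hg.def.ge

/-- a point whose closure is an irreducible component has no proper generization -/
lemma eq_of_specializes_of_mem_irreducibleComponents {T : Type*} [TopologicalSpace T] [T0Space T]
    (η : T) (h : closure {η} ∈ irreducibleComponents T) (y' : T) (hy : y' ⤳ η) : y' = η := by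
  have h1 : closure {η} ⊆ closure {y'} := specializes_iff_closure_subset.mp hy
  have h2 : closure {y'} ⊆ closure {η} := h.2 isIrreducible_singleton.closure h1
  exact (hy.antisymm (specializes_iff_closure_subset.mpr h2)).eq

variable {X Y : Scheme.{u}} (f : X ⟶ Y)

lemma stalkMap_injective (hX : ∀ x : X, IsDomain (X.presheaf.stalk x))
    (hY : ∀ y : Y, IsDomain (Y.presheaf.stalk y))
    (hdom : ∀ Z ∈ irreducibleComponents (X : Type u),
      closure (f.base '' Z) ∈ irreducibleComponents (Y : Type u))
    (x : X) : Function.Injective (f.stalkMap x).hom := by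
  haveI := hX x
  haveI := hY (f.base x)
  let ξ₀ : Spec (X.presheaf.stalk x) := ⟨⊥, Ideal.isPrime_bot⟩
  let ξ : X := (X.fromSpecStalk x).base ξ₀
  have hξ : ∀ x', x' ⤳ ξ → x' = ξ := by
    intro x' hx'
    have hξx : ξ ⤳ x := by
      have : ξ ∈ Set.range (X.fromSpecStalk x) := ⟨ξ₀, rfl⟩
      rwa [Scheme.range_fromSpecStalk] at this
    have hx'x : x' ⤳ x := hx'.trans hξx
    obtain ⟨P', rfl⟩ : x' ∈ Set.range (X.fromSpecStalk x) := by
      rw [Scheme.range_fromSpecStalk]; exact hx'x
    have hsp : P' ⤳ ξ₀ := (X.fromSpecStalk x).isEmbedding.isInducing.specializes_iff.mp hx'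
    have hle : P'.asIdeal ≤ ξ₀.asIdeal := (PrimeSpectrum.le_iff_specializes _ _).mpr hsp
    have : P' = ξ₀ := PrimeSpectrum.ext (le_bot_iff.mp hle)
    rw [this]
  have h1 := closure_mem_irreducibleComponents ξ hξ
  have h2 := hdom _ h1
  have h3 : closure (f.base '' closure {ξ}) = closure {f.base ξ} := by
    apply subset_antisymm
    · apply closure_minimal _ isClosed_closure
      refine (image_closure_subset_closure_image f.continuous).trans ?_
      rw [Set.image_singleton]
    · apply closure_mono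
      rw [Set.singleton_subset_iff]
      exact ⟨ξ, subset_closure rfl, rfl⟩
  rw [h3] at h2
  let κ : Spec (Y.presheaf.stalk (f.base x)) := (Spec.map (f.stalkMap x)).base ξ₀
  let η₀ : Spec (Y.presheaf.stalk (f.base x)) := ⟨⊥, Ideal.isPrime_bot⟩
  have hκ : (Y.fromSpecStalk (f.base x)).base κ = f.base ξ := by
    have e := Scheme.SpecMap_stalkMap_fromSpecStalk f (x := x)
    show (Spec.map (f.stalkMap x) ≫ Y.fromSpecStalk _).base ξ₀ = (X.fromSpecStalk x ≫ f).base ξ₀
    rw [e]
  have hηκ : η₀ ⤳ κ := (PrimeSpectrum.le_iff_specializes _ _).mp (bot_le (a := κ.asIdeal))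
  have hsp : (Y.fromSpecStalk (f.base x)).base η₀ ⤳ f.base ξ := by
    rw [← hκ]; exact hηκ.map (Y.fromSpecStalk _).continuous
  have heq := eq_of_specializes_of_mem_irreducibleComponents _ h2 _ hsp
  rw [← hκ] at heq
  have hinj : η₀ = κ := (Y.fromSpecStalk (f.base x)).isEmbedding.injective heq
  rw [injective_iff_map_eq_zero]
  intro a ha
  have hmem : a ∈ κ.asIdeal := by
    show a ∈ Ideal.comap (f.stalkMap x).hom ⊥
    simpa using ha
  rw [← hinj] at hmem
  exact hmem

theorem main [IsFinite f] [IsLocallyNoetherian X] [IsLocallyNoetherian Y]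
    (hX : ∀ x : X, IsRegularLocalRing (X.presheaf.stalk x))
    (hY : ∀ y : Y, IsRegularLocalRing (Y.presheaf.stalk y))
    (hdom : ∀ Z ∈ irreducibleComponents (X : Type u),
      closure (f.base '' Z) ∈ irreducibleComponents (Y : Type u)) :
    Flat f := by
  rw [Flat.iff_flat_stalkMap]
  intro x
  haveI := hX x
  haveI := hY (f.base x)
  letI : Algebra (Y.presheaf.stalk (f.base x)) (X.presheaf.stalk x) := (f.stalkMap x).hom.toAlgebra
  haveI : IsLocalHom (algebraMap (Y.presheaf.stalk (f.base x)) (X.presheaf.stalk x)) := by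
    show IsLocalHom (f.stalkMap x).hom
    infer_instance
  show Module.Flat (Y.presheaf.stalk (f.base x)) (X.presheaf.stalk x)
  apply flat_of_frac
  · exact stalkMap_injective f (fun x => haveI := hX x; Groth.Agent.H5.RegLoc.isDomain _)
      (fun y => haveI := hY y; Groth.Agent.H5.RegLoc.isDomain _) hdom x
  · intro b
    obtain ⟨_, ⟨V, hV, rfl⟩, hxV, -⟩ := Y.isBasis_affineOpens.exists_subset_of_mem_open
      (Set.mem_univ (f.base x)) isOpen_univ
    have hW : IsAffineOpen (f ⁻¹ᵁ V) := hV.preimage f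
    have hxW : x ∈ f ⁻¹ᵁ V := hxV
    letI : Algebra Γ(X, f ⁻¹ᵁ V) (X.presheaf.stalk x) :=
      TopCat.Presheaf.algebra_section_stalk X.presheaf ⟨x, hxW⟩
    haveI : IsLocalization.AtPrime (X.presheaf.stalk x) (hW.primeIdealOf ⟨x, hxW⟩).asIdeal :=
      hW.isLocalization_stalk ⟨x, hxW⟩
    obtain ⟨⟨c, t⟩, hct⟩ := IsLocalization.surj (hW.primeIdealOf ⟨x, hxW⟩).asIdeal.primeCompl b
    have hct' : b * X.presheaf.germ (f ⁻¹ᵁ V) x hxW t.1 = X.presheaf.germ (f ⁻¹ᵁ V) x hxW c := hct
    have hint : ∀ c : Γ(X, f ⁻¹ᵁ V), IsIntegral (Y.presheaf.stalk (f.base x))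
        (X.presheaf.germ (f ⁻¹ᵁ V) x hxW c) := by
      intro c
      have hfin := IsFinite.finite_app f V hV
      letI := (f.app V).hom.toAlgebra
      have hc : IsIntegral Γ(Y, V) c := hfin.to_isIntegral c
      exact IsIntegral.map_of_comp_eq (Y.presheaf.germ V (f.base x) hxV).hom
        (X.presheaf.germ (f ⁻¹ᵁ V) x hxW).hom (by
          ext s
          exact (Scheme.Hom.germ_stalkMap_apply f V x hxV s)) hc
    refine ⟨_, _, hint c, hint t.1, ?_, hct'⟩
    exact IsLocalization.map_units _ t

end Groth.Agent.H21.MF
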