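import Mathlib
open MvPowerSeries
universe u
namespace Groth.Agent.H21.Node

variable (k : Type u) [Field k]

theorem decomp (f : MvPowerSeries (Fin 2) k) :
    ∃ g h : MvPowerSeries (Fin 2) k,
      f = C (constantCoeff f) + X 0 * g + X 1 * h := by
  classical
  let f1 : MvPowerSeries (Fin 2) k := fun m => if m 0 = 0 then 0 else coeff m f
  have h1 : (X 0 : MvPowerSeries (Fin 2) k) ∣ f1 := by
    rw [X_dvd_iff]
    intro m hm
    change (if m 0 = 0 then 0 else coeff m f) = 0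
    rw [if_pos hm]
  have h2 : (X 1 : MvPowerSeries (Fin 2) k) ∣ f - C (constantCoeff f) - f1 := by
    rw [X_dvd_iff]
    intro m hm
    rw [map_sub, map_sub]
    have hf1 : coeff m f1 = if m 0 = 0 then 0 else coeff m f := rfl
    rw [hf1]
    by_cases h0 : m 0 = 0
    · have hm0 : m = 0 := by
        ext i
        fin_cases i
        · exact h0
        · exact hm
      rw [if_pos h0, hm0]
      simp
    · have hm0 : m ≠ 0 := fun h => h0 (by rw [h]; rfl)
      rw [if_neg h0, coeff_C, if_neg hm0]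
      ring
  obtain ⟨g, hg⟩ := h1
  obtain ⟨h, hh⟩ := h2
  refine ⟨g, h, ?_⟩
  rw [← hg, ← hh]
  ring

abbrev P := MvPowerSeries (Fin 2) k
noncomputable abbrev J : Ideal (P k) := Ideal.span {(X (0 : Fin 2) : P k) * X (1 : Fin 2)}
abbrev A := P k ⧸ J k
noncomputable abbrev xb : A k := Ideal.Quotient.mk (J k) (X (0 : Fin 2))
noncomputable abbrev yb : A k := Ideal.Quotient.mk (J k) (X (1 : Fin 2))
abbrev M1 := A k ⧸ Ideal.span {yb k}
abbrev M2 := A k ⧸ Ideal.span {xb k}

lemma xb_mul_yb : xb k * yb k = 0 := by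
  rw [← map_mul, Ideal.Quotient.eq_zero_iff_mem]
  exact Ideal.mem_span_singleton_self _

lemma mem_span_xb_of_mul_yb (a : A k) (h : a * yb k = 0) : a ∈ Ideal.span {xb k} := by
  obtain ⟨f, rfl⟩ := Ideal.Quotient.mk_surjective a
  rw [← map_mul, Ideal.Quotient.eq_zero_iff_mem, Ideal.mem_span_singleton'] at h
  obtain ⟨g, hg⟩ := h
  have hy : (X (1 : Fin 2) : P k) ≠ 0 := by
    intro h0
    have := congrArg (coeff (Finsupp.single (1 : Fin 2) 1)) h0
    rw [coeff_X, if_pos rfl, map_zero] at this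
    exact one_ne_zero this
  have h1 : (f - g * X (0 : Fin 2)) * X (1 : Fin 2) = 0 := by
    rw [sub_mul, ← hg]; ring
  have h2 : f = g * X (0 : Fin 2) := by
    rcases mul_eq_zero.mp h1 with h | h
    · exact sub_eq_zero.mp h
    · exact absurd h hy
  rw [h2, map_mul, Ideal.mem_span_singleton']
  exact ⟨_, rfl⟩

/-- the constant-coefficient map on `A` -/
noncomputable def cc : A k →+* k :=
  Ideal.Quotient.lift (J k) (constantCoeff (σ := Fin 2) (R := k)) (by
    intro a ha
    rw [Ideal.mem_span_singleton'] at ha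
    obtain ⟨g, rfl⟩ := ha
    simp)

lemma cc_xb : cc k (xb k) = 0 := by simp [cc, xb]
lemma cc_yb : cc k (yb k) = 0 := by simp [cc, yb]
lemma cc_algebraMap (c : k) : cc k (algebraMap k (A k) c) = c := by
  change cc k (Ideal.Quotient.mk (J k) (algebraMap k (P k) c)) = c
  rw [cc, Ideal.Quotient.lift_mk]
  change constantCoeff (C c) = c
  simp

lemma decompA (a : A k) : ∃ b d : A k, a = algebraMap k (A k) (cc k a) + xb k * b + yb k * d := by
  obtain ⟨f, rfl⟩ := Ideal.Quotient.mk_surjective a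
  obtain ⟨g, h, hf⟩ := decomp k f
  refine ⟨Ideal.Quotient.mk _ g, Ideal.Quotient.mk _ h, ?_⟩
  have hc : cc k (Ideal.Quotient.mk (J k) f) = constantCoeff f := by simp [cc]
  rw [hc]
  conv_lhs => rw [hf]
  simp only [map_add, map_mul]
  rfl

lemma decompM2 (n : M2 k) : ∃ (c : k) (n' : M2 k),
    n = algebraMap k (A k) c • (Submodule.Quotient.mk 1 : M2 k) + yb k • n' := by
  obtain ⟨a, rfl⟩ := Submodule.Quotient.mk_surjective _ n
  obtain ⟨b, d, ha⟩ := decompA k a
  refine ⟨cc k a, Submodule.Quotient.mk d, ?_⟩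
  rw [← Submodule.Quotient.mk_smul, ← Submodule.Quotient.mk_smul, ← Submodule.Quotient.mk_add,
    smul_eq_mul, smul_eq_mul, mul_one]
  rw [Submodule.Quotient.eq]
  have : a - (algebraMap k (A k) (cc k a) + yb k * d) = b * xb k := by
    rw [sub_eq_iff_eq_add]
    refine ha.trans ?_
    ring
  rw [this]
  exact Ideal.mem_span_singleton'.mpr ⟨b, rfl⟩

lemma not_yb_smul_eq_one (n' : M2 k) : yb k • n' ≠ (Submodule.Quotient.mk 1 : M2 k) := by
  obtain ⟨d, rfl⟩ := Submodule.Quotient.mk_surjective _ n'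
  rw [← Submodule.Quotient.mk_smul, Ne, Submodule.Quotient.eq, smul_eq_mul]
  intro h
  obtain ⟨e, he⟩ := Ideal.mem_span_singleton'.mp h
  have := congrArg (cc k) he
  rw [map_mul, cc_xb, mul_zero, map_sub, map_mul, cc_yb, zero_mul, map_one] at this
  simp at this

open CategoryTheory Abelian

/-- multiplication by `ȳ` : `A/(x̄) → A` -/
noncomputable def ιlin : M2 k →ₗ[A k] A k :=
  Submodule.liftQ (Ideal.span {xb k}) (LinearMap.toSpanSingleton (A k) (A k) (yb k)) (by
    intro a ha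
    obtain ⟨b, rfl⟩ := Ideal.mem_span_singleton'.mp ha
    rw [LinearMap.mem_ker, LinearMap.toSpanSingleton_apply, smul_eq_mul, mul_assoc, xb_mul_yb,
      mul_zero])

lemma ιlin_mk (a : A k) : ιlin k (Submodule.Quotient.mk a) = a * yb k := by
  rw [ιlin, Submodule.liftQ_apply, LinearMap.toSpanSingleton_apply, smul_eq_mul]

lemma ιlin_injective : Function.Injective (ιlin k) := by
  rw [← LinearMap.ker_eq_bot, LinearMap.ker_eq_bot']
  intro n hn
  obtain ⟨a, rfl⟩ := Submodule.Quotient.mk_surjective _ n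
  rw [ιlin_mk] at hn
  rw [Submodule.Quotient.mk_eq_zero]
  exact mem_span_xb_of_mul_yb k a hn

noncomputable def S : ShortComplex (ModuleCat.{u} (A k)) :=
  ShortComplex.mk (ModuleCat.ofHom (ιlin k))
    (ModuleCat.ofHom (Submodule.mkQ (Ideal.span {yb k}))) (by
      refine ModuleCat.hom_ext (LinearMap.ext fun n => ?_)
      obtain ⟨a, rfl⟩ := Submodule.Quotient.mk_surjective _ n
      change Submodule.mkQ _ (ιlin k (Submodule.Quotient.mk a)) = 0
      rw [ιlin_mk, Submodule.mkQ_apply, Submodule.Quotient.mk_eq_zero]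
      exact Ideal.mem_span_singleton'.mpr ⟨a, rfl⟩)

lemma S_shortExact : (S k).ShortExact := by
  have h1 : Mono (S k).f := (ModuleCat.mono_iff_injective _).mpr (ιlin_injective k)
  have h2 : Epi (S k).g := (ModuleCat.epi_iff_surjective _).mpr (Submodule.mkQ_surjective _)
  refine ShortComplex.ShortExact.mk' (S := S k) ?_ h1 h2
  rw [ShortComplex.moduleCat_exact_iff]
  intro a ha
  change A k at a
  change Submodule.mkQ (Ideal.span {yb k}) a = 0 at ha
  rw [Submodule.mkQ_apply, Submodule.Quotient.mk_eq_zero] at ha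
  obtain ⟨b, rfl⟩ := Ideal.mem_span_singleton'.mp ha
  exact ⟨(Submodule.Quotient.mk b : M2 k), ιlin_mk k b⟩

open ModuleCat in
lemma smul_hom_apply {N N' : ModuleCat.{u} (A k)} (c : k) (f : N ⟶ N') (n : N) :
    (c • f).hom n = algebraMap k (A k) c • f.hom n := rfl

lemma end_decomp_lin (ψ : M2 k →ₗ[A k] M2 k) :
    ∃ (c : k) (n' : M2 k), ∀ a : A k, ψ (Submodule.Quotient.mk a) =
      algebraMap k (A k) c • (Submodule.Quotient.mk a : M2 k) + (a * yb k) • n' := by
  obtain ⟨c, n', hcn⟩ := decompM2 k (ψ (Submodule.Quotient.mk 1 : M2 k))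
  refine ⟨c, n', fun a => ?_⟩
  have h1 : (Submodule.Quotient.mk a : M2 k) = a • (Submodule.Quotient.mk 1 : M2 k) := by
    rw [← Submodule.Quotient.mk_smul, smul_eq_mul, mul_one]
  rw [h1, map_smul, hcn, smul_add, smul_comm a]
  exact congrArg _ (mul_smul a (yb k) n').symm

/-- every endomorphism of `A/(x̄)` is a scalar plus something factoring through `ȳ : A/(x̄) → A` -/
lemma end_decomp (ψ : (S k).X₁ ⟶ (S k).X₁) :
    ∃ (c : k) (φ' : (S k).X₂ ⟶ (S k).X₁), ψ = c • 𝟙 _ + (S k).f ≫ φ' := by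
  obtain ⟨c, n', hcn⟩ := end_decomp_lin k (ψ.hom : M2 k →ₗ[A k] M2 k)
  refine ⟨c, ModuleCat.ofHom (LinearMap.toSpanSingleton (A k) (M2 k) n'), ?_⟩
  refine ModuleCat.hom_ext (LinearMap.ext fun n => ?_)
  obtain ⟨a, rfl⟩ := Submodule.Quotient.mk_surjective _ n
  refine (hcn a).trans ?_
  change _ = algebraMap k (A k) c • (Submodule.Quotient.mk a : M2 k) +
    (LinearMap.toSpanSingleton (A k) (M2 k) n') (ιlin k (Submodule.Quotient.mk a))
  rw [ιlin_mk, LinearMap.toSpanSingleton_apply]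

instance : Projective (S k).X₂ := by
  change Projective (ModuleCat.of (A k) (A k))
  exact ModuleCat.projective_of_free (Module.Basis.singleton PUnit.{1} (A k))

open Abelian in
/-- the generator of `Ext¹` -/
noncomputable def gen : Ext (S k).X₃ (S k).X₁ 1 := (S_shortExact k).extClass

open Abelian in
lemma ext_eq_smul_gen (w : Ext (S k).X₃ (S k).X₁ 1) : ∃ c : k, c • gen k = w := by
  have hS := S_shortExact k
  obtain ⟨x₁, hx₁⟩ := Ext.contravariant_sequence_exact₃ hS (S k).X₁ w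
    (Ext.eq_zero_of_projective _) (n₀ := 0) rfl
  obtain ⟨ψ, rfl⟩ := (Ext.mk₀_bijective _ _).2 x₁
  obtain ⟨c, φ', rfl⟩ := end_decomp k ψ
  refine ⟨c, ?_⟩
  rw [← hx₁, Ext.mk₀_add, Ext.comp_add, Ext.mk₀_smul, Ext.comp_smul, ← Ext.mk₀_comp_mk₀,
    hS.extClass_comp_assoc, add_zero, Ext.comp_mk₀_id]
  rfl

open Abelian in
lemma gen_ne_zero : gen k ≠ 0 := by
  have hS := S_shortExact k
  intro h0
  obtain ⟨x₂, hx₂⟩ := Ext.contravariant_sequence_exact₁ hS (S k).X₁ (Ext.mk₀ (𝟙 _)) (n₀ := 0)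
    (n₁ := 1) rfl (by rw [Ext.comp_mk₀_id]; exact h0)
  obtain ⟨φ, rfl⟩ := (Ext.mk₀_bijective _ _).2 x₂
  rw [Ext.mk₀_comp_mk₀] at hx₂
  have h1 := (Ext.mk₀_bijective _ _).1 hx₂
  have h2 := congrArg (fun f => f.hom (Submodule.Quotient.mk 1 : M2 k)) h1
  change φ.hom (ιlin k (Submodule.Quotient.mk 1)) = (Submodule.Quotient.mk 1 : M2 k) at h2
  rw [ιlin_mk, one_mul] at h2
  have h3 : φ.hom (yb k) = yb k • (φ.hom (1 : A k) : M2 k) := by
    have := map_smul φ.hom (yb k) (1 : A k)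
    rw [smul_eq_mul, mul_one] at this
    exact this
  exact not_yb_smul_eq_one k _ (h3.symm.trans h2)

open Abelian in
theorem finrank_ext : Module.finrank k (Ext (S k).X₃ (S k).X₁ 1) = 1 :=
  finrank_eq_one_iff'.mpr ⟨gen k, gen_ne_zero k, ext_eq_smul_gen k⟩

end Groth.Agent.H21.Node
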