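import Mathlib
import Groth.Agent.Lib.helper6.AusBuchE

/-!
# Ext² vanishing for torsion-free modules on a planar curve singularity with disjoint supports.
-/

set_option autoImplicit false

namespace Groth.Agent.H21.PC

open CategoryTheory Abelian IsLocalRing LocCoh TensorProduct

universe u

section stepC

variable {R : Type u} [CommRing R]

/-- abstract step: from an exact `P₁ → P₀ → M → 0` with projective `P₁, P₀` and
`Hom(ker(P₁ → P₀), N) = 0` deduce `Ext²(M, N) = 0`. -/
theorem ext_two_subsingleton {P₁ P₀ M N : Type u} [AddCommGroup P₁] [Module R P₁]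
    [AddCommGroup P₀] [Module R P₀] [AddCommGroup M] [Module R M] [AddCommGroup N] [Module R N]
    [Module.Projective R P₁] [Module.Projective R P₀]
    (β : P₁ →ₗ[R] P₀) (γ : P₀ →ₗ[R] M) (hγ : Function.Surjective γ) (hex : Function.Exact β γ)
    (hhom : ∀ φ : LinearMap.ker β →ₗ[R] N, φ = 0) :
    Subsingleton (Ext (ModuleCat.of R M) (ModuleCat.of R N) 2) := by
  haveI hP₁ : Projective (ModuleCat.of R P₁) := (IsProjective.iff_projective P₁).1 inferInstance
  haveI hP₀ : Projective (ModuleCat.of R P₀) := (IsProjective.iff_projective P₀).1 inferInstance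
  -- first short exact sequence
  have hS1 := LinearMap.shortExact_shortComplexKer hγ
  -- second
  let β' : P₁ →ₗ[R] LinearMap.ker γ := β.codRestrict (LinearMap.ker γ)
    (fun x => hex.apply_apply_eq_zero x)
  have hβ' : Function.Surjective β' := by
    rintro ⟨z, hz⟩
    obtain ⟨x, hx⟩ := (hex z).1 hz
    exact ⟨x, Subtype.ext hx⟩
  have hS2 := LinearMap.shortExact_shortComplexKer hβ'
  have hker : LinearMap.ker β' = LinearMap.ker β := by
    ext x
    simp only [LinearMap.mem_ker, β']
    constructor
    · intro h; exact congrArg Subtype.val h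
    · intro h; exact Subtype.ext h
  refine ⟨fun a b => ?_⟩
  have key : ∀ w : Ext (ModuleCat.of R M) (ModuleCat.of R N) 2, w = 0 := by
    intro w
    obtain ⟨x₁, hx₁⟩ := Ext.contravariant_sequence_exact₃ hS1 (ModuleCat.of R N) w
      (Ext.eq_zero_of_projective _) (n₀ := 1) rfl
    obtain ⟨x₀, hx₀⟩ := Ext.contravariant_sequence_exact₃ hS2 (ModuleCat.of R N) x₁
      (Ext.eq_zero_of_projective _) (n₀ := 0) rfl
    obtain ⟨φ, rfl⟩ := (Ext.mk₀_bijective _ _).2 x₀
    have hφ : φ = 0 := by
      ext z
      have := hhom (φ.hom ∘ₗ (LinearEquiv.ofEq _ _ hker).symm.toLinearMap)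
      have h2 := LinearMap.congr_fun this (LinearEquiv.ofEq _ _ hker z)
      rw [LinearMap.comp_apply, LinearEquiv.coe_coe, LinearEquiv.symm_apply_apply] at h2
      exact h2
    rw [← hx₁, ← hx₀, hφ, Ext.mk₀_zero, Ext.comp_zero, Ext.comp_zero]
  rw [key a, key b]

end stepC

section stepA

variable {R : Type u} [CommRing R] [IsLocalRing R]

lemma hom_eq_zero (I J : Ideal R) (n : ℕ) (hIJ : maximalIdeal R ^ n ≤ I ⊔ J)
    {M' N : Type u} [AddCommGroup M'] [Module R M'] [AddCommGroup N] [Module R N]
    (hI : ∀ i ∈ I, ∀ z : M', i • z = 0) (hJ : J ≤ Module.annihilator R N)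
    (y : R) (hy : y ∈ maximalIdeal R) (hyN : IsSMulRegular N y) (φ : M' →ₗ[R] N) : φ = 0 := by
  ext z
  have h1 : ∀ a ∈ I ⊔ J, a • φ z = 0 := by
    intro a ha
    obtain ⟨i, hi, j, hj, rfl⟩ := Submodule.mem_sup.1 ha
    rw [add_smul, ← map_smul, hI i hi z, map_zero, zero_add]
    exact Module.mem_annihilator.1 (hJ hj) _
  have h2 : y ^ n • φ z = 0 := h1 _ (hIJ (Ideal.pow_mem_pow hy n))
  apply hyN.pow n
  show y ^ n • φ z = y ^ n • (0 : M' →ₗ[R] N) z
  rw [h2, LinearMap.zero_apply, smul_zero]

end stepA

section stepB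

variable {S R : Type u} [CommRing S] [CommRing R] [Algebra S R]

lemma exists_one_tmul (hπ : Function.Surjective (algebraMap S R)) {F : Type u} [AddCommGroup F]
    [Module S F] (w : R ⊗[S] F) : ∃ v : F, w = (1 : R) ⊗ₜ[S] v := by
  induction w using TensorProduct.induction_on with
  | zero => exact ⟨0, (tmul_zero _ _).symm⟩
  | tmul r v =>
    obtain ⟨s, rfl⟩ := hπ r
    refine ⟨s • v, ?_⟩
    rw [Algebra.algebraMap_eq_smul_one, smul_tmul]
  | add a b ha hb =>
    obtain ⟨v₁, rfl⟩ := ha
    obtain ⟨v₂, rfl⟩ := hb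
    exact ⟨v₁ + v₂, (tmul_add _ _ _).symm⟩

variable {M : Type u} [AddCommGroup M] [Module S M] [Module R M] [IsScalarTower S R M]

theorem base_change_presentation (hπ : Function.Surjective (algebraMap S R))
    {F : Type u} [AddCommGroup F] [Module S F] (p : F →ₗ[S] M) (hp : Function.Surjective p) :
    Function.Surjective (LinearMap.liftBaseChange R p) ∧
    Function.Exact (LinearMap.baseChange R (LinearMap.ker p).subtype) (LinearMap.liftBaseChange R p) ∧
    (∀ s : S, (∀ m : M, s • m = 0) →
      ∀ z ∈ LinearMap.ker (LinearMap.baseChange R (LinearMap.ker p).subtype), s • z = 0) := by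
  refine ⟨?_, ?_, ?_⟩
  · intro m
    obtain ⟨v, rfl⟩ := hp m
    exact ⟨1 ⊗ₜ v, by simp⟩
  · intro w
    constructor
    · intro hw
      obtain ⟨v, rfl⟩ := exists_one_tmul hπ w
      have hv : p v = 0 := by simpa using hw
      exact ⟨1 ⊗ₜ ⟨v, hv⟩, by simp⟩
    · rintro ⟨z, rfl⟩
      induction z using TensorProduct.induction_on with
      | zero => simp
      | tmul r k =>
        simp only [LinearMap.baseChange_tmul, Submodule.subtype_apply,
          LinearMap.liftBaseChange_tmul]
        rw [k.2, smul_zero]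
      | add a b ha hb => rw [map_add, map_add, ha, hb, add_zero]
  · intro s hs z hz
    let h : F →ₗ[S] LinearMap.ker p := (s • (LinearMap.id : F →ₗ[S] F)).codRestrict _ (fun v => by
      rw [LinearMap.mem_ker, LinearMap.smul_apply, LinearMap.id_apply, map_smul]
      exact hs _)
    have key : ∀ z : R ⊗[S] LinearMap.ker p,
        LinearMap.baseChange R h (LinearMap.baseChange R (LinearMap.ker p).subtype z) = s • z := by
      intro z
      induction z using TensorProduct.induction_on with
      | zero => simp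
      | tmul r k =>
        simp only [LinearMap.baseChange_tmul, Submodule.subtype_apply]
        have hk : h (k : F) = s • k := Subtype.ext (by simp [h])
        rw [hk, smul_tmul', smul_tmul]
      | add a b ha hb => rw [map_add, map_add, ha, hb, smul_add]
    rw [← key z, LinearMap.mem_ker.1 hz, map_zero]

end stepB

end Groth.Agent.H21.PC
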