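import Mathlib
import Groth.Agent.Lib.helper21.PC1

/-!
# Ext² vanishing on planar curve singularities: final assembly.
-/

set_option autoImplicit false

namespace Groth.Agent.H21.PC

open CategoryTheory Abelian IsLocalRing LocCoh TensorProduct
open Groth.Agent.Lib.helper9.Depth
open Groth.Agent.Lib.helper6

universe u

/-- depth ≥ 1 and Auslander–Buchsbaum give pd ≤ 1 over a 2-dimensional regular local ring. -/
theorem pd_lt_two (S : Type u) [CommRing S] [IsRegularLocalRing S] (hS : ringKrullDim S = 2)
    (M : Type u) [AddCommGroup M] [Module S M] [Module.Finite S M] [Nontrivial M]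
    (x : S) (hx : x ∈ maximalIdeal S) (hxM : IsSMulRegular M x) :
    HasProjectiveDimensionLT (ModuleCat.of S M) 2 := by
  have hS' : ringKrullDim S = ((2 : ℕ) : WithBot ℕ∞) := by rw [hS]; rfl
  have hpd := Groth.Agent.S0563.result S 2 hS' M
  have hnz : ¬ Limits.IsZero (ModuleCat.of S M) := by
    rw [ModuleCat.isZero_iff_subsingleton]
    exact not_subsingleton M
  obtain ⟨e, he⟩ := AusBuchE.exists_nat_pd _ hnz _ hpd
  have hab := AusBuchD.auslander_buchsbaum e M he
  rw [AusBuchE.depth_eq_dim S 2 hS'] at hab
  have h1 : (1 : ℕ∞) ≤ depth S M := by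
    have hreg : RingTheory.Sequence.IsWeaklyRegular M [x] :=
      (RingTheory.Sequence.isWeaklyRegular_cons_iff M x []).2 ⟨hxM, .nil _ _⟩
    have := length_le_idealDepth (I := maximalIdeal S) (M := M) (rs := [x]) hreg (by simpa using hx)
    simp only [List.length_singleton, Nat.cast_one] at this
    exact this
  have h2 : (e : ℕ∞) + 1 ≤ 2 := by
    calc (e : ℕ∞) + 1 ≤ e + depth S M := by gcongr
      _ = ((2 : ℕ) : ℕ∞) := hab.symm
      _ = 2 := rfl
  have h3 : e + 1 ≤ 2 := by exact_mod_cast h2
  rw [← projectiveDimension_lt_iff, he]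
  have : e < 2 := by omega
  exact_mod_cast this

theorem main (S : Type u) [CommRing S] [IsRegularLocalRing S] (hS : ringKrullDim S = 2)
    (R : Type u) [CommRing R] [IsLocalRing R] (π : S →+* R) (hπ : Function.Surjective π)
    (I J : Ideal R) (n : ℕ) (hIJ : IsLocalRing.maximalIdeal R ^ n ≤ I ⊔ J) (M N : Type u)
    [AddCommGroup M] [Module R M] [Module.Finite R M] [AddCommGroup N] [Module R N]
    (hI : I ≤ Module.annihilator R M) (hJ : J ≤ Module.annihilator R N) (x : R)
    (hx : x ∈ IsLocalRing.maximalIdeal R) (hxM : IsSMulRegular M x) (y : R)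
    (hy : y ∈ IsLocalRing.maximalIdeal R) (hyN : IsSMulRegular N y) :
    Subsingleton (Abelian.Ext (ModuleCat.of R M) (ModuleCat.of R N) 2) := by
  rcases subsingleton_or_nontrivial M with hM | hM
  · have : Projective (ModuleCat.of R M) := (IsProjective.iff_projective M).1 inferInstance
    exact Ext.subsingleton_of_projective _ _ 1
  letI : Algebra S R := π.toAlgebra
  letI : Module S M := Module.compHom M π
  haveI : IsScalarTower S R M := ⟨fun s r m => by
    show (π s * r) • m = π s • (r • m)
    rw [mul_smul]⟩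
  have hπ' : Function.Surjective (algebraMap S R) := hπ
  haveI : Module.Finite S R := Module.Finite.of_surjective (Algebra.linearMap S R) hπ'
  haveI : Module.Finite S M := Module.Finite.trans R M
  obtain ⟨x', rfl⟩ := hπ x
  have hx' : x' ∈ maximalIdeal S := by
    rw [mem_maximalIdeal, mem_nonunits_iff]
    intro hu
    exact hx (hu.map π)
  have hreg : IsSMulRegular M x' := hxM
  have hpd := pd_lt_two S hS M x' hx' hreg
  obtain ⟨b, p, hp⟩ := Module.Finite.exists_fin' S M
  have hSE := LinearMap.shortExact_shortComplexKer hp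
  have hF : HasProjectiveDimensionLT (ModuleCat.of S (Fin b → S)) 1 :=
    projective_iff_hasProjectiveDimensionLT_one.1
      ((IsProjective.iff_projective (Fin b → S)).1 inferInstance)
  have hK : HasProjectiveDimensionLT (ModuleCat.of S (LinearMap.ker p)) 1 :=
    hSE.hasProjectiveDimensionLT_X₁ 1 hF hpd
  haveI : Module.Projective S (LinearMap.ker p) :=
    (IsProjective.iff_projective _).2 (projective_iff_hasProjectiveDimensionLT_one.2 hK)
  obtain ⟨h1, h2, h3⟩ := base_change_presentation (R := R) hπ' p hp
  refine ext_two_subsingleton (LinearMap.baseChange R (LinearMap.ker p).subtype)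
    (LinearMap.liftBaseChange R p) h1 h2 (fun φ => hom_eq_zero I J n hIJ
      (M' := LinearMap.ker (LinearMap.baseChange R (LinearMap.ker p).subtype)) ?_ hJ y hy hyN φ)
  intro i hi z
  obtain ⟨s, rfl⟩ := hπ i
  have hs : ∀ m : M, s • m = 0 := fun m => Module.mem_annihilator.1 (hI hi) m
  have h4 := h3 s hs z.1 z.2
  apply Subtype.ext
  show π s • (z : R ⊗[S] LinearMap.ker p) = 0
  rw [← h4]
  exact algebraMap_smul R s (z : R ⊗[S] LinearMap.ker p)

end Groth.Agent.H21.PC
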