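import Mathlib
import Groth.Agent.Lib.helper21.PC2
import Groth.Agent.Lib.helper21.TorLib

/-!
# Tor₁(M, N^*) = 0 on planar curve singularities.
-/

set_option autoImplicit false

namespace Groth.Agent.H21.PC

open CategoryTheory Abelian IsLocalRing LocCoh TensorProduct
open Groth.Agent.Lib.helper9.Depth
open Groth.Agent.Lib.helper6

universe u

section theta

variable {R : Type u} [CommRing R] {N : Type u} [AddCommGroup N] [Module R N]

/-- `P ⊗ N^* → Hom(N, P)`. -/
noncomputable def Θ (P : Type u) [AddCommGroup P] [Module R P] :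
    P ⊗[R] Module.Dual R N →ₗ[R] (N →ₗ[R] P) :=
  (dualTensorHom R N P) ∘ₗ (TensorProduct.comm R P (Module.Dual R N)).toLinearMap

lemma Θ_tmul {P : Type u} [AddCommGroup P] [Module R P] (p : P) (ξ : Module.Dual R N) (n : N) :
    Θ P (p ⊗ₜ ξ) n = ξ n • p := by
  simp [Θ]

lemma Θ_natural {P₁ P₀ : Type u} [AddCommGroup P₁] [Module R P₁] [AddCommGroup P₀] [Module R P₀]
    (β : P₁ →ₗ[R] P₀) (t : P₁ ⊗[R] Module.Dual R N) (n : N) :
    Θ P₀ (β.rTensor _ t) n = β (Θ P₁ t n) := by
  induction t using TensorProduct.induction_on with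
  | zero => simp
  | tmul p ξ => rw [LinearMap.rTensor_tmul, Θ_tmul, Θ_tmul, map_smul]
  | add a b ha hb => rw [map_add, map_add, LinearMap.add_apply, ha, hb, map_add,
      LinearMap.add_apply, map_add]

lemma Θ_injective_of_basis {P : Type u} [AddCommGroup P] [Module R P] {ι : Type*}
    (ℬ : Module.Basis ι R P) : Function.Injective (Θ (R := R) (N := N) P) := by
  classical
  rw [injective_iff_map_eq_zero]
  intro t ht
  have hc : ∀ (t : P ⊗[R] Module.Dual R N) (i : ι) (n : N),
      (TensorProduct.equivFinsuppOfBasisLeft ℬ t i) n = ℬ.repr (Θ P t n) i := by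
    intro t i n
    induction t using TensorProduct.induction_on with
    | zero => simp
    | tmul p ξ =>
      rw [TensorProduct.equivFinsuppOfBasisLeft_apply_tmul_apply, Θ_tmul, LinearMap.smul_apply,
        map_smul, Finsupp.smul_apply, smul_eq_mul, smul_eq_mul, mul_comm]
    | add a b ha hb =>
      rw [map_add, Finsupp.add_apply, LinearMap.add_apply, ha, hb, map_add, LinearMap.add_apply,
        map_add, Finsupp.add_apply]
  apply (TensorProduct.equivFinsuppOfBasisLeft ℬ).injective
  ext i n
  rw [hc, ht]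
  simp

theorem rTensor_injective {P₁ P₀ : Type u} [AddCommGroup P₁] [Module R P₁] [AddCommGroup P₀]
    [Module R P₀] {ι : Type*} (ℬ : Module.Basis ι R P₁) (β : P₁ →ₗ[R] P₀)
    (hhom : ∀ φ : N →ₗ[R] LinearMap.ker β, φ = 0) :
    Function.Injective (β.rTensor (Module.Dual R N)) := by
  rw [injective_iff_map_eq_zero]
  intro t ht
  apply Θ_injective_of_basis ℬ
  rw [map_zero]
  ext n
  have hk : ∀ n, Θ P₁ t n ∈ LinearMap.ker β := fun n => by
    rw [LinearMap.mem_ker, ← Θ_natural, ht, map_zero]
    rfl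
  have := hhom (LinearMap.codRestrict (LinearMap.ker β) (Θ P₁ t) hk)
  have h2 := congrArg Subtype.val (LinearMap.congr_fun this n)
  exact h2

end theta

section torA

variable {R : Type u} [CommRing R]

theorem tor_one_isZero {P₁ P₀ M X : Type u} [AddCommGroup P₁] [Module R P₁]
    [AddCommGroup P₀] [Module R P₀] [AddCommGroup M] [Module R M] [AddCommGroup X] [Module R X]
    [Module.Flat R P₀]
    (β : P₁ →ₗ[R] P₀) (γ : P₀ →ₗ[R] M) (hγ : Function.Surjective γ) (hex : Function.Exact β γ)
    (hinj : Function.Injective (β.rTensor X)) :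
    Limits.IsZero (Groth.Agent.H21.TorLib.T 1 (ModuleCat.of R M) (ModuleCat.of R X)) := by
  have hSE := LinearMap.shortExact_shortComplexKer hγ
  haveI : Module.Flat R (γ.shortComplexKer).X₂ := (inferInstance : Module.Flat R P₀)
  rw [Groth.Agent.H21.TorLib.isZero_iff_injective_rTensor _ hSE (ModuleCat.of R X)
    (Groth.Agent.H21.TorLib.isZero_of_flat_left _ _ 0)]
  show Function.Injective ((LinearMap.ker γ).subtype.rTensor X)
  let β' : P₁ →ₗ[R] LinearMap.ker γ := β.codRestrict (LinearMap.ker γ)
    (fun x => hex.apply_apply_eq_zero x)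
  have hβ' : Function.Surjective β' := by
    rintro ⟨z, hz⟩
    obtain ⟨x, hx⟩ := (hex z).1 hz
    exact ⟨x, Subtype.ext hx⟩
  have hcomp : (LinearMap.ker γ).subtype ∘ₗ β' = β := by
    ext x; rfl
  rw [injective_iff_map_eq_zero]
  intro t ht
  obtain ⟨t', rfl⟩ := LinearMap.rTensor_surjective X hβ' t
  have : β.rTensor X t' = 0 := by
    rw [← hcomp, LinearMap.rTensor_comp, LinearMap.comp_apply]
    exact ht
  rw [hinj (this.trans (map_zero _).symm), map_zero]

end torA

end Groth.Agent.H21.PC
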