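import Mathlib
import Groth.Agent.Lib.helper21.PC3

/-!
# Tor₁(M, N^*) = 0 on planar curve singularities: assembly.
-/

set_option autoImplicit false

namespace Groth.Agent.H21.PC

open CategoryTheory Abelian IsLocalRing LocCoh TensorProduct
open Groth.Agent.Lib.helper9.Depth
open Groth.Agent.Lib.helper6

universe u

theorem presentation (S : Type u) [CommRing S] [IsRegularLocalRing S] (hS : ringKrullDim S = 2)
    (R : Type u) [CommRing R] [IsLocalRing R] (π : S →+* R) (hπ : Function.Surjective π)
    (I : Ideal R) (M : Type u) [AddCommGroup M] [Module R M] [Module.Finite R M] [Nontrivial M]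
    (hI : I ≤ Module.annihilator R M) (x : R)
    (hx : x ∈ IsLocalRing.maximalIdeal R) (hxM : IsSMulRegular M x) :
    ∃ (P₁ P₀ : Type u) (_ : AddCommGroup P₁) (_ : Module R P₁) (_ : AddCommGroup P₀)
      (_ : Module R P₀) (_ : Module.Free R P₁) (_ : Module.Free R P₀)
      (β : P₁ →ₗ[R] P₀) (γ : P₀ →ₗ[R] M),
      Function.Surjective γ ∧ Function.Exact β γ ∧
        ∀ i ∈ I, ∀ z : LinearMap.ker β, i • z = 0 := by
  letI : Algebra S R := π.toAlgebra
  letI : Module S M := Module.compHom M π
  haveI : IsScalarTower S R M := ⟨fun s r m => by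
    show (π s * r) • m = π s • (r • m)
    rw [mul_smul]⟩
  have hπ' : Function.Surjective (algebraMap S R) := hπ
  haveI : Module.Finite S R := Module.Finite.of_surjective (Algebra.linearMap S R) hπ'
  haveI : Module.Finite S M := Module.Finite.trans R M
  obtain ⟨x', rfl⟩ := hπ x
  have hx' : x' ∈ maximalIdeal S := by
    rw [mem_maximalIdeal, mem_nonunits_iff]
    intro hu
    exact hx (hu.map π)
  have hreg : IsSMulRegular M x' := hxM
  have hpd := pd_lt_two S hS M x' hx' hreg
  obtain ⟨b, p, hp⟩ := Module.Finite.exists_fin' S M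
  have hSE := LinearMap.shortExact_shortComplexKer hp
  have hF : HasProjectiveDimensionLT (ModuleCat.of S (Fin b → S)) 1 :=
    projective_iff_hasProjectiveDimensionLT_one.1
      ((IsProjective.iff_projective (Fin b → S)).1 inferInstance)
  have hK : HasProjectiveDimensionLT (ModuleCat.of S (LinearMap.ker p)) 1 :=
    hSE.hasProjectiveDimensionLT_X₁ 1 hF hpd
  haveI : Module.Projective S (LinearMap.ker p) :=
    (IsProjective.iff_projective _).2 (projective_iff_hasProjectiveDimensionLT_one.2 hK)
  haveI : Module.Free S (LinearMap.ker p) := Module.free_of_flat_of_isLocalRing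
  obtain ⟨h1, h2, h3⟩ := base_change_presentation (R := R) hπ' p hp
  refine ⟨R ⊗[S] LinearMap.ker p, R ⊗[S] (Fin b → S), inferInstance, inferInstance,
    inferInstance, inferInstance, inferInstance, inferInstance,
    LinearMap.baseChange R (LinearMap.ker p).subtype, LinearMap.liftBaseChange R p, h1, h2, ?_⟩
  intro i hi z
  obtain ⟨s, rfl⟩ := hπ i
  have hs : ∀ m : M, s • m = 0 := fun m => Module.mem_annihilator.1 (hI hi) m
  have h4 := h3 s hs z.1 z.2
  apply Subtype.ext
  show π s • (z : R ⊗[S] LinearMap.ker p) = 0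
  rw [← h4]
  exact algebraMap_smul R s (z : R ⊗[S] LinearMap.ker p)

section reduced

variable {R : Type u} [CommRing R] [IsLocalRing R] [IsReduced R]

lemma eq_zero_of_pow_mul (hm : maximalIdeal R ≠ ⊥) (n : ℕ) (z : R)
    (hz : ∀ a ∈ maximalIdeal R ^ n, a * z = 0) : z = 0 := by
  by_cases hu : IsUnit z
  · exfalso
    apply hm
    rw [eq_bot_iff]
    intro w hw
    have h1 : w ^ n * z = 0 := hz _ (Ideal.pow_mem_pow hw n)
    have h2 : w ^ n = 0 := by
      obtain ⟨u, rfl⟩ := hu
      exact (Units.mul_left_eq_zero u).1 h1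
    exact (Submodule.mem_bot R).2 (IsNilpotent.eq_zero ⟨n, h2⟩)
  · have hzm : z ∈ maximalIdeal R := by
      rw [mem_maximalIdeal, mem_nonunits_iff]; exact hu
    have h1 : z ^ n * z = 0 := hz _ (Ideal.pow_mem_pow hzm n)
    exact IsNilpotent.eq_zero ⟨n + 1, by rw [pow_succ, h1]⟩

lemma eq_zero_of_pow_smul_free (hm : maximalIdeal R ≠ ⊥) (n : ℕ) {P : Type u} [AddCommGroup P]
    [Module R P] [Module.Free R P] (z : P) (hz : ∀ a ∈ maximalIdeal R ^ n, a • z = 0) : z = 0 := by
  let ℬ := Module.Free.chooseBasis R P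
  apply ℬ.repr.injective
  ext i
  rw [map_zero, Finsupp.zero_apply]
  apply eq_zero_of_pow_mul hm n
  intro a ha
  have := congrArg (fun w => ℬ.repr w i) (hz a ha)
  simpa using this

end reduced

theorem main_tor (S : Type u) [CommRing S] [IsRegularLocalRing S] (hS : ringKrullDim S = 2)
    (R : Type u) [CommRing R] [IsLocalRing R] [IsReduced R] (π : S →+* R)
    (hπ : Function.Surjective π)
    (I J : Ideal R) (n : ℕ) (hIJ : IsLocalRing.maximalIdeal R ^ n ≤ I ⊔ J) (M N : Type u)
    [AddCommGroup M] [Module R M] [Module.Finite R M] [AddCommGroup N] [Module R N]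
    (hI : I ≤ Module.annihilator R M) (hJ : J ≤ Module.annihilator R N) (x : R)
    (hx : x ∈ IsLocalRing.maximalIdeal R) (hxM : IsSMulRegular M x) :
    Limits.IsZero (((Tor (ModuleCat.{u} R) 1).obj (ModuleCat.of R M)).obj
      (ModuleCat.of R (Module.Dual R N))) := by
  rcases subsingleton_or_nontrivial M with hM | hM
  · haveI : Module.Flat R (ModuleCat.of R M) := (inferInstance : Module.Flat R M)
    exact Groth.Agent.H21.TorLib.isZero_of_flat_left _ _ 0
  by_cases hm : maximalIdeal R = ⊥
  · exfalso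
    rw [hm] at hx
    have hx0 : x = 0 := (Submodule.mem_bot R).1 hx
    rw [hx0] at hxM
    exact not_subsingleton M (IsSMulRegular.zero_iff_subsingleton.1 hxM)
  obtain ⟨P₁, P₀, _, _, _, _, _, _, β, γ, h1, h2, h3⟩ :=
    presentation S hS R π hπ I M hI x hx hxM
  refine tor_one_isZero β γ h1 h2 (rTensor_injective (Module.Free.chooseBasis R P₁) β ?_)
  intro φ
  ext n'
  show (φ n' : P₁) = 0
  apply eq_zero_of_pow_smul_free hm n
  intro a ha
  obtain ⟨i, hi, j, hj, rfl⟩ := Submodule.mem_sup.1 (hIJ ha)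
  have e1 : i • (φ n' : P₁) = 0 := congrArg Subtype.val (h3 i hi (φ n'))
  have e2 : j • (φ n' : P₁) = 0 := by
    have : j • n' = 0 := Module.mem_annihilator.1 (hJ hj) n'
    have h5 : j • φ n' = 0 := by rw [← map_smul, this, map_zero]
    exact congrArg Subtype.val h5
  show (i + j) • (φ n' : P₁) = 0
  rw [add_smul, e1, e2, add_zero]

end Groth.Agent.H21.PC
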