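import Mathlib
import Groth.Agent.Lib.helper21.PS1
import Groth.Agent.Lib.helper21.PS2

set_option autoImplicit false

namespace Groth.Agent.H21.PS

open CategoryTheory Opposite Limits AlgebraicGeometry TopologicalSpace
open Groth.Agent.H21.LC Groth.Agent.H21.AF

universe u

lemma res_bij_congr {T : Scheme.{u}} {W₁ W₂ : T.Opens} (e : W₁ = W₂) (h₁ : W₁ ≤ ⊤) (h₂ : W₂ ≤ ⊤) :
    Function.Bijective (T.presheaf.map (homOfLE h₁).op).hom ↔
      Function.Bijective (T.presheaf.map (homOfLE h₂).op).hom := by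
  subst e
  rfl

lemma appTop_bijective_of_res {P T : Scheme.{u}} (j : P ⟶ T) [IsOpenImmersion j] (W : T.Opens)
    (hW : j.opensRange = W)
    (h : Function.Bijective (T.presheaf.map (homOfLE (le_top : W ≤ ⊤)).op).hom) :
    Function.Bijective j.appTop.hom := by
  have key := j.app_appIso_inv ⊤
  have e : j ''ᵁ j ⁻¹ᵁ ⊤ = W := by
    rw [← hW, ← j.image_top_eq_opensRange]
    rfl
  have h' := (res_bij_congr e (le_top) (le_top)).2 h
  have h2 : j.app ⊤ = T.presheaf.map (homOfLE (le_top : j ''ᵁ j ⁻¹ᵁ ⊤ ≤ ⊤)).op ≫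
      (j.appIso (j ⁻¹ᵁ ⊤)).hom := by
    rw [← cancel_mono (j.appIso (j ⁻¹ᵁ ⊤)).inv, Category.assoc, Iso.hom_inv_id, Category.comp_id]
    exact key
  change Function.Bijective (j.app ⊤).hom
  rw [h2, CommRingCat.hom_comp, RingHom.coe_comp]
  exact (ConcreteCategory.bijective_of_isIso (j.appIso (j ⁻¹ᵁ ⊤)).hom).comp h'

lemma res_bij_of_iso {S T : Scheme.{u}} (ψ : S ⟶ T) [IsIso ψ] (W : T.Opens)
    (h : Function.Bijective (S.presheaf.map (homOfLE (le_top : ψ ⁻¹ᵁ W ≤ ⊤)).op).hom) :
    Function.Bijective (T.presheaf.map (homOfLE (le_top : W ≤ ⊤)).op).hom := by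
  have nat := ψ.naturality (homOfLE (le_top : W ≤ ⊤)).op
  have h2 : T.presheaf.map (homOfLE (le_top : W ≤ ⊤)).op =
      ψ.app ⊤ ≫ S.presheaf.map (homOfLE (le_top : ψ ⁻¹ᵁ W ≤ ⊤)).op ≫ inv (ψ.app W) := by
    rw [← Category.assoc, IsIso.eq_comp_inv]
    exact nat
  rw [h2, CommRingCat.hom_comp, CommRingCat.hom_comp, RingHom.coe_comp, RingHom.coe_comp]
  exact (ConcreteCategory.bijective_of_isIso (inv (ψ.app W))).comp
    (h.comp (ConcreteCategory.bijective_of_isIso (ψ.app ⊤)))

theorem fst_appTop_bijective (A : Type u) [CommRing A] [IsNoetherianRing A] [IsLocalRing A]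
    (hA : (2 : ℕ∞) ≤ LocCoh.depth A A) (U : (Spec (CommRingCat.of A)).Opens)
    (hU : ∀ x : PrimeSpectrum A, x ∈ (show Opens (PrimeSpectrum A) from U) ↔
      x ≠ IsLocalRing.closedPoint A)
    {T : Scheme.{u}} (g : T ⟶ Spec (CommRingCat.of A)) [IsFinite g] [Etale g] :
    Function.Bijective (pullback.fst g U.ι).appTop.hom := by
  haveI : IsAffine T := isAffine_of_isAffineHom g
  let R : CommRingCat.{u} := Γ(T, ⊤)
  let θ : CommRingCat.of A ⟶ R := (Scheme.ΓSpecIso (CommRingCat.of A)).inv ≫ g.appTop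
  have hbij : Function.Bijective (Scheme.ΓSpecIso (CommRingCat.of A)).inv.hom :=
    ConcreteCategory.bijective_of_isIso (Scheme.ΓSpecIso (CommRingCat.of A)).inv
  have hfin : θ.hom.Finite := by
    have h1 : g.appTop.hom.Finite :=
      ((HasAffineProperty.iff_of_isAffine (P := @IsFinite)).1 inferInstance).2
    exact h1.comp (RingHom.Finite.of_surjective _ hbij.2)
  have het : θ.hom.Etale := by
    have h1 : g.appTop.hom.Etale :=
      (HasRingHomProperty.iff_of_isAffine (P := @Etale)).1 inferInstance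
    exact RingHom.Etale.stableUnderComposition _ _ (RingHom.Etale.of_bijective hbij) h1
  letI : Algebra A R := θ.hom.toAlgebra
  haveI : Module.Finite A R := hfin
  haveI : Module.Flat A R := (RingHom.Etale.iff_flat_and_formallyUnramified.1 het).1
  haveI : IsNoetherianRing R := IsNoetherianRing.of_finite A R
  obtain ⟨hB0, hB1⟩ := closed_of_flat A hA R
  let J : Ideal R := (IsLocalRing.maximalIdeal A).map (algebraMap A R)
  let ψ : Spec R ⟶ T := T.isoSpec.inv
  let W : T.Opens := g ⁻¹ᵁ U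
  let W' : (Spec R).Opens := ψ ⁻¹ᵁ W
  have hψg : ψ ≫ g = Spec.map θ := by
    change T.isoSpec.inv ≫ g = _
    rw [← Scheme.isoSpec_inv_naturality, Scheme.isoSpec_Spec_inv, ← Spec.map_comp]
  have hW' : ∀ x : PrimeSpectrum R, x ∈ (show Opens (PrimeSpectrum R) from W') ↔
      ¬ J ≤ x.asIdeal := by
    intro x
    have h1 : x ∈ (show Opens (PrimeSpectrum R) from W') ↔
        (ψ ≫ g).base x ∈ (show Opens (PrimeSpectrum A) from U) := Iff.rfl
    refine h1.trans ((hU _).trans ?_)
    rw [hψg]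
    have h2 : (Spec.map θ).base x = PrimeSpectrum.comap θ.hom x := rfl
    rw [h2, not_iff_not]
    constructor
    · intro h
      have h3 : (PrimeSpectrum.comap θ.hom x).asIdeal = IsLocalRing.maximalIdeal A := by
        rw [h]; rfl
      rw [Ideal.map_le_iff_le_comap]
      exact h3.ge
    · intro h
      rw [Ideal.map_le_iff_le_comap] at h
      apply PrimeSpectrum.ext
      exact le_antisymm (IsLocalRing.le_maximalIdeal (PrimeSpectrum.comap θ.hom x).2.ne_top) h
  have h1 := resΓ_bijective R W' J hW' hB0 hB1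
  have h2 : Function.Bijective ((Spec R).presheaf.map (homOfLE (le_top : W' ≤ ⊤)).op).hom := by
    have e : ((Spec R).presheaf.map (homOfLE (le_top : W' ≤ ⊤)).op).hom =
        (resΓ R W').comp (Scheme.ΓSpecIso R).hom.hom := by
      ext x
      simp [resΓ]
    rw [e, RingHom.coe_comp]
    exact h1.comp (ConcreteCategory.bijective_of_isIso (Scheme.ΓSpecIso R).hom)
  have h3 := res_bij_of_iso ψ W h2
  exact appTop_bijective_of_res (pullback.fst g U.ι) W
    (by rw [Scheme.Hom.opensRange_pullbackFst, Scheme.Opens.opensRange_ι]) h3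

end Groth.Agent.H21.PS
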