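import Mathlib
import Groth.Agent.Lib.helper21.PS3

set_option autoImplicit false

namespace Groth.Agent.H21.PS

open CategoryTheory Opposite Limits AlgebraicGeometry TopologicalSpace

universe u

lemma faithful_core {S T T' : Scheme.{u}} (g : T ⟶ S) [IsAffine T'] (U : S.Opens)
    (hfst : Function.Bijective (pullback.fst g U.ι).appTop.hom) (a b : T ⟶ T')
    (h : pullback.fst g U.ι ≫ a = pullback.fst g U.ι ≫ b) : a = b := by
  apply ext_of_isAffine
  have h2 := congrArg Scheme.Hom.appTop h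
  rw [Scheme.Hom.comp_appTop, Scheme.Hom.comp_appTop] at h2
  apply CommRingCat.hom_ext
  apply RingHom.ext
  intro x
  apply hfst.1
  have := congrArg (fun k => k.hom x) h2
  simpa using this

lemma full_core {S T T' : Scheme.{u}} [IsAffine S] [IsAffine T] [IsAffine T'] (g : T ⟶ S)
    (g' : T' ⟶ S) (U : S.Opens)
    (hfst : Function.Bijective (pullback.fst g U.ι).appTop.hom)
    (h : pullback g U.ι ⟶ pullback g' U.ι)
    (hh : h ≫ pullback.snd g' U.ι = pullback.snd g U.ι) :
    ∃ a : T ⟶ T', a ≫ g' = g ∧ pullback.fst g U.ι ≫ a = h ≫ pullback.fst g' U.ι := by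
  haveI : IsIso (pullback.fst g U.ι).appTop :=
    (ConcreteCategory.isIso_iff_bijective _).2 hfst
  let ρ : Γ(T', ⊤) ⟶ Γ(T, ⊤) :=
    (pullback.fst g' U.ι).appTop ≫ h.appTop ≫ inv (pullback.fst g U.ι).appTop
  have hρ : ρ ≫ (pullback.fst g U.ι).appTop = (pullback.fst g' U.ι).appTop ≫ h.appTop := by
    simp [ρ]
  have hρ2 : g'.appTop ≫ ρ = g.appTop := by
    rw [← cancel_mono (pullback.fst g U.ι).appTop, Category.assoc, hρ, ← Category.assoc,
      ← Scheme.Hom.comp_appTop, ← Scheme.Hom.comp_appTop, ← Scheme.Hom.comp_appTop,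
      pullback.condition, ← Category.assoc, hh, pullback.condition]
  refine ⟨T.isoSpec.hom ≫ Spec.map ρ ≫ T'.isoSpec.inv, ?_, ?_⟩
  · rw [Category.assoc, Category.assoc, ← Scheme.isoSpec_inv_naturality, ← Spec.map_comp_assoc,
      hρ2, Scheme.isoSpec_inv_naturality, Iso.hom_inv_id_assoc]
  · rw [← cancel_mono T'.isoSpec.hom]
    simp only [Category.assoc, Iso.inv_hom_id, Category.comp_id]
    rw [Scheme.isoSpec_hom, Scheme.isoSpec_hom, Scheme.toSpecΓ_naturality_assoc,
      ← Spec.map_comp, hρ, Scheme.toSpecΓ_naturality, Scheme.toSpecΓ_naturality_assoc,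
      Spec.map_comp]

end Groth.Agent.H21.PS
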