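import Mathlib
import Groth.Agent.Lib.helper21.PS5

set_option autoImplicit false

namespace Groth.Agent.H21.PS

open CategoryTheory Opposite Limits AlgebraicGeometry TopologicalSpace

universe u

theorem local_ext {Y Y' S : Scheme.{u}} (g : Y ⟶ S) (g' : Y' ⟶ S) [IsAffineHom g'] (V : Y.Opens)
    (hbij : ∀ O : Y.Opens, Function.Bijective (Y.homOfLE (inf_le_left : O ⊓ V ≤ O)).appTop.hom)
    (φ : V.toScheme ⟶ Y') (hφ : φ ≫ g' = V.ι ≫ g) (W : S.Opens) (hW : IsAffineOpen W) :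
    ∃ gl : (g ⁻¹ᵁ W).toScheme ⟶ Y', gl ≫ g' = (g ⁻¹ᵁ W).ι ≫ g ∧
      (∀ {Z : Scheme.{u}} (s : Z ⟶ (g ⁻¹ᵁ W).toScheme) (t : Z ⟶ V.toScheme),
        s ≫ (g ⁻¹ᵁ W).ι = t ≫ V.ι → s ≫ gl = t ≫ φ) ∧
      (∀ gl₂ : (g ⁻¹ᵁ W).toScheme ⟶ Y', gl₂ ≫ g' = (g ⁻¹ᵁ W).ι ≫ g →
        Y.homOfLE (inf_le_left : g ⁻¹ᵁ W ⊓ V ≤ g ⁻¹ᵁ W) ≫ gl₂ =
          Y.homOfLE (inf_le_right : g ⁻¹ᵁ W ⊓ V ≤ V) ≫ φ → gl₂ = gl) := by
  haveI : IsAffine (g' ⁻¹ᵁ W).toScheme := IsAffineHom.isAffine_preimage W hW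
  haveI : IsAffine W.toScheme := hW
  have hinj := (hbij (g ⁻¹ᵁ W)).1
  have hrange : Set.range (Y.homOfLE (inf_le_right : g ⁻¹ᵁ W ⊓ V ≤ V) ≫ φ).base ⊆
      Set.range (g' ⁻¹ᵁ W).ι.base := by
    rw [Scheme.Opens.range_ι]
    rintro _ ⟨x, rfl⟩
    change g'.base ((Y.homOfLE (inf_le_right : g ⁻¹ᵁ W ⊓ V ≤ V) ≫ φ).base x) ∈ W
    have e : (Y.homOfLE (inf_le_right : g ⁻¹ᵁ W ⊓ V ≤ V) ≫ φ) ≫ g' = (g ⁻¹ᵁ W ⊓ V).ι ≫ g := by
      rw [Category.assoc, hφ, ← Category.assoc, Scheme.homOfLE_ι]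
    have e2 : g'.base ((Y.homOfLE (inf_le_right : g ⁻¹ᵁ W ⊓ V ≤ V) ≫ φ).base x) =
        g.base ((g ⁻¹ᵁ W ⊓ V).ι.base x) := by
      have := congrArg (fun f => f.base x) e
      simpa using this
    rw [e2]
    exact x.2.1
  let ψ : (g ⁻¹ᵁ W ⊓ V).toScheme ⟶ (g' ⁻¹ᵁ W).toScheme :=
    IsOpenImmersion.lift (g' ⁻¹ᵁ W).ι (Y.homOfLE (inf_le_right : g ⁻¹ᵁ W ⊓ V ≤ V) ≫ φ) hrange
  have hψ : ψ ≫ (g' ⁻¹ᵁ W).ι = Y.homOfLE (inf_le_right : g ⁻¹ᵁ W ⊓ V ≤ V) ≫ φ :=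
    IsOpenImmersion.lift_fac _ _ _
  obtain ⟨a, ha⟩ := full_core' (Y.homOfLE (inf_le_left : g ⁻¹ᵁ W ⊓ V ≤ g ⁻¹ᵁ W))
    (hbij (g ⁻¹ᵁ W)) ψ
  have hover : a ≫ (g' ∣_ W) = g ∣_ W := by
    apply faithful_core' _ hinj
    rw [← cancel_mono W.ι]
    simp only [Category.assoc, morphismRestrict_ι]
    rw [← Category.assoc _ a, ha, ← Category.assoc ψ, hψ, Category.assoc, hφ,
      ← Category.assoc, ← Category.assoc, Scheme.homOfLE_ι, Scheme.homOfLE_ι]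
  refine ⟨a ≫ (g' ⁻¹ᵁ W).ι, ?_, ?_, ?_⟩
  · rw [Category.assoc, ← morphismRestrict_ι, ← Category.assoc, hover, morphismRestrict_ι]
  · intro Z s t hst
    have hr : Set.range (s ≫ (g ⁻¹ᵁ W).ι).base ⊆ Set.range (g ⁻¹ᵁ W ⊓ V).ι.base := by
      rw [Scheme.Opens.range_ι]
      rintro _ ⟨z, rfl⟩
      refine ⟨?_, ?_⟩
      · exact (s.base z).2
      · rw [hst]
        exact (t.base z).2
    let q := IsOpenImmersion.lift (g ⁻¹ᵁ W ⊓ V).ι (s ≫ (g ⁻¹ᵁ W).ι) hr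
    have hq : q ≫ (g ⁻¹ᵁ W ⊓ V).ι = s ≫ (g ⁻¹ᵁ W).ι := IsOpenImmersion.lift_fac _ _ _
    have hqj : q ≫ Y.homOfLE (inf_le_left : g ⁻¹ᵁ W ⊓ V ≤ g ⁻¹ᵁ W) = s := by
      rw [← cancel_mono (g ⁻¹ᵁ W).ι, Category.assoc, Scheme.homOfLE_ι, hq]
    have hqk : q ≫ Y.homOfLE (inf_le_right : g ⁻¹ᵁ W ⊓ V ≤ V) = t := by
      rw [← cancel_mono V.ι, Category.assoc, Scheme.homOfLE_ι, hq, hst]
    rw [← hqj, ← hqk, Category.assoc, Category.assoc, ← Category.assoc _ a, ha, hψ]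
  · intro gl₂ h1 h2
    have hr : Set.range gl₂.base ⊆ Set.range (g' ⁻¹ᵁ W).ι.base := by
      rw [Scheme.Opens.range_ι]
      rintro _ ⟨x, rfl⟩
      change g'.base (gl₂.base x) ∈ W
      have e : g'.base (gl₂.base x) = g.base ((g ⁻¹ᵁ W).ι.base x) := by
        have := congrArg (fun f => f.base x) h1
        simpa using this
      rw [e]
      exact x.2
    let a₂ := IsOpenImmersion.lift (g' ⁻¹ᵁ W).ι gl₂ hr
    have ha₂ : a₂ ≫ (g' ⁻¹ᵁ W).ι = gl₂ := IsOpenImmersion.lift_fac _ _ _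
    have : a₂ = a := by
      apply faithful_core' _ hinj
      rw [ha, ← cancel_mono (g' ⁻¹ᵁ W).ι, Category.assoc, ha₂, hψ]
      exact h2
    rw [← ha₂, this]

theorem glue_core {Y Y' S : Scheme.{u}} (g : Y ⟶ S) (g' : Y' ⟶ S) (V : Y.Opens)
    (φ : V.toScheme ⟶ Y') (𝒰 : Y.OpenCover) [Category 𝒰.I₀] [𝒰.LocallyDirected]
    (O : 𝒰.I₀ → Y.Opens) (iso : ∀ W, 𝒰.X W ≅ (O W).toScheme)
    (hfW : ∀ W, 𝒰.f W = (iso W).hom ≫ (O W).ι)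
    (hmono : ∀ {W₁ W₂ : 𝒰.I₀} (_ : W₁ ⟶ W₂), O W₁ ≤ O W₂)
    (hloc : ∀ W, ∃ gl : (O W).toScheme ⟶ Y', gl ≫ g' = (O W).ι ≫ g ∧
      (∀ {Z : Scheme.{u}} (s : Z ⟶ (O W).toScheme) (t : Z ⟶ V.toScheme),
        s ≫ (O W).ι = t ≫ V.ι → s ≫ gl = t ≫ φ) ∧
      (∀ gl₂ : (O W).toScheme ⟶ Y', gl₂ ≫ g' = (O W).ι ≫ g →
        Y.homOfLE (inf_le_left : O W ⊓ V ≤ O W) ≫ gl₂ =
          Y.homOfLE (inf_le_right : O W ⊓ V ≤ V) ≫ φ → gl₂ = gl)) :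
    ∃! a : Y ⟶ Y', a ≫ g' = g ∧ V.ι ≫ a = φ := by
  classical
  choose gl hgl1 hgl2 hgl3 using hloc
  let G : ∀ W : 𝒰.I₀, 𝒰.X W ⟶ Y' := fun W => (iso W).hom ≫ gl W
  have compat : ∀ {W₁ W₂ : 𝒰.I₀} (hij : W₁ ⟶ W₂), 𝒰.trans hij ≫ G W₂ = G W₁ := by
    intro W₁ W₂ hij
    have hle' : O W₁ ≤ O W₂ := hmono hij
    have key : 𝒰.trans hij ≫ (iso W₂).hom = (iso W₁).hom ≫ Y.homOfLE hle' := by
      rw [← cancel_mono (O W₂).ι, Category.assoc, Category.assoc, Scheme.homOfLE_ι,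
        ← hfW W₂, ← hfW W₁]
      exact 𝒰.trans_map hij
    have h3 : Y.homOfLE hle' ≫ gl W₂ = gl W₁ := by
      apply hgl3 W₁
      · rw [Category.assoc, hgl1 W₂, ← Category.assoc, Scheme.homOfLE_ι]
      · rw [← Category.assoc]
        apply hgl2 W₂
        simp
    change 𝒰.trans hij ≫ (iso W₂).hom ≫ gl W₂ = (iso W₁).hom ≫ gl W₁
    rw [← Category.assoc, key, Category.assoc, h3]
  let a := 𝒰.glueMorphismsOfLocallyDirected G compat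
  have ha : ∀ W, 𝒰.f W ≫ a = (iso W).hom ≫ gl W :=
    𝒰.map_glueMorphismsOfLocallyDirected G compat
  refine ⟨a, ⟨?_, ?_⟩, ?_⟩
  · apply 𝒰.hom_ext
    intro W
    rw [← Category.assoc, ha W, Category.assoc, hgl1 W, hfW W, Category.assoc]
  · apply (𝒰.pullback₁ V.ι).hom_ext
    intro W
    change pullback.fst V.ι (𝒰.f W) ≫ V.ι ≫ a = pullback.fst V.ι (𝒰.f W) ≫ φ
    rw [← Category.assoc, pullback.condition, Category.assoc, ha W, ← Category.assoc]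
    apply hgl2 W
    rw [Category.assoc, ← hfW W, pullback.condition]
  · rintro a₂ ⟨h1, h2⟩
    apply 𝒰.hom_ext
    intro W
    rw [ha W, hfW W, Category.assoc]
    congr 1
    apply hgl3 W
    · rw [Category.assoc, h1]
    · rw [← Category.assoc, Scheme.homOfLE_ι, ← h2, ← Category.assoc, Scheme.homOfLE_ι]

theorem global_ext {Y Y' S : Scheme.{u}} (g : Y ⟶ S) (g' : Y' ⟶ S) [IsAffineHom g'] (V : Y.Opens)
    (hbij : ∀ O : Y.Opens, Function.Bijective (Y.homOfLE (inf_le_left : O ⊓ V ≤ O)).appTop.hom)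
    (φ : V.toScheme ⟶ Y') (hφ : φ ≫ g' = V.ι ≫ g) :
    ∃! a : Y ⟶ Y', a ≫ g' = g ∧ V.ι ≫ a = φ := by
  refine glue_core g g' V φ (S.directedAffineCover.pullback₁ g)
    (fun W => g ⁻¹ᵁ (show S.affineOpens from W).1)
    (fun W => pullbackRestrictIsoRestrict g (show S.affineOpens from W).1)
    (fun W => (pullbackRestrictIsoRestrict_hom_ι g (show S.affineOpens from W).1).symm)
    ?_ ?_
  · intro W₁ W₂ hij x hx
    have hle : (show S.affineOpens from W₁).1 ≤ (show S.affineOpens from W₂).1 := leOfHom hij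
    exact hle hx
  · intro W
    exact local_ext g g' V hbij φ hφ (show S.affineOpens from W).1 (show S.affineOpens from W).2

end Groth.Agent.H21.PS
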