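import Mathlib

/-!
# Linear forms as polynomials, forms vanishing at finitely many points
-/

set_option autoImplicit false
universe u

namespace Groth.Agent.H21

open MvPolynomial

section
variable {k : Type u} [Field k] {σ : Type} [Fintype σ] [DecidableEq σ]

/-- the linear form attached to a functional -/
noncomputable def linForm (φ : (σ → k) →ₗ[k] k) : MvPolynomial σ k :=
  ∑ i, C (φ (Pi.single i 1)) * X i

theorem linForm_isHomogeneous (φ : (σ → k) →ₗ[k] k) : (linForm φ).IsHomogeneous 1 := by
  refine IsHomogeneous.sum _ _ _ ?_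
  intro i _
  have := (isHomogeneous_C σ (φ (Pi.single i 1))).mul (isHomogeneous_X k i)
  simpa using this

theorem aeval_linForm (φ : (σ → k) →ₗ[k] k) (u : σ → k) : aeval u (linForm φ) = φ u := by
  rw [LinearMap.pi_apply_eq_sum_univ φ u, linForm, map_sum]
  refine Finset.sum_congr rfl ?_
  intro i _
  rw [map_mul, aeval_C, aeval_X, Algebra.algebraMap_self_apply, smul_eq_mul, mul_comm]
  congr 2
  ext j
  simp [Pi.single_apply, eq_comm]

theorem exists_linForm_of_notMem (p : Submodule k (σ → k)) (v : σ → k) (hv : v ∉ p) :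
    ∃ ℓ : MvPolynomial σ k, ℓ.IsHomogeneous 1 ∧ (∀ w ∈ p, aeval w ℓ = 0) ∧ aeval v ℓ ≠ 0 := by
  obtain ⟨f, hfv, hpf⟩ := Submodule.exists_le_ker_of_notMem hv
  refine ⟨linForm f, linForm_isHomogeneous f, ?_, ?_⟩
  · intro w hw
    rw [aeval_linForm]
    exact hpf hw
  · rw [aeval_linForm]
    exact hfv

end

end Groth.Agent.H21
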