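import Mathlib

/-!
# Generic lemmas for Rees-type module maps (S8833)
-/

set_option autoImplicit false

namespace Groth.Agent.H21.RG

universe u v w

open scoped TensorProduct

/-- Artin–Rees consequence: `J`-power torsion meets `J^m N` trivially for `m ≫ 0`. -/
lemma ar_torsion (B : Type u) [CommRing B] [IsNoetherianRing B] (N : Type v) [AddCommGroup N]
    [Module B N] [Module.Finite B N] (J : Ideal B) :
    ∃ m : ℕ, ∀ y ∈ (J ^ m • ⊤ : Submodule B N), (∃ t : ℕ, ∀ b ∈ J ^ t, b • y = 0) → y = 0 := by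
  let N' : Submodule B N :=
    { carrier := {y | ∃ t : ℕ, ∀ b ∈ J ^ t, b • y = 0}
      add_mem' := by
        rintro y z ⟨t, ht⟩ ⟨s, hs⟩
        refine ⟨max t s, fun b hb => ?_⟩
        rw [smul_add, ht b (Ideal.pow_le_pow_right (le_max_left _ _) hb),
          hs b (Ideal.pow_le_pow_right (le_max_right _ _) hb), add_zero]
      zero_mem' := ⟨0, fun b _ => smul_zero b⟩
      smul_mem' := by
        rintro a y ⟨t, ht⟩
        exact ⟨t, fun b hb => by rw [smul_comm, ht b hb, smul_zero]⟩ }
  have hfg : N'.FG := IsNoetherian.noetherian N'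
  obtain ⟨t0, ht0⟩ : ∃ t0 : ℕ, ∀ y ∈ N', ∀ b ∈ J ^ t0, b • y = 0 := by
    classical
    obtain ⟨s, hs⟩ := hfg
    have hmem : ∀ y ∈ s, ∃ t : ℕ, ∀ b ∈ J ^ t, b • y = 0 := fun y hy =>
      (hs ▸ Submodule.subset_span hy : y ∈ N')
    choose! tt htt using hmem
    refine ⟨s.sup tt, fun y hy b hb => ?_⟩
    rw [← hs] at hy
    induction hy using Submodule.span_induction with
    | mem x hx => exact htt x hx b (Ideal.pow_le_pow_right (Finset.le_sup hx) hb)
    | zero => simp
    | add x y _ _ hx hy => rw [smul_add, hx, hy, add_zero]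
    | smul a x _ hx => rw [smul_comm, hx, smul_zero]
  obtain ⟨k, hk⟩ := Ideal.exists_pow_inf_eq_pow_smul J N'
  refine ⟨t0 + k, fun y hy htor => ?_⟩
  have h1 : y ∈ (J ^ (t0 + k) • ⊤ ⊓ N' : Submodule B N) := ⟨hy, htor⟩
  rw [hk _ (Nat.le_add_left k _), Nat.add_sub_cancel] at h1
  have hle : (J ^ t0 • (J ^ k • ⊤ ⊓ N') : Submodule B N) ≤ ⊥ := by
    rw [Submodule.smul_le]
    intro b hb z hz
    rw [Submodule.mem_bot]
    exact ht0 z hz.2 b hb
  exact (Submodule.mem_bot B).1 (hle h1)

/-- lifting a map defined on generators of a span, given well-definedness -/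
lemma exists_lift {B : Type u} [CommRing B] {N : Type v} {P : Type w} [AddCommGroup N] [Module B N]
    [AddCommGroup P] [Module B P] {ι : Type*} (v : ι → N) (w : ι → P)
    (h : ∀ l : ι →₀ B, Finsupp.linearCombination B v l = 0 → Finsupp.linearCombination B w l = 0)
    (S : Set N) (hS : S = Set.range v) :
    ∃ Ψ : ↥(Submodule.span B S) →ₗ[B] P,
      ∀ (i : ι) (hi : v i ∈ Submodule.span B S), Ψ ⟨v i, hi⟩ = w i := by
  subst hS
  let π := Finsupp.linearCombination B v
  let Θ := Finsupp.linearCombination B w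
  have hker : LinearMap.ker π ≤ LinearMap.ker Θ := fun l hl => h l hl
  have hrange : LinearMap.range π = Submodule.span B (Set.range v) :=
    Finsupp.range_linearCombination B
  let e : ↥(Submodule.span B (Set.range v)) ≃ₗ[B] ↥(LinearMap.range π) :=
    LinearEquiv.ofEq _ _ hrange.symm
  refine ⟨((LinearMap.ker π).liftQ Θ hker) ∘ₗ
    (π.quotKerEquivRange.symm : ↥(LinearMap.range π) →ₗ[B] _) ∘ₗ (e : _ →ₗ[B] _), fun i hi => ?_⟩
  have he : e ⟨v i, hi⟩ = ⟨π (Finsupp.single i 1), ⟨_, rfl⟩⟩ := by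
    apply Subtype.ext
    simp [π, e]
  simp only [LinearMap.comp_apply, LinearEquiv.coe_coe]
  rw [he, LinearMap.quotKerEquivRange_symm_apply_image]
  simp [Θ]

/-- an element of `B[T] ⊗ N` all of whose coefficients vanish is zero;
stated for linear combinations of pure tensors -/
lemma sum_tmul_eq_zero {B : Type u} [CommRing B] {N : Type v} [AddCommGroup N] [Module B N]
    {σ : Type*} {ι : Type*} (s : Finset ι) (b : ι → B) (q : ι → MvPolynomial σ B) (x : ι → N)
    (h : ∀ d : σ →₀ ℕ, ∑ i ∈ s, b i • (MvPolynomial.coeff d (q i) • x i) = 0) :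
    ∑ i ∈ s, b i • (q i ⊗ₜ[B] x i) = 0 := by
  classical
  apply (TensorProduct.equivFinsuppOfBasisLeft (MvPolynomial.basisMonomials σ B)).injective
  rw [map_zero]
  ext d
  rw [map_sum, Finsupp.finsetSum_apply, Finsupp.zero_apply, ← h d]
  refine Finset.sum_congr rfl (fun i _ => ?_)
  rw [map_smul, Finsupp.smul_apply, TensorProduct.equivFinsuppOfBasisLeft_apply_tmul_apply]
  rfl

/-- the key well-definedness statement -/
lemma wd {A : Type u} [CommRing A] {B : Type u} [CommRing B] [Algebra A B] {N : Type v}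
    [AddCommGroup N] [Module B N] (I : Ideal A) (t m : ℕ) (lam : A → A)
    (ha : ∀ a : A, ∀ g ∈ I ^ t, lam (a * g) = a * lam g)
    (hb : ∀ g ∈ I ^ t, lam g ∈ I ^ m)
    (hAR : ∀ y ∈ ((I.map (algebraMap A B)) ^ m • ⊤ : Submodule B N),
      (∃ t : ℕ, ∀ b ∈ (I.map (algebraMap A B)) ^ t, b • y = 0) → y = 0)
    {ι : Type*} (s : Finset ι) (b : ι → B) (g : ι → A) (hg : ∀ i, g i ∈ I ^ t) (x : ι → N)
    (h0 : ∑ i ∈ s, b i • (algebraMap A B (g i) • x i) = 0) :
    ∑ i ∈ s, b i • (algebraMap A B (lam (g i)) • x i) = 0 := by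
  apply hAR
  · refine Submodule.sum_mem _ (fun i _ => Submodule.smul_mem _ _ ?_)
    refine Submodule.smul_mem_smul ?_ Submodule.mem_top
    rw [← Ideal.map_pow]
    exact Ideal.mem_map_of_mem _ (hb _ (hg i))
  · refine ⟨t, fun c hc => ?_⟩
    rw [← Ideal.map_pow] at hc
    induction hc using Submodule.span_induction with
    | mem c hc =>
      obtain ⟨h, hh, rfl⟩ := hc
      have key : ∀ i ∈ s, algebraMap A B h • (b i • (algebraMap A B (lam (g i)) • x i)) =
          algebraMap A B (lam h) • (b i • (algebraMap A B (g i) • x i)) := by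
        intro i _
        have e : h * lam (g i) = lam h * g i := by
          rw [← ha h (g i) (hg i), mul_comm h (g i), ha (g i) h hh, mul_comm]
        calc algebraMap A B h • (b i • (algebraMap A B (lam (g i)) • x i))
            = b i • ((algebraMap A B (h * lam (g i))) • x i) := by
              rw [smul_comm, map_mul, mul_smul]
          _ = b i • ((algebraMap A B (lam h * g i)) • x i) := by rw [e]
          _ = algebraMap A B (lam h) • (b i • (algebraMap A B (g i) • x i)) := by
              rw [map_mul, mul_smul, smul_comm]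
      rw [Finset.smul_sum, Finset.sum_congr rfl key, ← Finset.smul_sum, h0, smul_zero]
    | zero => rw [zero_smul]
    | add c c' _ _ hc hc' => rw [add_smul, hc, hc', add_zero]
    | smul a c _ hc => rw [smul_eq_mul, mul_smul, hc, smul_zero]

end Groth.Agent.H21.RG
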