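import Groth.Prelude.Def_Formal2
import Groth.Prelude.Def_Formal

set_option autoImplicit false
open CategoryTheory CategoryTheory.Limits AlgebraicGeometry Opposite TopologicalSpace

namespace Groth.Agent.H21.SM
universe u
variable {X : Scheme.{u}}

lemma smulModΓ_mul (M : X.Modules) (r s : Coh.Γtop X) :
    Formal.smulModΓ M (r * s) = Formal.smulModΓ M s ≫ Formal.smulModΓ M r := by
  apply SheafOfModules.hom_ext
  apply PresheafOfModules.hom_ext
  intro U
  ext m
  show Coh.resTop X U (r * s) • m = Coh.resTop X U r • (Coh.resTop X U s • m)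
  rw [map_mul, mul_smul]

lemma smulModΓ_naturality {M N : X.Modules} (φ : M ⟶ N) (r : Coh.Γtop X) :
    φ ≫ Formal.smulModΓ N r = Formal.smulModΓ M r ≫ φ := by
  apply SheafOfModules.hom_ext
  apply PresheafOfModules.hom_ext
  intro U
  ext m
  show Coh.resTop X U r • (φ.val.app U m) = φ.val.app U (Coh.resTop X U r • m)
  exact ((φ.val.app U).hom.map_smul _ _).symm

variable (A : Type u) [CommRing A] [X.Over (Spec (CommRingCat.of A))]

lemma smulMod_mul (M : X.Modules) (a b : A) :
    Formal.smulMod A M (a * b) = Formal.smulMod A M b ≫ Formal.smulMod A M a := by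
  unfold Formal.smulMod
  rw [map_mul, smulModΓ_mul]

lemma smulMod_naturality {M N : X.Modules} (φ : M ⟶ N) (a : A) :
    φ ≫ Formal.smulMod A N a = Formal.smulMod A M a ≫ φ :=
  smulModΓ_naturality φ _

lemma mono_smulMod_pow (M : X.Modules) (a : A) (h : Mono (Formal.smulMod A M a)) (n : ℕ) :
    Mono (Formal.smulMod A M (a ^ (n + 1))) := by
  induction n with
  | zero => rwa [zero_add, pow_one]
  | succ k ih =>
    rw [pow_succ, smulMod_mul]
    exact mono_comp _ _

/-- `M / J M ≅ coker (a : M → M)` when `J = (a)`. -/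
noncomputable def cokerIso (M : X.Modules) (J : Ideal A) (a : A) (hJ : J = Ideal.span {a}) :
    cokernel (Formal.smulFamily J M) ≅ cokernel (Formal.smulMod A M a) where
  hom := cokernel.desc _ (cokernel.π _) (by
    apply Sigma.hom_ext
    intro b
    obtain ⟨c, hc⟩ := Ideal.mem_span_singleton'.mp (hJ ▸ b.2 : (b : A) ∈ Ideal.span {a})
    have e : Sigma.ι (fun _ : J => M) b ≫ Formal.smulFamily J M = Formal.smulMod A M (b : A) := by
      simp [Formal.smulFamily]
    rw [comp_zero, ← Category.assoc, e, ← hc, mul_comm, smulMod_mul, Category.assoc, cokernel.condition,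
      comp_zero])
  inv := cokernel.desc _ (cokernel.π _) (by
    have ha : a ∈ J := hJ ▸ Ideal.subset_span rfl
    have e : Sigma.ι (fun _ : J => M) ⟨a, ha⟩ ≫ Formal.smulFamily J M = Formal.smulMod A M a := by
      simp [Formal.smulFamily]
    rw [← e, Category.assoc, cokernel.condition, comp_zero])
  hom_inv_id := by
    apply coequalizer.hom_ext
    simp
  inv_hom_id := by
    apply coequalizer.hom_ext
    simp

@[reassoc (attr := simp)]
lemma π_cokerIso_hom (M : X.Modules) (J : Ideal A) (a : A) (hJ : J = Ideal.span {a}) :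
    cokernel.π (Formal.smulFamily J M) ≫ (cokerIso A M J a hJ).hom = cokernel.π _ := by
  simp [cokerIso]

@[reassoc (attr := simp)]
lemma π_cokerIso_inv (M : X.Modules) (J : Ideal A) (a : A) (hJ : J = Ideal.span {a}) :
    cokernel.π (Formal.smulMod A M a) ≫ (cokerIso A M J a hJ).inv = cokernel.π _ := by
  simp [cokerIso]

end Groth.Agent.H21.SM
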