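import Groth.Agent.Lib.helper21.SM2
import Mathlib.CategoryTheory.Abelian.DiagramLemmas.KernelCokernelComp

set_option autoImplicit false
open CategoryTheory CategoryTheory.Limits AlgebraicGeometry Opposite TopologicalSpace

namespace Groth.Agent.H21.SM
universe u

section abstract
variable {C : Type*} [Category C] [Abelian C] {F : C} (φ ψ : F ⟶ F)

/-- `coker φ → coker (φ ≫ ψ)` induced by `ψ`. -/
noncomputable def mapA : cokernel φ ⟶ cokernel (φ ≫ ψ) :=
  cokernel.map φ (φ ≫ ψ) (𝟙 _) ψ (by simp)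

/-- `coker (φ ≫ ψ) → coker ψ` induced by the identity. -/
noncomputable def mapB : cokernel (φ ≫ ψ) ⟶ cokernel ψ :=
  cokernel.map (φ ≫ ψ) ψ φ (𝟙 _) (by simp)

@[reassoc (attr := simp)]
lemma π_mapA : cokernel.π φ ≫ mapA φ ψ = ψ ≫ cokernel.π (φ ≫ ψ) := by simp [mapA]

@[reassoc (attr := simp)]
lemma π_mapB : cokernel.π (φ ≫ ψ) ≫ mapB φ ψ = cokernel.π ψ := by simp [mapB]

lemma mapA_mapB : mapA φ ψ ≫ mapB φ ψ = 0 :=
  (kernelCokernelCompSequence.snakeInput φ ψ).L₃.zero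

lemma shortExact_AB [Mono ψ] : (ShortComplex.mk _ _ (mapA_mapB φ ψ)).ShortExact := by
  have hδ : (kernelCokernelCompSequence.snakeInput φ ψ).δ = 0 := by
    show kernelCokernelCompSequence.δ φ ψ = 0
    rw [kernelCokernelCompSequence.δ_fac, kernel.ι_of_mono, zero_comp, neg_zero]
  have hmono : Mono (mapA φ ψ) :=
    (kernelCokernelCompSequence.snakeInput φ ψ).L₂'_exact.mono_g hδ
  have hepi : Epi (mapB φ ψ) := epi_of_epi_fac (π_mapB φ ψ)
  exact ShortComplex.ShortExact.mk' (kernelCokernelCompSequence.snakeInput φ ψ).L₃_exact hmono hepi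

end abstract

theorem main (A : Type u) [CommRing A] (X : Scheme.{u}) [X.Over (Spec (CommRingCat.of A))] (f : A)
    (F : X.Modules) (hF : Mono (Formal.smulMod A F f)) (n : ℕ) (hn : 1 ≤ n) :
    ∃ i : Formal.modPow (Ideal.span ({f} : Set A)) 1 F ⟶
        Formal.modPow (Ideal.span ({f} : Set A)) (n + 1) F,
      Mono i ∧ Formal2.modPowLE (Ideal.span ({f} : Set A)) (Nat.le_add_left 1 n) F ≫ i =
        Formal.smulMod A (Formal.modPow (Ideal.span ({f} : Set A)) (n + 1) F) (f ^ n) ∧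
      ∃ w : i ≫ Formal.modPowTrans (Ideal.span ({f} : Set A)) n F = 0,
        (ShortComplex.mk i (Formal.modPowTrans (Ideal.span ({f} : Set A)) n F) w).ShortExact := by
  set I := Ideal.span ({f} : Set A) with hI
  let φ := Formal.smulMod A F f
  let ψ := Formal.smulMod A F (f ^ n)
  haveI hψ : Mono ψ := by
    obtain ⟨k, rfl⟩ : ∃ k, n = k + 1 := ⟨n - 1, by omega⟩
    exact mono_smulMod_pow A F f hF k
  have hφψ : φ ≫ ψ = Formal.smulMod A F (f ^ (n + 1)) := by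
    rw [pow_succ, smulMod_mul]
  have hSE := shortExact_AB φ ψ
  haveI : Mono (mapA φ ψ) := hSE.mono_f
  let e1 : Formal.modPow I 1 F ≅ cokernel φ := cokerIso A F (I ^ 1) f (pow_one _)
  let e2 : Formal.modPow I (n + 1) F ≅ cokernel (φ ≫ ψ) :=
    cokerIso A F (I ^ (n + 1)) (f ^ (n + 1)) (Ideal.span_singleton_pow f (n + 1)) ≪≫
      cokernelIsoOfEq hφψ.symm
  let e3 : Formal.modPow I n F ≅ cokernel ψ :=
    cokerIso A F (I ^ n) (f ^ n) (Ideal.span_singleton_pow f n)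
  have hπ1 : Formal.modPowπ I 1 F ≫ e1.hom = cokernel.π φ := π_cokerIso_hom A F _ _ _
  have hπ2 : Formal.modPowπ I (n + 1) F ≫ e2.hom = cokernel.π (φ ≫ ψ) := by
    show cokernel.π _ ≫ (cokerIso A F (I ^ (n + 1)) (f ^ (n + 1)) _).hom ≫
      (cokernelIsoOfEq hφψ.symm).hom = _
    rw [π_cokerIso_hom_assoc, π_comp_cokernelIsoOfEq_hom]
  have hπ2' : cokernel.π (φ ≫ ψ) ≫ e2.inv = Formal.modPowπ I (n + 1) F := by
    rw [← hπ2, Category.assoc, Iso.hom_inv_id, Category.comp_id]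
  have hπ3 : Formal.modPowπ I n F ≫ e3.hom = cokernel.π ψ := π_cokerIso_hom A F _ _ _
  haveI hepiπ : Epi (Formal.modPowπ I (n + 1) F) := by
    rw [← hπ2']
    infer_instance
  let i : Formal.modPow I 1 F ⟶ Formal.modPow I (n + 1) F := e1.hom ≫ mapA φ ψ ≫ e2.inv
  have hcomm23 : Formal.modPowTrans I n F ≫ e3.hom = e2.hom ≫ mapB φ ψ := by
    rw [← cancel_epi (Formal.modPowπ I (n + 1) F), ← Category.assoc, Formal.modPowπ_trans, hπ3,
      ← Category.assoc, hπ2, π_mapB]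
  have w : i ≫ Formal.modPowTrans I n F = 0 := by
    rw [← cancel_mono e3.hom, zero_comp]
    show (e1.hom ≫ mapA φ ψ ≫ e2.inv) ≫ Formal.modPowTrans I n F ≫ e3.hom = 0
    rw [hcomm23]
    simp only [Category.assoc, Iso.inv_hom_id_assoc, mapA_mapB, comp_zero]
  refine ⟨i, ?_, ?_, w, ?_⟩
  · show Mono (e1.hom ≫ mapA φ ψ ≫ e2.inv)
    infer_instance
  · rw [← cancel_epi (Formal.modPowπ I (n + 1) F), ← Category.assoc, Formal2.modPowπ_modPowLE]
    show Formal.modPowπ I 1 F ≫ e1.hom ≫ mapA φ ψ ≫ e2.inv = _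
    rw [← Category.assoc, hπ1, π_mapA_assoc, hπ2', smulMod_naturality]
  · refine ShortComplex.shortExact_of_iso (ShortComplex.isoMk e1.symm e2.symm e3.symm ?_ ?_) hSE
    · show e1.inv ≫ e1.hom ≫ mapA φ ψ ≫ e2.inv = mapA φ ψ ≫ e2.inv
      rw [Iso.inv_hom_id_assoc]
    · show e2.inv ≫ Formal.modPowTrans I n F = mapB φ ψ ≫ e3.inv
      rw [← cancel_mono e3.hom, Category.assoc, hcomm23, Iso.inv_hom_id_assoc, Category.assoc,
        Iso.inv_hom_id, Category.comp_id]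

end Groth.Agent.H21.SM
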