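import Mathlib

universe u
set_option autoImplicit false
set_option linter.style.haveILetI false
open IsLocalRing TensorProduct

namespace Groth.Agent.H21.SU

lemma surjective_of_isEpi_field {k C : Type*} [Field k] [CommRing C] [Algebra k C] [Nontrivial C]
    [Algebra.IsEpi k C] : Function.Surjective (algebraMap k C) := by
  intro c
  by_contra h
  have hc : c ∉ Submodule.span k ({1} : Set C) := by
    intro hmem
    obtain ⟨a, ha⟩ := Submodule.mem_span_singleton.1 hmem
    exact h ⟨a, by rw [Algebra.algebraMap_eq_smul_one, ha]⟩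
  obtain ⟨f, hfc, hf⟩ := Submodule.exists_dual_map_eq_bot_of_notMem hc inferInstance
  have hf1 : f 1 = 0 := by
    have : f 1 ∈ (Submodule.span k ({1} : Set C)).map f :=
      Submodule.mem_map_of_mem (Submodule.subset_span rfl)
    rw [hf] at this
    exact this
  let g : C ⊗[k] C →ₗ[k] C := TensorProduct.lift ((LinearMap.lsmul k C).comp f)
  have hepi := (Algebra.isEpi_iff_forall_one_tmul_eq k C).1 inferInstance c
  have h2 := congrArg g hepi
  simp only [g, TensorProduct.lift.tmul, LinearMap.comp_apply, LinearMap.lsmul_apply, hf1,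
    zero_smul] at h2
  rcases smul_eq_zero.1 h2.symm with h3 | h3
  · exact hfc h3
  · exact one_ne_zero h3

lemma formallyUnramified_of_bijective {A B : Type*} [CommRing A] [CommRing B] [IsLocalRing A]
    [IsLocalRing B] [Algebra A B] [IsLocalHom (algebraMap A B)] [Algebra.EssFiniteType A B]
    (hbij : Function.Bijective (Ideal.quotientMap ((maximalIdeal A).map (algebraMap A B))
      (algebraMap A B) Ideal.le_comap_map)) :
    Algebra.FormallyUnramified A B ∧
      Function.Surjective (IsLocalRing.ResidueField.map (algebraMap A B)) := by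
  set I : Ideal B := (maximalIdeal A).map (algebraMap A B) with hI
  have hfieldA : IsField (A ⧸ maximalIdeal A) :=
    (Ideal.Quotient.maximal_ideal_iff_isField_quotient _).1 inferInstance
  have hfieldB : IsField (B ⧸ I) :=
    MulEquiv.isField hfieldA (RingEquiv.ofBijective _ hbij).symm.toMulEquiv
  have hImax : I.IsMaximal := Ideal.Quotient.maximal_of_isField _ hfieldB
  have hIeq : I = maximalIdeal B := IsLocalRing.eq_maximalIdeal hImax
  have hsurj : Function.Surjective (IsLocalRing.ResidueField.map (algebraMap A B)) := by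
    intro z
    obtain ⟨b, rfl⟩ := IsLocalRing.residue_surjective z
    obtain ⟨a', ha'⟩ := hbij.2 (Ideal.Quotient.mk I b)
    obtain ⟨a, rfl⟩ := Ideal.Quotient.mk_surjective a'
    rw [Ideal.quotientMap_mk] at ha'
    refine ⟨IsLocalRing.residue A a, ?_⟩
    rw [IsLocalRing.ResidueField.map_residue]
    have h1 := (Ideal.Quotient.eq).1 ha'
    rw [← hI, hIeq] at h1
    exact (Ideal.Quotient.eq).2 h1
  refine ⟨?_, hsurj⟩
  haveI : Algebra.IsSeparable (ResidueField A) (ResidueField B) := by
    refine ⟨fun x => ?_⟩
    obtain ⟨y, rfl⟩ := hsurj x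
    exact isSeparable_algebraMap y
  exact Algebra.FormallyUnramified.of_map_maximalIdeal hIeq

end Groth.Agent.H21.SU
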