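import Mathlib
import Groth.Agent.Lib.helper21.SU1

universe u
set_option autoImplicit false
set_option linter.style.haveILetI false
open CategoryTheory Opposite Limits AlgebraicGeometry TopologicalSpace IsLocalRing

namespace Groth.Agent.H21.SU

theorem mono_of_fibres {X Y : Scheme.{u}} (f : X ⟶ Y) [LocallyOfFiniteType f]
    (h : ∀ x : X, (∀ x' : X, f.base x' = f.base x → x' = x) ∧
      Function.Bijective (Ideal.quotientMap
        ((maximalIdeal (Y.presheaf.stalk (f.base x))).map (f.stalkMap x).hom)
        (f.stalkMap x).hom Ideal.le_comap_map)) : Mono f := by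
  have hinj : Function.Injective f := fun a b hab => (h b).1 a hab
  have key : ∀ x : X, (f.stalkMap x).hom.FormallyUnramified ∧
      Function.Surjective (IsLocalRing.ResidueField.map (f.stalkMap x).hom) := by
    intro x
    algebraize [(f.stalkMap x).hom]
    haveI : IsLocalHom (algebraMap (Y.presheaf.stalk (f x)) (X.presheaf.stalk x)) :=
      inferInstanceAs <| IsLocalHom (f.stalkMap x).hom
    haveI : Algebra.EssFiniteType (Y.presheaf.stalk (f x)) (X.presheaf.stalk x) := by
      rw [← RingHom.essFiniteType_algebraMap, RingHom.algebraMap_toAlgebra]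
      exact LocallyOfFiniteType.stalkMap f x
    have h1 := formallyUnramified_of_bijective (A := Y.presheaf.stalk (f x))
      (B := X.presheaf.stalk x) (h x).2
    exact ⟨h1.1, h1.2⟩
  haveI : FormallyUnramified f :=
    HasRingHomProperty.of_stalkMap RingHom.FormallyUnramified.ofLocalizationPrime
      (fun x => (key x).1)
  haveI : IsOpenImmersion (pullback.diagonal f) := inferInstance
  haveI : Surjective (pullback.diagonal f) := by
    have h23 := (tfae_universallyInjective f).out 2 3
    refine h23.1 ⟨hinj, fun x => ?_⟩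
    have hs := (key x).2
    rw [RingHom.IsPurelyInseparable]
    letI : Algebra (Y.residueField (f x)) (X.residueField x) :=
      (f.residueFieldMap x).hom.toAlgebra
    rw [isPurelyInseparable_iff]
    intro z
    obtain ⟨y, hy⟩ := hs z
    have hz : z = algebraMap (Y.residueField (f x)) (X.residueField x) y := hy.symm
    refine ⟨?_, fun _ => ⟨y, hy⟩⟩
    rw [hz]
    exact isIntegral_algebraMap
  haveI : Epi (pullback.diagonal f).base :=
    (TopCat.epi_iff_surjective _).2 (pullback.diagonal f).surjective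
  haveI : IsIso (pullback.diagonal f) := IsOpenImmersion.isIso _
  exact (pullback.isIso_diagonal_iff f).1 inferInstance

theorem fibres_of_mono {X Y : Scheme.{u}} (f : X ⟶ Y) [Mono f] (x : X) :
    Function.Bijective (Ideal.quotientMap
        ((maximalIdeal (Y.presheaf.stalk (f.base x))).map (f.stalkMap x).hom)
        (f.stalkMap x).hom Ideal.le_comap_map) := by
  set φ := f.stalkMap x with hφ
  set I : Ideal (X.presheaf.stalk x) :=
    (maximalIdeal (Y.presheaf.stalk (f.base x))).map φ.hom with hI
  have hloc : IsLocalHom φ.hom := f.toLRSHom.prop x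
  have hIle : I ≤ maximalIdeal (X.presheaf.stalk x) :=
    ((IsLocalRing.local_hom_TFAE φ.hom).out 0 2 rfl rfl).mp hloc
  haveI : Nontrivial (X.presheaf.stalk x ⧸ I) :=
    Ideal.Quotient.nontrivial_iff.2 (fun h => (maximalIdeal.isMaximal _).ne_top
      (top_le_iff.1 (h ▸ hIle)))
  -- epi
  have hfac : Spec.map φ ≫ Y.fromSpecStalk (f x) = X.fromSpecStalk x ≫ f :=
    Scheme.SpecMap_stalkMap_fromSpecStalk f
  haveI : Mono (Spec.map φ ≫ Y.fromSpecStalk (f x)) := by
    rw [hfac]; infer_instance
  haveI : Mono (Spec.map φ) := mono_of_mono _ (Y.fromSpecStalk (f x))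
  haveI : Mono φ.op := by
    have : Mono (Scheme.Spec.map φ.op) := ‹Mono (Spec.map φ)›
    exact Scheme.Spec.mono_of_mono_map this
  haveI : Epi φ := unop_epi_of_mono φ.op
  -- the quotient maps
  let ψ : (Y.presheaf.stalk (f.base x) ⧸ maximalIdeal (Y.presheaf.stalk (f.base x))) →+*
      (X.presheaf.stalk x ⧸ I) := Ideal.quotientMap I φ.hom Ideal.le_comap_map
  let πA : Y.presheaf.stalk (f.base x) ⟶
      CommRingCat.of (Y.presheaf.stalk (f.base x) ⧸ maximalIdeal (Y.presheaf.stalk (f.base x))) :=
    CommRingCat.ofHom (Ideal.Quotient.mk _)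
  let πB : X.presheaf.stalk x ⟶ CommRingCat.of (X.presheaf.stalk x ⧸ I) :=
    CommRingCat.ofHom (Ideal.Quotient.mk I)
  haveI : Epi πB := ConcreteCategory.epi_of_surjective _ Ideal.Quotient.mk_surjective
  have hcomm : πA ≫ CommRingCat.ofHom ψ = φ ≫ πB := by
    ext a
    rfl
  haveI : Epi (πA ≫ CommRingCat.ofHom ψ) := by rw [hcomm]; infer_instance
  haveI : Epi (CommRingCat.ofHom ψ) := epi_of_epi πA _
  letI : Algebra (Y.presheaf.stalk (f.base x) ⧸ maximalIdeal (Y.presheaf.stalk (f.base x)))
      (X.presheaf.stalk x ⧸ I) := ψ.toAlgebra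
  haveI : Algebra.IsEpi (Y.presheaf.stalk (f.base x) ⧸ maximalIdeal (Y.presheaf.stalk (f.base x)))
      (X.presheaf.stalk x ⧸ I) := CommRingCat.epi_iff_epi.1 ‹Epi (CommRingCat.ofHom ψ)›
  letI : Field (Y.presheaf.stalk (f.base x) ⧸ maximalIdeal (Y.presheaf.stalk (f.base x))) :=
    Ideal.Quotient.field _
  refine ⟨RingHom.injective ψ, ?_⟩
  exact surjective_of_isEpi_field
    (k := Y.presheaf.stalk (f.base x) ⧸ maximalIdeal (Y.presheaf.stalk (f.base x)))
    (C := X.presheaf.stalk x ⧸ I)

end Groth.Agent.H21.SU
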