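import Mathlib
import Groth.Agent.Lib.helper21.LeftDerivedLES
import Groth.Agent.Lib.helper21.ExtReg

set_option autoImplicit false

namespace Groth.Agent.H21.TorReg

open CategoryTheory Limits MonoidalCategory

universe u

variable {A : Type u} [CommRing A]

lemma homologyMap_smul' {ι : Type*} {c : ComplexShape ι}
    {K L : HomologicalComplex (ModuleCat.{u} A) c} (φ : K ⟶ L) (a : A) (i : ι) :
    HomologicalComplex.homologyMap (a • φ) i = a • HomologicalComplex.homologyMap φ i := by
  have : (HomologicalComplex.shortComplexFunctor (ModuleCat.{u} A) c i).map (a • φ) =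
      a • (HomologicalComplex.shortComplexFunctor (ModuleCat.{u} A) c i).map φ := by
    ext <;> rfl
  dsimp only [HomologicalComplex.homologyMap]
  rw [this, ShortComplex.homologyMap_smul]
  rfl

lemma homologyMap_smul_id {ι : Type*} {c : ComplexShape ι}
    (K : HomologicalComplex (ModuleCat.{u} A) c) (a : A) (i : ι) :
    HomologicalComplex.homologyMap (a • 𝟙 K) i = a • 𝟙 (K.homology i) := by
  rw [homologyMap_smul', HomologicalComplex.homologyMap_id]

lemma leftDerived_map_smul (F : ModuleCat.{u} A ⥤ ModuleCat.{u} A) [F.Additive]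
    (hF : ∀ (X : ModuleCat.{u} A) (x : A), F.map (x • 𝟙 X) = x • 𝟙 (F.obj X)) (n : ℕ)
    (X : ModuleCat.{u} A) (x : A) :
    (F.leftDerived n).map (x • 𝟙 X) = x • 𝟙 _ := by
  let P := ProjectiveResolution.of X
  have w : (x • 𝟙 P.complex) ≫ P.π = P.π ≫ (ChainComplex.single₀ _).map (x • 𝟙 X) := by
    apply HomologicalComplex.to_single_hom_ext
    simp only [HomologicalComplex.comp_f, HomologicalComplex.smul_f_apply,
      HomologicalComplex.id_f, Linear.smul_comp, Category.id_comp,
      ChainComplex.single₀_map_f_zero]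
    erw [Linear.comp_smul, Category.comp_id]
  rw [Functor.leftDerived_map_eq F n (x • 𝟙 X) (x • 𝟙 P.complex) w]
  have h1 : (F.mapHomologicalComplex (ComplexShape.down ℕ)).map (x • 𝟙 P.complex) =
      x • 𝟙 _ := by
    ext i : 1
    simp only [Functor.mapHomologicalComplex_map_f, HomologicalComplex.smul_f_apply,
      HomologicalComplex.id_f, hF]
    rfl
  have h2 : (F.mapHomologicalComplex (ComplexShape.down ℕ) ⋙
      HomologicalComplex.homologyFunctor _ _ n).map (x • 𝟙 P.complex) = x • 𝟙 _ := by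
    rw [Functor.comp_map, h1]
    exact homologyMap_smul_id _ x n
  rw [h2]
  simp


/-- the functor `- ⊗ M` -/
noncomputable abbrev FM (M : ModuleCat.{u} A) : ModuleCat.{u} A ⥤ ModuleCat.{u} A :=
  (tensoringRight (ModuleCat.{u} A)).obj M

/-- `Tor'_n(X, M)`, derived in the first variable (this is `((Tor' _ n).obj X).obj M`). -/
noncomputable abbrev T' (n : ℕ) (X M : ModuleCat.{u} A) : ModuleCat.{u} A :=
  ((FM M).leftDerived n).obj X

lemma T'_eq (n : ℕ) (X M : ModuleCat.{u} A) :
    ((Tor' (ModuleCat.{u} A) n).obj X).obj M = T' n X M := rfl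

lemma FM_map_smul (M X : ModuleCat.{u} A) (x : A) :
    (FM M).map (x • 𝟙 X) = x • 𝟙 ((FM M).obj X) := by
  change (x • 𝟙 X) ▷ M = x • 𝟙 (X ⊗ M)
  rw [MonoidalLinear.smul_whiskerRight, id_whiskerRight]

lemma T'_map_smul (n : ℕ) (X M : ModuleCat.{u} A) (x : A) :
    ((FM M).leftDerived n).map (x • 𝟙 X) = x • 𝟙 _ :=
  leftDerived_map_smul (FM M) (FM_map_smul M) n X x

/-- Homs out of the quotient by `I + (x)` are the `x`-torsion homs out of the quotient by `I`. -/
noncomputable def homEquiv (I : Ideal A) (x : A) (M : Type u) [AddCommGroup M] [Module A M] :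
    Submodule.torsionBy A ((A ⧸ I) →ₗ[A] M) x ≃ₗ[A] ((A ⧸ (I ⊔ Ideal.span {x})) →ₗ[A] M) := by
  let π : (A ⧸ I) →ₗ[A] (A ⧸ (I ⊔ Ideal.span {x})) :=
    Submodule.mapQ I (I ⊔ Ideal.span {x}) LinearMap.id le_sup_left
  have hπ : Function.Surjective π := by
    intro b
    obtain ⟨b, rfl⟩ := Submodule.mkQ_surjective _ b
    exact ⟨Submodule.mkQ I b, rfl⟩
  have hxπ : ∀ n, π (x • n) = 0 := by
    intro n
    obtain ⟨n, rfl⟩ := Submodule.mkQ_surjective _ n
    rw [← map_smul, Submodule.mkQ_apply, Submodule.mapQ_apply, LinearMap.id_apply,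
      Submodule.Quotient.mk_eq_zero, smul_eq_mul]
    exact Submodule.mem_sup_right (Ideal.mul_mem_right _ _ (Ideal.mem_span_singleton_self x))
  let G : ((A ⧸ (I ⊔ Ideal.span {x})) →ₗ[A] M) →ₗ[A]
      Submodule.torsionBy A ((A ⧸ I) →ₗ[A] M) x :=
    LinearMap.codRestrict _ (LinearMap.lcomp A M π) (by
      intro ψ
      rw [Submodule.mem_torsionBy_iff]
      apply LinearMap.ext
      intro n
      simp only [LinearMap.smul_apply, LinearMap.lcomp_apply, LinearMap.zero_apply]
      rw [← map_smul, ← map_smul, hxπ, map_zero])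
  refine (LinearEquiv.ofBijective G ⟨?_, ?_⟩).symm
  · intro ψ₁ ψ₂ h
    have h' : ψ₁ ∘ₗ π = ψ₂ ∘ₗ π := congrArg Subtype.val h
    apply LinearMap.ext
    intro b
    obtain ⟨b, rfl⟩ := hπ b
    exact LinearMap.congr_fun h' b
  · rintro ⟨φ, hφ⟩
    rw [Submodule.mem_torsionBy_iff] at hφ
    have hle : I ⊔ Ideal.span {x} ≤ LinearMap.ker (φ ∘ₗ Submodule.mkQ I) := by
      rw [sup_le_iff]
      constructor
      · intro i hi
        rw [LinearMap.mem_ker, LinearMap.comp_apply]
        have : Submodule.mkQ I i = 0 := by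
          rw [Submodule.mkQ_apply, Submodule.Quotient.mk_eq_zero]; exact hi
        rw [this, map_zero]
      · rw [Ideal.span_le, Set.singleton_subset_iff]
        change x ∈ LinearMap.ker (φ ∘ₗ Submodule.mkQ I)
        rw [LinearMap.mem_ker, LinearMap.comp_apply]
        have h1 : Submodule.mkQ I x = x • Submodule.mkQ I (1 : A) := by
          rw [← map_smul, smul_eq_mul, mul_one]
        rw [h1, map_smul]
        exact LinearMap.congr_fun hφ _
    refine ⟨Submodule.liftQ _ (φ ∘ₗ Submodule.mkQ I) hle, ?_⟩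
    apply Subtype.ext
    apply LinearMap.ext
    intro b
    obtain ⟨b, rfl⟩ := Submodule.mkQ_surjective _ b
    rfl


lemma ker_smul_id (M : ModuleCat.{u} A) (f : A) :
    LinearMap.ker (f • 𝟙 M : M ⟶ M).hom = Submodule.torsionBy A M f := by
  ext x
  rw [LinearMap.mem_ker, Submodule.mem_torsionBy_iff]
  rfl

noncomputable def torsionByCongr {X Y : Type u} [AddCommGroup X] [Module A X] [AddCommGroup Y]
    [Module A Y] (e : X ≃ₗ[A] Y) (f : A) :
    Submodule.torsionBy A X f ≃ₗ[A] Submodule.torsionBy A Y f :=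
  LinearEquiv.ofSubmodules e _ _ (by
    ext y
    simp only [Submodule.mem_map, Submodule.mem_torsionBy_iff]
    constructor
    · rintro ⟨x, hx, rfl⟩
      rw [← map_smul, hx, map_zero]
    · intro hy
      refine ⟨e.symm y, ?_, by simp⟩
      rw [← map_smul, hy, map_zero])

lemma step_tor (I : Ideal A) (x : A) (hx : IsSMulRegular (A ⧸ I) x) (M : ModuleCat.{u} A) (p : ℕ)
    (hvan : ∀ i, p < i → IsZero (T' i (ModuleCat.of A (A ⧸ I)) M))
    (e : T' p (ModuleCat.of A (A ⧸ I)) M ≃ₗ[A] ((A ⧸ I) →ₗ[A] M)) :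
    (∀ i, p + 1 < i → IsZero (T' i (ModuleCat.of A (A ⧸ (I ⊔ Ideal.span {x}))) M)) ∧
    Nonempty (T' (p + 1) (ModuleCat.of A (A ⧸ (I ⊔ Ideal.span {x}))) M ≃ₗ[A]
      ((A ⧸ (I ⊔ Ideal.span {x})) →ₗ[A] M)) := by
  obtain ⟨w, hS⟩ := ExtReg.shortExact_quot I x hx
  constructor
  · intro i hi
    obtain ⟨j, rfl⟩ : ∃ j, i = j + 1 := ⟨i - 1, by omega⟩
    obtain ⟨-, -, δ, w₁, w₂, h₁, -⟩ := LES.leftDerived_les (FM M) _ hS j
    exact h₁.isZero_of_both_zeros ((hvan (j + 1) (by omega)).eq_of_src _ _)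
      ((hvan j (by omega)).eq_of_tgt _ _)
  · obtain ⟨-, -, δ, w₁, w₂, h₁, h₂⟩ := LES.leftDerived_les (FM M) _ hS p
    have hmono : Mono δ := h₁.mono_g ((hvan (p + 1) (by omega)).eq_of_src _ _)
    have hinj : Function.Injective δ.hom := (ModuleCat.mono_iff_injective δ).mp hmono
    have hrange : LinearMap.range δ.hom =
        Submodule.torsionBy A (T' p (ModuleCat.of A (A ⧸ I)) M) x := by
      have h3 : ((FM M).leftDerived p).map (x • 𝟙 (ModuleCat.of A (A ⧸ I))) = x • 𝟙 _ :=
        T'_map_smul p _ M x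
      have hker : LinearMap.ker
          (((FM M).leftDerived p).map (x • 𝟙 (ModuleCat.of A (A ⧸ I)))).hom =
          Submodule.torsionBy A (T' p (ModuleCat.of A (A ⧸ I)) M) x := by
        rw [h3]
        exact ker_smul_id _ x
      exact h₂.moduleCat_range_eq_ker.trans hker
    have e1 := LinearEquiv.ofInjective δ.hom hinj
    have e2 := LinearEquiv.ofEq _ _ hrange
    have e3 := torsionByCongr e x
    have e4 := homEquiv I x M
    have e12 := e1 ≪≫ₗ e2
    have e34 := e3 ≪≫ₗ e4
    exact ⟨e12 ≪≫ₗ e34⟩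


open RingTheory.Sequence in
theorem main (xs : List A) (hreg : IsWeaklyRegular A xs) (M : ModuleCat.{u} A) :
    (∀ i, xs.length < i → IsZero (T' i (ModuleCat.of A (A ⧸ Ideal.ofList xs)) M)) ∧
    Nonempty (T' xs.length (ModuleCat.of A (A ⧸ Ideal.ofList xs)) M ≃ₗ[A]
      ((A ⧸ Ideal.ofList xs) →ₗ[A] M)) := by
  induction xs using List.reverseRecOn with
  | nil =>
    have e0 : (A ⧸ Ideal.ofList ([] : List A)) ≃ₗ[A] A :=
      Submodule.quotEquivOfEqBot _ (by simp)
    have hproj : Projective (ModuleCat.of A (A ⧸ Ideal.ofList ([] : List A))) :=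
      Projective.of_iso e0.toModuleIso.symm
        (inferInstanceAs (Projective (ModuleCat.of A A)))
    constructor
    · intro i hi
      obtain ⟨j, rfl⟩ : ∃ j, i = j + 1 := ⟨i - 1, by simp at hi; omega⟩
      exact Functor.isZero_leftDerived_obj_projective_succ _ _ _
    · refine ⟨((Functor.leftDerivedZeroIsoSelf (FM M)).app _).toLinearEquiv ≪≫ₗ ?_⟩
      change TensorProduct A (A ⧸ Ideal.ofList ([] : List A)) M ≃ₗ[A] _
      exact TensorProduct.congr e0 (LinearEquiv.refl A M) ≪≫ₗ TensorProduct.lid A M ≪≫ₗ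
        (LinearMap.ringLmapEquivSelf A A M).symm ≪≫ₗ (LinearEquiv.congrLeft M A e0).symm
  | append_singleton xs x ih =>
    have hx := ExtReg.isSMulRegular_quot_of_append xs x hreg
    have hreg₁ : IsWeaklyRegular A xs := ((isWeaklyRegular_append_iff _ _ _).mp hreg).1
    obtain ⟨hvan, ⟨e⟩⟩ := ih hreg₁
    have hI : Ideal.ofList (xs ++ [x]) = Ideal.ofList xs ⊔ Ideal.span {x} := by
      rw [Ideal.ofList_append, Ideal.ofList_singleton]
    have hl : (xs ++ [x]).length = xs.length + 1 := by simp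
    rw [hI, hl]
    exact step_tor _ x hx M _ hvan e

end Groth.Agent.H21.TorReg
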