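import Mathlib
import Groth.Agent.Lib.helper21.HQ3

universe u
set_option autoImplicit false
set_option linter.style.haveILetI false
open TensorProduct

namespace Groth.Agent.H21.UR

open Groth.Agent.H21.HQ

lemma isWeaklyRegular_of_regPair {A : Type*} [CommRing A] {a b : A} (h : RegPair A a b) :
    RingTheory.Sequence.IsWeaklyRegular A [a, b] := by
  rw [RingTheory.Sequence.isWeaklyRegular_cons_iff]
  refine ⟨?_, ?_⟩
  · intro x y hxy
    have : a * (x - y) = 0 := by
      simp only [smul_eq_mul] at hxy
      rw [mul_sub, hxy, sub_self]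
    exact sub_eq_zero.1 (h.1 _ this)
  · rw [RingTheory.Sequence.isWeaklyRegular_cons_iff]
    refine ⟨?_, RingTheory.Sequence.IsWeaklyRegular.nil _ _⟩
    intro x y hxy
    obtain ⟨x, rfl⟩ := Submodule.Quotient.mk_surjective _ x
    obtain ⟨y, rfl⟩ := Submodule.Quotient.mk_surjective _ y
    simp only at hxy
    rw [← Submodule.Quotient.mk_smul, ← Submodule.Quotient.mk_smul, Submodule.Quotient.eq,
      Submodule.mem_smul_pointwise_iff_exists] at hxy
    obtain ⟨z, -, hz⟩ := hxy
    have h2 : b * (x - y) = a * z := by
      simp only [smul_eq_mul] at hz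
      rw [hz]; ring
    obtain ⟨y', hy'⟩ := h.2 _ _ h2
    rw [Submodule.Quotient.eq, Submodule.mem_smul_pointwise_iff_exists]
    exact ⟨y', Submodule.mem_top, by simpa using hy'.symm⟩

/-- regular pairs ascend along flat maps, at the level of primes -/
theorem hasRegPairAt_of_flat {R S : Type u} [CommRing R] [CommRing S] [Algebra R S]
    [Module.Flat R S] (P : Ideal S) [P.IsPrime] (p : Ideal R) [p.IsPrime]
    (hp : p = P.comap (algebraMap R S)) (h : HasRegPairAt R p) : HasRegPairAt S P := by
  subst hp
  obtain ⟨A, _, _, _, a, b, ha, hb, hab⟩ := h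
  let L := Localization.AtPrime P
  let g : R →+* L := (algebraMap S L).comp (algebraMap R S)
  have hg : ∀ y : (Ideal.comap (algebraMap R S) P).primeCompl, IsUnit (g y) := by
    intro y
    apply IsLocalization.map_units L (⟨algebraMap R S y, ?_⟩ : P.primeCompl)
    intro hy
    exact y.2 hy
  let ℓ : A →+* L := IsLocalization.lift hg
  letI : Algebra A L := ℓ.toAlgebra
  haveI : IsScalarTower R A L := IsScalarTower.of_algebraMap_eq fun r => by
    change algebraMap R L r = ℓ (algebraMap R A r)
    rw [IsLocalization.lift_eq]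
    rfl
  haveI : Module.Flat R L := Module.Flat.trans R S L
  haveI : Module.Flat A L := (Module.flat_iff_of_isLocalization A (Ideal.comap (algebraMap R S) P).primeCompl L).2 inferInstance
  have hreg := (isWeaklyRegular_of_regPair hab).of_flat (S := L)
  haveI : IsLocalRing A := IsLocalization.AtPrime.isLocalRing A (Ideal.comap (algebraMap R S) P)
  have hnu : ∀ x : A, ¬ IsUnit x → ¬ IsUnit (ℓ x) := by
    intro x hx
    obtain ⟨r, s, rfl⟩ := IsLocalization.exists_mk'_eq (Ideal.comap (algebraMap R S) P).primeCompl x
    have hr : r ∈ Ideal.comap (algebraMap R S) P := by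
      by_contra hr
      apply hx
      exact (IsLocalization.AtPrime.isUnit_mk'_iff A (Ideal.comap (algebraMap R S) P) r s).2 hr
    intro hu
    have h1 : g r = g s * ℓ (IsLocalization.mk' A r s) :=
      (IsLocalization.lift_mk'_spec (hg := hg) r _ s).1 rfl
    have h2 : IsUnit (g r) := by
      rw [h1]
      exact (hg s).mul hu
    have h3 := (IsLocalization.AtPrime.isUnit_to_map_iff L P (algebraMap R S r)).1 h2
    exact h3 hr
  exact ⟨L, inferInstance, inferInstance, inferInstance, ℓ a, ℓ b, hnu a ha, hnu b hb,
    regPair_of_isWeaklyRegular hreg⟩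

end Groth.Agent.H21.UR
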