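import Mathlib
import Groth.Agent.Lib.helper21.UR1

universe u
set_option autoImplicit false
set_option linter.style.haveILetI false
open TensorProduct

namespace Groth.Agent.H21.UR

open Groth.Agent.H21.HQ

lemma B0_map {A R : Type*} [CommRing A] [CommRing R] [Algebra A R] (J : Ideal A)
    (h : ∀ c : R, (∀ f ∈ J.map (algebraMap A R), ∃ n : ℕ, f ^ n * c = 0) → c = 0) :
    ∀ c : R, (∀ f ∈ J, ∃ n : ℕ, algebraMap A R f ^ n * c = 0) → c = 0 := by
  intro c hc
  apply h
  have hle : J.map (algebraMap A R) ≤ (Submodule.span R ({c} : Set R)).annihilator.radical := by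
    rw [Ideal.map_le_iff_le_comap]
    intro f hf
    obtain ⟨n, hn⟩ := hc f hf
    refine ⟨n, ?_⟩
    rw [Submodule.mem_annihilator_span_singleton]
    simpa using hn
  intro x hx
  obtain ⟨n, hn⟩ := hle hx
  rw [Submodule.mem_annihilator_span_singleton] at hn
  exact ⟨n, by simpa using hn⟩

lemma omega_torsion (A B : Type u) [CommRing A] [CommRing B] [Algebra A B]
    [Algebra.EssFiniteType A B] (g : B)
    [Algebra.FormallyUnramified A (Localization.Away g)] :
    ∃ k : ℕ, ∀ i ∈ KaehlerDifferential.ideal A B,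
      algebraMap B (B ⊗[A] B) (g ^ k) * i ∈ (KaehlerDifferential.ideal A B) ^ 2 := by
  have h1 : Subsingleton (LocalizedModule.Away g Ω[B⁄A]) :=
    ((IsLocalizedModule.iso (.powers g)
      (KaehlerDifferential.map A A B (Localization.Away g))).subsingleton_congr).2
      ((Algebra.formallyUnramified_iff _ _).1 inferInstance)
  rw [LocalizedModule.subsingleton_iff_support_subset, Module.support_eq_zeroLocus,
    ← PrimeSpectrum.zeroLocus_span {g}, PrimeSpectrum.zeroLocus_subset_zeroLocus_iff,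
    Ideal.span_singleton_le_iff_mem] at h1
  obtain ⟨k, hk⟩ := h1
  refine ⟨k, fun i hi => ?_⟩
  have h2 := Module.mem_annihilator.1 hk (KaehlerDifferential.fromIdeal A B ⟨i, hi⟩)
  rw [← algebraMap_smul (B ⊗[A] B), ← map_smul] at h2
  have h3 : (KaehlerDifferential.ideal A B).toCotangent
      (algebraMap B (B ⊗[A] B) (g ^ k) • (⟨i, hi⟩ : KaehlerDifferential.ideal A B)) = 0 := h2
  rw [Ideal.toCotangent_eq_zero] at h3
  simpa using h3

set_option maxHeartbeats 1000000 in
theorem core (A B : Type u) [CommRing A] [CommRing B] [Algebra A B] [Module.Finite A B]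
    [Module.Flat A B] (J : Ideal A) (hJ : J.FG)
    (hreg : ∀ (q : Ideal B) [q.IsPrime], J.map (algebraMap A B) ≤ q → HasRegPairAt B q)
    (hunr : ∀ f ∈ J, Algebra.FormallyUnramified A (Localization.Away (algebraMap A B f))) :
    Algebra.FormallyUnramified A B := by
  classical
  let μ : B ⊗[A] B →ₐ[A] B := Algebra.TensorProduct.lmul' A
  let I : Ideal (B ⊗[A] B) := KaehlerDifferential.ideal A B
  have hI : ∀ x : B ⊗[A] B, x ∈ I ↔ μ x = 0 := fun x => RingHom.mem_ker
  have hμA : ∀ a : A, μ (algebraMap A (B ⊗[A] B) a) = algebraMap A B a := fun a => μ.commutes a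
  let JC : Ideal (B ⊗[A] B) := J.map (algebraMap A (B ⊗[A] B))
  have hB0 := B0_map J (B0_of_regPair B (J.map (algebraMap A B)) hreg)
  have hregC : ∀ (Q : Ideal (B ⊗[A] B)) [Q.IsPrime], JC ≤ Q → HasRegPairAt (B ⊗[A] B) Q := by
    intro Q _ hQ
    refine hasRegPairAt_of_flat (R := B) (S := B ⊗[A] B) Q
      (Q.comap (algebraMap B (B ⊗[A] B))) rfl (hreg _ ?_)
    rw [Ideal.map_le_iff_le_comap] at hQ ⊢
    intro f hf
    have := hQ hf
    rw [Ideal.mem_comap] at this ⊢
    rw [Ideal.mem_comap, ← IsScalarTower.algebraMap_apply]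
    exact this
  have hC0 := B0_map J (B0_of_regPair (B ⊗[A] B) JC hregC)
  have hC1 := B1_of_regPair (B ⊗[A] B) JC (hJ.map _) hregC
  let N : Ideal (B ⊗[A] B) := Submodule.annihilator (I : Submodule (B ⊗[A] B) (B ⊗[A] B))
  have hN : ∀ x : B ⊗[A] B, x ∈ N ↔ ∀ i ∈ I, x * i = 0 := fun x => Submodule.mem_annihilator
  -- step 1
  have step1 : ∀ f ∈ J, ∃ (m : ℕ) (ν : B ⊗[A] B), ν ∈ N ∧ μ ν = algebraMap A B f ^ m := by
    intro f hf
    haveI := hunr f hf
    obtain ⟨k, hk⟩ := omega_torsion A B (algebraMap A B f)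
    let x : B ⊗[A] B := algebraMap A (B ⊗[A] B) (f ^ k)
    have hx : ∀ i ∈ I, x * i ∈ I ^ 2 := by
      intro i hi
      have := hk i hi
      rwa [← map_pow, ← IsScalarTower.algebraMap_apply] at this
    haveI : Module.Finite (B ⊗[A] B) I :=
      Module.Finite.iff_fg.2 (KaehlerDifferential.ideal_fg A B)
    let T : Module.End (B ⊗[A] B) I := algebraMap (B ⊗[A] B) (Module.End (B ⊗[A] B) I) x
    have hT : LinearMap.range T ≤ I • (⊤ : Submodule (B ⊗[A] B) I) := by
      rintro _ ⟨i, rfl⟩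
      rw [Submodule.mem_smul_top_iff]
      have h1 : ((T i : I) : B ⊗[A] B) = x * (i : B ⊗[A] B) := rfl
      rw [h1]
      have := hx i i.2
      rwa [pow_two] at this
    obtain ⟨p, hpm, -, hpc, hp0⟩ :=
      LinearMap.exists_monic_and_natDegree_eq_and_coeff_mem_pow_and_aeval_eq_zero
        (B ⊗[A] B) T I hT
    rw [Polynomial.aeval_algebraMap_apply] at hp0
    refine ⟨k * p.natDegree, Polynomial.aeval x p, ?_, ?_⟩
    · rw [hN]
      intro i hi
      have := congrArg (fun e : Module.End (B ⊗[A] B) I => ((e ⟨i, hi⟩ : I) : B ⊗[A] B)) hp0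
      simpa using this
    · have h1 : μ (Polynomial.aeval x p) =
          ∑ j ∈ Finset.range (p.natDegree + 1), μ (p.coeff j) * (μ x) ^ j := by
        simp only [Polynomial.aeval_eq_sum_range, map_sum, smul_eq_mul, map_mul, map_pow]
      rw [h1, Finset.sum_range_succ, Finset.sum_eq_zero, zero_add, hpm.coeff_natDegree, map_one,
        one_mul, hμA, map_pow, ← pow_mul]
      intro j hj
      have hj' : p.natDegree - j ≠ 0 := by
        have := Finset.mem_range.1 hj
        omega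
      have : p.coeff j ∈ I := Ideal.pow_le_self hj' (hpc j)
      rw [(hI _).1 this, zero_mul]
  have hdiff : ∀ (f : A) (m : ℕ) (ν : B ⊗[A] B), μ ν = algebraMap A B f ^ m →
      ν - algebraMap A (B ⊗[A] B) f ^ m ∈ I := by
    intro f m ν hμν
    rw [hI, map_sub, hμν, map_pow, hμA, sub_self]
  have step2 : ∀ c : B ⊗[A] B, c ∈ N → c ∈ I → c = 0 := by
    intro c hcN hcI
    apply hC0
    intro f hf
    obtain ⟨m, ν, hν, hμν⟩ := step1 f hf
    refine ⟨m, ?_⟩
    have h1 := hdiff f m ν hμν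
    have h2 : ν * c = 0 := (hN ν).1 hν c hcI
    have h3 : c * (ν - algebraMap A (B ⊗[A] B) f ^ m) = 0 := (hN c).1 hcN _ h1
    calc algebraMap A (B ⊗[A] B) f ^ m * c
        = ν * c - c * (ν - algebraMap A (B ⊗[A] B) f ^ m) := by ring
      _ = 0 := by rw [h2, h3, sub_zero]
  have step3 : ∃ n : ℕ, JC ^ n ≤ N ⊔ I := by
    apply Ideal.exists_pow_le_of_le_radical_of_fg _ (hJ.map _)
    rw [Ideal.map_le_iff_le_comap]
    intro f hf
    obtain ⟨m, ν, hν, hμν⟩ := step1 f hf
    refine ⟨m, ?_⟩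
    have h1 := hdiff f m ν hμν
    have : algebraMap A (B ⊗[A] B) f ^ m = ν - (ν - algebraMap A (B ⊗[A] B) f ^ m) := by ring
    rw [this]
    exact sub_mem (Ideal.mem_sup_left hν) (Ideal.mem_sup_right h1)
  obtain ⟨n, hn⟩ := step3
  have hex : ∀ a : ↥(JC ^ n), ∃ ν : B ⊗[A] B, ν ∈ N ∧ (a : B ⊗[A] B) - ν ∈ I := by
    intro a
    obtain ⟨ν, hν, i, hi, hνi⟩ := Submodule.mem_sup.1 (hn a.2)
    exact ⟨ν, hν, by rw [← hνi]; simpa using hi⟩
  choose ψ0 hψN hψI using hex
  have huniq : ∀ (a : ↥(JC ^ n)) (ν : B ⊗[A] B), ν ∈ N → (a : B ⊗[A] B) - ν ∈ I →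
      ψ0 a = ν := by
    intro a ν hν hi
    have h1 : ψ0 a - ν ∈ N := sub_mem (hψN a) hν
    have h2 : ψ0 a - ν ∈ I := by
      have : ψ0 a - ν = ((a : B ⊗[A] B) - ν) - ((a : B ⊗[A] B) - ψ0 a) := by ring
      rw [this]
      exact sub_mem hi (hψI a)
    exact sub_eq_zero.1 (step2 _ h1 h2)
  let ψ : ↥(JC ^ n) →ₗ[B ⊗[A] B] B ⊗[A] B :=
    { toFun := ψ0
      map_add' := fun a b => huniq _ _ (add_mem (hψN a) (hψN b)) (by
        have : ((a + b : ↥(JC ^ n)) : B ⊗[A] B) - (ψ0 a + ψ0 b) =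
            ((a : B ⊗[A] B) - ψ0 a) + ((b : B ⊗[A] B) - ψ0 b) := by
          push_cast; ring
        rw [this]
        exact add_mem (hψI a) (hψI b))
      map_smul' := fun c a => huniq _ _ (N.smul_mem c (hψN a)) (by
        have : ((c • a : ↥(JC ^ n)) : B ⊗[A] B) - c • ψ0 a =
            c * ((a : B ⊗[A] B) - ψ0 a) := by
          simp [mul_sub]
        rw [RingHom.id_apply, this]
        exact I.mul_mem_left c (hψI a)) }
  obtain ⟨t, ht⟩ := hC1 n ψ
  have hmem : ∀ f ∈ J, algebraMap A (B ⊗[A] B) f ^ n ∈ JC ^ n := fun f hf =>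
    Ideal.pow_mem_pow (Ideal.mem_map_of_mem _ hf) n
  have ht1 : μ t = 1 := by
    have : μ t - 1 = 0 := by
      apply hB0
      intro f hf
      refine ⟨n, ?_⟩
      have h1 := hψI ⟨_, hmem f hf⟩
      have h2 : ψ0 ⟨_, hmem f hf⟩ = algebraMap A (B ⊗[A] B) f ^ n * t := ht ⟨_, hmem f hf⟩
      rw [h2, hI, map_sub, map_mul, map_pow, hμA] at h1
      rw [mul_sub, mul_one, ← neg_sub, h1, neg_zero]
    exact sub_eq_zero.1 this
  have htN : t ∈ N := by
    rw [hN]
    intro i hi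
    apply hC0
    intro f hf
    refine ⟨n, ?_⟩
    have h1 := hψN ⟨_, hmem f hf⟩
    have h2 : ψ0 ⟨_, hmem f hf⟩ = algebraMap A (B ⊗[A] B) f ^ n * t := ht ⟨_, hmem f hf⟩
    rw [h2, hN] at h1
    have := h1 i hi
    rw [← mul_assoc]
    exact this
  rw [Algebra.formallyUnramified_iff]
  change Subsingleton I.Cotangent
  rw [Ideal.cotangent_subsingleton_iff]
  apply le_antisymm Ideal.mul_le_right
  intro i hi
  have h1 : (1 - t) ∈ I := by rw [hI, map_sub, map_one, ht1, sub_self]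
  have h2 : t * i = 0 := (hN t).1 htN i hi
  have : i = (1 - t) * i := by rw [sub_mul, one_mul, h2, sub_zero]
  rw [this]
  exact Ideal.mul_mem_mul h1 hi

end Groth.Agent.H21.UR
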