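import Mathlib
import Groth.Agent.Lib.helper21.UR2
import Groth.Agent.Lib.helper21.PS5
import Groth.Prelude.Def_Pi1

universe u
set_option autoImplicit false
set_option linter.style.haveILetI false
open CategoryTheory Opposite Limits AlgebraicGeometry TopologicalSpace TensorProduct

namespace Groth.Agent.H21.UR

open Groth.Agent.H21.HQ Groth.Agent.Lib.helper9.Depth LocCoh RingTheory.Sequence

/-- étale over `U` ⇒ the section maps into affine opens inside `π⁻¹U` are formally unramified -/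
lemma appLE_formallyUnramified {X Y : Scheme.{u}} (U : X.Opens) (π : Y ⟶ X)
    [Etale (pullback.snd π U.ι)] {W : X.Opens} (hW : IsAffineOpen W) {V : Y.Opens}
    (hV : IsAffineOpen V) (hVU : V ≤ π ⁻¹ᵁ U) (e : V ≤ π ⁻¹ᵁ W) :
    (π.appLE W V e).hom.FormallyUnramified := by
  have h1 : Etale (π ∣_ U) := by
    delta morphismRestrict
    infer_instance
  have h2 : V.ι ≫ π = Y.homOfLE hVU ≫ (π ∣_ U) ≫ U.ι := by
    rw [morphismRestrict_ι, Scheme.homOfLE_ι_assoc]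
  have h3 : Etale (V.ι ≫ π) := by
    rw [h2]
    infer_instance
  haveI : IsAffine (V : Scheme) := hV
  have e' : (⊤ : (V : Scheme).Opens) ≤ (V.ι ≫ π) ⁻¹ᵁ W := by
    intro x _
    exact e x.2
  have h4 := Scheme.Hom.formallyUnramified_appLE (V.ι ≫ π) hW (isAffineOpen_top (V : Scheme)) e'
  rw [Scheme.Hom.comp_appLE, Scheme.Opens.ι_appLE] at h4
  have e2 : V.ι ''ᵁ ⊤ ≤ π ⁻¹ᵁ W := by
    rw [Scheme.Opens.ι_image_top]
    exact e
  have h5 : (π.appLE W (V.ι ''ᵁ ⊤) e2).hom.FormallyUnramified := h4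
  exact (Scheme.Hom.appLE_congr π e2 rfl V.ι_image_top
    (fun g => g.hom.FormallyUnramified)).1 h5

theorem app_formallyUnramified {X Y : Scheme.{u}} [IsLocallyNoetherian X] (U : X.Opens)
    (π : Y ⟶ X) [IsFinite π] [Flat π] [Etale (pullback.snd π U.ι)]
    (hY : ∀ y : Y, π.base y ∉ U →
      (2 : ℕ∞) ≤ LocCoh.depth (Y.presheaf.stalk y) (Y.presheaf.stalk y))
    {W : X.Opens} (hW : IsAffineOpen W) : (π.app W).hom.FormallyUnramified := by
  have hW' : IsAffineOpen (π ⁻¹ᵁ W) := hW.preimage π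
  let φ : Γ(X, W) →+* Γ(Y, π ⁻¹ᵁ W) := (π.app W).hom
  letI : Algebra Γ(X, W) Γ(Y, π ⁻¹ᵁ W) := φ.toAlgebra
  haveI : Module.Finite Γ(X, W) Γ(Y, π ⁻¹ᵁ W) := Scheme.Hom.finite_app π W hW
  haveI : Module.Flat Γ(X, W) Γ(Y, π ⁻¹ᵁ W) := by
    have := Scheme.Hom.flat_appLE π hW hW' le_rfl
    rwa [Scheme.Hom.appLE_eq_app] at this
  haveI : IsNoetherianRing Γ(X, W) := IsLocallyNoetherian.component_noetherian ⟨W, hW⟩
  let U' : (Spec Γ(X, W)).Opens := hW.fromSpec ⁻¹ᵁ U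
  let U'' : Opens (PrimeSpectrum Γ(X, W)) := U'
  let J : Ideal Γ(X, W) :=
    PrimeSpectrum.vanishingIdeal ((U'' : Set (PrimeSpectrum Γ(X, W)))ᶜ)
  have hJU : ∀ p : PrimeSpectrum Γ(X, W), J ≤ p.asIdeal ↔ hW.fromSpec p ∉ U := by
    intro p
    have hcl : IsClosed ((U'' : Set (PrimeSpectrum Γ(X, W)))ᶜ) := U''.isOpen.isClosed_compl
    rw [← SetLike.coe_subset_coe, ← PrimeSpectrum.mem_zeroLocus,
      PrimeSpectrum.zeroLocus_vanishingIdeal_eq_closure, hcl.closure_eq]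
    rfl
  change Algebra.FormallyUnramified Γ(X, W) Γ(Y, π ⁻¹ᵁ W)
  refine core Γ(X, W) Γ(Y, π ⁻¹ᵁ W) J (IsNoetherian.noetherian J) ?_ ?_
  · intro q _ hq
    let y0 : PrimeSpectrum Γ(Y, π ⁻¹ᵁ W) := ⟨q, inferInstance⟩
    have hyW : hW'.fromSpec y0 ∈ π ⁻¹ᵁ W := by
      have : hW'.fromSpec y0 ∈ hW'.fromSpec.opensRange := ⟨y0, rfl⟩
      rwa [hW'.opensRange_fromSpec] at this
    have hπy : π.base (hW'.fromSpec y0) = hW.fromSpec (PrimeSpectrum.comap φ y0) := by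
      have h1 := IsAffineOpen.SpecMap_appLE_fromSpec π hW hW' le_rfl
      have h2 := congrArg (fun g => g.base y0) h1
      simp only [Scheme.Hom.comp_base, TopCat.comp_app] at h2
      rw [← h2, Scheme.Hom.appLE_eq_app]
      rfl
    have hyU : π.base (hW'.fromSpec y0) ∉ U := by
      rw [hπy, ← hJU]
      exact Ideal.map_le_iff_le_comap.1 hq
    have hd := hY _ hyU
    have hm : IsLocalRing.maximalIdeal (Y.presheaf.stalk (hW'.fromSpec y0)) •
        (⊤ : Submodule (Y.presheaf.stalk (hW'.fromSpec y0))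
          (Y.presheaf.stalk (hW'.fromSpec y0))) ≠ ⊤ := by
      rw [smul_eq_mul, Ideal.mul_top]
      exact Ideal.IsPrime.ne_top'
    obtain ⟨rs, hlen, hreg, hmem⟩ := (le_idealDepth_iff hm 2).1 hd
    obtain ⟨a, b, rfl⟩ := List.length_eq_two.1 hlen
    letI : Algebra Γ(Y, π ⁻¹ᵁ W) (Y.presheaf.stalk (hW'.fromSpec y0)) :=
      TopCat.Presheaf.algebra_section_stalk Y.presheaf ⟨hW'.fromSpec y0, hyW⟩
    haveI : IsLocalization.AtPrime (Y.presheaf.stalk (hW'.fromSpec y0)) q :=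
      hW'.isLocalization_stalk' y0 hyW
    exact ⟨Y.presheaf.stalk (hW'.fromSpec y0), inferInstance, inferInstance, inferInstance, a, b,
      (IsLocalRing.mem_maximalIdeal a).1 (hmem a (by simp)),
      (IsLocalRing.mem_maximalIdeal b).1 (hmem b (by simp)),
      regPair_of_isWeaklyRegular hreg⟩
  · intro f hf
    have hfU : X.basicOpen f ≤ U := by
      intro x hx
      have hxW : x ∈ W := X.basicOpen_le f hx
      have hxr : x ∈ hW.fromSpec.opensRange := by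
        rw [hW.opensRange_fromSpec]
        exact hxW
      obtain ⟨p, rfl⟩ := hxr
      by_contra hxU
      have h1 : f ∈ p.asIdeal := (hJU p).2 hxU hf
      have h2 : p ∈ hW.fromSpec ⁻¹ᵁ X.basicOpen f := hx
      rw [hW.fromSpec_preimage_basicOpen] at h2
      exact h2 h1
    have hV : IsAffineOpen (Y.basicOpen (φ f)) := hW'.basicOpen (φ f)
    have hVW : Y.basicOpen (φ f) ≤ π ⁻¹ᵁ W := Y.basicOpen_le _
    have hVU : Y.basicOpen (φ f) ≤ π ⁻¹ᵁ U := by
      have h0 : π ⁻¹ᵁ X.basicOpen f = Y.basicOpen (φ f) := Scheme.preimage_basicOpen π f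
      rw [← h0]
      exact fun y hy => hfU hy
    have h1 := appLE_formallyUnramified U π hW hV hVU hVW
    haveI : IsLocalization.Away (φ f) Γ(Y, Y.basicOpen (φ f)) :=
      hW'.isLocalization_basicOpen (φ f)
    letI : Algebra Γ(X, W) Γ(Y, Y.basicOpen (φ f)) := (π.appLE W _ hVW).hom.toAlgebra
    haveI : IsScalarTower Γ(X, W) Γ(Y, π ⁻¹ᵁ W) Γ(Y, Y.basicOpen (φ f)) :=
      IsScalarTower.of_algebraMap_eq fun a => rfl
    haveI : Algebra.FormallyUnramified Γ(X, W) Γ(Y, Y.basicOpen (φ f)) := h1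
    let e : Γ(Y, Y.basicOpen (φ f)) ≃ₐ[Γ(Y, π ⁻¹ᵁ W)] Localization.Away (φ f) :=
      IsLocalization.algEquiv (Submonoid.powers (φ f)) _ _
    exact Algebra.FormallyUnramified.of_equiv (e.restrictScalars Γ(X, W))

end Groth.Agent.H21.UR
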